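-- Abstract tools for identifying `PΩ` with a quotient of a classical group modulo its centre.
import Mathlib

set_option autoImplicit false

namespace Cfsg.Agent.Lib.Helper19.ExcIso

/-- If `φ : S → O` maps into `Ω`, the orders fit, and the centre of `S` is detected modulo the
kernel of `φ`, then `Ω / Z(Ω) ≃ S / Z(S)`. -/
theorem quotient_center_equiv {S O : Type*} [Group S] [Group O] [Finite S]
    (Ω : Subgroup O) [Finite Ω] (φ : S →* O) (hΩ : ∀ s, φ s ∈ Ω) (k : ℕ)
    (hk : Nat.card φ.ker ≤ k) (hcard : k * Nat.card Ω ≤ Nat.card S)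
    (hcen : ∀ x : S, (∀ s : S, x * s * x⁻¹ * s⁻¹ ∈ φ.ker) → x ∈ Subgroup.center S) :
    Nonempty (↥Ω ⧸ Subgroup.center ↥Ω ≃* S ⧸ Subgroup.center S) := by
  classical
  obtain ⟨φ', hφ'⟩ : ∃ φ' : S →* ↥Ω, ∀ s, (φ' s : O) = φ s :=
    ⟨φ.codRestrict Ω hΩ, fun s => rfl⟩
  have hker : φ'.ker = φ.ker := by
    ext x
    rw [MonoidHom.mem_ker, MonoidHom.mem_ker, ← hφ' x]
    exact ⟨fun h => by rw [h]; rfl, fun h => Subtype.ext h⟩
  have hsurj : Function.Surjective φ' := by
    rw [← MonoidHom.range_eq_top]
    apply Subgroup.eq_top_of_le_card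
    have h1 := Subgroup.card_eq_card_quotient_mul_card_subgroup φ'.ker
    have h2 : Nat.card (S ⧸ φ'.ker) = Nat.card φ'.range :=
      Nat.card_congr (QuotientGroup.quotientKerEquivRange φ').toEquiv
    rw [h2, hker] at h1
    have hpos : 0 < Nat.card φ.ker := Nat.card_pos
    have h3 : Nat.card φ.ker * Nat.card ↥Ω ≤ Nat.card φ.ker * Nat.card φ'.range := by
      calc Nat.card φ.ker * Nat.card ↥Ω ≤ k * Nat.card ↥Ω := Nat.mul_le_mul_right _ hk
        _ ≤ Nat.card S := hcard
        _ = Nat.card φ.ker * Nat.card φ'.range := by rw [h1, mul_comm]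
    exact Nat.le_of_mul_le_mul_left h3 hpos
  obtain ⟨ψ, hψ⟩ : ∃ ψ : S →* ↥Ω ⧸ Subgroup.center ↥Ω,
      ψ = (QuotientGroup.mk' (Subgroup.center ↥Ω)).comp φ' := ⟨_, rfl⟩
  have hψsurj : Function.Surjective ψ := by
    rw [hψ]
    exact (QuotientGroup.mk'_surjective _).comp hsurj
  have hψker : ψ.ker = Subgroup.center S := by
    ext x
    rw [MonoidHom.mem_ker, hψ, MonoidHom.comp_apply, QuotientGroup.mk'_apply,
      QuotientGroup.eq_one_iff]
    constructor
    · intro hx
      apply hcen
      intro s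
      rw [← hker, MonoidHom.mem_ker, map_mul, map_mul, map_mul, map_inv, map_inv]
      rw [Subgroup.mem_center_iff] at hx
      rw [← hx (φ' s), mul_assoc (φ' s), mul_inv_cancel, mul_one, mul_inv_cancel]
    · intro hx
      rw [Subgroup.mem_center_iff] at hx ⊢
      intro ω
      obtain ⟨s, rfl⟩ := hsurj ω
      rw [← map_mul, ← map_mul, hx s]
  exact ⟨((QuotientGroup.quotientMulEquivOfEq hψker).symm.trans
    (QuotientGroup.quotientKerEquivOfSurjective ψ hψsurj)).symm⟩

/-- General version: the target is any quotient `P` of `S` whose kernel is detected modulo the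
kernel of `φ`. -/
theorem quotient_equiv_of_ker {S O P : Type*} [Group S] [Group O] [Group P] [Finite S]
    (Ω : Subgroup O) [Finite Ω] (φ : S →* O) (hΩ : ∀ s, φ s ∈ Ω) (k : ℕ)
    (hk : Nat.card φ.ker ≤ k) (hcard : k * Nat.card Ω ≤ Nat.card S)
    (π : S →* P) (hπ : Function.Surjective π)
    (hkerπ : ∀ x : S, x ∈ π.ker ↔ ∀ s : S, x * s * x⁻¹ * s⁻¹ ∈ φ.ker) :
    Nonempty (↥Ω ⧸ Subgroup.center ↥Ω ≃* P) := by
  classical
  obtain ⟨φ', hφ'⟩ : ∃ φ' : S →* ↥Ω, ∀ s, (φ' s : O) = φ s :=
    ⟨φ.codRestrict Ω hΩ, fun s => rfl⟩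
  have hker : φ'.ker = φ.ker := by
    ext x
    rw [MonoidHom.mem_ker, MonoidHom.mem_ker, ← hφ' x]
    exact ⟨fun h => by rw [h]; rfl, fun h => Subtype.ext h⟩
  have hsurj : Function.Surjective φ' := by
    rw [← MonoidHom.range_eq_top]
    apply Subgroup.eq_top_of_le_card
    have h1 := Subgroup.card_eq_card_quotient_mul_card_subgroup φ'.ker
    have h2 : Nat.card (S ⧸ φ'.ker) = Nat.card φ'.range :=
      Nat.card_congr (QuotientGroup.quotientKerEquivRange φ').toEquiv
    rw [h2, hker] at h1
    have hpos : 0 < Nat.card φ.ker := Nat.card_pos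
    have h3 : Nat.card φ.ker * Nat.card ↥Ω ≤ Nat.card φ.ker * Nat.card φ'.range := by
      calc Nat.card φ.ker * Nat.card ↥Ω ≤ k * Nat.card ↥Ω := Nat.mul_le_mul_right _ hk
        _ ≤ Nat.card S := hcard
        _ = Nat.card φ.ker * Nat.card φ'.range := by rw [h1, mul_comm]
    exact Nat.le_of_mul_le_mul_left h3 hpos
  obtain ⟨ψ, hψ⟩ : ∃ ψ : S →* ↥Ω ⧸ Subgroup.center ↥Ω,
      ψ = (QuotientGroup.mk' (Subgroup.center ↥Ω)).comp φ' := ⟨_, rfl⟩
  have hψsurj : Function.Surjective ψ := by
    rw [hψ]
    exact (QuotientGroup.mk'_surjective _).comp hsurj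
  have hψker : ψ.ker = π.ker := by
    ext x
    rw [hkerπ x]
    rw [MonoidHom.mem_ker, hψ, MonoidHom.comp_apply, QuotientGroup.mk'_apply,
      QuotientGroup.eq_one_iff]
    constructor
    · intro hx
      intro s
      rw [← hker, MonoidHom.mem_ker, map_mul, map_mul, map_mul, map_inv, map_inv]
      rw [Subgroup.mem_center_iff] at hx
      rw [← hx (φ' s), mul_assoc (φ' s), mul_inv_cancel, mul_one, mul_inv_cancel]
    · intro hx
      rw [Subgroup.mem_center_iff]
      intro ω
      obtain ⟨s, rfl⟩ := hsurj ω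
      have h1 := hx s
      rw [← hker, MonoidHom.mem_ker, map_mul, map_mul, map_mul, map_inv, map_inv] at h1
      have h2 : φ' x * φ' s * (φ' x)⁻¹ * (φ' s)⁻¹ * (φ' s * φ' x) = 1 * (φ' s * φ' x) := by
        rw [h1]
      rw [one_mul] at h2
      rw [← h2]
      group
  exact ⟨((QuotientGroup.quotientMulEquivOfEq hψker).symm.trans
    (QuotientGroup.quotientKerEquivOfSurjective ψ hψsurj)).symm.trans
    (QuotientGroup.quotientKerEquivOfSurjective π hπ)⟩

/-- In a perfect group, an element that is central modulo the centre is central. -/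
theorem center_of_comm_central {S : Type*} [Group S] (hperf : commutator S = ⊤) (x : S)
    (h : ∀ s, x * s * x⁻¹ * s⁻¹ ∈ Subgroup.center S) : x ∈ Subgroup.center S := by
  let c : S →* Subgroup.center S :=
    { toFun := fun s => ⟨x * s * x⁻¹ * s⁻¹, h s⟩
      map_one' := by
        apply Subtype.ext
        simp
      map_mul' := fun s t => by
        apply Subtype.ext
        have ht := h t
        rw [Subgroup.mem_center_iff] at ht
        change x * (s * t) * x⁻¹ * (s * t)⁻¹ = (x * s * x⁻¹ * s⁻¹) * (x * t * x⁻¹ * t⁻¹)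
        rw [mul_assoc (x * s * x⁻¹) s⁻¹, ht s⁻¹]
        group }
  have hle : commutator S ≤ c.ker := by
    rw [commutator_eq_closure, Subgroup.closure_le]
    rintro _ ⟨p, q, rfl⟩
    rw [SetLike.mem_coe, MonoidHom.mem_ker, commutatorElement_def, map_mul, map_mul, map_mul,
      map_inv, map_inv]
    have hc : c p * c q = c q * c p :=
      Subtype.ext (Subgroup.mem_center_iff.1 (c q).2 (c p).1)
    rw [hc]
    group
  rw [hperf] at hle
  rw [Subgroup.mem_center_iff]
  intro s
  have h1 : c s = 1 := hle (Subgroup.mem_top s)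
  have h2 : x * s * x⁻¹ * s⁻¹ = 1 := congrArg Subtype.val h1
  have h3 : x * s * x⁻¹ * s⁻¹ * (s * x) = 1 * (s * x) := by rw [h2]
  rw [one_mul] at h3
  rw [← h3]
  group

/-- The order of `GL_{n+1}` over a finite field in terms of `SL_{n+1}`. -/
theorem card_GL_eq_card_SL {F : Type*} [Field F] [Fintype F] (n : ℕ) :
    Nat.card (Matrix.GeneralLinearGroup (Fin (n + 1)) F) =
      Nat.card (Matrix.SpecialLinearGroup (Fin (n + 1)) F) * (Fintype.card F - 1) := by
  classical
  have hsurj : Function.Surjective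
      (Matrix.GeneralLinearGroup.det : Matrix.GeneralLinearGroup (Fin (n + 1)) F →* Fˣ) := by
    intro u
    have hdet : (Matrix.diagonal (Function.update (fun _ : Fin (n + 1) => (1 : F)) 0 (u : F))).det
        = u := by
      rw [Matrix.det_diagonal, Fin.prod_univ_succ]
      simp
    refine ⟨Matrix.GeneralLinearGroup.mkOfDetNeZero _ (by rw [hdet]; exact u.ne_zero), ?_⟩
    apply Units.ext
    exact hdet
  have h1 := Subgroup.card_eq_card_quotient_mul_card_subgroup
    (Matrix.GeneralLinearGroup.det : Matrix.GeneralLinearGroup (Fin (n + 1)) F →* Fˣ).ker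
  have h2 : Nat.card (Matrix.GeneralLinearGroup (Fin (n + 1)) F ⧸
      (Matrix.GeneralLinearGroup.det : Matrix.GeneralLinearGroup (Fin (n + 1)) F →* Fˣ).ker) =
      Nat.card Fˣ :=
    Nat.card_congr (QuotientGroup.quotientKerEquivOfSurjective _ hsurj).toEquiv
  have h3 : Nat.card ((Matrix.GeneralLinearGroup.det :
      Matrix.GeneralLinearGroup (Fin (n + 1)) F →* Fˣ).ker) =
      Nat.card (Matrix.SpecialLinearGroup (Fin (n + 1)) F) := by
    rw [Nat.card_congr (Equiv.ofInjective _
      (Matrix.SpecialLinearGroup.toGL_injective (n := Fin (n + 1)) (R := F)))]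
    apply Nat.card_congr
    apply Equiv.setCongr
    rw [Matrix.SpecialLinearGroup.range_toGL]
    ext x
    simp [MonoidHom.mem_ker]
  have h4 : Nat.card Fˣ = Fintype.card F - 1 := by
    rw [Nat.card_eq_fintype_card, Fintype.card_units]
  rw [h1, h2, h3, h4, mul_comm]

/-- A kernel whose elements take at most two values under an injective map has order at most 2. -/
theorem card_ker_le_two {S O M : Type*} [Group S] [Group O] (φ : S →* O) (val : S → M)
    (hval : Function.Injective val) (a b : M) (h : ∀ g ∈ φ.ker, val g = a ∨ val g = b) :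
    Nat.card φ.ker ≤ 2 := by
  classical
  have hinj : Function.Injective (fun g : φ.ker => decide (val g.1 = a)) := by
    intro x y hxy
    simp only [decide_eq_decide] at hxy
    apply Subtype.ext
    apply hval
    rcases h x.1 x.2 with hx | hx
    · rw [hx, hxy.1 hx]
    · rcases h y.1 y.2 with hy | hy
      · rw [hxy.2 hy, hy]
      · rw [hx, hy]
  have := Nat.card_le_card_of_injective _ hinj
  rwa [Nat.card_eq_fintype_card (α := Bool), Fintype.card_bool] at this

/-- A kernel whose elements take a single value under an injective map is trivial. -/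
theorem card_ker_le_one {S O M : Type*} [Group S] [Group O] (φ : S →* O) (val : S → M)
    (hval : Function.Injective val) (a : M) (h : ∀ g ∈ φ.ker, val g = a) :
    Nat.card φ.ker ≤ 1 := by
  have : Subsingleton φ.ker := by
    constructor
    intro x y
    apply Subtype.ext
    apply hval
    rw [h x.1 x.2, h y.1 y.2]
  exact Finite.card_le_one_iff_subsingleton.2 this

/-- An element of order prime to the index of a normal subgroup lies in it. -/
theorem mem_of_coprime_index {G : Type*} [Group G] (N : Subgroup G) [N.Normal] (x : G)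
    (h : (N.index).Coprime (orderOf x)) : x ∈ N := by
  obtain ⟨m, hm⟩ := exists_pow_eq_self_of_coprime h
  rw [← hm]
  exact pow_mem (Subgroup.pow_index_mem N x) m

/-- A homomorphism from a perfect group lands in the commutator subgroup. -/
theorem map_mem_commutator {S O : Type*} [Group S] [Group O] (φ : S →* O)
    (hperf : commutator S = ⊤) (s : S) : φ s ∈ commutator O := by
  have h1 : s ∈ commutator S := by rw [hperf]; trivial
  have h2 : (commutator S).map φ ≤ commutator O := by
    rw [commutator_def, commutator_def, Subgroup.map_commutator]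
    exact Subgroup.commutator_mono le_top le_top
  exact h2 (Subgroup.mem_map_of_mem φ h1)

end Cfsg.Agent.Lib.Helper19.ExcIso
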