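import Mathlib
import Cfsg.Prelude.Def_Classical

/-!
# Helper19: counting zeros of the standard quadratic forms

* `card_ext`: `#{(a, x, y) : Q a + x * y = 0} = q * #{a : Q a = 0} + (q - 1) * #A`.
* `zeros_plus_succ`, `zeros_minus_succ`: the recursions for `quadFormPlus`, `quadFormMinus`.
* `zeros_plus_ne_minus`: the hyperbolic and elliptic forms of the same dimension have different
  numbers of zeros.
-/

set_option autoImplicit false

namespace Cfsg.Agent.Lib.Helper19.QuadCount

section xy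

variable {F : Type*} [Field F] [Fintype F] [DecidableEq F]

lemma card_ne_zero_subtype : Fintype.card {x : F // x ≠ 0} = Fintype.card F - 1 := by
  rw [Fintype.card_subtype_compl, Fintype.card_subtype_eq]

/-- `(x, y)` with `x * y = 0`. -/
def xyZeroEquiv : {p : F × F // p.1 * p.2 = 0} ≃ F ⊕ {x : F // x ≠ 0} where
  toFun p := if h : p.1.1 = 0 then Sum.inl p.1.2 else Sum.inr ⟨p.1.1, h⟩
  invFun s := Sum.elim (fun y => ⟨(0, y), by simp⟩) (fun x => ⟨(x.1, 0), by simp⟩) s
  left_inv := by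
    rintro ⟨⟨x, y⟩, h⟩
    by_cases hx : x = 0
    · simp [hx]
    · have hy : y = 0 := by
        rcases mul_eq_zero.1 h with h | h
        · exact absurd h hx
        · exact h
      simp [hx, hy]
  right_inv := by
    rintro (y | ⟨x, hx⟩)
    · simp
    · simp [hx]

/-- `(x, y)` with `t + x * y = 0`, `t ≠ 0`. -/
def xyNeEquiv {t : F} (ht : t ≠ 0) : {p : F × F // t + p.1 * p.2 = 0} ≃ {x : F // x ≠ 0} where
  toFun p := ⟨p.1.1, by
    intro h
    have := p.2
    rw [h, zero_mul, add_zero] at this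
    exact ht this⟩
  invFun x := ⟨(x.1, -t / x.1), by
    have := x.2
    field_simp
    ring⟩
  left_inv := by
    rintro ⟨⟨x, y⟩, h⟩
    have hx : x ≠ 0 := by
      rintro rfl
      rw [zero_mul, add_zero] at h
      exact ht h
    ext
    · rfl
    · show -t / x = y
      field_simp
      linear_combination (-1 : F) * h
  right_inv := by
    rintro ⟨x, hx⟩
    rfl

lemma card_xy (t : F) :
    Fintype.card {p : F × F // t + p.1 * p.2 = 0} =
      if t = 0 then (Fintype.card F - 1) + Fintype.card F else Fintype.card F - 1 := by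
  split_ifs with ht
  · subst ht
    have e : {p : F × F // (0 : F) + p.1 * p.2 = 0} ≃ {p : F × F // p.1 * p.2 = 0} :=
      Equiv.subtypeEquivRight (fun p => by rw [zero_add])
    rw [Fintype.card_congr (e.trans xyZeroEquiv), Fintype.card_sum, card_ne_zero_subtype, add_comm]
  · rw [Fintype.card_congr (xyNeEquiv ht), card_ne_zero_subtype]

variable {A : Type*} [Fintype A]

/-- The sigma decomposition. -/
def extEquiv (Q : A → F) :
    {p : A × F × F // Q p.1 + p.2.1 * p.2.2 = 0} ≃
      Σ a : A, {xy : F × F // Q a + xy.1 * xy.2 = 0} where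
  toFun p := ⟨p.1.1, ⟨p.1.2, p.2⟩⟩
  invFun s := ⟨(s.1, s.2.1), s.2.2⟩
  left_inv := by
    rintro ⟨⟨a, x, y⟩, h⟩
    rfl
  right_inv := by
    rintro ⟨a, ⟨x, y⟩, h⟩
    rfl

lemma card_ext (Q : A → F) :
    Fintype.card {p : A × F × F // Q p.1 + p.2.1 * p.2.2 = 0} =
      Fintype.card F * Fintype.card {a : A // Q a = 0} + (Fintype.card F - 1) * Fintype.card A := by
  rw [Fintype.card_congr (extEquiv Q), Fintype.card_sigma]
  simp only [card_xy]
  have : ∀ a : A, (if Q a = 0 then (Fintype.card F - 1) + Fintype.card F else Fintype.card F - 1) =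
      (Fintype.card F - 1) + (if Q a = 0 then Fintype.card F else 0) := by
    intro a
    split_ifs <;> simp
  simp only [this]
  rw [Finset.sum_add_distrib, Finset.sum_const, Finset.card_univ, smul_eq_mul,
    ← Finset.sum_filter, Finset.sum_const, smul_eq_mul, Fintype.card_subtype]
  ring

end xy


section rec

variable {F : Type*} [Field F] [Fintype F] [DecidableEq F]

/-- Splitting off the last hyperbolic pair of `quadFormPlus`. -/
def plusEquiv (m : ℕ) : (Fin (m + 1) ⊕ Fin (m + 1) → F) ≃ (Fin m ⊕ Fin m → F) × F × F where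
  toFun v := (fun s => v (Sum.map Fin.castSucc Fin.castSucc s), v (Sum.inl (Fin.last m)),
    v (Sum.inr (Fin.last m)))
  invFun p := Sum.elim (Fin.lastCases p.2.1 (fun i => p.1 (Sum.inl i)))
    (Fin.lastCases p.2.2 (fun i => p.1 (Sum.inr i)))
  left_inv := by
    intro v
    funext s
    rcases s with i | i <;> induction i using Fin.lastCases <;> simp
  right_inv := by
    rintro ⟨w, x, y⟩
    refine Prod.ext ?_ (Prod.ext ?_ ?_)
    · funext s
      rcases s with i | i <;> simp
    · simp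
    · simp

lemma plus_split (m : ℕ) (p : (Fin m ⊕ Fin m → F) × F × F) :
    Cfsg.quadFormPlus (m + 1) F ((plusEquiv m).symm p) =
      Cfsg.quadFormPlus m F p.1 + p.2.1 * p.2.2 := by
  unfold Cfsg.quadFormPlus
  rw [Fin.sum_univ_castSucc]
  simp [plusEquiv]

lemma zeros_plus_succ (m : ℕ) :
    Fintype.card {v : Fin (m + 1) ⊕ Fin (m + 1) → F // Cfsg.quadFormPlus (m + 1) F v = 0} =
      Fintype.card F * Fintype.card {v : Fin m ⊕ Fin m → F // Cfsg.quadFormPlus m F v = 0} +
        (Fintype.card F - 1) * Fintype.card F ^ (m + m) := by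
  have e : {v : Fin (m + 1) ⊕ Fin (m + 1) → F // Cfsg.quadFormPlus (m + 1) F v = 0} ≃
      {p : (Fin m ⊕ Fin m → F) × F × F // Cfsg.quadFormPlus m F p.1 + p.2.1 * p.2.2 = 0} :=
    (plusEquiv m).subtypeEquiv (fun v => by
      rw [← plus_split, Equiv.symm_apply_apply])
  rw [Fintype.card_congr e, card_ext]
  simp

/-- Splitting off the last hyperbolic pair of `quadFormMinus`. -/
def minusEquiv (n : ℕ) :
    ((Fin (n + 1) ⊕ Fin (n + 1)) ⊕ Fin 2 → F) ≃ ((Fin n ⊕ Fin n) ⊕ Fin 2 → F) × F × F where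
  toFun v := (fun s => v (Sum.map (Sum.map Fin.castSucc Fin.castSucc) id s),
    v (Sum.inl (Sum.inl (Fin.last n))), v (Sum.inl (Sum.inr (Fin.last n))))
  invFun p := Sum.elim (Sum.elim (Fin.lastCases p.2.1 (fun i => p.1 (Sum.inl (Sum.inl i))))
    (Fin.lastCases p.2.2 (fun i => p.1 (Sum.inl (Sum.inr i))))) (fun s => p.1 (Sum.inr s))
  left_inv := by
    intro v
    funext s
    rcases s with (i | i) | i
    · induction i using Fin.lastCases <;> simp
    · induction i using Fin.lastCases <;> simp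
    · simp
  right_inv := by
    rintro ⟨w, x, y⟩
    refine Prod.ext ?_ (Prod.ext ?_ ?_)
    · funext s
      rcases s with (i | i) | i <;> simp
    · simp
    · simp

lemma minus_split (n : ℕ) (a b : F) (p : ((Fin n ⊕ Fin n) ⊕ Fin 2 → F) × F × F) :
    Cfsg.quadFormMinus (n + 1) F a b ((minusEquiv n).symm p) =
      Cfsg.quadFormMinus n F a b p.1 + p.2.1 * p.2.2 := by
  unfold Cfsg.quadFormMinus
  rw [Fin.sum_univ_castSucc]
  simp [minusEquiv]
  ring

lemma zeros_minus_succ (n : ℕ) (a b : F) :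
    Fintype.card {v : (Fin (n + 1) ⊕ Fin (n + 1)) ⊕ Fin 2 → F //
        Cfsg.quadFormMinus (n + 1) F a b v = 0} =
      Fintype.card F * Fintype.card {v : (Fin n ⊕ Fin n) ⊕ Fin 2 → F //
        Cfsg.quadFormMinus n F a b v = 0} +
        (Fintype.card F - 1) * Fintype.card F ^ (n + n + 2) := by
  have e : {v : (Fin (n + 1) ⊕ Fin (n + 1)) ⊕ Fin 2 → F //
      Cfsg.quadFormMinus (n + 1) F a b v = 0} ≃
      {p : ((Fin n ⊕ Fin n) ⊕ Fin 2 → F) × F × F //
        Cfsg.quadFormMinus n F a b p.1 + p.2.1 * p.2.2 = 0} :=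
    (minusEquiv n).subtypeEquiv (fun v => by
      rw [← minus_split, Equiv.symm_apply_apply])
  rw [Fintype.card_congr e, card_ext]
  simp

lemma zeros_plus_zero :
    Fintype.card {v : Fin 0 ⊕ Fin 0 → F // Cfsg.quadFormPlus 0 F v = 0} = 1 := by
  rw [Fintype.card_eq_one_iff]
  refine ⟨⟨0, by simp [Cfsg.quadFormPlus]⟩, ?_⟩
  rintro ⟨v, hv⟩
  apply Subtype.ext
  funext s
  rcases s with i | i <;> exact i.elim0

lemma zeros_minus_zero (a b : F)
    (hab : ∀ z₁ z₂ : F, z₁ ^ 2 + a * z₁ * z₂ + b * z₂ ^ 2 = 0 → z₁ = 0 ∧ z₂ = 0) :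
    Fintype.card {v : (Fin 0 ⊕ Fin 0) ⊕ Fin 2 → F // Cfsg.quadFormMinus 0 F a b v = 0} = 1 := by
  rw [Fintype.card_eq_one_iff]
  refine ⟨⟨0, by simp [Cfsg.quadFormMinus]⟩, ?_⟩
  rintro ⟨v, hv⟩
  apply Subtype.ext
  have h := hab (v (Sum.inr 0)) (v (Sum.inr 1)) (by
    simpa [Cfsg.quadFormMinus] using hv)
  funext s
  rcases s with (i | i) | i
  · exact i.elim0
  · exact i.elim0
  · fin_cases i
    · exact h.1
    · exact h.2

/-- The hyperbolic and elliptic forms of the same dimension have different numbers of zeros. -/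
theorem zeros_plus_ne_minus (n : ℕ) (a b : F)
    (hab : ∀ z₁ z₂ : F, z₁ ^ 2 + a * z₁ * z₂ + b * z₂ ^ 2 = 0 → z₁ = 0 ∧ z₂ = 0) :
    Fintype.card {v : Fin (n + 1) ⊕ Fin (n + 1) → F // Cfsg.quadFormPlus (n + 1) F v = 0} ≠
      Fintype.card {v : (Fin n ⊕ Fin n) ⊕ Fin 2 → F // Cfsg.quadFormMinus n F a b v = 0} := by
  have hq : 2 ≤ Fintype.card F := Fintype.one_lt_card
  induction n with
  | zero =>
    rw [zeros_plus_succ, zeros_plus_zero, zeros_minus_zero a b hab]
    simp
    omega
  | succ n ih =>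
    rw [zeros_plus_succ, zeros_minus_succ]
    intro h
    apply ih
    have e : n + 1 + (n + 1) = n + n + 2 := by ring
    rw [e] at h
    have h2 := Nat.add_right_cancel h
    exact Nat.eq_of_mul_eq_mul_left (by omega) h2

end rec

end Cfsg.Agent.Lib.Helper19.QuadCount
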