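import Mathlib

/-!
# Helper19: quadratic forms over finite fields — hyperbolic pairs and Witt decomposition

* `ternary_zero`: a ternary quadratic form over a finite field has a non-trivial zero
  (Chevalley–Warning).
* `IsHyp Q e f`: `(e i, f i)` is a family of mutually orthogonal hyperbolic pairs.
* `perp Q e f`: the orthogonal complement of such a family, `proj`, `exists_partner`,
  `IsHyp.snoc`, `finrank_perp_ge`, `exists_singular_of_finrank_ge_three`.
-/

set_option autoImplicit false

namespace Cfsg.Agent.Lib.Helper19.QuadWitt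

open QuadraticMap

section ternary

variable {F : Type*} [Field F] [Finite F]

theorem ternary_zero_gen (c : Fin 3 → Fin 3 → F) :
    ∃ x : Fin 3 → F, x ≠ 0 ∧ ∑ i, ∑ j, c i j * x i * x j = 0 := by
  classical
  haveI : Fintype F := Fintype.ofFinite F
  obtain ⟨p, hp⟩ := CharP.exists F
  haveI := hp
  have hpp : p.Prime := CharP.char_is_prime F p
  let f : MvPolynomial (Fin 3) F :=
    ∑ i, ∑ j, MvPolynomial.C (c i j) * MvPolynomial.X i * MvPolynomial.X j
  have hdeg : f.totalDegree < Fintype.card (Fin 3) := by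
    have h2 : f.totalDegree ≤ 2 := by
      apply (MvPolynomial.totalDegree_finset_sum _ _).trans
      apply Finset.sup_le
      intro i _
      apply (MvPolynomial.totalDegree_finset_sum _ _).trans
      apply Finset.sup_le
      intro j _
      apply (MvPolynomial.totalDegree_mul _ _).trans
      have h1 := MvPolynomial.totalDegree_mul (MvPolynomial.C (c i j)) (MvPolynomial.X i : MvPolynomial (Fin 3) F)
      rw [MvPolynomial.totalDegree_C, MvPolynomial.totalDegree_X, zero_add] at h1
      rw [MvPolynomial.totalDegree_X]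
      omega
    simp only [Fintype.card_fin]
    omega
  have hdvd := char_dvd_card_solutions p hdeg
  have heval : ∀ x : Fin 3 → F, MvPolynomial.eval x f = ∑ i, ∑ j, c i j * x i * x j := by
    intro x
    simp [f, map_sum]
  have h0 : MvPolynomial.eval (0 : Fin 3 → F) f = 0 := by
    rw [heval]
    simp
  have hcard : 1 < Fintype.card { x : Fin 3 → F // MvPolynomial.eval x f = 0 } := by
    have hpos : 0 < Fintype.card { x : Fin 3 → F // MvPolynomial.eval x f = 0 } :=
      Fintype.card_pos_iff.2 ⟨⟨0, h0⟩⟩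
    have := Nat.le_of_dvd hpos hdvd
    have := hpp.two_le
    omega
  obtain ⟨⟨x, hx⟩, hne⟩ := Fintype.exists_ne_of_one_lt_card hcard ⟨0, h0⟩
  refine ⟨x, fun h => hne (Subtype.ext h), ?_⟩
  rw [← heval]
  exact hx

theorem ternary_zero (a₀ a₁ a₂ b₀₁ b₀₂ b₁₂ : F) :
    ∃ x y z : F, ¬ (x = 0 ∧ y = 0 ∧ z = 0) ∧
      a₀ * x ^ 2 + a₁ * y ^ 2 + a₂ * z ^ 2 + b₀₁ * x * y + b₀₂ * x * z + b₁₂ * y * z = 0 := by
  obtain ⟨x, hx0, hx⟩ := ternary_zero_gen (F := F) ![![a₀, b₀₁, b₀₂], ![0, a₁, b₁₂], ![0, 0, a₂]]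
  refine ⟨x 0, x 1, x 2, ?_, ?_⟩
  · rintro ⟨h0, h1, h2⟩
    apply hx0
    funext i
    fin_cases i <;> simp [h0, h1, h2]
  · simp [Fin.sum_univ_three] at hx
    linear_combination hx

end ternary


section hyp

variable {F V : Type*} [Field F] [AddCommGroup V] [Module F V] (Q : QuadraticForm F V)

/-- A family of mutually orthogonal hyperbolic pairs. -/
structure IsHyp {k : ℕ} (e f : Fin k → V) : Prop where
  Qe : ∀ i, Q (e i) = 0
  Qf : ∀ i, Q (f i) = 0
  ef : ∀ i j, polar ⇑Q (e i) (f j) = if i = j then 1 else 0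
  ee : ∀ i j, polar ⇑Q (e i) (e j) = 0
  ff : ∀ i j, polar ⇑Q (f i) (f j) = 0

/-- The orthogonal complement of a family. -/
def perp {k : ℕ} (e f : Fin k → V) : Submodule F V where
  carrier := {w | ∀ i, polar ⇑Q (e i) w = 0 ∧ polar ⇑Q (f i) w = 0}
  add_mem' := by
    intro a b ha hb i
    rw [polar_add_right, polar_add_right, (ha i).1, (ha i).2, (hb i).1, (hb i).2, add_zero]
    exact ⟨rfl, rfl⟩
  zero_mem' := by
    intro i
    simp
  smul_mem' := by
    intro c a ha i
    rw [polar_smul_right, polar_smul_right, (ha i).1, (ha i).2, smul_zero]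
    exact ⟨rfl, rfl⟩

lemma mem_perp {k : ℕ} (e f : Fin k → V) (w : V) :
    w ∈ perp Q e f ↔ ∀ i, polar ⇑Q (e i) w = 0 ∧ polar ⇑Q (f i) w = 0 := Iff.rfl

lemma polar_sum_left {ι : Type*} (s : Finset ι) (g : ι → V) (w : V) :
    polar ⇑Q (∑ i ∈ s, g i) w = ∑ i ∈ s, polar ⇑Q (g i) w := by
  have := map_sum ((polarBilin Q).flip w) g s
  simp only [LinearMap.flip_apply, polarBilin_apply_apply] at this
  exact this

lemma polar_sum_right {ι : Type*} (s : Finset ι) (g : ι → V) (w : V) :
    polar ⇑Q w (∑ i ∈ s, g i) = ∑ i ∈ s, polar ⇑Q w (g i) := by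
  rw [polar_comm, polar_sum_left]
  exact Finset.sum_congr rfl (fun i _ => polar_comm _ _ _)

/-- The orthogonal projection onto the complement of a hyperbolic family. -/
def proj {k : ℕ} (e f : Fin k → V) (v : V) : V :=
  v - ∑ i, (polar ⇑Q v (f i) • e i + polar ⇑Q v (e i) • f i)

variable {Q}

lemma proj_mem {k : ℕ} {e f : Fin k → V} (h : IsHyp Q e f) (v : V) :
    proj Q e f v ∈ perp Q e f := by
  classical
  intro j
  unfold proj
  constructor
  · rw [polar_sub_right, polar_sum_right]
    simp only [polar_add_right, polar_smul_right, h.ee, h.ef, smul_zero, zero_add, smul_eq_mul,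
      mul_ite, mul_one, mul_zero]
    rw [Finset.sum_ite_eq, if_pos (Finset.mem_univ j), polar_comm, sub_self]
  · rw [polar_sub_right, polar_sum_right]
    have hfe : ∀ i, polar ⇑Q (f j) (e i) = if i = j then 1 else 0 := by
      intro i
      rw [polar_comm, h.ef]
    simp only [polar_add_right, polar_smul_right, h.ff, hfe, smul_zero, add_zero, smul_eq_mul,
      mul_ite, mul_one, mul_zero]
    rw [Finset.sum_ite_eq', if_pos (Finset.mem_univ j), polar_comm, sub_self]

lemma polar_proj {k : ℕ} {e f : Fin k → V} {w : V} (hw : w ∈ perp Q e f) (v : V) :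
    polar ⇑Q w (proj Q e f v) = polar ⇑Q w v := by
  unfold proj
  rw [polar_sub_right, polar_sum_right]
  have h1 : ∀ i, polar ⇑Q w (e i) = 0 := fun i => by rw [polar_comm]; exact (hw i).1
  have h2 : ∀ i, polar ⇑Q w (f i) = 0 := fun i => by rw [polar_comm]; exact (hw i).2
  simp [polar_add_right, polar_smul_right, h1, h2]

/-- Non-degeneracy of the complement. -/
lemma exists_polar_ne_zero (hQ : (polarBilin Q).Nondegenerate) {k : ℕ} {e f : Fin k → V}
    (h : IsHyp Q e f) {w : V} (hw : w ∈ perp Q e f) (hw0 : w ≠ 0) :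
    ∃ w' ∈ perp Q e f, polar ⇑Q w w' ≠ 0 := by
  have : ∃ v, polar ⇑Q w v ≠ 0 := by
    by_contra hcon
    push Not at hcon
    exact hw0 (hQ.1 w (fun y => by rw [polarBilin_apply_apply]; exact hcon y))
  obtain ⟨v, hv⟩ := this
  exact ⟨proj Q e f v, proj_mem h v, by rw [polar_proj hw]; exact hv⟩

/-- A singular vector of the complement has a hyperbolic partner in the complement. -/
lemma exists_partner (hQ : (polarBilin Q).Nondegenerate) {k : ℕ} {e f : Fin k → V}
    (h : IsHyp Q e f) {e' : V} (he' : e' ∈ perp Q e f) (he0 : e' ≠ 0) (hQe : Q e' = 0) :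
    ∃ f' ∈ perp Q e f, Q f' = 0 ∧ polar ⇑Q e' f' = 1 := by
  obtain ⟨w, hw, hne⟩ := exists_polar_ne_zero hQ h he' he0
  obtain ⟨w', hw'mem, hp⟩ : ∃ w' ∈ perp Q e f, polar ⇑Q e' w' = 1 := by
    refine ⟨(polar ⇑Q e' w)⁻¹ • w, Submodule.smul_mem _ _ hw, ?_⟩
    rw [polar_smul_right, smul_eq_mul, inv_mul_cancel₀ hne]
  refine ⟨w' - Q w' • e', Submodule.sub_mem _ hw'mem (Submodule.smul_mem _ _ he'), ?_, ?_⟩
  · have : w' - Q w' • e' = w' + (-(Q w')) • e' := by rw [neg_smul, sub_eq_add_neg]
    rw [this, QuadraticMap.map_add (⇑Q) w' ((-(Q w')) • e'), QuadraticMap.map_smul, hQe,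
      polar_smul_right, polar_comm, hp]
    simp
  · rw [polar_sub_right, polar_smul_right, polar_self, hQe, hp]
    simp

lemma IsHyp.snoc {k : ℕ} {e f : Fin k → V} (h : IsHyp Q e f) {e' f' : V}
    (he' : e' ∈ perp Q e f) (hf' : f' ∈ perp Q e f) (hQe : Q e' = 0) (hQf : Q f' = 0)
    (hef : polar ⇑Q e' f' = 1) :
    IsHyp Q (Fin.snoc e e' : Fin (k + 1) → V) (Fin.snoc f f' : Fin (k + 1) → V) := by
  have hee' : polar ⇑Q e' e' = 0 := by rw [polar_self, hQe, smul_zero]
  have hff' : polar ⇑Q f' f' = 0 := by rw [polar_self, hQf, smul_zero]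
  constructor
  · intro i
    induction i using Fin.lastCases with
    | last => simpa using hQe
    | cast i => simpa using h.Qe i
  · intro i
    induction i using Fin.lastCases with
    | last => simpa using hQf
    | cast i => simpa using h.Qf i
  · intro i j
    induction i using Fin.lastCases with
    | last =>
      induction j using Fin.lastCases with
      | last => simpa using hef
      | cast j =>
        have : Fin.last k ≠ j.castSucc := (Fin.castSucc_lt_last j).ne'
        simp only [Fin.snoc_last, Fin.snoc_castSucc, if_neg this]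
        rw [polar_comm]
        exact (he' j).2
    | cast i =>
      induction j using Fin.lastCases with
      | last =>
        have : i.castSucc ≠ Fin.last k := (Fin.castSucc_lt_last i).ne
        simp only [Fin.snoc_last, Fin.snoc_castSucc, if_neg this]
        exact (hf' i).1
      | cast j =>
        simp only [Fin.snoc_castSucc, h.ef, Fin.castSucc_inj]
  · intro i j
    induction i using Fin.lastCases with
    | last =>
      induction j using Fin.lastCases with
      | last => simpa using hee'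
      | cast j =>
        simp only [Fin.snoc_last, Fin.snoc_castSucc]
        rw [polar_comm]
        exact (he' j).1
    | cast i =>
      induction j using Fin.lastCases with
      | last =>
        simp only [Fin.snoc_last, Fin.snoc_castSucc]
        exact (he' i).1
      | cast j =>
        simp only [Fin.snoc_castSucc, h.ee]
  · intro i j
    induction i using Fin.lastCases with
    | last =>
      induction j using Fin.lastCases with
      | last => simpa using hff'
      | cast j =>
        simp only [Fin.snoc_last, Fin.snoc_castSucc]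
        rw [polar_comm]
        exact (hf' j).2
    | cast i =>
      induction j using Fin.lastCases with
      | last =>
        simp only [Fin.snoc_last, Fin.snoc_castSucc]
        exact (hf' i).2
      | cast j =>
        simp only [Fin.snoc_castSucc, h.ff]

lemma isHyp_zero (e f : Fin 0 → V) : IsHyp Q e f :=
  ⟨fun i => i.elim0, fun i => i.elim0, fun i => i.elim0, fun i => i.elim0, fun i => i.elim0⟩

end hyp


section expand

variable {F V : Type*} [Field F] [AddCommGroup V] [Module F V] (Q : QuadraticForm F V)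

lemma Q_lin2 (a b : F) (u v : V) :
    Q (a • u + b • v) = a ^ 2 * Q u + b ^ 2 * Q v + a * b * polar ⇑Q u v := by
  rw [QuadraticMap.map_add (⇑Q), QuadraticMap.map_smul, QuadraticMap.map_smul, polar_smul_left,
    polar_smul_right]
  simp only [smul_eq_mul]
  ring

lemma Q_lin3 (a b c : F) (u v w : V) :
    Q (a • u + b • v + c • w) = a ^ 2 * Q u + b ^ 2 * Q v + c ^ 2 * Q w + a * b * polar ⇑Q u v +
      a * c * polar ⇑Q u w + b * c * polar ⇑Q v w := by
  rw [QuadraticMap.map_add (⇑Q), Q_lin2, QuadraticMap.map_smul, polar_add_left, polar_smul_left,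
    polar_smul_left, polar_smul_right, polar_smul_right]
  simp only [smul_eq_mul]
  ring

end expand

section dim

variable {F V : Type*} [Field F] [AddCommGroup V] [Module F V] [FiniteDimensional F V]
  {Q : QuadraticForm F V}

/-- The evaluation map whose kernel is `perp`. -/
def evalMap (Q : QuadraticForm F V) {k : ℕ} (e f : Fin k → V) : V →ₗ[F] (Fin k ⊕ Fin k → F) :=
  LinearMap.pi (Sum.elim (fun i => polarBilin Q (e i)) (fun i => polarBilin Q (f i)))

lemma ker_evalMap {k : ℕ} (e f : Fin k → V) : LinearMap.ker (evalMap Q e f) = perp Q e f := by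
  ext w
  rw [LinearMap.mem_ker, mem_perp]
  constructor
  · intro h i
    have h1 := congrFun h (Sum.inl i)
    have h2 := congrFun h (Sum.inr i)
    simp only [evalMap, LinearMap.pi_apply, Sum.elim_inl, Sum.elim_inr, polarBilin_apply_apply,
      Pi.zero_apply] at h1 h2
    exact ⟨h1, h2⟩
  · intro h
    funext s
    rcases s with i | i
    · simpa [evalMap] using (h i).1
    · simpa [evalMap] using (h i).2

lemma finrank_perp_ge {k : ℕ} (e f : Fin k → V) :
    Module.finrank F V ≤ Module.finrank F (perp Q e f) + (k + k) := by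
  have h := LinearMap.finrank_range_add_finrank_ker (evalMap Q e f)
  have h2 : Module.finrank F (LinearMap.range (evalMap Q e f)) ≤
      Module.finrank F (Fin k ⊕ Fin k → F) := Submodule.finrank_le _
  rw [Module.finrank_fintype_fun_eq_card, Fintype.card_sum, Fintype.card_fin] at h2
  rw [ker_evalMap] at h
  omega

lemma exists_singular_of_three [Finite F] (W : Submodule F V) (h3 : 3 ≤ Module.finrank F W) :
    ∃ w ∈ W, w ≠ 0 ∧ Q w = 0 := by
  let b := Module.finBasis F W
  let u : Fin 3 → W := fun i => b (Fin.castLE h3 i)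
  have hu : LinearIndependent F u :=
    b.linearIndependent.comp _ (Fin.castLE_injective h3)
  obtain ⟨x, y, z, hne, hzero⟩ := ternary_zero (Q (u 0)) (Q (u 1)) (Q (u 2))
    (polar ⇑Q (u 0) (u 1)) (polar ⇑Q (u 0) (u 2)) (polar ⇑Q (u 1) (u 2))
  refine ⟨((x • u 0 + y • u 1 + z • u 2 : W) : V), Submodule.coe_mem _, ?_, ?_⟩
  · intro h0
    apply hne
    have h1 : x • u 0 + y • u 1 + z • u 2 = 0 := Subtype.ext h0
    have h2 := Fintype.linearIndependent_iff.1 hu ![x, y, z] (by
      rw [Fin.sum_univ_three]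
      simpa using h1)
    exact ⟨by simpa using h2 0, by simpa using h2 1, by simpa using h2 2⟩
  · push_cast
    rw [Q_lin3]
    linear_combination hzero

/-- In an anisotropic complement of dimension at least two there is an elliptic pair. -/
lemma exists_elliptic_pair [Finite F] (hQ : (polarBilin Q).Nondegenerate) {k : ℕ}
    {e f : Fin k → V} (h : IsHyp Q e f) (h2 : 2 ≤ Module.finrank F (perp Q e f))
    (haniso : ∀ w ∈ perp Q e f, Q w = 0 → w = 0) :
    ∃ x ∈ perp Q e f, ∃ y ∈ perp Q e f, Q x = 1 ∧ polar ⇑Q x y = 1 ∧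
      ∀ t : F, t ^ 2 + t + Q y ≠ 0 := by
  let b := Module.finBasis F (perp Q e f)
  let u : Fin 2 → perp Q e f := fun i => b (Fin.castLE h2 i)
  have hu : LinearIndependent F u :=
    b.linearIndependent.comp _ (Fin.castLE_injective h2)
  have hind : ∀ a c : F, a • (u 0 : V) + c • (u 1 : V) = 0 → a = 0 ∧ c = 0 := by
    intro a c h0
    have h1 : a • u 0 + c • u 1 = 0 := Subtype.ext (by push_cast; exact h0)
    have h2 := Fintype.linearIndependent_iff.1 hu ![a, c] (by
      rw [Fin.sum_univ_two]
      simpa using h1)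
    exact ⟨by simpa using h2 0, by simpa using h2 1⟩
  obtain ⟨a, c, d, hne, hzero⟩ := ternary_zero (Q (u 0)) (Q (u 1)) (-1 : F)
    (polar ⇑Q (u 0 : V) (u 1)) 0 0
  have hvmem : a • (u 0 : V) + c • (u 1 : V) ∈ perp Q e f :=
    Submodule.add_mem _ (Submodule.smul_mem _ _ (u 0).2) (Submodule.smul_mem _ _ (u 1).2)
  have hQv : Q (a • (u 0 : V) + c • (u 1 : V)) = d ^ 2 := by
    rw [Q_lin2]
    linear_combination hzero
  have hd : d ≠ 0 := by
    intro hd0
    rw [hd0] at hQv
    have := haniso _ hvmem (by rw [hQv]; ring)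
    obtain ⟨ha, hc⟩ := hind a c this
    exact hne ⟨ha, hc, hd0⟩
  obtain ⟨x, hxmem, hQx⟩ : ∃ x ∈ perp Q e f, Q x = 1 := by
    refine ⟨d⁻¹ • (a • (u 0 : V) + c • (u 1 : V)), Submodule.smul_mem _ _ hvmem, ?_⟩
    rw [QuadraticMap.map_smul, hQv, smul_eq_mul]
    field_simp
  have hx0 : x ≠ 0 := by
    rintro rfl
    rw [QuadraticMap.map_zero] at hQx
    exact zero_ne_one hQx
  obtain ⟨y', hy'mem, hy'⟩ : ∃ y' ∈ perp Q e f, polar ⇑Q x y' = 1 := by
    obtain ⟨w, hw, hne⟩ := exists_polar_ne_zero hQ h hxmem hx0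
    refine ⟨(polar ⇑Q x w)⁻¹ • w, Submodule.smul_mem _ _ hw, ?_⟩
    rw [polar_smul_right, smul_eq_mul, inv_mul_cancel₀ hne]
  -- a vector of the complement outside `F x`
  obtain ⟨z, hzmem, hz⟩ : ∃ z ∈ perp Q e f, ∀ s : F, z ≠ s • x := by
    by_contra hcon
    push Not at hcon
    obtain ⟨s₀, hs₀⟩ := hcon (u 0) (u 0).2
    obtain ⟨s₁, hs₁⟩ := hcon (u 1) (u 1).2
    have : s₁ • (u 0 : V) + (-s₀) • (u 1 : V) = 0 := by
      rw [hs₀, hs₁, smul_smul, smul_smul, ← add_smul]
      have : s₁ * s₀ + -s₀ * s₁ = 0 := by ring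
      rw [this, zero_smul]
    obtain ⟨h1, h2⟩ := hind _ _ this
    have h3 : (u 0 : V) = 0 := by
      rw [hs₀, neg_eq_zero.1 h2, zero_smul]
    have := hind 1 0 (by rw [h3]; simp)
    exact one_ne_zero this.1
  -- the second vector
  obtain ⟨y, hymem, hxy, hy⟩ : ∃ y ∈ perp Q e f, polar ⇑Q x y = 1 ∧ ∀ s : F, y ≠ s • x := by
    by_cases hcase : ∀ s : F, y' ≠ s • x
    · exact ⟨y', hy'mem, hy', hcase⟩
    · push Not at hcase
      obtain ⟨s₀, hs₀⟩ := hcase
      refine ⟨y' + (z - polar ⇑Q x z • y'), Submodule.add_mem _ hy'mem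
        (Submodule.sub_mem _ hzmem (Submodule.smul_mem _ _ hy'mem)), ?_, ?_⟩
      · rw [polar_add_right, polar_sub_right, polar_smul_right, hy']
        simp
      · intro s hs
        apply hz (s - s₀ + polar ⇑Q x z * s₀)
        have : z = s • x - y' + polar ⇑Q x z • y' := by
          rw [← hs]
          abel
        exact this.trans (by rw [hs₀, smul_smul, add_smul, sub_smul])
  refine ⟨x, hxmem, y, hymem, hQx, hxy, ?_⟩
  intro t ht
  have hmem : t • x + y ∈ perp Q e f :=
    Submodule.add_mem _ (Submodule.smul_mem _ _ hxmem) hymem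
  have hQ0 : Q (t • x + y) = 0 := by
    have := Q_lin2 Q t 1 x y
    rw [one_smul] at this
    rw [this, hQx, hxy]
    linear_combination ht
  have h0 := haniso _ hmem hQ0
  apply hy (-t)
  rw [neg_smul]
  exact eq_neg_of_add_eq_zero_right h0

end dim


section indep

variable {F V : Type*} [Field F] [AddCommGroup V] [Module F V] {Q : QuadraticForm F V}

lemma hyp_coeff {k : ℕ} {e f : Fin k → V} (h : IsHyp Q e f) (a b : Fin k → F) (w : V)
    (hw : w ∈ perp Q e f) (hsum : ∑ i, a i • e i + ∑ i, b i • f i + w = 0) :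
    (∀ i, a i = 0) ∧ (∀ i, b i = 0) ∧ w = 0 := by
  classical
  have hfe : ∀ i j, polar ⇑Q (f i) (e j) = if i = j then 1 else 0 := by
    intro i j
    rw [polar_comm, h.ef]
    simp [eq_comm]
  have ha : ∀ j, a j = 0 := by
    intro j
    have := congrArg (fun v => polar ⇑Q v (f j)) hsum
    simp only [polar_add_left, polar_sum_left, polar_smul_left, h.ef, h.ff, smul_eq_mul,
      mul_ite, mul_one, mul_zero, Finset.sum_ite_eq', Finset.mem_univ, if_true,
      Finset.sum_const_zero, add_zero, polar_zero_left] at this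
    rw [polar_comm, (hw j).2, add_zero] at this
    exact this
  have hb : ∀ j, b j = 0 := by
    intro j
    have := congrArg (fun v => polar ⇑Q v (e j)) hsum
    simp only [polar_add_left, polar_sum_left, polar_smul_left, h.ee, hfe, smul_eq_mul,
      mul_ite, mul_one, mul_zero, Finset.sum_ite_eq', Finset.mem_univ, if_true,
      Finset.sum_const_zero, zero_add, polar_zero_left] at this
    rw [polar_comm, (hw j).1, add_zero] at this
    exact this
  refine ⟨ha, hb, ?_⟩
  simpa [ha, hb] using hsum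

lemma IsHyp.linearIndependent {k : ℕ} {e f : Fin k → V} (h : IsHyp Q e f) :
    LinearIndependent F (Sum.elim e f) := by
  rw [Fintype.linearIndependent_iff]
  intro g hg
  rw [Fintype.sum_sum_type] at hg
  simp only [Sum.elim_inl, Sum.elim_inr] at hg
  obtain ⟨ha, hb, -⟩ := hyp_coeff h (fun i => g (Sum.inl i)) (fun i => g (Sum.inr i)) 0
    (Submodule.zero_mem _) (by rw [add_zero]; exact hg)
  rintro (i | i)
  · exact ha i
  · exact hb i

lemma elliptic_linearIndependent {k : ℕ} {e f : Fin k → V} (h : IsHyp Q e f) {x y : V}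
    (hx : x ∈ perp Q e f) (hy : y ∈ perp Q e f) (hQx : Q x = 1) (hxy : polar ⇑Q x y = 1)
    (hζ : ∀ t : F, t ^ 2 + t + Q y ≠ 0) :
    LinearIndependent F (Sum.elim (Sum.elim e f) ![x, y]) := by
  rw [Fintype.linearIndependent_iff]
  intro g hg
  rw [Fintype.sum_sum_type, Fintype.sum_sum_type, Fin.sum_univ_two] at hg
  simp only [Sum.elim_inl, Sum.elim_inr, Matrix.cons_val_zero, Matrix.cons_val_one] at hg
  obtain ⟨ha, hb, hw⟩ := hyp_coeff h (fun i => g (Sum.inl (Sum.inl i)))
    (fun i => g (Sum.inl (Sum.inr i))) (g (Sum.inr 0) • x + g (Sum.inr 1) • y)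
    (Submodule.add_mem _ (Submodule.smul_mem _ _ hx) (Submodule.smul_mem _ _ hy)) hg
  have hq := congrArg Q hw
  rw [Q_lin2, hQx, hxy, QuadraticMap.map_zero] at hq
  have h1 : g (Sum.inr 1) = 0 := by
    by_contra hne
    apply hζ (g (Sum.inr 0) / g (Sum.inr 1))
    field_simp
    linear_combination hq
  have h0 : g (Sum.inr 0) = 0 := by
    rw [h1] at hq
    have : g (Sum.inr 0) ^ 2 = 0 := by linear_combination hq
    exact pow_eq_zero_iff (by norm_num) |>.1 this
  rintro ((i | i) | i)
  · exact ha i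
  · exact hb i
  · fin_cases i
    · exact h0
    · exact h1

lemma odd_linearIndependent {k : ℕ} {e f : Fin k → V} (h : IsHyp Q e f) {x : V}
    (hx : x ∈ perp Q e f) (hx0 : x ≠ 0) :
    LinearIndependent F (Sum.elim (fun _ : Unit => x) (Sum.elim e f)) := by
  rw [Fintype.linearIndependent_iff]
  intro g hg
  rw [Fintype.sum_sum_type, Fintype.sum_sum_type] at hg
  simp only [Sum.elim_inl, Sum.elim_inr, Finset.univ_unique, Finset.sum_singleton] at hg
  obtain ⟨ha, hb, hw⟩ := hyp_coeff h (fun i => g (Sum.inr (Sum.inl i)))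
    (fun i => g (Sum.inr (Sum.inr i))) (g (Sum.inl default) • x)
    (Submodule.smul_mem _ _ hx) (by rw [add_comm]; exact hg)
  rintro (i | i | i)
  · exact (smul_eq_zero.1 hw).resolve_right hx0
  · exact ha i
  · exact hb i

end indep

section structure_thm

variable {F V : Type*} [Field F] [Finite F] [AddCommGroup V] [Module F V] [FiniteDimensional F V]
  {Q : QuadraticForm F V}

/-- Extending a hyperbolic family by a singular vector of its complement. -/
lemma exists_snoc (hQ : (polarBilin Q).Nondegenerate) {k : ℕ} {e f : Fin k → V}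
    (h : IsHyp Q e f) {w : V} (hw : w ∈ perp Q e f) (hw0 : w ≠ 0) (hQw : Q w = 0) :
    ∃ e' f' : Fin (k + 1) → V, IsHyp Q e' f' := by
  obtain ⟨f', hf', hQf', hp⟩ := exists_partner hQ h hw hw0 hQw
  exact ⟨_, _, h.snoc hw hf' hQw hQf' hp⟩

theorem even_structure (hQ : (polarBilin Q).Nondegenerate) {m : ℕ}
    (hV : Module.finrank F V = 2 * m) :
    (∃ e f : Fin m → V, IsHyp Q e f) ∨
    (∃ (k : ℕ) (_ : k + 1 = m) (e f : Fin k → V) (x y : V), IsHyp Q e f ∧ x ∈ perp Q e f ∧
      y ∈ perp Q e f ∧ Q x = 1 ∧ polar ⇑Q x y = 1 ∧ ∀ t : F, t ^ 2 + t + Q y ≠ 0) := by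
  have key : ∀ j k : ℕ, k + j = m → ∀ e f : Fin k → V, IsHyp Q e f →
      (∃ e f : Fin m → V, IsHyp Q e f) ∨
      (∃ (k : ℕ) (_ : k + 1 = m) (e f : Fin k → V) (x y : V), IsHyp Q e f ∧ x ∈ perp Q e f ∧
        y ∈ perp Q e f ∧ Q x = 1 ∧ polar ⇑Q x y = 1 ∧ ∀ t : F, t ^ 2 + t + Q y ≠ 0) := by
    intro j
    induction j with
    | zero =>
      intro k hk e f h
      rw [add_zero] at hk
      subst hk
      exact Or.inl ⟨e, f, h⟩
    | succ j ih =>
      intro k hk e f h
      have hdim := finrank_perp_ge (Q := Q) e f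
      by_cases hsing : ∃ w ∈ perp Q e f, w ≠ 0 ∧ Q w = 0
      · obtain ⟨w, hw, hw0, hQw⟩ := hsing
        obtain ⟨e', f', h'⟩ := exists_snoc hQ h hw hw0 hQw
        exact ih (k + 1) (by omega) e' f' h'
      · push Not at hsing
        have haniso : ∀ w ∈ perp Q e f, Q w = 0 → w = 0 := by
          intro w hw hQw
          by_contra hne
          exact hsing w hw hne hQw
        have hle : Module.finrank F (perp Q e f) ≤ 2 := by
          by_contra hgt
          push Not at hgt
          obtain ⟨w, hw, hw0, hQw⟩ := exists_singular_of_three (Q := Q) (perp Q e f) hgt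
          exact hsing w hw hw0 hQw
        have hj : j = 0 := by omega
        subst hj
        obtain ⟨x, hx, y, hy, hQx, hxy, hζ⟩ := exists_elliptic_pair hQ h (by omega) haniso
        exact Or.inr ⟨k, hk, e, f, x, y, h, hx, hy, hQx, hxy, hζ⟩
  exact key m 0 (by omega) Fin.elim0 Fin.elim0 (isHyp_zero _ _)

theorem odd_structure (hQ : (polarBilin Q).Nondegenerate) {m : ℕ}
    (hV : Module.finrank F V = 2 * m + 1) :
    ∃ (e f : Fin m → V) (x : V), IsHyp Q e f ∧ x ∈ perp Q e f ∧ Q x ≠ 0 := by
  have key : ∀ j k : ℕ, k + j = m → ∀ e f : Fin k → V, IsHyp Q e f →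
      ∃ e f : Fin m → V, IsHyp Q e f := by
    intro j
    induction j with
    | zero =>
      intro k hk e f h
      rw [add_zero] at hk
      subst hk
      exact ⟨e, f, h⟩
    | succ j ih =>
      intro k hk e f h
      have hdim := finrank_perp_ge (Q := Q) e f
      obtain ⟨w, hw, hw0, hQw⟩ := exists_singular_of_three (Q := Q) (perp Q e f) (by omega)
      obtain ⟨e', f', h'⟩ := exists_snoc hQ h hw hw0 hQw
      exact ih (k + 1) (by omega) e' f' h'
  obtain ⟨e, f, h⟩ := key m 0 (by omega) Fin.elim0 Fin.elim0 (isHyp_zero _ _)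
  have hdim := finrank_perp_ge (Q := Q) e f
  have hpos : 0 < Module.finrank F (perp Q e f) := by omega
  obtain ⟨⟨x, hx⟩, hx0⟩ := Module.finrank_pos_iff_exists_ne_zero.1 hpos
  have hx0' : x ≠ 0 := fun h0 => hx0 (Subtype.ext h0)
  refine ⟨e, f, x, h, hx, ?_⟩
  intro hQx
  obtain ⟨e', f', h'⟩ := exists_snoc hQ h hx hx0' hQx
  have := h'.linearIndependent.fintype_card_le_finrank
  rw [Fintype.card_sum, Fintype.card_fin, hV] at this
  omega

end structure_thm

end Cfsg.Agent.Lib.Helper19.QuadWitt
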