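import Mathlib
import Cfsg.Agent.Lib.Helper19.QuadWitt

/-!
# Helper19: quadratic forms over finite fields II — values in standard coordinates

* `hyp_Q`: `Q (Σ aᵢ eᵢ + Σ bᵢ fᵢ + w) = Σ aᵢ bᵢ + Q w` for a hyperbolic family and `w ⊥` it.
* `similarity_equiv`: a linear map with `Q₂ (g v) = c * Q₁ v`, `c ≠ 0`, `Q₁` non-degenerate,
  between spaces of the same dimension is a linear equivalence.
-/

set_option autoImplicit false

namespace Cfsg.Agent.Lib.Helper19.QuadWitt

open QuadraticMap

section values

variable {F V : Type*} [Field F] [AddCommGroup V] [Module F V] {Q : QuadraticForm F V}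

lemma Q_sum_e {k : ℕ} {e f : Fin k → V} (h : IsHyp Q e f) (a : Fin k → F)
    (s : Finset (Fin k)) : Q (∑ i ∈ s, a i • e i) = 0 := by
  classical
  induction s using Finset.induction_on with
  | empty => simp
  | insert j s hj ih =>
    rw [Finset.sum_insert hj, QuadraticMap.map_add (⇑Q), QuadraticMap.map_smul, h.Qe, ih,
      polar_sum_right]
    simp [polar_smul_left, polar_smul_right, h.ee]

lemma Q_sum_f {k : ℕ} {e f : Fin k → V} (h : IsHyp Q e f) (a : Fin k → F)
    (s : Finset (Fin k)) : Q (∑ i ∈ s, a i • f i) = 0 := by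
  classical
  induction s using Finset.induction_on with
  | empty => simp
  | insert j s hj ih =>
    rw [Finset.sum_insert hj, QuadraticMap.map_add (⇑Q), QuadraticMap.map_smul, h.Qf, ih,
      polar_sum_right]
    simp [polar_smul_left, polar_smul_right, h.ff]

lemma polar_sum_e_f {k : ℕ} {e f : Fin k → V} (h : IsHyp Q e f) (a b : Fin k → F) :
    polar ⇑Q (∑ i, a i • e i) (∑ j, b j • f j) = ∑ i, a i * b i := by
  classical
  rw [polar_sum_left]
  apply Finset.sum_congr rfl
  intro i _
  rw [polar_sum_right]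
  simp only [polar_smul_left, polar_smul_right, h.ef, smul_eq_mul, mul_ite, mul_one, mul_zero]
  rw [Finset.sum_ite_eq, if_pos (Finset.mem_univ i), mul_comm]

lemma hyp_Q {k : ℕ} {e f : Fin k → V} (h : IsHyp Q e f) (a b : Fin k → F) {w : V}
    (hw : w ∈ perp Q e f) :
    Q (∑ i, a i • e i + ∑ i, b i • f i + w) = ∑ i, a i * b i + Q w := by
  rw [QuadraticMap.map_add (⇑Q), QuadraticMap.map_add (⇑Q), Q_sum_e h, Q_sum_f h,
    polar_sum_e_f h, polar_add_left, polar_sum_left, polar_sum_left]
  have h1 : ∀ i, polar ⇑Q (a i • e i) w = 0 := fun i => by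
    rw [polar_smul_left, (hw i).1, smul_zero]
  have h2 : ∀ i, polar ⇑Q (b i • f i) w = 0 := fun i => by
    rw [polar_smul_left, (hw i).2, smul_zero]
  simp [h1, h2]

end values

section simil

variable {F V V' : Type*} [Field F] [AddCommGroup V] [Module F V] [AddCommGroup V'] [Module F V']
  [FiniteDimensional F V] [FiniteDimensional F V']
  {Q : QuadraticForm F V} {Q' : QuadraticForm F V'}

lemma similarity_injective (hQ : (polarBilin Q).Nondegenerate) (g : V →ₗ[F] V') {c : F}
    (hc : c ≠ 0) (hg : ∀ v, Q' (g v) = c * Q v) : Function.Injective g := by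
  rw [injective_iff_map_eq_zero]
  intro v hv
  apply hQ.1 v
  intro u
  rw [polarBilin_apply_apply]
  have h1 : polar ⇑Q' (g v) (g u) = c * polar ⇑Q v u := by
    unfold polar
    rw [← map_add, hg, hg, hg]
    ring
  rw [hv, polar_zero_left] at h1
  exact (mul_eq_zero.1 h1.symm).resolve_left hc

/-- A similarity between spaces of the same dimension is a linear equivalence. -/
noncomputable def similarityEquiv (hQ : (polarBilin Q).Nondegenerate) (g : V →ₗ[F] V') {c : F}
    (hc : c ≠ 0) (hg : ∀ v, Q' (g v) = c * Q v)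
    (hdim : Module.finrank F V = Module.finrank F V') : V ≃ₗ[F] V' :=
  LinearMap.linearEquivOfInjective g (similarity_injective hQ g hc hg) hdim

lemma similarityEquiv_apply (hQ : (polarBilin Q).Nondegenerate) (g : V →ₗ[F] V') {c : F}
    (hc : c ≠ 0) (hg : ∀ v, Q' (g v) = c * Q v)
    (hdim : Module.finrank F V = Module.finrank F V') (v : V) :
    similarityEquiv hQ g hc hg hdim v = g v := rfl

end simil

end Cfsg.Agent.Lib.Helper19.QuadWitt
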