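import Mathlib
import Cfsg.Agent.Lib.Helper19.QuadWitt2
import Cfsg.Agent.Lib.Helper19.QuadCount

/-!
# Helper19: counting hyperbolic frames in a non-degenerate quadratic space over a finite field

* `finrank_perp_eq`: the complement of a `k`-frame has codimension `2k`.
* `mem_perp_snoc`: membership in the complement of an extended frame.
* `Zp Q e f`: the number of singular vectors of the complement of a frame.
* `Zp_peel`: `Zp (e, f) = q * Zp (snoc) + (q - 1) * q ^ (d - 2k - 2)`.
* `card_partners`, `card_hypPairs`, `card_frames_succ`.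
-/

set_option autoImplicit false

namespace Cfsg.Agent.Lib.Helper19.QuadWitt

open QuadraticMap

section perp_dim

variable {F V : Type*} [Field F] [AddCommGroup V] [Module F V] [FiniteDimensional F V]
  {Q : QuadraticForm F V}

lemma evalMap_surjective {k : ℕ} {e f : Fin k → V} (h : IsHyp Q e f) :
    Function.Surjective (evalMap Q e f) := by
  classical
  intro r
  refine ⟨∑ i, (r (Sum.inl i) • f i + r (Sum.inr i) • e i), ?_⟩
  have hfe : ∀ i j, polar ⇑Q (f i) (e j) = if i = j then 1 else 0 := by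
    intro i j
    rw [polar_comm, h.ef]
    simp [eq_comm]
  funext s
  rcases s with j | j
  · simp only [evalMap, LinearMap.pi_apply, Sum.elim_inl, polarBilin_apply_apply]
    rw [polar_sum_right]
    simp only [polar_add_right, polar_smul_right, h.ef, h.ee, smul_eq_mul, mul_ite, mul_one,
      mul_zero, add_zero]
    rw [Finset.sum_ite_eq, if_pos (Finset.mem_univ j)]
  · simp only [evalMap, LinearMap.pi_apply, Sum.elim_inr, polarBilin_apply_apply]
    rw [polar_sum_right]
    simp only [polar_add_right, polar_smul_right, h.ff, hfe, smul_eq_mul, mul_ite, mul_one,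
      mul_zero, zero_add]
    rw [Finset.sum_ite_eq, if_pos (Finset.mem_univ j)]

lemma finrank_perp_eq {k : ℕ} {e f : Fin k → V} (h : IsHyp Q e f) :
    Module.finrank F (perp Q e f) + (k + k) = Module.finrank F V := by
  have h1 := LinearMap.finrank_range_add_finrank_ker (evalMap Q e f)
  rw [LinearMap.range_eq_top.2 (evalMap_surjective h), finrank_top,
    Module.finrank_fintype_fun_eq_card, Fintype.card_sum, Fintype.card_fin, ker_evalMap] at h1
  omega

end perp_dim

section snoc

variable {F V : Type*} [Field F] [AddCommGroup V] [Module F V] {Q : QuadraticForm F V}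

lemma mem_perp_snoc {k : ℕ} (e f : Fin k → V) (e' f' w : V) :
    w ∈ perp Q (Fin.snoc e e' : Fin (k + 1) → V) (Fin.snoc f f' : Fin (k + 1) → V) ↔
      w ∈ perp Q e f ∧ polar ⇑Q e' w = 0 ∧ polar ⇑Q f' w = 0 := by
  rw [mem_perp, mem_perp]
  constructor
  · intro hw
    refine ⟨fun i => ?_, ?_, ?_⟩
    · have := hw (Fin.castSucc i)
      simpa using this
    · have := (hw (Fin.last k)).1
      simpa using this
    · have := (hw (Fin.last k)).2
      simpa using this
  · rintro ⟨h1, h2, h3⟩ i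
    induction i using Fin.lastCases with
    | last => simpa using ⟨h2, h3⟩
    | cast i => simpa using h1 i

end snoc


section natcard

variable {F : Type*} [Field F] [Fintype F]

open Cfsg.Agent.Lib.Helper19.QuadCount in
lemma natCard_ext {A : Type*} [Finite A] (R : A → F) :
    Nat.card {p : A × F × F // R p.1 + p.2.1 * p.2.2 = 0} =
      Fintype.card F * Nat.card {a : A // R a = 0} + (Fintype.card F - 1) * Nat.card A := by
  classical
  haveI : Fintype A := Fintype.ofFinite A
  rw [Nat.card_eq_fintype_card, Nat.card_eq_fintype_card, Nat.card_eq_fintype_card]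
  convert card_ext R using 2

end natcard

section peel

variable {F V : Type*} [Field F] [Fintype F] [AddCommGroup V] [Module F V]
  [FiniteDimensional F V] {Q : QuadraticForm F V}

/-- Number of singular vectors in the complement of a family. -/
noncomputable def Zp (Q : QuadraticForm F V) {k : ℕ} (e f : Fin k → V) : ℕ :=
  Nat.card {w : V // w ∈ perp Q e f ∧ Q w = 0}

lemma Q_add_pair {e' f' w' : V} (hQe : Q e' = 0) (hQf : Q f' = 0) (hef : polar ⇑Q e' f' = 1)
    (h1 : polar ⇑Q e' w' = 0) (h2 : polar ⇑Q f' w' = 0) (a b : F) :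
    Q (w' + (a • e' + b • f')) = Q w' + a * b := by
  rw [QuadraticMap.map_add (⇑Q), Q_lin2, hQe, hQf, hef, polar_add_right, polar_smul_right,
    polar_smul_right, polar_comm _ w' e', polar_comm _ w' f', h1, h2]
  simp

/-- The peeling equivalence. -/
noncomputable def peelEquiv {k : ℕ} {e f : Fin k → V} {e' f' : V}
    (he' : e' ∈ perp Q e f) (hf' : f' ∈ perp Q e f) (hQe : Q e' = 0) (hQf : Q f' = 0)
    (hef : polar ⇑Q e' f' = 1) :
    {w : V // w ∈ perp Q e f ∧ Q w = 0} ≃
      {p : ↥(perp Q (Fin.snoc e e' : Fin (k + 1) → V) (Fin.snoc f f' : Fin (k + 1) → V)) × F × F //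
        Q (p.1 : V) + p.2.1 * p.2.2 = 0} where
  toFun w := ⟨(⟨w.1 - (polar ⇑Q w.1 f' • e' + polar ⇑Q w.1 e' • f'), by
      rw [mem_perp_snoc]
      refine ⟨Submodule.sub_mem _ w.2.1 (Submodule.add_mem _ (Submodule.smul_mem _ _ he')
        (Submodule.smul_mem _ _ hf')), ?_, ?_⟩
      · rw [polar_sub_right, polar_add_right, polar_smul_right, polar_smul_right, polar_self, hQe,
          hef, polar_comm _ w.1 e']
        simp
      · rw [polar_sub_right, polar_add_right, polar_smul_right, polar_smul_right, polar_self, hQf,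
          polar_comm _ f' e', hef, polar_comm _ w.1 f']
        simp⟩, polar ⇑Q w.1 f', polar ⇑Q w.1 e'), by
    have hmem : w.1 - (polar ⇑Q w.1 f' • e' + polar ⇑Q w.1 e' • f') ∈
        perp Q (Fin.snoc e e' : Fin (k + 1) → V) (Fin.snoc f f' : Fin (k + 1) → V) := by
      rw [mem_perp_snoc]
      refine ⟨Submodule.sub_mem _ w.2.1 (Submodule.add_mem _ (Submodule.smul_mem _ _ he')
        (Submodule.smul_mem _ _ hf')), ?_, ?_⟩
      · rw [polar_sub_right, polar_add_right, polar_smul_right, polar_smul_right, polar_self, hQe,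
          hef, polar_comm _ w.1 e']
        simp
      · rw [polar_sub_right, polar_add_right, polar_smul_right, polar_smul_right, polar_self, hQf,
          polar_comm _ f' e', hef, polar_comm _ w.1 f']
        simp
    obtain ⟨-, h1, h2⟩ := (mem_perp_snoc e f e' f' _).1 hmem
    have := Q_add_pair hQe hQf hef h1 h2 (polar ⇑Q w.1 f') (polar ⇑Q w.1 e')
    rw [sub_add_cancel, w.2.2] at this
    exact this.symm⟩
  invFun p := ⟨(p.1.1 : V) + (p.1.2.1 • e' + p.1.2.2 • f'), by
    obtain ⟨h0, h1, h2⟩ := (mem_perp_snoc e f e' f' _).1 p.1.1.2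
    refine ⟨Submodule.add_mem _ h0 (Submodule.add_mem _ (Submodule.smul_mem _ _ he')
      (Submodule.smul_mem _ _ hf')), ?_⟩
    rw [Q_add_pair hQe hQf hef h1 h2]
    exact p.2⟩
  left_inv := by
    rintro ⟨w, hw⟩
    apply Subtype.ext
    simp
  right_inv := by
    rintro ⟨⟨⟨w', hw'⟩, a, b⟩, hp⟩
    obtain ⟨h0, h1, h2⟩ := (mem_perp_snoc e f e' f' _).1 hw'
    have ha : polar ⇑Q (w' + (a • e' + b • f')) f' = a := by
      rw [polar_add_left, polar_add_left, polar_smul_left, polar_smul_left, polar_self, hQf, hef,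
        polar_comm _ w' f', h2]
      simp
    have hb : polar ⇑Q (w' + (a • e' + b • f')) e' = b := by
      rw [polar_add_left, polar_add_left, polar_smul_left, polar_smul_left, polar_self, hQe,
        polar_comm _ f' e', hef, polar_comm _ w' e', h1]
      simp
    apply Subtype.ext
    refine Prod.ext ?_ (Prod.ext ?_ ?_)
    · apply Subtype.ext
      show w' + (a • e' + b • f') - (polar ⇑Q (w' + (a • e' + b • f')) f' • e' +
        polar ⇑Q (w' + (a • e' + b • f')) e' • f') = w'
      rw [ha, hb]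
      abel
    · exact ha
    · exact hb

lemma Zp_peel {k : ℕ} {e f : Fin k → V} (h : IsHyp Q e f) {e' f' : V}
    (he' : e' ∈ perp Q e f) (hf' : f' ∈ perp Q e f) (hQe : Q e' = 0) (hQf : Q f' = 0)
    (hef : polar ⇑Q e' f' = 1) :
    Zp Q e f = Fintype.card F * Zp Q (Fin.snoc e e' : Fin (k + 1) → V) (Fin.snoc f f') +
      (Fintype.card F - 1) * Fintype.card F ^ (Module.finrank F V - (k + 1 + (k + 1))) := by
  haveI : Finite V := Module.finite_of_finite F
  unfold Zp
  rw [Nat.card_congr (peelEquiv he' hf' hQe hQf hef),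
    natCard_ext (fun w : ↥(perp Q (Fin.snoc e e' : Fin (k + 1) → V) (Fin.snoc f f')) => Q (w : V))]
  have h' := h.snoc he' hf' hQe hQf hef
  have hdim := finrank_perp_eq h'
  congr 2
  · exact Nat.card_congr (Equiv.subtypeSubtypeEquivSubtypeInter
      (fun w : V => w ∈ perp Q (Fin.snoc e e' : Fin (k + 1) → V) (Fin.snoc f f'))
      (fun w : V => Q w = 0))
  · classical
    haveI : Fintype ↥(perp Q (Fin.snoc e e' : Fin (k + 1) → V) (Fin.snoc f f')) := Fintype.ofFinite _
    rw [Nat.card_eq_fintype_card, Module.card_eq_pow_finrank (K := F)]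
    congr 1
    omega

end peel


section partners

variable {F V : Type*} [Field F] [Fintype F] [AddCommGroup V] [Module F V]
  [FiniteDimensional F V] {Q : QuadraticForm F V}

/-- Partners of a singular vector correspond to the complement of the extended frame. -/
noncomputable def partnersEquiv {k : ℕ} {e f : Fin k → V} {e' f₀ : V}
    (he' : e' ∈ perp Q e f) (hf₀ : f₀ ∈ perp Q e f) (hQe : Q e' = 0) (hQf : Q f₀ = 0)
    (hef : polar ⇑Q e' f₀ = 1) :
    {f' : V // f' ∈ perp Q e f ∧ Q f' = 0 ∧ polar ⇑Q e' f' = 1} ≃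
      ↥(perp Q (Fin.snoc e e' : Fin (k + 1) → V) (Fin.snoc f f₀ : Fin (k + 1) → V)) where
  toFun f' := ⟨f'.1 - (polar ⇑Q f'.1 f₀ • e' + f₀), by
    rw [mem_perp_snoc]
    refine ⟨Submodule.sub_mem _ f'.2.1 (Submodule.add_mem _ (Submodule.smul_mem _ _ he') hf₀),
      ?_, ?_⟩
    · rw [polar_sub_right, polar_add_right, polar_smul_right, polar_self, hQe, hef, f'.2.2.2]
      simp
    · rw [polar_sub_right, polar_add_right, polar_smul_right, polar_self, hQf,
        polar_comm _ f₀ e', hef, polar_comm _ f₀ f'.1]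
      simp⟩
  invFun w := ⟨(w : V) + ((-(Q (w : V))) • e' + (1 : F) • f₀), by
    obtain ⟨h0, h1, h2⟩ := (mem_perp_snoc e f e' f₀ _).1 w.2
    refine ⟨Submodule.add_mem _ h0 (Submodule.add_mem _ (Submodule.smul_mem _ _ he')
      (Submodule.smul_mem _ _ hf₀)), ?_, ?_⟩
    · rw [Q_add_pair hQe hQf hef h1 h2]
      ring
    · rw [polar_add_right, polar_add_right, polar_smul_right, polar_smul_right, polar_self, hQe,
        hef, h1]
      simp⟩
  left_inv := by
    rintro ⟨f', hf'1, hf'2, hf'3⟩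
    apply Subtype.ext
    have hmem : f' - (polar ⇑Q f' f₀ • e' + f₀) ∈
        perp Q (Fin.snoc e e' : Fin (k + 1) → V) (Fin.snoc f f₀ : Fin (k + 1) → V) := by
      rw [mem_perp_snoc]
      refine ⟨Submodule.sub_mem _ hf'1 (Submodule.add_mem _ (Submodule.smul_mem _ _ he') hf₀),
        ?_, ?_⟩
      · rw [polar_sub_right, polar_add_right, polar_smul_right, polar_self, hQe, hef, hf'3]
        simp
      · rw [polar_sub_right, polar_add_right, polar_smul_right, polar_self, hQf,
          polar_comm _ f₀ e', hef, polar_comm _ f₀ f']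
        simp
    obtain ⟨-, h1, h2⟩ := (mem_perp_snoc e f e' f₀ _).1 hmem
    have hQ := Q_add_pair hQe hQf hef h1 h2 (polar ⇑Q f' f₀) 1
    rw [one_smul, sub_add_cancel, hf'2, mul_one] at hQ
    have hQw : Q (f' - (polar ⇑Q f' f₀ • e' + f₀)) = - polar ⇑Q f' f₀ := by
      linear_combination (-1 : F) * hQ
    show f' - (polar ⇑Q f' f₀ • e' + f₀) +
      ((-(Q (f' - (polar ⇑Q f' f₀ • e' + f₀)))) • e' + (1 : F) • f₀) = f'
    rw [hQw, neg_neg, one_smul]
    abel
  right_inv := by
    rintro ⟨w, hw⟩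
    obtain ⟨h0, h1, h2⟩ := (mem_perp_snoc e f e' f₀ _).1 hw
    apply Subtype.ext
    have hp : polar ⇑Q (w + ((-(Q w)) • e' + (1 : F) • f₀)) f₀ = - Q w := by
      rw [polar_add_left, polar_add_left, polar_smul_left, polar_smul_left, polar_self, hQf, hef,
        polar_comm _ w f₀, h2]
      simp
    show w + ((-(Q w)) • e' + (1 : F) • f₀) -
      (polar ⇑Q (w + ((-(Q w)) • e' + (1 : F) • f₀)) f₀ • e' + f₀) = w
    rw [hp, one_smul]
    abel

lemma card_partners (hQ : (polarBilin Q).Nondegenerate) {k : ℕ} {e f : Fin k → V}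
    (h : IsHyp Q e f) {e' : V} (he' : e' ∈ perp Q e f) (he0 : e' ≠ 0) (hQe : Q e' = 0) :
    Nat.card {f' : V // f' ∈ perp Q e f ∧ Q f' = 0 ∧ polar ⇑Q e' f' = 1} =
      Fintype.card F ^ (Module.finrank F V - (k + 1 + (k + 1))) := by
  classical
  haveI : Finite V := Module.finite_of_finite F
  obtain ⟨f₀, hf₀, hQf, hef⟩ := exists_partner hQ h he' he0 hQe
  rw [Nat.card_congr (partnersEquiv he' hf₀ hQe hQf hef)]
  have h' := h.snoc he' hf₀ hQe hQf hef
  have hdim := finrank_perp_eq h'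
  haveI : Fintype ↥(perp Q (Fin.snoc e e' : Fin (k + 1) → V) (Fin.snoc f f₀)) := Fintype.ofFinite _
  rw [Nat.card_eq_fintype_card, Module.card_eq_pow_finrank (K := F)]
  congr 1
  omega

/-- Hyperbolic pairs in the complement of a frame. -/
def HP (Q : QuadraticForm F V) {k : ℕ} (e f : Fin k → V) : Type _ :=
  {p : V × V // p.1 ∈ perp Q e f ∧ p.2 ∈ perp Q e f ∧ Q p.1 = 0 ∧ Q p.2 = 0 ∧
    polar ⇑Q p.1 p.2 = 1}

/-- Sigma decomposition of hyperbolic pairs. -/
def hpEquiv {k : ℕ} (e f : Fin k → V) :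
    HP Q e f ≃ Σ e' : {e' : {w : V // w ∈ perp Q e f ∧ Q w = 0} // e' ≠ ⟨0, Submodule.zero_mem _,
        QuadraticMap.map_zero Q⟩},
      {f' : V // f' ∈ perp Q e f ∧ Q f' = 0 ∧ polar ⇑Q (e'.1.1 : V) f' = 1} where
  toFun p := ⟨⟨⟨p.1.1, p.2.1, p.2.2.2.1⟩, by
      intro h0
      have h1 : p.1.1 = 0 := congrArg Subtype.val h0
      have h2 := p.2.2.2.2.2
      rw [h1, polar_zero_left] at h2
      exact zero_ne_one h2⟩, ⟨p.1.2, p.2.2.1, p.2.2.2.2.1, p.2.2.2.2.2⟩⟩
  invFun s := ⟨(s.1.1.1, s.2.1), s.1.1.2.1, s.2.2.1, s.1.1.2.2, s.2.2.2.1, s.2.2.2.2⟩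
  left_inv := by
    rintro ⟨⟨a, b⟩, h⟩
    rfl
  right_inv := by
    rintro ⟨⟨⟨a, ha⟩, ha0⟩, ⟨b, hb⟩⟩
    rfl

lemma card_HP (hQ : (polarBilin Q).Nondegenerate) {k : ℕ} {e f : Fin k → V}
    (h : IsHyp Q e f) :
    Nat.card (HP Q e f) =
      (Zp Q e f - 1) * Fintype.card F ^ (Module.finrank F V - (k + 1 + (k + 1))) := by
  classical
  haveI : Finite V := Module.finite_of_finite F
  haveI : Fintype {w : V // w ∈ perp Q e f ∧ Q w = 0} := Fintype.ofFinite _
  rw [Nat.card_congr (hpEquiv e f), Nat.card_sigma]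
  have hfib : ∀ e' : {e' : {w : V // w ∈ perp Q e f ∧ Q w = 0} // e' ≠ ⟨0, Submodule.zero_mem _,
      QuadraticMap.map_zero Q⟩},
      Nat.card {f' : V // f' ∈ perp Q e f ∧ Q f' = 0 ∧ polar ⇑Q (e'.1.1 : V) f' = 1} =
        Fintype.card F ^ (Module.finrank F V - (k + 1 + (k + 1))) := by
    rintro ⟨⟨e', he'1, he'2⟩, he'0⟩
    apply card_partners hQ h he'1 _ he'2
    rintro rfl
    exact he'0 rfl
  simp only [hfib]
  rw [Finset.sum_const, Finset.card_univ, smul_eq_mul, Fintype.card_subtype_compl,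
    Fintype.card_subtype_eq]
  unfold Zp
  rw [Nat.card_eq_fintype_card]

end partners


section frames

variable {F V : Type*} [Field F] [AddCommGroup V] [Module F V] {Q : QuadraticForm F V}

lemma IsHyp.initF {k : ℕ} {e f : Fin (k + 1) → V} (h : IsHyp Q e f) :
    IsHyp Q (Fin.init e : Fin k → V) (Fin.init f : Fin k → V) :=
  ⟨fun i => h.Qe _, fun i => h.Qf _, fun i j => by
    show polar ⇑Q (e (Fin.castSucc i)) (f (Fin.castSucc j)) = _
    rw [h.ef]
    simp [Fin.castSucc_inj], fun i j => h.ee _ _, fun i j => h.ff _ _⟩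

lemma IsHyp.lastF_mem {k : ℕ} {e f : Fin (k + 1) → V} (h : IsHyp Q e f) :
    e (Fin.last k) ∈ perp Q (Fin.init e : Fin k → V) (Fin.init f : Fin k → V) ∧
    f (Fin.last k) ∈ perp Q (Fin.init e : Fin k → V) (Fin.init f : Fin k → V) := by
  constructor
  · intro i
    refine ⟨h.ee _ _, ?_⟩
    show polar ⇑Q (f (Fin.castSucc i)) (e (Fin.last k)) = 0
    rw [polar_comm, h.ef, if_neg (Fin.castSucc_lt_last i).ne']
  · intro i
    refine ⟨?_, h.ff _ _⟩
    show polar ⇑Q (e (Fin.castSucc i)) (f (Fin.last k)) = 0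
    rw [h.ef, if_neg (Fin.castSucc_lt_last i).ne]

/-- The type of hyperbolic `k`-frames. -/
def Frames (Q : QuadraticForm F V) (k : ℕ) : Type _ :=
  {p : (Fin k → V) × (Fin k → V) // IsHyp Q p.1 p.2}

/-- Intermediate non-dependent description of `(k+1)`-frames. -/
def FramesT (Q : QuadraticForm F V) (k : ℕ) : Type _ :=
  {q : ((Fin k → V) × (Fin k → V)) × (V × V) // IsHyp Q q.1.1 q.1.2 ∧
    (q.2.1 ∈ perp Q q.1.1 q.1.2 ∧ q.2.2 ∈ perp Q q.1.1 q.1.2 ∧ Q q.2.1 = 0 ∧ Q q.2.2 = 0 ∧
      polar ⇑Q q.2.1 q.2.2 = 1)}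

/-- `(k+1)`-frames are `k`-frames together with a hyperbolic pair in the complement. -/
def framesSuccEquivT (k : ℕ) : Frames Q (k + 1) ≃ FramesT Q k where
  toFun p := ⟨((Fin.init p.1.1, Fin.init p.1.2), (p.1.1 (Fin.last k), p.1.2 (Fin.last k))),
    p.2.initF, p.2.lastF_mem.1, p.2.lastF_mem.2, p.2.Qe _, p.2.Qf _, by
      have := p.2.ef (Fin.last k) (Fin.last k)
      simpa using this⟩
  invFun q := ⟨(Fin.snoc q.1.1.1 q.1.2.1, Fin.snoc q.1.1.2 q.1.2.2),
    q.2.1.snoc q.2.2.1 q.2.2.2.1 q.2.2.2.2.1 q.2.2.2.2.2.1 q.2.2.2.2.2.2⟩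
  left_inv := by
    rintro ⟨⟨e, f⟩, h⟩
    apply Subtype.ext
    refine Prod.ext ?_ ?_
    · exact Fin.snoc_init_self e
    · exact Fin.snoc_init_self f
  right_inv := by
    rintro ⟨⟨⟨e, f⟩, ⟨e', f'⟩⟩, h⟩
    apply Subtype.ext
    refine Prod.ext (Prod.ext ?_ ?_) (Prod.ext ?_ ?_)
    · show Fin.init (Fin.snoc e e' : Fin (k + 1) → V) = e
      exact Fin.init_snoc _ _
    · show Fin.init (Fin.snoc f f' : Fin (k + 1) → V) = f
      exact Fin.init_snoc _ _
    · show (Fin.snoc e e' : Fin (k + 1) → V) (Fin.last k) = e'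
      exact Fin.snoc_last _ _
    · show (Fin.snoc f f' : Fin (k + 1) → V) (Fin.last k) = f'
      exact Fin.snoc_last _ _

/-- Sigma form. -/
def framesTEquivSigma (k : ℕ) : FramesT Q k ≃ Σ fr : Frames Q k, HP Q fr.1.1 fr.1.2 where
  toFun q := ⟨⟨q.1.1, q.2.1⟩, ⟨q.1.2, q.2.2⟩⟩
  invFun s := ⟨(s.1.1, s.2.1), s.1.2, s.2.2⟩
  left_inv := by
    rintro ⟨⟨a, b⟩, h⟩
    rfl
  right_inv := by
    rintro ⟨⟨a, ha⟩, ⟨b, hb⟩⟩
    rfl

end frames

section counting

variable {F V : Type*} [Field F] [Fintype F] [AddCommGroup V] [Module F V]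
  [FiniteDimensional F V] {Q : QuadraticForm F V}

instance finite_Frames (k : ℕ) : Finite (Frames Q k) := by
  haveI : Finite V := Module.finite_of_finite F
  unfold Frames
  infer_instance

instance finite_HP {k : ℕ} (e f : Fin k → V) : Finite (HP Q e f) := by
  haveI : Finite V := Module.finite_of_finite F
  unfold HP
  infer_instance

lemma card_frames_succ_sum (hQ : (polarBilin Q).Nondegenerate) (k : ℕ) :
    Nat.card (Frames Q (k + 1)) = ∑ᶠ fr : Frames Q k,
      (Zp Q fr.1.1 fr.1.2 - 1) * Fintype.card F ^ (Module.finrank F V - (k + 1 + (k + 1))) := by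
  classical
  haveI : Finite V := Module.finite_of_finite F
  haveI : Fintype (Frames Q k) := Fintype.ofFinite _
  rw [Nat.card_congr ((framesSuccEquivT k).trans (framesTEquivSigma k)), Nat.card_sigma,
    finsum_eq_sum_of_fintype]
  apply Finset.sum_congr rfl
  intro fr _
  exact card_HP hQ fr.2

lemma card_frames_succ (hQ : (polarBilin Q).Nondegenerate) (k : ℕ) (ζ : ℕ)
    (hζ : ∀ fr : Frames Q k, Zp Q fr.1.1 fr.1.2 = ζ) :
    Nat.card (Frames Q (k + 1)) = Nat.card (Frames Q k) *
      ((ζ - 1) * Fintype.card F ^ (Module.finrank F V - (k + 1 + (k + 1)))) := by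
  classical
  haveI : Fintype (Frames Q k) := Fintype.ofFinite _
  rw [card_frames_succ_sum hQ, finsum_eq_sum_of_fintype]
  simp only [hζ]
  rw [Finset.sum_const, Finset.card_univ, smul_eq_mul, Nat.card_eq_fintype_card]

/-- The accumulated constant in the unrolled peeling recurrence. -/
def Ssum (q d k : ℕ) : ℕ :=
  ∑ i ∈ Finset.range k, q ^ i * ((q - 1) * q ^ (d - (i + 1 + (i + 1))))

lemma Ssum_succ (q d k : ℕ) :
    Ssum q d (k + 1) = Ssum q d k + q ^ k * ((q - 1) * q ^ (d - (k + 1 + (k + 1)))) := by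
  unfold Ssum
  rw [Finset.sum_range_succ]

/-- Unrolled peeling: the number of singular vectors of `V` in terms of any frame. -/
lemma zeros_eq_of_frame : ∀ {k : ℕ} {e f : Fin k → V} (_ : IsHyp Q e f),
    Nat.card {w : V // Q w = 0} = Fintype.card F ^ k * Zp Q e f +
      Ssum (Fintype.card F) (Module.finrank F V) k := by
  intro k
  induction k with
  | zero =>
    intro e f _
    unfold Zp Ssum
    simp only [pow_zero, one_mul, Finset.range_zero, Finset.sum_empty, add_zero]
    apply Nat.card_congr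
    refine Equiv.subtypeEquivRight ?_
    intro w
    constructor
    · intro hw
      exact ⟨fun i => i.elim0, hw⟩
    · intro hw
      exact hw.2
  | succ k ih =>
    intro e f h
    have h1 := ih h.initF
    have h2 := Zp_peel h.initF h.lastF_mem.1 h.lastF_mem.2 (h.Qe _) (h.Qf _)
      (by have := h.ef (Fin.last k) (Fin.last k); simpa using this)
    rw [Fin.snoc_init_self, Fin.snoc_init_self] at h2
    rw [h1, h2, Ssum_succ, pow_succ]
    ring

lemma Ssum_rec (q d m z : ℕ) (ζ : ℕ → ℕ) (hm : ζ m = z)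
    (hrec : ∀ k, k < m → ζ k = q * ζ (k + 1) + (q - 1) * q ^ (d - (k + 1 + (k + 1)))) :
    ∀ j, j ≤ m → q ^ (m - j) * ζ (m - j) + Ssum q d (m - j) = q ^ m * z + Ssum q d m := by
  intro j
  induction j with
  | zero =>
    intro _
    rw [Nat.sub_zero, hm]
  | succ j ih =>
    intro hj
    have h1 : m - (j + 1) < m := by omega
    have h2 : m - (j + 1) + 1 = m - j := by omega
    rw [← ih (by omega), ← h2, hrec _ h1, Ssum_succ, pow_succ]
    ring

lemma Zp_eq_of_ref {m : ℕ} {E E' : Fin m → V} (hE : IsHyp Q E E') (ζ : ℕ → ℕ)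
    (hm : ζ m = Zp Q E E')
    (hrec : ∀ k, k < m → ζ k = Fintype.card F * ζ (k + 1) +
      (Fintype.card F - 1) * Fintype.card F ^ (Module.finrank F V - (k + 1 + (k + 1))))
    {k : ℕ} (hk : k ≤ m) {e f : Fin k → V} (h : IsHyp Q e f) : Zp Q e f = ζ k := by
  have h1 := zeros_eq_of_frame h
  have h2 := zeros_eq_of_frame hE
  have h3 := Ssum_rec (Fintype.card F) (Module.finrank F V) m _ ζ hm hrec (m - k) (by omega)
  have h4 : m - (m - k) = k := by omega
  rw [h4] at h3
  have h5 : Fintype.card F ^ k * Zp Q e f = Fintype.card F ^ k * ζ k := by omega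
  exact Nat.eq_of_mul_eq_mul_left (pow_pos Fintype.card_pos k) h5

lemma card_frames_zero : Nat.card (Frames Q 0) = 1 := by
  rw [Nat.card_eq_one_iff_unique]
  refine ⟨⟨?_⟩, ⟨⟨(fun i => i.elim0, fun i => i.elim0), ⟨fun i => i.elim0, fun i => i.elim0,
    fun i => i.elim0, fun i => i.elim0, fun i => i.elim0⟩⟩⟩⟩
  rintro ⟨⟨a, b⟩, ha⟩ ⟨⟨c, d⟩, hc⟩
  apply Subtype.ext
  refine Prod.ext ?_ ?_
  · exact Subsingleton.elim _ _
  · exact Subsingleton.elim _ _

/-- The number of `k`-frames, given a reference `m`-frame. -/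
theorem card_frames (hQ : (polarBilin Q).Nondegenerate) {m : ℕ} {E E' : Fin m → V}
    (hE : IsHyp Q E E') (ζ : ℕ → ℕ) (hm : ζ m = Zp Q E E')
    (hrec : ∀ k, k < m → ζ k = Fintype.card F * ζ (k + 1) +
      (Fintype.card F - 1) * Fintype.card F ^ (Module.finrank F V - (k + 1 + (k + 1)))) :
    ∀ k, k ≤ m → Nat.card (Frames Q k) = ∏ i ∈ Finset.range k,
      ((ζ i - 1) * Fintype.card F ^ (Module.finrank F V - (i + 1 + (i + 1)))) := by
  intro k
  induction k with
  | zero =>
    intro _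
    rw [card_frames_zero, Finset.range_zero, Finset.prod_empty]
  | succ k ih =>
    intro hk
    rw [card_frames_succ hQ k (ζ k) (fun fr => Zp_eq_of_ref hE ζ hm hrec (by omega) fr.2),
      ih (by omega), Finset.prod_range_succ]

end counting

end Cfsg.Agent.Lib.Helper19.QuadWitt
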