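import Mathlib
import Cfsg.Prelude.Def_Classical
import Cfsg.Agent.Lib.Helper19.QuadFrames

/-!
# Helper19: isometry groups of standard quadratic forms as sets of standard families

* `StdFam Q`: families `v : ι → (ι → F)` with `Q (∑ c s • v s) = Q c` for all `c`.
* `card_isometryGroup_eq`: `|isometryGroup F Q| = |StdFam Q|` for non-degenerate `Q`.
-/

set_option autoImplicit false

namespace Cfsg.Agent.Lib.Helper19.QuadStd

open QuadraticMap Cfsg.Agent.Lib.Helper19.QuadWitt

section generic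

variable {F : Type*} [Field F] {ι : Type} [Fintype ι] [DecidableEq ι]

/-- Families with the same values of `Q` on linear combinations as the standard basis. -/
def StdFam (Q : QuadraticForm F (ι → F)) : Type _ :=
  {v : ι → (ι → F) // ∀ c : ι → F, Q (∑ s, c s • v s) = Q c}

lemma sum_smul_col (A : Matrix ι ι F) (c : ι → F) :
    ∑ s, c s • (fun r => A r s) = A.mulVec c := by
  funext r
  simp only [Finset.sum_apply, Pi.smul_apply, smul_eq_mul, Matrix.mulVec, dotProduct]
  exact Finset.sum_congr rfl (fun s _ => mul_comm _ _)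

/-- Columns of an isometry. -/
def isoToStdFam (Q : QuadraticForm F (ι → F)) (A : Cfsg.isometryGroup F ⇑Q) : StdFam Q :=
  ⟨fun s r => (A.1 : Matrix ι ι F) r s, fun c => by
    rw [sum_smul_col]
    exact A.2 c c⟩

lemma isoToStdFam_injective (Q : QuadraticForm F (ι → F)) :
    Function.Injective (isoToStdFam Q) := by
  intro A B h
  apply Subtype.ext
  apply Units.ext
  ext r s
  have := congrFun (congrFun (congrArg Subtype.val h) s) r
  exact this

lemma isoToStdFam_surjective (Q : QuadraticForm F (ι → F)) (hQ : (polarBilin Q).Nondegenerate) :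
    Function.Surjective (isoToStdFam Q) := by
  rintro ⟨v, hv⟩
  let A : Matrix ι ι F := Matrix.of (fun r s => v s r)
  have hA : ∀ c : ι → F, Q (A.mulVec c) = Q c := by
    intro c
    rw [← sum_smul_col]
    exact hv c
  have hinj : Function.Injective A.mulVecLin := by
    apply similarity_injective hQ A.mulVecLin one_ne_zero
    intro c
    rw [one_mul]
    exact hA c
  have hunit : IsUnit A := by
    rw [← Matrix.mulVec_injective_iff_isUnit]
    exact hinj
  obtain ⟨u, hu⟩ := hunit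
  refine ⟨⟨u, ?_⟩, ?_⟩
  · intro c _
    show Q ((u : Matrix ι ι F).mulVec c) = Q c
    rw [hu]
    exact hA c
  · apply Subtype.ext
    funext s r
    show (u : Matrix ι ι F) r s = v s r
    rw [hu]
    rfl

lemma card_isometryGroup_eq (Q : QuadraticForm F (ι → F)) (hQ : (polarBilin Q).Nondegenerate) :
    Nat.card (Cfsg.isometryGroup F ⇑Q) = Nat.card (StdFam Q) :=
  Nat.card_congr (Equiv.ofBijective _ ⟨isoToStdFam_injective Q, isoToStdFam_surjective Q hQ⟩)

lemma StdFam.sum_single (v : ι → (ι → F)) (s : ι) :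
    ∑ t, (Pi.single s (1 : F) : ι → F) t • v t = v s := by
  rw [Finset.sum_eq_single s]
  · rw [Pi.single_eq_same, one_smul]
  · intro t _ hts
    rw [Pi.single_eq_of_ne hts, zero_smul]
  · intro h
    exact absurd (Finset.mem_univ s) h

lemma StdFam.Q_eq {Q : QuadraticForm F (ι → F)} (v : StdFam Q) (s : ι) :
    Q (v.1 s) = Q (Pi.single s 1) := by
  have := v.2 (Pi.single s 1)
  rwa [StdFam.sum_single] at this

lemma StdFam.polar_eq {Q : QuadraticForm F (ι → F)} (v : StdFam Q) (s t : ι) :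
    polar ⇑Q (v.1 s) (v.1 t) = polar ⇑Q (Pi.single s 1) (Pi.single t 1) := by
  unfold polar
  rw [StdFam.Q_eq, StdFam.Q_eq]
  congr 2
  have := v.2 (Pi.single s 1 + Pi.single t 1)
  simp only [Pi.add_apply, add_smul, Finset.sum_add_distrib, StdFam.sum_single] at this
  exact this

/-- Nondegeneracy from left-separation (the polar form is symmetric). -/
lemma nondegenerate_of_sep {V : Type*} [AddCommGroup V] [Module F V] (Q : QuadraticForm F V)
    (h : ∀ v : V, (∀ w, polar ⇑Q v w = 0) → v = 0) : (polarBilin Q).Nondegenerate := by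
  constructor
  · intro v hv
    exact h v (fun w => by simpa using hv w)
  · intro v hv
    apply h v
    intro w
    rw [polar_comm]
    simpa using hv w

end generic

section forms

variable {F : Type*} [Field F]

/-- The hyperbolic form as a quadratic form. -/
noncomputable def stdPlus (m : ℕ) (F : Type*) [Field F] : QuadraticForm F (Fin m ⊕ Fin m → F) :=
  (Matrix.toBilin' (Matrix.fromBlocks 0 (1 : Matrix (Fin m) (Fin m) F) 0 0)).toQuadraticMap

lemma stdPlus_apply (m : ℕ) (v : Fin m ⊕ Fin m → F) :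
    stdPlus m F v = Cfsg.quadFormPlus m F v := by
  unfold stdPlus Cfsg.quadFormPlus
  rw [LinearMap.BilinMap.toQuadraticMap_apply, Matrix.toBilin'_apply']
  simp [dotProduct, Matrix.mulVec, Fintype.sum_sum_type, Matrix.one_apply]

lemma coe_stdPlus (m : ℕ) : ⇑(stdPlus m F) = Cfsg.quadFormPlus m F := funext (stdPlus_apply m)

lemma polar_stdPlus (m : ℕ) (v w : Fin m ⊕ Fin m → F) :
    polar ⇑(stdPlus m F) v w =
      ∑ i, (v (Sum.inl i) * w (Sum.inr i) + w (Sum.inl i) * v (Sum.inr i)) := by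
  rw [coe_stdPlus]
  unfold polar Cfsg.quadFormPlus
  simp only [Pi.add_apply]
  rw [← Finset.sum_sub_distrib, ← Finset.sum_sub_distrib]
  apply Finset.sum_congr rfl
  intro i _
  ring

lemma stdPlus_nondeg (m : ℕ) : (polarBilin (stdPlus m F)).Nondegenerate := by
  classical
  apply nondegenerate_of_sep
  intro v hv
  funext s
  rcases s with i | i
  · have := hv (Pi.single (Sum.inr i) 1)
    rw [polar_stdPlus] at this
    simpa [Pi.single_apply] using this
  · have := hv (Pi.single (Sum.inl i) 1)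
    rw [polar_stdPlus] at this
    simpa [Pi.single_apply] using this

/-- The identity family. -/
def stdFamId {ι : Type} [Fintype ι] [DecidableEq ι] (Q : QuadraticForm F (ι → F)) : StdFam Q :=
  ⟨fun s => Pi.single s 1, fun c => by
    congr 1
    funext r
    simp [Pi.single_apply]⟩

lemma StdFam.plus_isHyp {m : ℕ} (v : StdFam (stdPlus m F)) : IsHyp (stdPlus m F)
    (fun i : Fin m => v.1 (Sum.inl i)) (fun i : Fin m => v.1 (Sum.inr i)) := by
  classical
  refine ⟨?_, ?_, ?_, ?_, ?_⟩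
  · intro i
    rw [StdFam.Q_eq, stdPlus_apply]
    simp [Cfsg.quadFormPlus, Pi.single_apply]
  · intro i
    rw [StdFam.Q_eq, stdPlus_apply]
    simp [Cfsg.quadFormPlus, Pi.single_apply]
  · intro i j
    rw [StdFam.polar_eq, polar_stdPlus]
    simp [Pi.single_apply, eq_comm]
  · intro i j
    rw [StdFam.polar_eq, polar_stdPlus]
    simp [Pi.single_apply]
  · intro i j
    rw [StdFam.polar_eq, polar_stdPlus]
    simp [Pi.single_apply]

end forms

section families

variable {F V : Type*} [Field F] [AddCommGroup V] [Module F V] {Q : QuadraticForm F V}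

lemma Q_fam_hyp {k : ℕ} {e f : Fin k → V} (h : IsHyp Q e f) (r : Fin k ⊕ Fin k → F) :
    Q (∑ s, r s • Sum.elim e f s) = ∑ i, r (Sum.inl i) * r (Sum.inr i) := by
  rw [Fintype.sum_sum_type]
  simp only [Sum.elim_inl, Sum.elim_inr]
  have := hyp_Q h (fun i => r (Sum.inl i)) (fun i => r (Sum.inr i)) (Submodule.zero_mem _)
  rw [add_zero, QuadraticMap.map_zero, add_zero] at this
  exact this

lemma Q_fam_pairs {k : ℕ} {e f : Fin k → V} (h : IsHyp Q e f) {x y : V}
    (hx : x ∈ perp Q e f) (hy : y ∈ perp Q e f) (r : (Fin k ⊕ Fin k) ⊕ Fin 2 → F) :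
    Q (∑ s, r s • Sum.elim (Sum.elim e f) ![x, y] s) =
      ∑ i, r (Sum.inl (Sum.inl i)) * r (Sum.inl (Sum.inr i)) +
        (r (Sum.inr 0) ^ 2 * Q x + r (Sum.inr 1) ^ 2 * Q y +
          r (Sum.inr 0) * r (Sum.inr 1) * polar ⇑Q x y) := by
  rw [Fintype.sum_sum_type, Fintype.sum_sum_type, Fin.sum_univ_two]
  simp only [Sum.elim_inl, Sum.elim_inr, Matrix.cons_val_zero, Matrix.cons_val_one]
  rw [hyp_Q h (fun i => r (Sum.inl (Sum.inl i))) (fun i => r (Sum.inl (Sum.inr i)))
    (Submodule.add_mem _ (Submodule.smul_mem _ _ hx) (Submodule.smul_mem _ _ hy)), Q_lin2]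

lemma Q_fam_odd {k : ℕ} {e f : Fin k → V} (h : IsHyp Q e f) {x : V}
    (hx : x ∈ perp Q e f) (r : Unit ⊕ (Fin k ⊕ Fin k) → F) :
    Q (∑ s, r s • Sum.elim (fun _ : Unit => x) (Sum.elim e f) s) =
      ∑ i, r (Sum.inr (Sum.inl i)) * r (Sum.inr (Sum.inr i)) + r (Sum.inl ()) ^ 2 * Q x := by
  rw [Fintype.sum_sum_type, Fintype.sum_sum_type]
  simp only [Sum.elim_inl, Sum.elim_inr, Finset.univ_unique, Finset.sum_singleton]
  rw [add_comm, hyp_Q h (fun i => r (Sum.inr (Sum.inl i))) (fun i => r (Sum.inr (Sum.inr i)))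
    (Submodule.smul_mem _ _ hx), QuadraticMap.map_smul]
  simp only [smul_eq_mul]
  congr 1
  ring

end families

section plusEquiv

variable {F : Type*} [Field F]

/-- Standard families of the hyperbolic form are full frames. -/
def plusFamEquiv (m : ℕ) : StdFam (stdPlus m F) ≃ Frames (stdPlus m F) m where
  toFun v := ⟨(fun i => v.1 (Sum.inl i), fun i => v.1 (Sum.inr i)), v.plus_isHyp⟩
  invFun p := ⟨Sum.elim p.1.1 p.1.2, fun c => by
    rw [Q_fam_hyp p.2, stdPlus_apply]
    rfl⟩
  left_inv := by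
    rintro ⟨v, hv⟩
    apply Subtype.ext
    funext s
    rcases s with i | i <;> rfl
  right_inv := by
    rintro ⟨⟨e, f⟩, h⟩
    rfl

end plusEquiv


section forms2

variable {F : Type*} [Field F]

/-- The elliptic form as a quadratic form. -/
noncomputable def stdMinus (n : ℕ) (F : Type*) [Field F] (a c : F) :
    QuadraticForm F ((Fin n ⊕ Fin n) ⊕ Fin 2 → F) :=
  (Matrix.toBilin' (Matrix.fromBlocks
    (Matrix.fromBlocks 0 (1 : Matrix (Fin n) (Fin n) F) 0 0) 0 0 !![1, a; 0, c])).toQuadraticMap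

lemma stdMinus_apply (n : ℕ) (a c : F) (v : (Fin n ⊕ Fin n) ⊕ Fin 2 → F) :
    stdMinus n F a c v = Cfsg.quadFormMinus n F a c v := by
  unfold stdMinus Cfsg.quadFormMinus
  rw [LinearMap.BilinMap.toQuadraticMap_apply, Matrix.toBilin'_apply']
  simp [dotProduct, Matrix.mulVec, Fintype.sum_sum_type, Matrix.one_apply]
  ring

lemma coe_stdMinus (n : ℕ) (a c : F) : ⇑(stdMinus n F a c) = Cfsg.quadFormMinus n F a c :=
  funext (stdMinus_apply n a c)

lemma polar_stdMinus (n : ℕ) (a c : F) (v w : (Fin n ⊕ Fin n) ⊕ Fin 2 → F) :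
    polar ⇑(stdMinus n F a c) v w =
      ∑ i, (v (Sum.inl (Sum.inl i)) * w (Sum.inl (Sum.inr i)) +
        w (Sum.inl (Sum.inl i)) * v (Sum.inl (Sum.inr i))) +
      (2 * v (Sum.inr 0) * w (Sum.inr 0) +
        a * (v (Sum.inr 0) * w (Sum.inr 1) + v (Sum.inr 1) * w (Sum.inr 0)) +
        2 * c * v (Sum.inr 1) * w (Sum.inr 1)) := by
  rw [coe_stdMinus]
  unfold polar Cfsg.quadFormMinus
  simp only [Pi.add_apply]
  have : ∀ (A B C x y z X : F), X = A - B - C → (A + x) - (B + y) - (C + z) = X + (x - y - z) := by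
    intro A B C x y z X h
    rw [h]
    ring
  rw [this _ _ _ _ _ _ (∑ i, (v (Sum.inl (Sum.inl i)) * w (Sum.inl (Sum.inr i)) +
        w (Sum.inl (Sum.inl i)) * v (Sum.inl (Sum.inr i))))]
  · congr 1
    ring
  · rw [← Finset.sum_sub_distrib, ← Finset.sum_sub_distrib]
    apply Finset.sum_congr rfl
    intro i _
    ring

/-- The odd-dimensional form as a quadratic form. -/
noncomputable def stdOdd (m : ℕ) (F : Type*) [Field F] :
    QuadraticForm F (Unit ⊕ (Fin m ⊕ Fin m) → F) :=
  (Matrix.toBilin' (Matrix.fromBlocks (1 : Matrix Unit Unit F) 0 0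
    (Matrix.fromBlocks 0 (1 : Matrix (Fin m) (Fin m) F) 0 0))).toQuadraticMap

lemma stdOdd_apply (m : ℕ) (v : Unit ⊕ (Fin m ⊕ Fin m) → F) :
    stdOdd m F v = Cfsg.quadFormOdd m F v := by
  unfold stdOdd Cfsg.quadFormOdd
  rw [LinearMap.BilinMap.toQuadraticMap_apply, Matrix.toBilin'_apply']
  simp [dotProduct, Matrix.mulVec, Fintype.sum_sum_type, Matrix.one_apply]
  ring

lemma coe_stdOdd (m : ℕ) : ⇑(stdOdd m F) = Cfsg.quadFormOdd m F :=
  funext (stdOdd_apply m)

lemma polar_stdOdd (m : ℕ) (v w : Unit ⊕ (Fin m ⊕ Fin m) → F) :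
    polar ⇑(stdOdd m F) v w =
      2 * v (Sum.inl ()) * w (Sum.inl ()) +
      ∑ i, (v (Sum.inr (Sum.inl i)) * w (Sum.inr (Sum.inr i)) +
        w (Sum.inr (Sum.inl i)) * v (Sum.inr (Sum.inr i))) := by
  rw [coe_stdOdd]
  unfold polar Cfsg.quadFormOdd
  simp only [Pi.add_apply]
  have : ∀ (A B C x y z X : F), X = A - B - C → (x + A) - (y + B) - (z + C) = (x - y - z) + X := by
    intro A B C x y z X h
    rw [h]
    ring
  rw [this _ _ _ _ _ _ (∑ i, (v (Sum.inr (Sum.inl i)) * w (Sum.inr (Sum.inr i)) +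
        w (Sum.inr (Sum.inl i)) * v (Sum.inr (Sum.inr i))))]
  · congr 1
    ring
  · rw [← Finset.sum_sub_distrib, ← Finset.sum_sub_distrib]
    apply Finset.sum_congr rfl
    intro i _
    ring

end forms2


section oddEquiv

variable {F : Type*} [Field F]

lemma stdOdd_nondeg (m : ℕ) (h2 : (2 : F) ≠ 0) : (polarBilin (stdOdd m F)).Nondegenerate := by
  classical
  apply nondegenerate_of_sep
  intro v hv
  funext s
  rcases s with u | i | i
  · have := hv (Pi.single (Sum.inl ()) 1)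
    rw [polar_stdOdd] at this
    simp [Pi.single_apply] at this
    rcases this with h | h
    · exact absurd h h2
    · exact h
  · have := hv (Pi.single (Sum.inr (Sum.inr i)) 1)
    rw [polar_stdOdd] at this
    simpa [Pi.single_apply] using this
  · have := hv (Pi.single (Sum.inr (Sum.inl i)) 1)
    rw [polar_stdOdd] at this
    simpa [Pi.single_apply] using this

lemma StdFam.odd_isHyp {m : ℕ} (v : StdFam (stdOdd m F)) : IsHyp (stdOdd m F)
    (fun i : Fin m => v.1 (Sum.inr (Sum.inl i))) (fun i : Fin m => v.1 (Sum.inr (Sum.inr i))) := by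
  classical
  refine ⟨?_, ?_, ?_, ?_, ?_⟩
  · intro i
    rw [StdFam.Q_eq, stdOdd_apply]
    simp [Cfsg.quadFormOdd, Pi.single_apply]
  · intro i
    rw [StdFam.Q_eq, stdOdd_apply]
    simp [Cfsg.quadFormOdd, Pi.single_apply]
  · intro i j
    rw [StdFam.polar_eq, polar_stdOdd]
    simp [Pi.single_apply, eq_comm]
  · intro i j
    rw [StdFam.polar_eq, polar_stdOdd]
    simp [Pi.single_apply]
  · intro i j
    rw [StdFam.polar_eq, polar_stdOdd]
    simp [Pi.single_apply]

lemma StdFam.odd_mem {m : ℕ} (v : StdFam (stdOdd m F)) :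
    v.1 (Sum.inl ()) ∈ perp (stdOdd m F)
      (fun i : Fin m => v.1 (Sum.inr (Sum.inl i))) (fun i : Fin m => v.1 (Sum.inr (Sum.inr i))) := by
  classical
  intro i
  constructor
  · rw [StdFam.polar_eq, polar_stdOdd]
    simp [Pi.single_apply]
  · rw [StdFam.polar_eq, polar_stdOdd]
    simp [Pi.single_apply]

lemma StdFam.odd_Q {m : ℕ} (v : StdFam (stdOdd m F)) : stdOdd m F (v.1 (Sum.inl ())) = 1 := by
  classical
  rw [StdFam.Q_eq, stdOdd_apply]
  simp [Cfsg.quadFormOdd, Pi.single_apply]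

/-- Unit vectors in the complement of a frame. -/
def UP {V : Type*} [AddCommGroup V] [Module F V] (Q : QuadraticForm F V) {k : ℕ}
    (e f : Fin k → V) : Type _ :=
  {x : V // x ∈ perp Q e f ∧ Q x = 1}

/-- Standard families of the odd form. -/
def oddFamEquiv (m : ℕ) :
    StdFam (stdOdd m F) ≃ Σ fr : Frames (stdOdd m F) m, UP (stdOdd m F) fr.1.1 fr.1.2 where
  toFun v := ⟨⟨(fun i => v.1 (Sum.inr (Sum.inl i)), fun i => v.1 (Sum.inr (Sum.inr i))),
    v.odd_isHyp⟩, ⟨v.1 (Sum.inl ()), v.odd_mem, v.odd_Q⟩⟩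
  invFun p := ⟨Sum.elim (fun _ => p.2.1) (Sum.elim p.1.1.1 p.1.1.2), fun c => by
    rw [Q_fam_odd p.1.2 p.2.2.1, p.2.2.2, stdOdd_apply]
    unfold Cfsg.quadFormOdd
    ring⟩
  left_inv := by
    rintro ⟨v, hv⟩
    apply Subtype.ext
    funext s
    rcases s with u | i | i <;> rfl
  right_inv := by
    rintro ⟨⟨⟨e, f⟩, h⟩, ⟨x, hx⟩⟩
    rfl

end oddEquiv


section minusEquiv

variable {F : Type*} [Field F]

/-- The polar form of an anisotropic binary form over a finite field is non-degenerate. -/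
lemma binary_nondeg [Finite F] {a c : F}
    (hac : ∀ z₁ z₂ : F, z₁ ^ 2 + a * z₁ * z₂ + c * z₂ ^ 2 = 0 → z₁ = 0 ∧ z₂ = 0) {x y : F}
    (h1 : 2 * x + a * y = 0) (h2 : a * x + 2 * c * y = 0) : x = 0 ∧ y = 0 := by
  by_cases h2' : (2 : F) = 0
  · -- characteristic two
    rw [h2', zero_mul, zero_add] at h1
    rw [h2', zero_mul, zero_mul, add_zero] at h2
    by_cases ha : a = 0
    · exfalso
      haveI : CharP F 2 := by
        apply CharTwo.of_one_ne_zero_of_two_eq_zero one_ne_zero h2'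
      obtain ⟨r, hr⟩ := FiniteField.isSquare_of_char_two (ringChar.eq F 2) c
      have := (hac r 1 (by rw [ha, hr]; linear_combination (r * r) * h2')).2
      exact one_ne_zero this
    · exact ⟨(mul_eq_zero.1 h2).resolve_left ha, (mul_eq_zero.1 h1).resolve_left ha⟩
  · apply hac
    have : 2 * (x ^ 2 + a * x * y + c * y ^ 2) = 0 := by
      linear_combination x * h1 + y * h2
    exact (mul_eq_zero.1 this).resolve_left h2'

lemma stdMinus_nondeg [Finite F] (n : ℕ) {a c : F}
    (hac : ∀ z₁ z₂ : F, z₁ ^ 2 + a * z₁ * z₂ + c * z₂ ^ 2 = 0 → z₁ = 0 ∧ z₂ = 0) :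
    (polarBilin (stdMinus n F a c)).Nondegenerate := by
  classical
  apply nondegenerate_of_sep
  intro v hv
  have h1 : 2 * v (Sum.inr 0) + a * v (Sum.inr 1) = 0 := by
    have := hv (Pi.single (Sum.inr 0) 1)
    rw [polar_stdMinus] at this
    simpa [Pi.single_apply] using this
  have h2 : a * v (Sum.inr 0) + 2 * c * v (Sum.inr 1) = 0 := by
    have := hv (Pi.single (Sum.inr 1) 1)
    rw [polar_stdMinus] at this
    simpa [Pi.single_apply] using this
  obtain ⟨hx, hy⟩ := binary_nondeg hac h1 h2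
  funext s
  rcases s with (i | i) | i
  · have := hv (Pi.single (Sum.inl (Sum.inr i)) 1)
    rw [polar_stdMinus] at this
    simpa [Pi.single_apply] using this
  · have := hv (Pi.single (Sum.inl (Sum.inl i)) 1)
    rw [polar_stdMinus] at this
    simpa [Pi.single_apply] using this
  · fin_cases i
    · exact hx
    · exact hy

lemma StdFam.minus_isHyp {n : ℕ} {a c : F} (v : StdFam (stdMinus n F a c)) :
    IsHyp (stdMinus n F a c)
    (fun i : Fin n => v.1 (Sum.inl (Sum.inl i))) (fun i : Fin n => v.1 (Sum.inl (Sum.inr i))) := by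
  classical
  refine ⟨?_, ?_, ?_, ?_, ?_⟩
  · intro i
    rw [StdFam.Q_eq, stdMinus_apply]
    simp [Cfsg.quadFormMinus, Pi.single_apply]
  · intro i
    rw [StdFam.Q_eq, stdMinus_apply]
    simp [Cfsg.quadFormMinus, Pi.single_apply]
  · intro i j
    rw [StdFam.polar_eq, polar_stdMinus]
    simp [Pi.single_apply, eq_comm]
  · intro i j
    rw [StdFam.polar_eq, polar_stdMinus]
    simp [Pi.single_apply]
  · intro i j
    rw [StdFam.polar_eq, polar_stdMinus]
    simp [Pi.single_apply]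

lemma StdFam.minus_mem {n : ℕ} {a c : F} (v : StdFam (stdMinus n F a c)) (j : Fin 2) :
    v.1 (Sum.inr j) ∈ perp (stdMinus n F a c)
      (fun i : Fin n => v.1 (Sum.inl (Sum.inl i))) (fun i : Fin n => v.1 (Sum.inl (Sum.inr i))) := by
  classical
  intro i
  constructor
  · rw [StdFam.polar_eq, polar_stdMinus]
    simp [Pi.single_apply]
  · rw [StdFam.polar_eq, polar_stdMinus]
    simp [Pi.single_apply]

lemma StdFam.minus_Q0 {n : ℕ} {a c : F} (v : StdFam (stdMinus n F a c)) :
    stdMinus n F a c (v.1 (Sum.inr 0)) = 1 := by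
  classical
  rw [StdFam.Q_eq, stdMinus_apply]
  simp [Cfsg.quadFormMinus, Pi.single_apply]

lemma StdFam.minus_Q1 {n : ℕ} {a c : F} (v : StdFam (stdMinus n F a c)) :
    stdMinus n F a c (v.1 (Sum.inr 1)) = c := by
  classical
  rw [StdFam.Q_eq, stdMinus_apply]
  simp [Cfsg.quadFormMinus, Pi.single_apply]

lemma StdFam.minus_polar {n : ℕ} {a c : F} (v : StdFam (stdMinus n F a c)) :
    polar ⇑(stdMinus n F a c) (v.1 (Sum.inr 0)) (v.1 (Sum.inr 1)) = a := by
  classical
  rw [StdFam.polar_eq, polar_stdMinus]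
  simp [Pi.single_apply]

/-- Elliptic pairs in the complement of a frame. -/
def EP {V : Type*} [AddCommGroup V] [Module F V] (Q : QuadraticForm F V) {k : ℕ}
    (e f : Fin k → V) (a c : F) : Type _ :=
  {p : V × V // p.1 ∈ perp Q e f ∧ p.2 ∈ perp Q e f ∧ Q p.1 = 1 ∧ polar ⇑Q p.1 p.2 = a ∧
    Q p.2 = c}

/-- Standard families of the elliptic form. -/
def minusFamEquiv (n : ℕ) (a c : F) :
    StdFam (stdMinus n F a c) ≃
      Σ fr : Frames (stdMinus n F a c) n, EP (stdMinus n F a c) fr.1.1 fr.1.2 a c where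
  toFun v := ⟨⟨(fun i => v.1 (Sum.inl (Sum.inl i)), fun i => v.1 (Sum.inl (Sum.inr i))),
    v.minus_isHyp⟩, ⟨(v.1 (Sum.inr 0), v.1 (Sum.inr 1)), v.minus_mem 0, v.minus_mem 1, v.minus_Q0,
      v.minus_polar, v.minus_Q1⟩⟩
  invFun p := ⟨Sum.elim (Sum.elim p.1.1.1 p.1.1.2) ![p.2.1.1, p.2.1.2], fun r => by
    rw [Q_fam_pairs p.1.2 p.2.2.1 p.2.2.2.1, p.2.2.2.2.1, p.2.2.2.2.2.1, p.2.2.2.2.2.2,
      stdMinus_apply]
    unfold Cfsg.quadFormMinus
    ring⟩
  left_inv := by
    rintro ⟨v, hv⟩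
    apply Subtype.ext
    funext s
    rcases s with (i | i) | i
    · rfl
    · rfl
    · fin_cases i <;> rfl
  right_inv := by
    rintro ⟨⟨⟨e, f⟩, h⟩, ⟨⟨x, y⟩, hx⟩⟩
    rfl

end minusEquiv


section sigma

lemma card_sigma_const {α : Type*} {β : α → Type*} [Finite α] [∀ a, Finite (β a)] (N : ℕ)
    (h : ∀ a, Nat.card (β a) = N) : Nat.card (Σ a, β a) = Nat.card α * N := by
  classical
  haveI : Fintype α := Fintype.ofFinite α
  rw [Nat.card_sigma]
  simp only [h]
  rw [Finset.sum_const, Finset.card_univ, smul_eq_mul, Nat.card_eq_fintype_card]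

end sigma

end Cfsg.Agent.Lib.Helper19.QuadStd
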