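-- Reflections as elements of the isometry group of a quadratic form on `ι → F`,
-- and the theorem of Cartan and Dieudonne in odd characteristic (generation by reflections).
import Mathlib
import Cfsg.Prelude.Def_Classical
import Cfsg.Prelude.Def_ClassicalGeometry
import Cfsg.Agent.Lib.Helper12.QuadGeom

set_option autoImplicit false

namespace Cfsg.Agent.Lib.Helper19.OrthRefl

open Matrix QuadraticMap

variable {ι : Type} [Fintype ι] [DecidableEq ι] {F : Type*} [Field F]

/-- Membership in the isometry group. -/
theorem mem_iso (Q : (ι → F) → F) (g : Matrix.GeneralLinearGroup ι F) :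
    g ∈ Cfsg.isometryGroup F Q ↔ ∀ u, Q ((g : Matrix ι ι F) *ᵥ u) = Q u :=
  ⟨fun h u => h u u, fun h u _ => h u⟩

/-- The action of an isometry on a vector. -/
def act {Q : (ι → F) → F} (g : ↥(Cfsg.isometryGroup F Q)) (x : ι → F) : ι → F :=
  ((g : Matrix.GeneralLinearGroup ι F) : Matrix ι ι F) *ᵥ x

theorem act_def {Q : (ι → F) → F} (g : ↥(Cfsg.isometryGroup F Q)) (x : ι → F) :
    act g x = ((g : Matrix.GeneralLinearGroup ι F) : Matrix ι ι F) *ᵥ x := rfl

theorem Q_act {Q : (ι → F) → F} (g : ↥(Cfsg.isometryGroup F Q)) (x : ι → F) :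
    Q (act g x) = Q x := (mem_iso Q g.1).1 g.2 x

theorem act_one {Q : (ι → F) → F} (x : ι → F) : act (1 : ↥(Cfsg.isometryGroup F Q)) x = x := by
  simp [act]

theorem act_mul {Q : (ι → F) → F} (g h : ↥(Cfsg.isometryGroup F Q)) (x : ι → F) :
    act (g * h) x = act g (act h x) := by
  simp [act, Matrix.mulVec_mulVec]

theorem act_add {Q : (ι → F) → F} (g : ↥(Cfsg.isometryGroup F Q)) (x y : ι → F) :
    act g (x + y) = act g x + act g y := Matrix.mulVec_add _ _ _

theorem act_smul {Q : (ι → F) → F} (g : ↥(Cfsg.isometryGroup F Q)) (t : F) (x : ι → F) :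
    act g (t • x) = t • act g x := Matrix.mulVec_smul _ _ _

theorem act_neg {Q : (ι → F) → F} (g : ↥(Cfsg.isometryGroup F Q)) (x : ι → F) :
    act g (-x) = -act g x := Matrix.mulVec_neg _ _

theorem act_sub {Q : (ι → F) → F} (g : ↥(Cfsg.isometryGroup F Q)) (x y : ι → F) :
    act g (x - y) = act g x - act g y := Matrix.mulVec_sub _ _ _

theorem act_zero {Q : (ι → F) → F} (g : ↥(Cfsg.isometryGroup F Q)) :
    act g (0 : ι → F) = 0 := Matrix.mulVec_zero _

theorem act_inv_act {Q : (ι → F) → F} (g : ↥(Cfsg.isometryGroup F Q)) (x : ι → F) :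
    act g⁻¹ (act g x) = x := by
  rw [← act_mul, inv_mul_cancel, act_one]

theorem act_act_inv {Q : (ι → F) → F} (g : ↥(Cfsg.isometryGroup F Q)) (x : ι → F) :
    act g (act g⁻¹ x) = x := by
  rw [← act_mul, mul_inv_cancel, act_one]

/-- Two isometries with the same action are equal. -/
theorem ext_act {Q : (ι → F) → F} {g h : ↥(Cfsg.isometryGroup F Q)}
    (H : ∀ x, act g x = act h x) : g = h := by
  apply Subtype.ext
  apply Units.ext
  apply Matrix.toLin'.injective
  apply LinearMap.ext
  intro x
  rw [Matrix.toLin'_apply, Matrix.toLin'_apply]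
  exact H x

/-- Isometries preserve the polar form. -/
theorem polar_act {Q : (ι → F) → F} (g : ↥(Cfsg.isometryGroup F Q)) (x y : ι → F) :
    polar Q (act g x) (act g y) = polar Q x y := by
  unfold QuadraticMap.polar
  rw [← act_add, Q_act g, Q_act g, Q_act g]

theorem polar_act_left {Q : (ι → F) → F} (g : ↥(Cfsg.isometryGroup F Q)) (x y : ι → F) :
    polar Q (act g x) y = polar Q x (act g⁻¹ y) := by
  rw [← polar_act g x (act g⁻¹ y), act_act_inv]

theorem polar_self' (Q : QuadraticForm F (ι → F)) (v : ι → F) :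
    polar (⇑Q) v v = 2 * Q v := by
  rw [QuadraticMap.polar_self, two_smul, two_mul]

theorem Q_sub' (Q : QuadraticForm F (ι → F)) (u w : ι → F) :
    Q (u - w) = Q u + Q w - polar (⇑Q) u w := by
  have := QuadraticMap.polar_neg_right Q u w
  unfold QuadraticMap.polar at this ⊢
  rw [QuadraticMap.map_neg] at this
  rw [sub_eq_add_neg]
  linear_combination this

/-- The reflection in a non-singular vector, as an element of the isometry group. -/
noncomputable def refl (Q : QuadraticForm F (ι → F)) (v : ι → F) (hv : Q v ≠ 0) :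
    ↥(Cfsg.isometryGroup F ⇑Q) :=
  ⟨Matrix.GeneralLinearGroup.mkOfDetNeZero (Cfsg.reflectionMatrix (⇑Q) v) (by
      rw [Cfsg.Agent.Lib.Helper12.reflectionMatrix_det Q v hv]
      exact neg_ne_zero.mpr one_ne_zero), by
    rw [mem_iso]
    intro u
    exact Cfsg.Agent.Lib.Helper12.reflectionMatrix_isometry Q v hv u⟩

theorem refl_coe (Q : QuadraticForm F (ι → F)) (v : ι → F) (hv : Q v ≠ 0) :
    (((refl Q v hv : ↥(Cfsg.isometryGroup F ⇑Q)) : Matrix.GeneralLinearGroup ι F) : Matrix ι ι F)
      = Cfsg.reflectionMatrix (⇑Q) v := rfl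

theorem refl_det (Q : QuadraticForm F (ι → F)) (v : ι → F) (hv : Q v ≠ 0) :
    (((refl Q v hv : ↥(Cfsg.isometryGroup F ⇑Q)) : Matrix.GeneralLinearGroup ι F) :
      Matrix ι ι F).det = -1 := by
  rw [refl_coe]
  exact Cfsg.Agent.Lib.Helper12.reflectionMatrix_det Q v hv

theorem act_refl (Q : QuadraticForm F (ι → F)) (v : ι → F) (hv : Q v ≠ 0) (x : ι → F) :
    act (refl Q v hv) x = x - ((Q v)⁻¹ * polar (⇑Q) v x) • v := by
  rw [act_def, refl_coe, Cfsg.Agent.Lib.Helper12.reflectionMatrix_mulVec, neg_smul, sub_eq_add_neg]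

/-- An isometry whose matrix is a reflection matrix is the reflection. -/
theorem eq_refl_of_coe (Q : QuadraticForm F (ι → F)) (v : ι → F) (hv : Q v ≠ 0)
    (g : ↥(Cfsg.isometryGroup F ⇑Q))
    (h : ((g : Matrix.GeneralLinearGroup ι F) : Matrix ι ι F) = Cfsg.reflectionMatrix (⇑Q) v) :
    g = refl Q v hv := by
  apply Subtype.ext
  apply Units.ext
  rw [h, refl_coe]

theorem act_refl_self (Q : QuadraticForm F (ι → F)) (v : ι → F) (hv : Q v ≠ 0) :
    act (refl Q v hv) v = -v := by
  rw [act_refl, polar_self']
  have : (Q v)⁻¹ * (2 * Q v) = 2 := by field_simp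
  rw [this, two_smul]
  abel

theorem act_refl_of_polar_eq_zero (Q : QuadraticForm F (ι → F)) (v : ι → F) (hv : Q v ≠ 0)
    (x : ι → F) (h : polar (⇑Q) v x = 0) : act (refl Q v hv) x = x := by
  rw [act_refl, h, mul_zero, zero_smul, sub_zero]

theorem refl_mul_self (Q : QuadraticForm F (ι → F)) (v : ι → F) (hv : Q v ≠ 0) :
    refl Q v hv * refl Q v hv = 1 := by
  apply ext_act
  intro x
  rw [act_mul, act_one, act_refl Q v hv (act (refl Q v hv) x), act_refl Q v hv x,
    QuadraticMap.polar_sub_right, QuadraticMap.polar_smul_right, polar_self']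
  have : (Q v)⁻¹ * (polar (⇑Q) v x - ((Q v)⁻¹ * polar (⇑Q) v x) • (2 * Q v))
      = -((Q v)⁻¹ * polar (⇑Q) v x) := by
    rw [smul_eq_mul]; field_simp; ring
  rw [this, neg_smul]
  abel

theorem refl_inv (Q : QuadraticForm F (ι → F)) (v : ι → F) (hv : Q v ≠ 0) :
    (refl Q v hv)⁻¹ = refl Q v hv :=
  inv_eq_of_mul_eq_one_left (refl_mul_self Q v hv)

theorem refl_smul (Q : QuadraticForm F (ι → F)) (v : ι → F) (hv : Q v ≠ 0) (t : F) (ht : t ≠ 0)
    (htv : Q (t • v) ≠ 0) : refl Q (t • v) htv = refl Q v hv := by
  apply ext_act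
  intro x
  rw [act_refl, act_refl, QuadraticMap.map_smul, QuadraticMap.polar_smul_left, smul_smul]
  congr 2
  rw [smul_eq_mul, smul_eq_mul]
  field_simp

/-- Conjugating a reflection by an isometry. -/
theorem conj_refl (Q : QuadraticForm F (ι → F)) (v : ι → F) (hv : Q v ≠ 0)
    (g : ↥(Cfsg.isometryGroup F ⇑Q)) (hgv : Q (act g v) ≠ 0) :
    g * refl Q v hv * g⁻¹ = refl Q (act g v) hgv := by
  apply ext_act
  intro x
  rw [act_mul, act_mul, act_refl, act_refl, act_sub, act_act_inv, act_smul, Q_act g,
    polar_act_left]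

/-- If `Q u = Q w` and `u - w` is non-singular, the reflection in `u - w` maps `u` to `w`. -/
theorem act_refl_sub (Q : QuadraticForm F (ι → F)) (u w : ι → F) (h : Q u = Q w)
    (hne : Q (u - w) ≠ 0) : act (refl Q (u - w) hne) u = w := by
  rw [act_refl]
  have h1 : Q (u - w) = Q u + Q w - polar (⇑Q) u w := Q_sub' Q u w
  have h2 : polar (⇑Q) (u - w) u = 2 * Q u - polar (⇑Q) u w := by
    rw [QuadraticMap.polar_sub_left, polar_self', QuadraticMap.polar_comm (⇑Q) w u]
  have h3 : polar (⇑Q) (u - w) u = Q (u - w) := by rw [h1, h2, ← h]; ring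
  rw [h3, inv_mul_cancel₀ hne, one_smul]
  abel

/-- If `Q u = Q w` and `u + w` is non-singular, the reflection in `u + w` maps `u` to `-w`. -/
theorem act_refl_add (Q : QuadraticForm F (ι → F)) (u w : ι → F) (h : Q u = Q w)
    (hne : Q (u + w) ≠ 0) : act (refl Q (u + w) hne) u = -w := by
  have hne' : Q (u - -w) ≠ 0 := by rwa [sub_neg_eq_add]
  have h' : Q u = Q (-w) := by rw [QuadraticMap.map_neg, h]
  have := act_refl_sub Q u (-w) h' hne'
  rw [← this]
  congr 1
  apply ext_act
  intro x
  rw [act_refl, act_refl]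
  simp only [sub_neg_eq_add]

/-- `Q (u - w) + Q (u + w) = 2 Q u + 2 Q w`. -/
theorem Q_sub_add_Q_add (Q : QuadraticForm F (ι → F)) (u w : ι → F) :
    Q (u - w) + Q (u + w) = 2 * Q u + 2 * Q w := by
  have h1 : Q (u - w) = Q u + Q w - polar (⇑Q) u w := Q_sub' Q u w
  have h2 : Q (u + w) = Q u + Q w + polar (⇑Q) u w := by
    unfold QuadraticMap.polar; ring
  rw [h1, h2]; ring

/-- The set of reflections. -/
def Rset (Q : QuadraticForm F (ι → F)) : Set ↥(Cfsg.isometryGroup F ⇑Q) :=
  {g | ∃ (v : ι → F) (hv : Q v ≠ 0), g = refl Q v hv}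

theorem refl_mem_Rset (Q : QuadraticForm F (ι → F)) (v : ι → F) (hv : Q v ≠ 0) :
    refl Q v hv ∈ Rset Q := ⟨v, hv, rfl⟩

/-- The set of reflections, as in the statements. -/
theorem Rset_eq (Q : QuadraticForm F (ι → F)) :
    Rset Q = {g : ↥(Cfsg.isometryGroup F ⇑Q) | ∃ v : ι → F, Q v ≠ 0 ∧
      ((g : Matrix.GeneralLinearGroup ι F) : Matrix ι ι F) = Cfsg.reflectionMatrix (⇑Q) v} := by
  ext g
  constructor
  · rintro ⟨v, hv, rfl⟩
    exact ⟨v, hv, refl_coe Q v hv⟩
  · rintro ⟨v, hv, h⟩
    exact ⟨v, hv, eq_refl_of_coe Q v hv g h⟩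

/-- Existence of an orthogonal basis of non-singular vectors. -/
theorem exists_orthogonal_basis (h2 : (2 : F) ≠ 0) (Q : QuadraticForm F (ι → F))
    (hQ : (QuadraticMap.polarBilin Q).Nondegenerate) :
    ∃ v : Module.Basis (Fin (Module.finrank F (ι → F))) F (ι → F),
      (∀ i j, i ≠ j → polar (⇑Q) (v i) (v j) = 0) ∧ ∀ i, Q (v i) ≠ 0 := by
  letI : Invertible (2 : F) := invertibleOfNonzero h2
  have hsymm : (QuadraticMap.polarBilin Q).IsSymm := by
    rw [LinearMap.isSymm_def]
    intro x y
    exact QuadraticMap.polar_comm _ _ _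
  obtain ⟨v, hv⟩ := LinearMap.BilinForm.exists_orthogonal_basis hsymm
  refine ⟨v, fun i j hij => ?_, fun i => ?_⟩
  · exact hv hij
  · have := hv.not_isOrtho_basis_self_of_separatingLeft hQ.1 i
    rw [QuadraticMap.polarBilin_apply_apply, polar_self'] at this
    intro h0
    exact this (by rw [h0, mul_zero])

/-- Cartan–Dieudonne in odd characteristic: the reflections generate the isometry group. -/
theorem closure_Rset (h2 : (2 : F) ≠ 0) (Q : QuadraticForm F (ι → F))
    (hQ : (QuadraticMap.polarBilin Q).Nondegenerate) :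
    Subgroup.closure (Rset Q) = ⊤ := by
  obtain ⟨v, hortho, hns⟩ := exists_orthogonal_basis h2 Q hQ
  have key : ∀ S : Finset (Fin (Module.finrank F (ι → F))),
      ∀ g : ↥(Cfsg.isometryGroup F ⇑Q), (∀ i, i ∉ S → act g (v i) = v i) →
        g ∈ Subgroup.closure (Rset Q) := by
    intro S
    induction S using Finset.induction_on with
    | empty =>
      intro g hg
      have : g = 1 := by
        apply ext_act
        intro x
        rw [act_one]
        have hx := v.sum_repr x
        rw [← hx]
        unfold act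
        rw [Matrix.mulVec_sum]
        apply Finset.sum_congr rfl
        intro i _
        rw [Matrix.mulVec_smul]
        congr 1
        exact hg i (Finset.notMem_empty i)
      rw [this]
      exact one_mem _
    | insert a S ha ih =>
      intro g hg
      set u := v a with hu
      set w := act g u with hw
      have hQw : Q u = Q w := (Q_act g u).symm
      have hwi : ∀ i, i ∉ insert a S → polar (⇑Q) w (v i) = 0 := by
        intro i hi
        have hia : i ≠ a := fun h => hi (h ▸ Finset.mem_insert_self a S)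
        rw [hw, ← hg i hi, polar_act]
        exact hortho a i (Ne.symm hia)
      have hui : ∀ i, i ∉ insert a S → polar (⇑Q) u (v i) = 0 := by
        intro i hi
        have hia : i ≠ a := fun h => hi (h ▸ Finset.mem_insert_self a S)
        exact hortho a i (Ne.symm hia)
      have hsum := Q_sub_add_Q_add Q u w
      rw [← hQw] at hsum
      have h4 : (2 : F) * Q u + 2 * Q u ≠ 0 := by
        have : (2 : F) * Q u + 2 * Q u = 2 * 2 * Q u := by ring
        rw [this]
        exact mul_ne_zero (mul_ne_zero h2 h2) (hns a)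
      by_cases hsub : Q (u - w) = 0
      · have hadd : Q (u + w) ≠ 0 := by
          intro h0
          rw [hsub, h0, add_zero] at hsum
          exact h4 hsum.symm
        -- g' = r_u r_{u+w} g
        set g' := refl Q u (hns a) * (refl Q (u + w) hadd * g) with hg'
        have hg'mem : g' ∈ Subgroup.closure (Rset Q) := by
          apply ih
          intro i hi
          by_cases hia : i = a
          · rw [hia, hg', act_mul, act_mul, ← hu, ← hw]
            have h1 : act (refl Q (u + w) hadd) w = -u := by
              have hne' : Q (w + u) ≠ 0 := by rwa [add_comm]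
              have := act_refl_add Q w u hQw.symm hne'
              rw [← this]
              congr 1
              apply ext_act
              intro x
              rw [act_refl, act_refl]
              simp only [add_comm]
            rw [h1, act_neg, act_refl_self, neg_neg]
          · have hi' : i ∉ insert a S := by
              rw [Finset.mem_insert]; push Not; exact ⟨hia, hi⟩
            rw [hg', act_mul, act_mul, hg i hi',
              act_refl_of_polar_eq_zero Q (u + w) hadd (v i), act_refl_of_polar_eq_zero]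
            · exact hui i hi'
            · rw [QuadraticMap.polar_add_left, hui i hi', hwi i hi', add_zero]
        have : g = refl Q (u + w) hadd * (refl Q u (hns a) * g') := by
          rw [hg', ← mul_assoc (refl Q u (hns a)), refl_mul_self, one_mul, ← mul_assoc,
            refl_mul_self, one_mul]
        rw [this]
        exact mul_mem (Subgroup.subset_closure (refl_mem_Rset Q _ _))
          (mul_mem (Subgroup.subset_closure (refl_mem_Rset Q _ _)) hg'mem)
      · set g' := refl Q (u - w) hsub * g with hg'
        have hg'mem : g' ∈ Subgroup.closure (Rset Q) := by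
          apply ih
          intro i hi
          by_cases hia : i = a
          · rw [hia, hg', act_mul, ← hu, ← hw]
            have h1 : act (refl Q (u - w) hsub) w = u := by
              have h0 := act_refl_sub Q u w hQw hsub
              have := congrArg (act (refl Q (u - w) hsub)) h0
              rw [← act_mul, refl_mul_self, act_one] at this
              exact this.symm
            exact h1
          · have hi' : i ∉ insert a S := by
              rw [Finset.mem_insert]; push Not; exact ⟨hia, hi⟩
            rw [hg', act_mul, hg i hi', act_refl_of_polar_eq_zero]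
            rw [QuadraticMap.polar_sub_left, hui i hi', hwi i hi', sub_zero]
        have : g = refl Q (u - w) hsub * g' := by
          rw [hg', ← mul_assoc, refl_mul_self, one_mul]
        rw [this]
        exact mul_mem (Subgroup.subset_closure (refl_mem_Rset Q _ _)) hg'mem
  rw [eq_top_iff]
  intro g _
  exact key Finset.univ g (fun i hi => absurd (Finset.mem_univ i) hi)

end Cfsg.Agent.Lib.Helper19.OrthRefl
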