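-- The sign character `chi Q c` of the isometry group of a quadratic form over a finite field of
-- odd characteristic (sign of the permutation action on `{x | Q x = c}`), its value on
-- reflections, and the description `Ω = SO ∩ ker chi` of the commutator subgroup.
import Mathlib
import Cfsg.Prelude.Def_Classical
import Cfsg.Prelude.Def_ClassicalGeometry
import Cfsg.Agent.Lib.Helper12.QuadGeom
import Cfsg.Agent.Lib.Helper19.OrthRefl

set_option autoImplicit false

namespace Cfsg.Agent.Lib.Helper19.OrthRefl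

open Matrix QuadraticMap

theorem sign_involution {X : Type*} [Fintype X] [DecidableEq X] (π : Equiv.Perm X)
    (h : π * π = 1) : ∃ k, π.support.card = 2 * k ∧ Equiv.Perm.sign π = (-1) ^ k := by
  by_cases h1 : π = 1
  · refine ⟨0, ?_, ?_⟩
    · rw [h1]; simp
    · rw [h1]; simp
  · have hord : orderOf π = 2 := by
      apply orderOf_eq_prime
      · rw [pow_two]; exact h
      · exact h1
    have hp : (orderOf π).Prime := by rw [hord]; exact Nat.prime_two
    obtain ⟨n, hn⟩ := Equiv.Perm.cycleType_prime_order hp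
    rw [hord] at hn
    refine ⟨n + 1, ?_, ?_⟩
    · rw [← Equiv.Perm.sum_cycleType, hn, Multiset.sum_replicate, smul_eq_mul, mul_comm]
    · rw [Equiv.Perm.sign_of_cycleType, hn, Multiset.sum_replicate, Multiset.card_replicate,
        smul_eq_mul, pow_add, pow_mul]
      simp

theorem sign_of_comm_involutions {X : Type*} [Fintype X] [DecidableEq X] (σ τ : Equiv.Perm X)
    (hσ : σ * σ = 1) (hτ : τ * τ = 1) (hc : σ * τ = τ * σ) (hfree : ∀ x, τ x ≠ x) (f : ℕ)
    (hf : Fintype.card {x // σ x = τ x} = 2 * f) : Equiv.Perm.sign σ = (-1) ^ f := by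
  have hc' : τ * σ = σ * τ := hc.symm
  set ρ := σ * τ with hρ
  have hρρ : ρ * ρ = 1 := by
    rw [hρ]
    calc σ * τ * (σ * τ) = σ * (τ * σ) * τ := by group
      _ = σ * (σ * τ) * τ := by rw [hc']
      _ = (σ * σ) * (τ * τ) := by group
      _ = 1 := by rw [hσ, hτ, one_mul]
  have hσρ : σ = ρ * τ := by
    rw [hρ, mul_assoc, hτ, mul_one]
  obtain ⟨k, hk1, hk2⟩ := sign_involution τ hτ
  obtain ⟨l, hl1, hl2⟩ := sign_involution ρ hρρ
  have hsupτ : τ.support = Finset.univ := by
    ext x
    simp [hfree x]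
  rw [hsupτ, Finset.card_univ] at hk1
  have hfix : ∀ x, ρ x = x ↔ σ x = τ x := by
    intro x
    rw [hρ, Equiv.Perm.mul_apply]
    constructor
    · intro hx
      have := congrArg σ hx
      rw [← Equiv.Perm.mul_apply, hσ, Equiv.Perm.one_apply] at this
      exact this.symm
    · intro hx
      rw [← hx, ← Equiv.Perm.mul_apply, hσ, Equiv.Perm.one_apply]
  have hcard : ρ.support.card + Fintype.card {x // σ x = τ x} = Fintype.card X := by
    rw [Fintype.card_subtype, ← Finset.card_univ (α := X)]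
    rw [← Finset.card_filter_add_card_filter_not (s := (Finset.univ : Finset X))
      (p := fun x => σ x = τ x), add_comm]
    congr 1
    congr 1
    ext x
    simp [hfix x]
  rw [hl1, hf, hk1] at hcard
  have hkl : k = l + f := by omega
  rw [hσρ, map_mul, hl2, hk2, hkl, pow_add, ← mul_assoc, ← pow_add, ← two_mul, pow_mul]
  simp

theorem zpow_of_mul_self {A : Type*} [Group A] (x : A) (hx : x * x = 1) (m : ℤ) :
    x ^ m = 1 ∨ x ^ m = x := by
  rcases Int.even_or_odd' m with ⟨k, rfl | rfl⟩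
  · left
    rw [_root_.zpow_mul, zpow_two, hx, _root_.one_zpow]
  · right
    rw [_root_.zpow_add, _root_.zpow_mul, zpow_two, hx, _root_.one_zpow, one_mul, zpow_one]

theorem commutator_eq_ker {G : Type*} [Group G] {D : Type*} [CommGroup D] (R : Set G)
    (hR : Subgroup.closure R = ⊤) (hinv : ∀ r ∈ R, r * r = 1)
    (d : G →* D) (χ : G →* ℤˣ) (e : D) (he : e ≠ 1) (hd : ∀ r ∈ R, d r = e)
    (hconj : ∀ r ∈ R, ∀ s ∈ R, χ r = χ s → ∃ g, g * r * g⁻¹ = s)
    (hT : ∃ r ∈ R, χ r = -1) (hF : ∃ r ∈ R, χ r = 1) :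
    commutator G = d.ker ⊓ χ.ker := by
  apply le_antisymm
  · exact le_inf (Abelianization.commutator_subset_ker d) (Abelianization.commutator_subset_ker χ)
  · obtain ⟨rT, hrT, hχT⟩ := hT
    obtain ⟨rF, hrF, hχF⟩ := hF
    set π : G →* Abelianization G := Abelianization.of with hπ
    set a := π rT with ha
    set b := π rF with hb
    have haa : a * a = 1 := by rw [ha, ← map_mul, hinv rT hrT, map_one]
    have hbb : b * b = 1 := by rw [hb, ← map_mul, hinv rF hrF, map_one]
    have hconj' : ∀ r ∈ R, ∀ s ∈ R, χ r = χ s → π r = π s := by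
      intro r hr s hs h
      obtain ⟨g, hg⟩ := hconj r hr s hs h
      rw [← hg, map_mul, map_mul, map_inv, mul_comm (π g), mul_assoc, mul_inv_cancel, mul_one]
    have himg : ∀ r ∈ R, π r ∈ ({a, b} : Set (Abelianization G)) := by
      intro r hr
      rcases Int.units_eq_one_or (χ r) with h | h
      · right
        exact hconj' r hr rF hrF (by rw [h, hχF])
      · left
        exact hconj' r hr rT hrT (by rw [h, hχT])
    have hall : ∀ g : G, π g ∈ Subgroup.closure ({a, b} : Set (Abelianization G)) := by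
      intro g
      have hg : g ∈ Subgroup.closure R := by rw [hR]; trivial
      have : π g ∈ (Subgroup.closure R).map π := Subgroup.mem_map_of_mem π hg
      rw [MonoidHom.map_closure] at this
      refine Subgroup.closure_mono ?_ this
      rintro _ ⟨r, hr, rfl⟩
      exact himg r hr
    intro g hg
    rw [Subgroup.mem_inf, MonoidHom.mem_ker, MonoidHom.mem_ker] at hg
    obtain ⟨hdg, hχg⟩ := hg
    rw [← Abelianization.ker_of, MonoidHom.mem_ker]
    obtain ⟨m, n, hmn⟩ := Subgroup.mem_closure_pair.mp (hall g)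
    have hdl : ∀ x : G, Abelianization.lift d (π x) = d x := fun x => Abelianization.lift_apply_of d x
    have hχl : ∀ x : G, Abelianization.lift χ (π x) = χ x := fun x => Abelianization.lift_apply_of χ x
    have hda : Abelianization.lift d a = e := by rw [ha, hdl, hd rT hrT]
    have hdb : Abelianization.lift d b = e := by rw [hb, hdl, hd rF hrF]
    have hχa : Abelianization.lift χ a = -1 := by rw [ha, hχl, hχT]
    have hχb : Abelianization.lift χ b = 1 := by rw [hb, hχl, hχF]
    have h1 : Abelianization.lift d (a ^ m * b ^ n) = 1 := by rw [hmn, hdl, hdg]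
    have h2 : Abelianization.lift χ (a ^ m * b ^ n) = 1 := by rw [hmn, hχl, hχg]
    show π g = 1
    rw [← hmn]
    rcases zpow_of_mul_self a haa m with hm | hm <;> rcases zpow_of_mul_self b hbb n with hn | hn
    · rw [hm, hn, one_mul]
    · exfalso
      rw [hm, hn, one_mul, hdb] at h1
      exact he h1
    · exfalso
      rw [hm, hn, mul_one, hχa] at h2
      exact absurd h2 (by decide)
    · exfalso
      rw [hm, hn, map_mul, hχa, hχb, mul_one] at h2
      exact absurd h2 (by decide)

variable {ι : Type} [Fintype ι] [DecidableEq ι] {F : Type*} [Field F]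

theorem refl_congr (Q : QuadraticForm F (ι → F)) (v w : ι → F) (hv : Q v ≠ 0) (hw : Q w ≠ 0)
    (h : v = w) : refl Q v hv = refl Q w hw := by
  subst h; rfl

theorem refl_neg (Q : QuadraticForm F (ι → F)) (v : ι → F) (hv : Q v ≠ 0) (hv' : Q (-v) ≠ 0) :
    refl Q (-v) hv' = refl Q v hv := by
  have h1 : Q ((-1 : F) • v) ≠ 0 := by rwa [neg_one_smul]
  rw [refl_congr Q (-v) ((-1 : F) • v) hv' h1 (neg_one_smul F v).symm]
  exact refl_smul Q v hv (-1) (neg_ne_zero.mpr one_ne_zero) h1

/-- Reflections in vectors whose `Q`-values differ by a square are conjugate. -/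
theorem refl_conj (h2 : (2 : F) ≠ 0) (Q : QuadraticForm F (ι → F)) (v w : ι → F)
    (hv : Q v ≠ 0) (hw : Q w ≠ 0) (t : F) (ht : Q w = t * t * Q v) :
    ∃ g : ↥(Cfsg.isometryGroup F ⇑Q), g * refl Q v hv * g⁻¹ = refl Q w hw := by
  have ht0 : t ≠ 0 := by
    rintro rfl
    rw [zero_mul, zero_mul] at ht
    exact hw ht
  have hQv' : Q (t • v) = Q w := by rw [QuadraticMap.map_smul, smul_eq_mul, ht]
  have hv' : Q (t • v) ≠ 0 := by rw [hQv']; exact hw
  rw [← refl_smul Q v hv t ht0 hv']
  have hsum := Q_sub_add_Q_add Q (t • v) w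
  rw [hQv'] at hsum
  have h4 : (2 : F) * Q w + 2 * Q w ≠ 0 := by
    have : (2 : F) * Q w + 2 * Q w = 2 * 2 * Q w := by ring
    rw [this]
    exact mul_ne_zero (mul_ne_zero h2 h2) hw
  by_cases hsub : Q (t • v - w) = 0
  · have hadd : Q (t • v + w) ≠ 0 := by
      intro h0
      rw [hsub, h0, add_zero] at hsum
      exact h4 hsum.symm
    refine ⟨refl Q (t • v + w) hadd, ?_⟩
    have hgv : Q (act (refl Q (t • v + w) hadd) (t • v)) ≠ 0 := by
      rw [Q_act (refl Q (t • v + w) hadd)]; exact hv'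
    rw [conj_refl Q (t • v) hv' _ hgv]
    have hnw : Q (-w) ≠ 0 := by rwa [QuadraticMap.map_neg]
    rw [refl_congr Q _ (-w) hgv hnw (act_refl_add Q (t • v) w hQv' hadd)]
    exact refl_neg Q w hw hnw
  · refine ⟨refl Q (t • v - w) hsub, ?_⟩
    have hgv : Q (act (refl Q (t • v - w) hsub) (t • v)) ≠ 0 := by
      rw [Q_act (refl Q (t • v - w) hsub)]; exact hv'
    rw [conj_refl Q (t • v) hv' _ hgv]
    exact refl_congr Q _ w hgv hw (act_refl_sub Q (t • v) w hQv' hsub)

/-! ### The level sets and the sign character -/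

/-- The level set `{x | Q x = c}`. -/
def Xc (Q : (ι → F) → F) (c : F) : Type _ := {x : ι → F // Q x = c}

noncomputable instance instFintypeXc [Fintype F] (Q : (ι → F) → F) (c : F) : Fintype (Xc Q c) := by
  unfold Xc
  classical exact inferInstance

noncomputable instance instDecEqXc (Q : (ι → F) → F) (c : F) : DecidableEq (Xc Q c) := by
  classical exact inferInstance

instance instMulActionXc (Q : (ι → F) → F) (c : F) :
    MulAction ↥(Cfsg.isometryGroup F Q) (Xc Q c) where
  smul g x := ⟨act g x.1, by rw [Q_act g]; exact x.2⟩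
  one_smul x := Subtype.ext (act_one x.1)
  mul_smul g h x := Subtype.ext (act_mul g h x.1)

theorem smul_val (Q : (ι → F) → F) (c : F) (g : ↥(Cfsg.isometryGroup F Q)) (x : Xc Q c) :
    (g • x).1 = act g x.1 := rfl

/-- The sign character: the sign of the permutation induced on `{x | Q x = c}`. -/
noncomputable def chi [Fintype F] (Q : (ι → F) → F) (c : F) :
    ↥(Cfsg.isometryGroup F Q) →* ℤˣ :=
  Equiv.Perm.sign.comp (MulAction.toPermHom ↥(Cfsg.isometryGroup F Q) (Xc Q c))

theorem chi_apply [Fintype F] (Q : (ι → F) → F) (c : F) (g : ↥(Cfsg.isometryGroup F Q)) :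
    chi Q c g = Equiv.Perm.sign (MulAction.toPerm g : Equiv.Perm (Xc Q c)) := rfl

/-- Negation on a level set. -/
def negPerm (Q : QuadraticForm F (ι → F)) (c : F) : Equiv.Perm (Xc (⇑Q) c) where
  toFun x := ⟨-x.1, by rw [QuadraticMap.map_neg]; exact x.2⟩
  invFun x := ⟨-x.1, by rw [QuadraticMap.map_neg]; exact x.2⟩
  left_inv x := Subtype.ext (neg_neg x.1)
  right_inv x := Subtype.ext (neg_neg x.1)

omit [Fintype ι] [DecidableEq ι] in
theorem negPerm_val (Q : QuadraticForm F (ι → F)) (c : F) (x : Xc (⇑Q) c) :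
    (negPerm Q c x).1 = -x.1 := rfl

/-- A vector negated by a reflection is a multiple of the reflecting vector. -/
theorem eq_smul_of_act_refl_eq_neg (h2 : (2 : F) ≠ 0) (Q : QuadraticForm F (ι → F)) (v : ι → F)
    (hv : Q v ≠ 0) (x : ι → F) (h : act (refl Q v hv) x = -x) :
    x = ((2 : F)⁻¹ * ((Q v)⁻¹ * polar (⇑Q) v x)) • v := by
  rw [act_refl] at h
  have h1 : (2 : F) • x = ((Q v)⁻¹ * polar (⇑Q) v x) • v := by
    rw [two_smul]
    have : x + x = x - -x := by abel
    rw [this, ← h]
    abel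
  rw [mul_smul, ← h1, smul_smul, inv_mul_cancel₀ h2, one_smul]

open Classical in
/-- The value of the sign character on a reflection. -/
theorem chi_refl [Fintype F] (h2 : (2 : F) ≠ 0) (Q : QuadraticForm F (ι → F)) (c : F) (hc : c ≠ 0)
    (v : ι → F) (hv : Q v ≠ 0) :
    chi (⇑Q) c (refl Q v hv) = if IsSquare (c * Q v) then -1 else 1 := by
  classical
  rw [chi_apply]
  set σ : Equiv.Perm (Xc (⇑Q) c) := MulAction.toPerm (refl Q v hv) with hσ
  set τ : Equiv.Perm (Xc (⇑Q) c) := negPerm Q c with hτ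
  have hσσ : σ * σ = 1 := by
    rw [hσ, ← MulAction.toPermHom_apply, ← map_mul, refl_mul_self, map_one]
  have hττ : τ * τ = 1 := by
    ext x
    rw [Equiv.Perm.mul_apply, Equiv.Perm.one_apply, hτ]
    apply Subtype.ext
    rw [negPerm_val, negPerm_val, neg_neg]
  have hcomm : σ * τ = τ * σ := by
    ext x
    rw [Equiv.Perm.mul_apply, Equiv.Perm.mul_apply, hσ, hτ]
    apply Subtype.ext
    rw [MulAction.toPerm_apply, MulAction.toPerm_apply, smul_val, negPerm_val, negPerm_val,
      smul_val, act_neg]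
  have hfree : ∀ x, τ x ≠ x := by
    intro x hx
    have h1 : -x.1 = x.1 := congrArg Subtype.val hx
    have h0 : x.1 = 0 := by
      funext i
      have h3 : -x.1 i = x.1 i := congrFun h1 i
      have h4 : (2 : F) * x.1 i = 0 := by linear_combination -h3
      rcases mul_eq_zero.mp h4 with h5 | h5
      · exact absurd h5 h2
      · exact h5
    have := x.2
    rw [h0, map_zero] at this
    exact hc this.symm
  have hiff : ∀ x : Xc (⇑Q) c, σ x = τ x ↔ act (refl Q v hv) x.1 = -x.1 := by
    intro x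
    rw [hσ, hτ, MulAction.toPerm_apply]
    constructor
    · intro h
      have := congrArg Subtype.val h
      rwa [smul_val, negPerm_val] at this
    · intro h
      apply Subtype.ext
      rw [smul_val, negPerm_val, h]
  by_cases hsq : IsSquare (c * Q v)
  · rw [if_pos hsq]
    obtain ⟨r, hr⟩ := hsq
    set s₀ : F := r / Q v with hs₀
    have hs₀sq : s₀ * s₀ * Q v = c := by
      rw [hs₀]; field_simp; rw [pow_two, ← hr]; ring
    have hs₀ne : s₀ ≠ 0 := by
      rintro h0
      rw [h0, zero_mul, zero_mul] at hs₀sq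
      exact hc hs₀sq.symm
    have hQx₀ : Q (s₀ • v) = c := by rw [QuadraticMap.map_smul, smul_eq_mul, hs₀sq]
    have hQx₁ : Q (-(s₀ • v)) = c := by rw [QuadraticMap.map_neg, hQx₀]
    have hact : ∀ s : F, act (refl Q v hv) (s • v) = -(s • v) := by
      intro s
      rw [act_smul, act_refl_self, smul_neg]
    have hcard : Fintype.card {x : Xc (⇑Q) c // σ x = τ x} = 2 * 1 := by
      rw [mul_one, ← Nat.card_eq_fintype_card, Nat.card_eq_two_iff]
      refine ⟨⟨⟨s₀ • v, hQx₀⟩, (hiff _).2 (hact s₀)⟩, ⟨⟨-(s₀ • v), hQx₁⟩, (hiff _).2 ?_⟩, ?_, ?_⟩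
      · show act (refl Q v hv) (-(s₀ • v)) = - -(s₀ • v)
        rw [act_neg, hact]
      · intro h
        have h1 : s₀ • v = -(s₀ • v) := congrArg (fun z => z.1.1) h
        have h3 : (2 * s₀) • v = 0 := by
          rw [mul_smul, two_smul]
          nth_rewrite 1 [h1]
          exact neg_add_cancel _
        have hv0 : v ≠ 0 := by
          rintro rfl
          exact hv (map_zero Q)
        rcases smul_eq_zero.mp h3 with h5 | h5
        · exact (mul_ne_zero h2 hs₀ne) h5
        · exact hv0 h5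
      · ext ⟨x, hx⟩
        simp only [Set.mem_univ, Set.mem_insert_iff, Set.mem_singleton_iff, iff_true]
        have hx' := (hiff x).1 hx
        have hxs := eq_smul_of_act_refl_eq_neg h2 Q v hv x.1 hx'
        set s := (2 : F)⁻¹ * ((Q v)⁻¹ * polar (⇑Q) v x.1) with hs
        have hss : s * s * Q v = c := by
          have := x.2
          rw [hxs, QuadraticMap.map_smul, smul_eq_mul] at this
          exact this
        have hs2 : (s - s₀) * (s + s₀) = 0 := by
          have : (s - s₀) * (s + s₀) * Q v = 0 := by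
            linear_combination hss - hs₀sq
          rcases mul_eq_zero.mp this with h | h
          · exact h
          · exact absurd h hv
        rcases mul_eq_zero.mp hs2 with h | h
        · left
          apply Subtype.ext
          apply Subtype.ext
          show x.1 = s₀ • v
          rw [hxs, sub_eq_zero.mp h]
        · right
          apply Subtype.ext
          apply Subtype.ext
          show x.1 = -(s₀ • v)
          rw [hxs, eq_neg_of_add_eq_zero_left h, neg_smul]
    rw [sign_of_comm_involutions σ τ hσσ hττ hcomm hfree 1 hcard, pow_one]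
  · rw [if_neg hsq]
    have hcard : Fintype.card {x : Xc (⇑Q) c // σ x = τ x} = 2 * 0 := by
      rw [mul_zero, Fintype.card_eq_zero_iff]
      constructor
      rintro ⟨x, hx⟩
      have hx' := (hiff x).1 hx
      have hxs := eq_smul_of_act_refl_eq_neg h2 Q v hv x.1 hx'
      set s := (2 : F)⁻¹ * ((Q v)⁻¹ * polar (⇑Q) v x.1) with hs
      have hss : s * s * Q v = c := by
        have := x.2
        rw [hxs, QuadraticMap.map_smul, smul_eq_mul] at this
        exact this
      apply hsq
      refine ⟨s * Q v, ?_⟩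
      rw [← hss]; ring
    rw [sign_of_comm_involutions σ τ hσσ hττ hcomm hfree 0 hcard, pow_zero]


/-! ### Abstract structure lemma with two sign characters -/

theorem int_units_cases (x : ℤˣ) : x = 1 ∨ x = -1 := Int.units_eq_one_or x

theorem index_ker_of_neg_one {G : Type*} [Group G] (ψ : G →* ℤˣ) (g : G) (hg : ψ g = -1) :
    ψ.ker.index = 2 := by
  rw [Subgroup.index_ker]
  have : ψ.range = ⊤ := by
    rw [eq_top_iff]
    intro x _
    rcases int_units_cases x with h | h
    · rw [h]; exact one_mem _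
    · rw [h, ← hg]; exact ⟨g, rfl⟩
  rw [this, Subgroup.card_top, Nat.card_eq_fintype_card, Fintype.card_units_int]

/-- A subgroup of index two is the kernel of a sign character. -/
theorem exists_hom_of_index_two {G : Type*} [Group G] (H : Subgroup G) (hH : H.index = 2) :
    ∃ ψ : G →* ℤˣ, ψ.ker = H := by
  classical
  refine ⟨MonoidHom.mk' (fun g => if g ∈ H then 1 else -1) ?_, ?_⟩
  · intro a b
    have := Subgroup.mul_mem_iff_of_index_two hH (a := a) (b := b)
    by_cases ha : a ∈ H <;> by_cases hb : b ∈ H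
    · have hab : a * b ∈ H := this.2 ⟨fun _ => hb, fun _ => ha⟩
      simp [ha, hb, hab]
    · have hab : a * b ∉ H := fun h => hb ((this.1 h).1 ha)
      simp [ha, hb, hab]
    · have hab : a * b ∉ H := fun h => ha ((this.1 h).2 hb)
      simp [ha, hb, hab]
    · have hab : a * b ∈ H := this.2 ⟨fun h => absurd h ha, fun h => absurd h hb⟩
      simp [ha, hb, hab]
  · ext g
    rw [MonoidHom.mem_ker, MonoidHom.mk'_apply]
    by_cases hg : g ∈ H
    · simp [hg]
    · simp [hg]

theorem structure_of_two_characters {G : Type*} [Group G] (R : Set G)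
    (hR : Subgroup.closure R = ⊤) (hinv : ∀ r ∈ R, r * r = 1)
    (χ₁ χ₂ : G →* ℤˣ) (hχ : ∀ r ∈ R, χ₁ r * χ₂ r = -1)
    (hconj : ∀ r ∈ R, ∀ s ∈ R, χ₁ r = χ₁ s → ∃ g, g * r * g⁻¹ = s)
    (hT : ∃ r ∈ R, χ₁ r = -1) (hF : ∃ r ∈ R, χ₁ r = 1) :
    commutator G = χ₁.ker ⊓ χ₂.ker ∧ (commutator G).index = 4 ∧
      Nat.card {H : Subgroup G // H.index = 2} = 3 := by
  have hcomm : commutator G = χ₁.ker ⊓ χ₂.ker := by
    have h := commutator_eq_ker R hR hinv (χ₁ * χ₂) χ₁ (-1) (by decide) hχ hconj hT hF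
    rw [h]
    ext g
    simp only [Subgroup.mem_inf, MonoidHom.mem_ker, MonoidHom.mul_apply]
    constructor
    · rintro ⟨h1, h2⟩
      rw [h2, one_mul] at h1
      exact ⟨h2, h1⟩
    · rintro ⟨h1, h2⟩
      rw [h1, h2, one_mul]
      exact ⟨rfl, rfl⟩
  obtain ⟨rT, hrT, hχT⟩ := hT
  obtain ⟨rF, hrF, hχF⟩ := hF
  have hχT2 : χ₂ rT = 1 := by
    have := hχ rT hrT
    rw [hχT] at this
    rcases int_units_cases (χ₂ rT) with h | h
    · exact h
    · rw [h] at this; exact absurd this (by decide)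
  have hχF2 : χ₂ rF = -1 := by
    have := hχ rF hrF
    rw [hχF, one_mul] at this
    exact this
  refine ⟨hcomm, ?_, ?_⟩
  · rw [hcomm, ← MonoidHom.ker_prod, Subgroup.index_ker]
    have : (χ₁.prod χ₂).range = ⊤ := by
      rw [eq_top_iff]
      rintro ⟨x, y⟩ _
      rcases int_units_cases x with hx | hx <;> rcases int_units_cases y with hy | hy
      · exact ⟨1, by simp [hx, hy]⟩
      · exact ⟨rF, by simp [hx, hy, hχF, hχF2]⟩
      · exact ⟨rT, by simp [hx, hy, hχT, hχT2]⟩
      · exact ⟨rT * rF, by simp [hx, hy, hχT, hχT2, hχF, hχF2]⟩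
    rw [this, Subgroup.card_top, Nat.card_prod, Nat.card_eq_fintype_card, Fintype.card_units_int]
  · -- characters are determined by their values on `rT`, `rF`
    have hdet : ∀ ψ φ : G →* ℤˣ, ψ rT = φ rT → ψ rF = φ rF → ψ = φ := by
      intro ψ φ h1 h2
      apply MonoidHom.eq_of_eqOn_dense hR
      intro r hr
      have hc : ∀ s ∈ R, χ₁ r = χ₁ s → (ψ r = ψ s ∧ φ r = φ s) := by
        intro s hs h
        obtain ⟨g, hg⟩ := hconj r hr s hs h
        have hinvar : ∀ χ : G →* ℤˣ, χ (g * r * g⁻¹) = χ r := fun χ => by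
          rw [map_mul, map_mul, map_inv, mul_comm (χ g), mul_assoc, mul_inv_cancel, mul_one]
        rw [← hg, hinvar, hinvar]
        exact ⟨rfl, rfl⟩
      rcases int_units_cases (χ₁ r) with h | h
      · obtain ⟨h3, h4⟩ := hc rF hrF (by rw [h, hχF])
        rw [h3, h4, h2]
      · obtain ⟨h3, h4⟩ := hc rT hrT (by rw [h, hχT])
        rw [h3, h4, h1]
    have hK1 : χ₁.ker.index = 2 := index_ker_of_neg_one χ₁ rT hχT
    have hK2 : χ₂.ker.index = 2 := index_ker_of_neg_one χ₂ rF hχF2
    have hK3 : (χ₁ * χ₂).ker.index = 2 :=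
      index_ker_of_neg_one (χ₁ * χ₂) rT (by rw [MonoidHom.mul_apply, hχT, hχT2]; rfl)
    have h12 : χ₁.ker ≠ χ₂.ker := by
      intro h
      have : rT ∈ χ₂.ker := hχT2
      rw [← h, MonoidHom.mem_ker, hχT] at this
      exact absurd this (by decide)
    have h13 : χ₁.ker ≠ (χ₁ * χ₂).ker := by
      intro h
      have : rF ∈ χ₁.ker := hχF
      rw [h, MonoidHom.mem_ker, MonoidHom.mul_apply, hχF, hχF2] at this
      exact absurd this (by decide)
    have h23 : χ₂.ker ≠ (χ₁ * χ₂).ker := by
      intro h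
      have : rT ∈ χ₂.ker := hχT2
      rw [h, MonoidHom.mem_ker, MonoidHom.mul_apply, hχT, hχT2] at this
      exact absurd this (by decide)
    have hset : {H : Subgroup G | H.index = 2} = {χ₁.ker, χ₂.ker, (χ₁ * χ₂).ker} := by
      ext H
      simp only [Set.mem_ofPred_eq, Set.mem_insert_iff, Set.mem_singleton_iff]
      constructor
      · intro hH
        obtain ⟨ψ, hψ⟩ := exists_hom_of_index_two H hH
        rcases int_units_cases (ψ rT) with h1 | h1 <;> rcases int_units_cases (ψ rF) with h2 | h2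
        · exfalso
          have : ψ = 1 := hdet ψ 1 (by rw [h1]; rfl) (by rw [h2]; rfl)
          rw [this, MonoidHom.ker_one] at hψ
          rw [← hψ, Subgroup.index_top] at hH
          exact absurd hH (by decide)
        · right; left
          rw [← hψ, hdet ψ χ₂ (by rw [h1, hχT2]) (by rw [h2, hχF2])]
        · left
          rw [← hψ, hdet ψ χ₁ (by rw [h1, hχT]) (by rw [h2, hχF])]
        · right; right
          rw [← hψ, hdet ψ (χ₁ * χ₂) (by rw [h1, MonoidHom.mul_apply, hχT, hχT2]; rfl)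
            (by rw [h2, MonoidHom.mul_apply, hχF, hχF2]; rfl)]
      · rintro (h | h | h)
        · rw [h]; exact hK1
        · rw [h]; exact hK2
        · rw [h]; exact hK3
    have : Nat.card {H : Subgroup G // H.index = 2} = Set.ncard {H : Subgroup G | H.index = 2} :=
      Nat.card_coe_set_eq _
    rw [this, hset, Set.ncard_insert_of_notMem, Set.ncard_pair h23]
    simp only [Set.mem_insert_iff, Set.mem_singleton_iff, not_or]
    exact ⟨h12, h13⟩


/-! ### The main theorems -/


theorem ringChar_ne_two (h2 : (2 : F) ≠ 0) : ringChar F ≠ 2 := by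
  intro h
  apply h2
  have := ringChar.Nat.cast_ringChar (R := F)
  rw [h] at this
  exact_mod_cast this

theorem isSquare_nonsq_mul [Fintype F] {ν x : F} (hν : ¬IsSquare ν) (hx : x ≠ 0) :
    IsSquare (ν * x) ↔ ¬IsSquare x := by
  classical
  have hν0 : ν ≠ 0 := by
    rintro rfl
    exact hν ⟨0, by ring⟩
  rw [← quadraticChar_one_iff_isSquare (mul_ne_zero hν0 hx), ← quadraticChar_neg_one_iff_not_isSquare,
    map_mul, quadraticChar_neg_one_iff_not_isSquare.2 hν]
  constructor
  · intro h; linear_combination -h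
  · intro h; rw [h]; norm_num

theorem isSquare_mul_of_iff [Fintype F] {x y : F} (hx : x ≠ 0) (hy : y ≠ 0)
    (h : IsSquare x ↔ IsSquare y) : IsSquare (x * y) := by
  classical
  rw [← quadraticChar_one_iff_isSquare (mul_ne_zero hx hy), map_mul]
  by_cases hsx : IsSquare x
  · rw [(quadraticChar_one_iff_isSquare hx).2 hsx, (quadraticChar_one_iff_isSquare hy).2 (h.1 hsx)]
    norm_num
  · rw [quadraticChar_neg_one_iff_not_isSquare.2 hsx,
      quadraticChar_neg_one_iff_not_isSquare.2 (fun hy' => hsx (h.2 hy'))]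
    norm_num

/-- A non-degenerate quadratic form in at least two variables over a finite field of odd
characteristic represents every scalar. -/
theorem exists_Q_eq [Fintype F] (h2 : (2 : F) ≠ 0) (Q : QuadraticForm F (ι → F))
    (hQ : (QuadraticMap.polarBilin Q).Nondegenerate) (hn : 2 ≤ Fintype.card ι) (c : F) :
    ∃ x, Q x = c := by
  obtain ⟨v, hortho, hns⟩ := exists_orthogonal_basis h2 Q hQ
  have hfr : Module.finrank F (ι → F) = Fintype.card ι := Module.finrank_fintype_fun_eq_card F
  have h0 : 0 < Module.finrank F (ι → F) := by omega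
  have h1 : 1 < Module.finrank F (ι → F) := by omega
  set i0 : Fin (Module.finrank F (ι → F)) := ⟨0, h0⟩
  set i1 : Fin (Module.finrank F (ι → F)) := ⟨1, h1⟩
  have h01 : i0 ≠ i1 := by
    intro h
    have := congrArg Fin.val h
    simp [i0, i1] at this
  set a := Q (v i0) with ha
  set b := Q (v i1) with hb
  have hcard : Fintype.card F % 2 = 1 := by
    exact FiniteField.odd_card_of_char_ne_two (ringChar_ne_two h2)
  have hf2 : (Polynomial.C a * Polynomial.X ^ 2).degree = 2 :=
    Polynomial.degree_C_mul_X_pow 2 (hns i0)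
  have hg2 : (Polynomial.C b * Polynomial.X ^ 2 - Polynomial.C c).degree = 2 := by
    rw [Polynomial.degree_sub_C]
    · exact Polynomial.degree_C_mul_X_pow 2 (hns i1)
    · rw [Polynomial.degree_C_mul_X_pow 2 (hns i1)]; norm_num
  obtain ⟨x, y, hxy⟩ := FiniteField.exists_root_sum_quadratic hf2 hg2 hcard
  refine ⟨x • v i0 + y • v i1, ?_⟩
  have hQ : Q (x • v i0 + y • v i1) = Q (x • v i0) + Q (y • v i1)
      + polar (⇑Q) (x • v i0) (y • v i1) := by
    unfold QuadraticMap.polar; ring
  rw [hQ, QuadraticMap.map_smul, QuadraticMap.map_smul, QuadraticMap.polar_smul_left,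
    QuadraticMap.polar_smul_right, hortho i0 i1 h01]
  simp only [Polynomial.eval_mul, Polynomial.eval_C, Polynomial.eval_pow, Polynomial.eval_X,
    Polynomial.eval_sub] at hxy
  rw [smul_eq_mul, smul_eq_mul, smul_eq_mul, smul_eq_mul, ← ha, ← hb]
  linear_combination hxy

open Classical in
theorem chi_refl_nonsq [Fintype F] (h2 : (2 : F) ≠ 0) (Q : QuadraticForm F (ι → F)) (c ν : F)
    (hc : c ≠ 0) (hν : ¬IsSquare ν) (v : ι → F) (hv : Q v ≠ 0) :
    chi (⇑Q) (ν * c) (refl Q v hv) = if IsSquare (c * Q v) then 1 else -1 := by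
  have hν0 : ν ≠ 0 := by
    rintro rfl
    exact hν ⟨0, by ring⟩
  rw [chi_refl h2 Q (ν * c) (mul_ne_zero hν0 hc) v hv, mul_assoc,
    if_congr (isSquare_nonsq_mul hν (mul_ne_zero hc hv)) rfl rfl]
  by_cases h : IsSquare (c * Q v)
  · rw [if_neg (not_not.2 h), if_pos h]
  · rw [if_pos h, if_neg h]

/-- The hypotheses of the structure lemmas hold for the set of reflections. -/
theorem refl_conj_of_chi [Fintype F] (h2 : (2 : F) ≠ 0) (Q : QuadraticForm F (ι → F)) (c : F)
    (hc : c ≠ 0) : ∀ r ∈ Rset Q, ∀ s ∈ Rset Q, chi (⇑Q) c r = chi (⇑Q) c s →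
      ∃ g, g * r * g⁻¹ = s := by
  classical
  rintro _ ⟨v, hv, rfl⟩ _ ⟨w, hw, rfl⟩ h
  rw [chi_refl h2 Q c hc v hv, chi_refl h2 Q c hc w hw] at h
  have hiff : IsSquare (c * Q w) ↔ IsSquare (c * Q v) := by
    by_cases h1 : IsSquare (c * Q v) <;> by_cases h3 : IsSquare (c * Q w)
    · exact ⟨fun _ => h1, fun _ => h3⟩
    · rw [if_pos h1, if_neg h3] at h; exact absurd h (by decide)
    · rw [if_neg h1, if_pos h3] at h; exact absurd h (by decide)
    · exact ⟨fun h' => absurd h' h3, fun h' => absurd h' h1⟩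
  obtain ⟨r, hr⟩ := isSquare_mul_of_iff (mul_ne_zero hc hw) (mul_ne_zero hc hv) hiff
  refine refl_conj h2 Q v w hv hw (r / (c * Q v)) ?_
  field_simp
  linear_combination hr

/-- Existence of reflections of both classes. -/
theorem exists_refl_chi [Fintype F] (h2 : (2 : F) ≠ 0) (Q : QuadraticForm F (ι → F))
    (hQ : (QuadraticMap.polarBilin Q).Nondegenerate) (hn : 2 ≤ Fintype.card ι) (c : F)
    (hc : c ≠ 0) :
    (∃ r ∈ Rset Q, chi (⇑Q) c r = -1) ∧ (∃ r ∈ Rset Q, chi (⇑Q) c r = 1) := by
  classical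
  constructor
  · obtain ⟨x, hx⟩ := exists_Q_eq h2 Q hQ hn c
    have hx0 : Q x ≠ 0 := by rw [hx]; exact hc
    refine ⟨refl Q x hx0, refl_mem_Rset Q x hx0, ?_⟩
    rw [chi_refl h2 Q c hc x hx0, if_pos]
    exact ⟨c, by rw [hx]⟩
  · obtain ⟨ν, hν⟩ := FiniteField.exists_nonsquare (ringChar_ne_two h2) (F := F)
    have hν0 : ν ≠ 0 := by
      rintro rfl
      exact hν ⟨0, by ring⟩
    obtain ⟨x, hx⟩ := exists_Q_eq h2 Q hQ hn (ν * c)
    have hx0 : Q x ≠ 0 := by rw [hx]; exact mul_ne_zero hν0 hc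
    refine ⟨refl Q x hx0, refl_mem_Rset Q x hx0, ?_⟩
    rw [chi_refl h2 Q c hc x hx0, if_neg]
    rw [hx]
    have : c * (ν * c) = ν * (c * c) := by ring
    rw [this, isSquare_nonsq_mul hν (mul_ne_zero hc hc)]
    exact not_not.2 ⟨c, rfl⟩

/-- The determinant character of the isometry group. -/
noncomputable def detHom (Q : (ι → F) → F) : ↥(Cfsg.isometryGroup F Q) →* Fˣ :=
  Matrix.GeneralLinearGroup.det.comp (Cfsg.isometryGroup F Q).subtype

theorem detHom_ker (Q : (ι → F) → F) : (detHom Q).ker = Cfsg.specialIsometryGroup F Q := rfl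

theorem detHom_val (Q : (ι → F) → F) (g : ↥(Cfsg.isometryGroup F Q)) :
    ((detHom Q g : Fˣ) : F) = ((g : Matrix.GeneralLinearGroup ι F) : Matrix ι ι F).det := rfl

theorem mem_special_iff (Q : (ι → F) → F) (g : ↥(Cfsg.isometryGroup F Q)) :
    g ∈ Cfsg.specialIsometryGroup F Q ↔
      ((g : Matrix.GeneralLinearGroup ι F) : Matrix ι ι F).det = 1 := by
  rw [← detHom_ker, MonoidHom.mem_ker, ← detHom_val, Units.ext_iff, Units.val_one]

theorem detHom_refl (Q : QuadraticForm F (ι → F)) (v : ι → F) (hv : Q v ≠ 0) :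
    detHom (⇑Q) (refl Q v hv) = -1 := by
  apply Units.ext
  rw [detHom_val, refl_det, Units.val_neg, Units.val_one]

/-- `Ω(Q)` is the group of isometries of determinant one in the kernel of the sign character. -/
theorem Omega_eq [Fintype F] (h2 : (2 : F) ≠ 0) (Q : QuadraticForm F (ι → F))
    (hQ : (QuadraticMap.polarBilin Q).Nondegenerate) (hn : 2 ≤ Fintype.card ι) (c : F)
    (hc : c ≠ 0) :
    Cfsg.Omega F (⇑Q) = Cfsg.specialIsometryGroup F (⇑Q) ⊓ (chi (⇑Q) c).ker := by
  obtain ⟨hT, hF⟩ := exists_refl_chi h2 Q hQ hn c hc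
  have hne : (-1 : Fˣ) ≠ 1 := by
    intro h
    have := congrArg Units.val h
    rw [Units.val_neg, Units.val_one] at this
    apply h2
    linear_combination -this
  rw [← detHom_ker]
  exact commutator_eq_ker (Rset Q) (closure_Rset h2 Q hQ)
    (by rintro _ ⟨v, hv, rfl⟩; exact refl_mul_self Q v hv)
    (detHom (⇑Q)) (chi (⇑Q) c) (-1) hne
    (by rintro _ ⟨v, hv, rfl⟩; exact detHom_refl Q v hv)
    (refl_conj_of_chi h2 Q c hc) hT hF

theorem mem_Omega_iff [Fintype F] (h2 : (2 : F) ≠ 0) (Q : QuadraticForm F (ι → F))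
    (hQ : (QuadraticMap.polarBilin Q).Nondegenerate) (hn : 2 ≤ Fintype.card ι) (c : F)
    (hc : c ≠ 0) (g : ↥(Cfsg.isometryGroup F ⇑Q)) :
    g ∈ Cfsg.Omega F (⇑Q) ↔
      ((g : Matrix.GeneralLinearGroup ι F) : Matrix ι ι F).det = 1 ∧ chi (⇑Q) c g = 1 := by
  rw [Omega_eq h2 Q hQ hn c hc, Subgroup.mem_inf, mem_special_iff, MonoidHom.mem_ker]

/-- `Ω(Q)` has index `4`, and the isometry group has exactly three subgroups of index `2`. -/
theorem Omega_structure [Fintype F] (h2 : (2 : F) ≠ 0) (Q : QuadraticForm F (ι → F))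
    (hQ : (QuadraticMap.polarBilin Q).Nondegenerate) (hn : 2 ≤ Fintype.card ι) :
    (Cfsg.Omega F (⇑Q)).index = 4 ∧
      Nat.card {H : Subgroup ↥(Cfsg.isometryGroup F ⇑Q) // H.index = 2} = 3 := by
  classical
  obtain ⟨ν, hν⟩ := FiniteField.exists_nonsquare (ringChar_ne_two h2) (F := F)
  obtain ⟨hT, hF⟩ := exists_refl_chi h2 Q hQ hn 1 one_ne_zero
  have h := structure_of_two_characters (Rset Q) (closure_Rset h2 Q hQ)
    (by rintro _ ⟨v, hv, rfl⟩; exact refl_mul_self Q v hv)
    (chi (⇑Q) 1) (chi (⇑Q) (ν * 1))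
    (by
      rintro _ ⟨v, hv, rfl⟩
      rw [chi_refl h2 Q 1 one_ne_zero v hv, chi_refl_nonsq h2 Q 1 ν one_ne_zero hν v hv]
      by_cases h : IsSquare (1 * Q v)
      · rw [if_pos h, if_pos h]; rfl
      · rw [if_neg h, if_neg h]; rfl)
    (refl_conj_of_chi h2 Q 1 one_ne_zero) hT hF
  exact ⟨h.2.1, h.2.2⟩

end Cfsg.Agent.Lib.Helper19.OrthRefl
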