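-- Orthogonal families of non-singular vectors: linear independence, re-diagonalisation of a
-- quadratic form over a finite field of odd characteristic to the shape (c, c, ..., c, δ).
import Mathlib
import Cfsg.Prelude.Def_Classical
import Cfsg.Prelude.Def_ClassicalGeometry
import Cfsg.Agent.Lib.Helper19.OrthSpinor

set_option autoImplicit false

namespace Cfsg.Agent.Lib.Helper19.OrthRefl

open Matrix QuadraticMap

variable {ι : Type} [Fintype ι] [DecidableEq ι] {F : Type*} [Field F]

/-- An orthogonal family of non-singular vectors. -/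
def IsOrthFam (Q : QuadraticForm F (ι → F)) {d : ℕ} (v : Fin d → (ι → F)) : Prop :=
  (∀ i j, i ≠ j → polar (⇑Q) (v i) (v j) = 0) ∧ ∀ i, Q (v i) ≠ 0

/-- The polar form of a linear combination of an orthogonal family against a member. -/
theorem polar_sum_orth (Q : QuadraticForm F (ι → F)) {d : ℕ} {v : Fin d → (ι → F)}
    (hv : IsOrthFam Q v) (c : Fin d → F) (j : Fin d) :
    polar (⇑Q) (v j) (∑ i, c i • v i) = c j * (2 * Q (v j)) := by
  have h := map_sum (QuadraticMap.polarBilin Q (v j)) (fun i => c i • v i) Finset.univ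
  simp only [QuadraticMap.polarBilin_apply_apply] at h
  rw [h, Finset.sum_eq_single j]
  · rw [QuadraticMap.polar_smul_right, polar_self', smul_eq_mul]
  · intro i _ hij
    rw [QuadraticMap.polar_smul_right, hv.1 j i (Ne.symm hij), smul_zero]
  · intro h; exact absurd (Finset.mem_univ j) h

theorem IsOrthFam.linearIndependent (h2 : (2 : F) ≠ 0) (Q : QuadraticForm F (ι → F)) {d : ℕ}
    {v : Fin d → (ι → F)} (hv : IsOrthFam Q v) : LinearIndependent F v := by
  rw [Fintype.linearIndependent_iff]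
  intro c hc j
  have h := polar_sum_orth Q hv c j
  rw [hc] at h
  have h0 : polar (⇑Q) (v j) 0 = 0 := QuadraticMap.polar_zero_right _ _
  rw [h0] at h
  rcases mul_eq_zero.mp h.symm with h1 | h1
  · exact h1
  · exact absurd h1 (mul_ne_zero h2 (hv.2 j))

/-- An orthogonal family of the right size as a basis. -/
noncomputable def IsOrthFam.basis (h2 : (2 : F) ≠ 0) (Q : QuadraticForm F (ι → F)) {d : ℕ}
    {v : Fin d → (ι → F)} (hv : IsOrthFam Q v) (hd : d = Module.finrank F (ι → F)) :
    Module.Basis (Fin d) F (ι → F) :=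
  Module.Basis.mk (hv.linearIndependent h2 Q) (by
    rw [(hv.linearIndependent h2 Q).span_eq_top_of_card_eq_finrank' (by rw [Fintype.card_fin, hd])])

theorem IsOrthFam.basis_apply (h2 : (2 : F) ≠ 0) (Q : QuadraticForm F (ι → F)) {d : ℕ}
    {v : Fin d → (ι → F)} (hv : IsOrthFam Q v) (hd : d = Module.finrank F (ι → F)) (i : Fin d) :
    hv.basis h2 Q hd i = v i := by
  unfold IsOrthFam.basis
  rw [Module.Basis.mk_apply]

/-- Re-diagonalisation of a pair. -/
theorem exists_pair_change [Fintype F] (h2 : (2 : F) ≠ 0) (Q : QuadraticForm F (ι → F))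
    (u₁ u₂ : ι → F) (h12 : polar (⇑Q) u₁ u₂ = 0) (h1 : Q u₁ ≠ 0) (hu2 : Q u₂ ≠ 0) (c : F)
    (hc : c ≠ 0) :
    ∃ α β : F, Q (α • u₁ + β • u₂) = c ∧ Q ((-(β * Q u₂)) • u₁ + (α * Q u₁) • u₂) ≠ 0 ∧
      polar (⇑Q) (α • u₁ + β • u₂) ((-(β * Q u₂)) • u₁ + (α * Q u₁) • u₂) = 0 := by
  have hcard : Fintype.card F % 2 = 1 :=
    FiniteField.odd_card_of_char_ne_two (ringChar_ne_two h2)
  have hf2 : (Polynomial.C (Q u₁) * Polynomial.X ^ 2).degree = 2 :=
    Polynomial.degree_C_mul_X_pow 2 h1
  have hg2 : (Polynomial.C (Q u₂) * Polynomial.X ^ 2 - Polynomial.C c).degree = 2 := by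
    rw [Polynomial.degree_sub_C]
    · exact Polynomial.degree_C_mul_X_pow 2 hu2
    · rw [Polynomial.degree_C_mul_X_pow 2 hu2]; norm_num
  obtain ⟨α, β, hxy⟩ := FiniteField.exists_root_sum_quadratic hf2 hg2 hcard
  simp only [Polynomial.eval_mul, Polynomial.eval_C, Polynomial.eval_pow, Polynomial.eval_X,
    Polynomial.eval_sub] at hxy
  have hval : ∀ a b : F, Q (a • u₁ + b • u₂) = a * a * Q u₁ + b * b * Q u₂ := by
    intro a b
    have hQ : Q (a • u₁ + b • u₂) = Q (a • u₁) + Q (b • u₂) + polar (⇑Q) (a • u₁) (b • u₂) := by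
      unfold QuadraticMap.polar; ring
    rw [hQ, QuadraticMap.map_smul, QuadraticMap.map_smul, QuadraticMap.polar_smul_left,
      QuadraticMap.polar_smul_right, h12]
    simp only [smul_eq_mul]
    ring
  have hc' : α * α * Q u₁ + β * β * Q u₂ = c := by linear_combination hxy
  refine ⟨α, β, ?_, ?_, ?_⟩
  · rw [hval, hc']
  · rw [hval]
    have : -(β * Q u₂) * -(β * Q u₂) * Q u₁ + α * Q u₁ * (α * Q u₁) * Q u₂
        = Q u₁ * Q u₂ * c := by rw [← hc']; ring
    rw [this]
    exact mul_ne_zero (mul_ne_zero h1 hu2) hc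
  · simp only [QuadraticMap.polar_add_left, QuadraticMap.polar_add_right,
      QuadraticMap.polar_smul_left, QuadraticMap.polar_smul_right, h12,
      QuadraticMap.polar_comm (⇑Q) u₂ u₁, polar_self', smul_eq_mul]
    ring

/-- Re-diagonalisation: an orthogonal family whose first `k` values are `c` (for `k < d`). -/
theorem exists_orthFam_const [Fintype F] (h2 : (2 : F) ≠ 0) (Q : QuadraticForm F (ι → F))
    (hQ : (QuadraticMap.polarBilin Q).Nondegenerate) (c : F) (hc : c ≠ 0) :
    ∀ k, k + 1 ≤ Module.finrank F (ι → F) →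
      ∃ v : Fin (Module.finrank F (ι → F)) → (ι → F), IsOrthFam Q v ∧
        ∀ i : Fin (Module.finrank F (ι → F)), (i : ℕ) < k → Q (v i) = c := by
  classical
  intro k
  induction k with
  | zero =>
    intro _
    obtain ⟨v, hortho, hns⟩ := exists_orthogonal_basis h2 Q hQ
    exact ⟨v, ⟨hortho, hns⟩, fun i hi => absurd hi (Nat.not_lt_zero _)⟩
  | succ k ih =>
    intro hk
    obtain ⟨v, hv, hvc⟩ := ih (by omega)
    set i₁ : Fin (Module.finrank F (ι → F)) := ⟨k, by omega⟩ with hi₁
    set i₂ : Fin (Module.finrank F (ι → F)) := ⟨k + 1, by omega⟩ with hi₂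
    have h12 : i₁ ≠ i₂ := by
      intro h
      have := congrArg Fin.val h
      simp [hi₁, hi₂] at this
    obtain ⟨α, β, hQ1, hQ2, hpol⟩ := exists_pair_change h2 Q (v i₁) (v i₂) (hv.1 i₁ i₂ h12)
      (hv.2 i₁) (hv.2 i₂) c hc
    set w₁ := α • v i₁ + β • v i₂ with hw₁
    set w₂ := (-(β * Q (v i₂))) • v i₁ + (α * Q (v i₁)) • v i₂ with hw₂
    set v' : Fin (Module.finrank F (ι → F)) → (ι → F) :=
      fun i => if i = i₁ then w₁ else if i = i₂ then w₂ else v i with hv'
    have hv'1 : v' i₁ = w₁ := by simp [hv']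
    have hv'2 : v' i₂ = w₂ := by simp [hv', Ne.symm h12]
    have hv'o : ∀ i, i ≠ i₁ → i ≠ i₂ → v' i = v i := by
      intro i h1 h3; simp [hv', h1, h3]
    have hw₁o : ∀ i, i ≠ i₁ → i ≠ i₂ → polar (⇑Q) w₁ (v i) = 0 := by
      intro i h1 h3
      rw [hw₁, QuadraticMap.polar_add_left, QuadraticMap.polar_smul_left,
        QuadraticMap.polar_smul_left, hv.1 i₁ i (Ne.symm h1), hv.1 i₂ i (Ne.symm h3)]
      simp
    have hw₂o : ∀ i, i ≠ i₁ → i ≠ i₂ → polar (⇑Q) w₂ (v i) = 0 := by
      intro i h1 h3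
      rw [hw₂, QuadraticMap.polar_add_left, QuadraticMap.polar_smul_left,
        QuadraticMap.polar_smul_left, hv.1 i₁ i (Ne.symm h1), hv.1 i₂ i (Ne.symm h3)]
      simp
    refine ⟨v', ⟨?_, ?_⟩, ?_⟩
    · intro i j hij
      by_cases hi1 : i = i₁
      · subst hi1
        rw [hv'1]
        by_cases hj2 : j = i₂
        · subst hj2; rw [hv'2]; exact hpol
        · rw [hv'o j (Ne.symm hij) hj2]
          exact hw₁o j (Ne.symm hij) hj2
      · by_cases hi2 : i = i₂
        · subst hi2
          rw [hv'2]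
          by_cases hj1 : j = i₁
          · subst hj1; rw [hv'1, QuadraticMap.polar_comm]; exact hpol
          · rw [hv'o j hj1 (Ne.symm hij)]
            exact hw₂o j hj1 (Ne.symm hij)
        · rw [hv'o i hi1 hi2]
          by_cases hj1 : j = i₁
          · subst hj1
            rw [hv'1, QuadraticMap.polar_comm]
            exact hw₁o i hi1 hi2
          · by_cases hj2 : j = i₂
            · subst hj2
              rw [hv'2, QuadraticMap.polar_comm]
              exact hw₂o i hi1 hi2
            · rw [hv'o j hj1 hj2]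
              exact hv.1 i j hij
    · intro i
      by_cases hi1 : i = i₁
      · subst hi1; rw [hv'1, hQ1]; exact hc
      · by_cases hi2 : i = i₂
        · subst hi2; rw [hv'2]; exact hQ2
        · rw [hv'o i hi1 hi2]; exact hv.2 i
    · intro i hi
      by_cases hi1 : i = i₁
      · subst hi1; rw [hv'1, hQ1]
      · have hik : (i : ℕ) < k := by
          have : (i : ℕ) ≠ k := fun h => hi1 (Fin.ext h)
          omega
        have hi2 : i ≠ i₂ := by
          intro h
          have := congrArg Fin.val h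
          simp [hi₂] at this
          omega
        rw [hv'o i hi1 hi2]
        exact hvc i hik

end Cfsg.Agent.Lib.Helper19.OrthRefl
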