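import Mathlib
import Cfsg.Agent.Lib.Helper19.QuadWitt2

/-!
# Helper19: discriminants of quadratic forms (Gram determinants of the polar form)

* `gram Q v`: the Gram matrix of the polar form in a family `v`.
* `gram_det_change`: Gram determinants in two bases differ by a non-zero square.
* `det_Jp`: `det [[0, 1], [1, 0]] = (-1) ^ k` (blocks of size `k`).
* `gram_elliptic`, `gram_odd`: Gram matrices of standard families.
-/

set_option autoImplicit false

namespace Cfsg.Agent.Lib.Helper19.QuadWitt

open Matrix QuadraticMap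

section gram

variable {F V : Type*} [Field F] [AddCommGroup V] [Module F V]

/-- Gram matrix of the polar form of `Q` in a family. -/
def gram (Q : QuadraticForm F V) {ι : Type*} (v : ι → V) : Matrix ι ι F :=
  Matrix.of fun i j => polar ⇑Q (v i) (v j)

lemma gram_apply (Q : QuadraticForm F V) {ι : Type*} (v : ι → V) (i j : ι) :
    gram Q v i j = polar ⇑Q (v i) (v j) := rfl

lemma gram_eq_toMatrix (Q : QuadraticForm F V) {ι : Type*} [Fintype ι] [DecidableEq ι]
    (b : Module.Basis ι F V) : gram Q b = LinearMap.BilinForm.toMatrix b (polarBilin Q) := by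
  ext i j
  simp [gram, LinearMap.BilinForm.toMatrix_apply]

theorem gram_det_change (Q : QuadraticForm F V) {ι ι' : Type*} [Fintype ι] [DecidableEq ι]
    [Fintype ι'] [DecidableEq ι'] (b : Module.Basis ι F V) (b' : Module.Basis ι' F V) :
    ∃ u : F, u ≠ 0 ∧ (gram Q b).det = u ^ 2 * (gram Q b').det := by
  let e : ι ≃ ι' := b.indexEquiv b'
  let b'' : Module.Basis ι F V := b'.reindex e.symm
  have h1 : gram Q b'' = (gram Q b').submatrix e e := by
    ext i j
    simp [gram, b'', Module.Basis.reindex_apply]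
  have h2 : (gram Q b'').det = (gram Q b').det := by
    rw [h1, Matrix.det_submatrix_equiv_self]
  have h3 := LinearMap.BilinForm.toMatrix_mul_basis_toMatrix b'' b (polarBilin Q)
  refine ⟨(b''.toMatrix b).det, ?_, ?_⟩
  · have := congrArg Matrix.det (Module.Basis.toMatrix_mul_toMatrix_flip b'' b)
    rw [det_mul, det_one] at this
    exact left_ne_zero_of_mul_eq_one this
  · rw [gram_eq_toMatrix Q b, ← h3, det_mul, det_mul, det_transpose, ← gram_eq_toMatrix, h2]
    ring

end gram

section dets

variable {F : Type*} [Field F]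

/-- The hyperbolic Gram matrix. -/
def Jp (k : ℕ) (F : Type*) [Field F] : Matrix (Fin k ⊕ Fin k) (Fin k ⊕ Fin k) F :=
  fromBlocks 0 1 1 0

lemma det_Jp (k : ℕ) : (Jp k F).det = (-1) ^ k := by
  have h : Jp k F * fromBlocks (1 : Matrix (Fin k) (Fin k) F) 1 0 1 =
      fromBlocks (0 : Matrix (Fin k) (Fin k) F) 1 1 1 := by
    simp [Jp, fromBlocks_multiply]
  have h1 := congrArg Matrix.det h
  rw [det_mul, det_fromBlocks_zero₂₁, det_one, mul_one, mul_one, det_fromBlocks_one₂₂] at h1
  rw [h1]
  simp [Matrix.det_neg]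

lemma det_Jp_ne_zero (k : ℕ) : (Jp k F).det ≠ 0 := by
  rw [det_Jp]
  exact pow_ne_zero _ (neg_ne_zero.2 one_ne_zero)

end dets

section standard

variable {F V : Type*} [Field F] [AddCommGroup V] [Module F V] {Q : QuadraticForm F V}

lemma gram_pairs {k : ℕ} {e f : Fin k → V} (h : IsHyp Q e f) {x y : V}
    (hx : x ∈ perp Q e f) (hy : y ∈ perp Q e f) :
    gram Q (Sum.elim (Sum.elim e f) ![x, y]) =
      fromBlocks (Jp k F) 0 0 !![2 * Q x, polar ⇑Q x y; polar ⇑Q x y, 2 * Q y] := by
  have hfe : ∀ i j, polar ⇑Q (f i) (e j) = if i = j then 1 else 0 := by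
    intro i j
    rw [polar_comm, h.ef]
    simp [eq_comm]
  have hxe : ∀ i, polar ⇑Q x (e i) = 0 := fun i => by rw [polar_comm]; exact (hx i).1
  have hxf : ∀ i, polar ⇑Q x (f i) = 0 := fun i => by rw [polar_comm]; exact (hx i).2
  have hye : ∀ i, polar ⇑Q y (e i) = 0 := fun i => by rw [polar_comm]; exact (hy i).1
  have hyf : ∀ i, polar ⇑Q y (f i) = 0 := fun i => by rw [polar_comm]; exact (hy i).2
  ext s s'
  rcases s with (i | i) | i <;> rcases s' with (j | j) | j
  · simp [gram, Jp, h.ee]
  · simp [gram, Jp, h.ef, Matrix.one_apply]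
  · fin_cases j
    · simpa [gram] using (hx i).1
    · simpa [gram] using (hy i).1
  · simp [gram, Jp, hfe, Matrix.one_apply]
  · simp [gram, Jp, h.ff]
  · fin_cases j
    · simpa [gram] using (hx i).2
    · simpa [gram] using (hy i).2
  · fin_cases i
    · simpa [gram] using hxe j
    · simpa [gram] using hye j
  · fin_cases i
    · simpa [gram] using hxf j
    · simpa [gram] using hyf j
  · fin_cases i <;> fin_cases j
    · simp [gram, polar_self, two_mul]
    · simp [gram]
    · simp [gram, polar_comm]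
    · simp [gram, polar_self, two_mul]

lemma det_gram_pairs {k : ℕ} {e f : Fin k → V} (h : IsHyp Q e f) {x y : V}
    (hx : x ∈ perp Q e f) (hy : y ∈ perp Q e f) :
    (gram Q (Sum.elim (Sum.elim e f) ![x, y])).det =
      (Jp k F).det * (4 * Q x * Q y - polar ⇑Q x y ^ 2) := by
  rw [gram_pairs h hx hy, det_fromBlocks_zero₂₁, Matrix.det_fin_two_of]
  ring

lemma gram_odd {k : ℕ} {e f : Fin k → V} (h : IsHyp Q e f) {x : V} (hx : x ∈ perp Q e f) :
    gram Q (Sum.elim (fun _ : Unit => x) (Sum.elim e f)) =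
      fromBlocks (Matrix.of fun _ _ => 2 * Q x) 0 0 (Jp k F) := by
  have hfe : ∀ i j, polar ⇑Q (f i) (e j) = if i = j then 1 else 0 := by
    intro i j
    rw [polar_comm, h.ef]
    simp [eq_comm]
  have hxe : ∀ i, polar ⇑Q x (e i) = 0 := fun i => by rw [polar_comm]; exact (hx i).1
  have hxf : ∀ i, polar ⇑Q x (f i) = 0 := fun i => by rw [polar_comm]; exact (hx i).2
  ext s s'
  rcases s with i | i | i <;> rcases s' with j | j | j
  · simp [gram, polar_self, two_mul]
  · simpa [gram] using hxe j
  · simpa [gram] using hxf j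
  · simpa [gram] using (hx i).1
  · simp [gram, Jp, h.ee]
  · simp [gram, Jp, h.ef, Matrix.one_apply]
  · simpa [gram] using (hx i).2
  · simp [gram, Jp, hfe, Matrix.one_apply]
  · simp [gram, Jp, h.ff]

lemma det_gram_odd {k : ℕ} {e f : Fin k → V} (h : IsHyp Q e f) {x : V} (hx : x ∈ perp Q e f) :
    (gram Q (Sum.elim (fun _ : Unit => x) (Sum.elim e f))).det = 2 * Q x * (Jp k F).det := by
  rw [gram_odd h hx, det_fromBlocks_zero₂₁, Matrix.det_unique]
  rfl

end standard

end Cfsg.Agent.Lib.Helper19.QuadWitt
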