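-- The isometry `-1` as a product of reflections in an orthogonal basis, and the criterion
-- `-1 ∈ Ω(Q)` iff the discriminant is a square (even dimension, odd characteristic).
import Mathlib
import Cfsg.Prelude.Def_Classical
import Cfsg.Prelude.Def_ClassicalGeometry
import Cfsg.Agent.Lib.Helper19.OrthSpinor
import Cfsg.Agent.Lib.Helper19.QuadDisc

set_option autoImplicit false

namespace Cfsg.Agent.Lib.Helper19.OrthRefl

open Matrix QuadraticMap Cfsg.Agent.Lib.Helper19.QuadWitt

variable {ι : Type} [Fintype ι] [DecidableEq ι] {F : Type*} [Field F]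

/-- Negation as an isometry. -/
def negOne (Q : QuadraticForm F (ι → F)) : ↥(Cfsg.isometryGroup F ⇑Q) :=
  ⟨-1, by
    rw [mem_iso]
    intro u
    rw [Units.val_neg, Units.val_one, Matrix.neg_mulVec, Matrix.one_mulVec, QuadraticMap.map_neg]⟩

theorem negOne_coe (Q : QuadraticForm F (ι → F)) :
    (((negOne Q : ↥(Cfsg.isometryGroup F ⇑Q)) : Matrix.GeneralLinearGroup ι F) : Matrix ι ι F)
      = -1 := by
  show ((-1 : Matrix.GeneralLinearGroup ι F) : Matrix ι ι F) = -1
  rw [Units.val_neg, Units.val_one]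

theorem act_negOne (Q : QuadraticForm F (ι → F)) (x : ι → F) : act (negOne Q) x = -x := by
  rw [act_def, negOne_coe, Matrix.neg_mulVec, Matrix.one_mulVec]

/-- The action of a product of reflections in pairwise orthogonal vectors on one of them. -/
theorem act_prod_refl (Q : QuadraticForm F (ι → F)) {d : ℕ} (v : Fin d → (ι → F))
    (hortho : ∀ i j, i ≠ j → polar (⇑Q) (v i) (v j) = 0) (hns : ∀ i, Q (v i) ≠ 0)
    (l : List (Fin d)) (hl : l.Nodup) (j : Fin d) :
    act ((l.map (fun i => refl Q (v i) (hns i))).prod) (v j)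
      = if j ∈ l then -(v j) else v j := by
  induction l with
  | nil => simp [act_one]
  | cons i l ih =>
    rw [List.map_cons, List.prod_cons, act_mul, ih (List.nodup_cons.1 hl).2]
    by_cases hji : j = i
    · subst hji
      have hnot : j ∉ l := (List.nodup_cons.1 hl).1
      rw [if_neg hnot, if_pos (List.mem_cons_self), act_refl_self]
    · by_cases hjl : j ∈ l
      · rw [if_pos hjl, if_pos (List.mem_cons_of_mem i hjl), act_neg,
          act_refl_of_polar_eq_zero Q (v i) (hns i) (v j) (hortho i j (Ne.symm hji))]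
      · rw [if_neg hjl, if_neg (by simp [hji, hjl]),
          act_refl_of_polar_eq_zero Q (v i) (hns i) (v j) (hortho i j (Ne.symm hji))]

/-- `-1` is the product of the reflections in the vectors of an orthogonal basis. -/
theorem prod_refl_eq_negOne (Q : QuadraticForm F (ι → F)) {d : ℕ}
    (v : Module.Basis (Fin d) F (ι → F))
    (hortho : ∀ i j, i ≠ j → polar (⇑Q) (v i) (v j) = 0) (hns : ∀ i, Q (v i) ≠ 0) :
    ((List.finRange d).map (fun i => refl Q (v i) (hns i))).prod = negOne Q := by
  apply ext_act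
  intro x
  rw [act_negOne]
  have hx := v.sum_repr x
  rw [← hx]
  unfold act
  rw [Matrix.mulVec_sum, ← Finset.sum_neg_distrib]
  apply Finset.sum_congr rfl
  intro i _
  rw [Matrix.mulVec_smul, ← smul_neg]
  congr 1
  have := act_prod_refl Q v hortho hns (List.finRange d) (List.nodup_finRange d) i
  rw [if_pos (List.mem_finRange i)] at this
  exact this

open Classical in
/-- The sign character of `-1`. -/
theorem chi_negOne [Fintype F] (h2 : (2 : F) ≠ 0) (Q : QuadraticForm F (ι → F)) {d : ℕ}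
    (v : Module.Basis (Fin d) F (ι → F))
    (hortho : ∀ i j, i ≠ j → polar (⇑Q) (v i) (v j) = 0) (hns : ∀ i, Q (v i) ≠ 0) (c : F)
    (hc : c ≠ 0) :
    chi (⇑Q) c (negOne Q) = ∏ i : Fin d, (if IsSquare (c * Q (v i)) then (-1 : ℤˣ) else 1) := by
  rw [← prod_refl_eq_negOne Q v hortho hns, map_list_prod, List.map_map, Fin.prod_univ_def]
  congr 1
  apply List.map_congr_left
  intro i _
  exact chi_refl h2 Q c hc (v i) (hns i)

open Classical in
theorem units_ite_coe [Fintype F] (x : F) (hx : x ≠ 0) :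
    (((if IsSquare x then (-1 : ℤˣ) else 1 : ℤˣ)) : ℤ) = -quadraticChar F x := by
  by_cases h : IsSquare x
  · rw [if_pos h, (quadraticChar_one_iff_isSquare hx).2 h]; rfl
  · rw [if_neg h, quadraticChar_neg_one_iff_not_isSquare.2 h]; rfl

/-- The sign character of `-1` in even dimension: it is trivial iff the product of the `Q`-values
of an orthogonal basis is a square. -/
theorem chi_negOne_eq_one_iff [Fintype F] (h2 : (2 : F) ≠ 0) (Q : QuadraticForm F (ι → F)) {d : ℕ}
    (hd : Even d) (v : Module.Basis (Fin d) F (ι → F))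
    (hortho : ∀ i j, i ≠ j → polar (⇑Q) (v i) (v j) = 0) (hns : ∀ i, Q (v i) ≠ 0) :
    chi (⇑Q) 1 (negOne Q) = 1 ↔ IsSquare (∏ i : Fin d, Q (v i)) := by
  classical
  rw [chi_negOne h2 Q v hortho hns 1 one_ne_zero]
  have hprod0 : ∏ i : Fin d, Q (v i) ≠ 0 := Finset.prod_ne_zero_iff.2 (fun i _ => hns i)
  rw [← quadraticChar_one_iff_isSquare hprod0, map_prod, Units.ext_iff, Units.val_one,
    Units.coe_prod]
  have : ∀ i : Fin d, (((if IsSquare (1 * Q (v i)) then (-1 : ℤˣ) else 1 : ℤˣ)) : ℤ)
      = -1 * quadraticChar F (Q (v i)) := by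
    intro i
    rw [one_mul, units_ite_coe (Q (v i)) (hns i)]
    ring
  rw [Finset.prod_congr rfl (fun i _ => this i), Finset.prod_mul_distrib, Finset.prod_const,
    Finset.card_univ, Fintype.card_fin, hd.neg_one_pow, one_mul]

theorem isSquare_sq_mul_iff {u x : F} (hu : u ≠ 0) : IsSquare (u ^ 2 * x) ↔ IsSquare x := by
  constructor
  · rintro ⟨r, hr⟩
    refine ⟨r / u, ?_⟩
    field_simp
    linear_combination hr
  · rintro ⟨r, hr⟩
    exact ⟨u * r, by rw [hr]; ring⟩

/-- `-1 ∈ Ω(Q)` iff the discriminant is a square (even dimension at least two). -/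
theorem negOne_mem_Omega_iff [Fintype F] (h2 : (2 : F) ≠ 0) (Q : QuadraticForm F (ι → F))
    (hQ : (QuadraticMap.polarBilin Q).Nondegenerate) (hn : 2 ≤ Fintype.card ι)
    (he : Even (Fintype.card ι)) :
    negOne Q ∈ Cfsg.Omega F (⇑Q) ↔ IsSquare (gram Q (Pi.basisFun F ι)).det := by
  classical
  obtain ⟨v, hortho, hns⟩ := exists_orthogonal_basis h2 Q hQ
  have hfr : Module.finrank F (ι → F) = Fintype.card ι := Module.finrank_fintype_fun_eq_card F
  have hd : Even (Module.finrank F (ι → F)) := by rw [hfr]; exact he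
  rw [mem_Omega_iff h2 Q hQ hn 1 one_ne_zero, negOne_coe, Matrix.det_neg, Matrix.det_one, mul_one,
    he.neg_one_pow, chi_negOne_eq_one_iff h2 Q hd v hortho hns]
  obtain ⟨u, hu, hdet⟩ := gram_det_change Q (Pi.basisFun F ι) v
  have hgram : gram Q v = Matrix.diagonal (fun i => 2 * Q (v i)) := by
    ext i j
    rw [Cfsg.Agent.Lib.Helper19.QuadWitt.gram_apply]
    by_cases hij : i = j
    · subst hij
      rw [Matrix.diagonal_apply_eq, polar_self']
    · rw [Matrix.diagonal_apply_ne _ hij, hortho i j hij]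
  rw [hdet, hgram, Matrix.det_diagonal, Finset.prod_mul_distrib, Finset.prod_const,
    Finset.card_univ, Fintype.card_fin]
  obtain ⟨k, hk⟩ := hd
  have h2k : (2 : F) ^ Module.finrank F (ι → F) = (2 ^ k) ^ 2 := by
    rw [hk, ← two_mul, pow_mul, pow_right_comm]
  rw [h2k, isSquare_sq_mul_iff hu, isSquare_sq_mul_iff (pow_ne_zero k h2)]
  exact ⟨fun h => h.2, fun h => ⟨rfl, h⟩⟩

/-- The statement form: some element of `Ω(Q)` has matrix `-1`. -/
theorem exists_negOne_mem_Omega_iff [Fintype F] (h2 : (2 : F) ≠ 0) (Q : QuadraticForm F (ι → F))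
    (hQ : (QuadraticMap.polarBilin Q).Nondegenerate) (hn : 2 ≤ Fintype.card ι)
    (he : Even (Fintype.card ι)) :
    (∃ g : ↥(Cfsg.isometryGroup F ⇑Q), g ∈ Cfsg.Omega F (⇑Q) ∧
      ((g : Matrix.GeneralLinearGroup ι F) : Matrix ι ι F) = -1) ↔
      IsSquare (gram Q (Pi.basisFun F ι)).det := by
  rw [← negOne_mem_Omega_iff h2 Q hQ hn he]
  constructor
  · rintro ⟨g, hg, hg1⟩
    have : g = negOne Q := by
      apply Subtype.ext
      apply Units.ext
      rw [hg1, negOne_coe]
    rw [← this]
    exact hg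
  · intro h
    exact ⟨negOne Q, h, negOne_coe Q⟩

end Cfsg.Agent.Lib.Helper19.OrthRefl
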