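import Mathlib
import Cfsg.Prelude.Def_LieTypeDatum

/-!
# Helper19: the action of `GL_n` on `PSL_n` and the inverse-transpose automorphism
-/

set_option autoImplicit false

namespace Cfsg.Agent.Lib.Helper19.PSLGraph

open Matrix
open scoped MatrixGroups

variable {n : ℕ} {F : Type*} [Field F]

/-- Conjugation by an invertible matrix on `SL`. -/
def conjFun (g : GL (Fin n) F) (s : Matrix.SpecialLinearGroup (Fin n) F) : Matrix.SpecialLinearGroup (Fin n) F :=
  ⟨(g : Matrix (Fin n) (Fin n) F) * (s : Matrix (Fin n) (Fin n) F) *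
    ((g⁻¹ : GL (Fin n) F) : Matrix (Fin n) (Fin n) F), by
    rw [det_mul, det_mul, s.2, mul_one, ← det_mul, Units.mul_inv, det_one]⟩

lemma conjFun_coe (g : GL (Fin n) F) (s : Matrix.SpecialLinearGroup (Fin n) F) :
    (conjFun g s : Matrix (Fin n) (Fin n) F) = (g : Matrix (Fin n) (Fin n) F) *
      (s : Matrix (Fin n) (Fin n) F) * ((g⁻¹ : GL (Fin n) F) : Matrix (Fin n) (Fin n) F) := rfl

lemma conjFun_one (s : Matrix.SpecialLinearGroup (Fin n) F) : conjFun 1 s = s := by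
  apply Subtype.ext
  rw [conjFun_coe]
  simp

lemma conjFun_mul (g h : GL (Fin n) F) (s : Matrix.SpecialLinearGroup (Fin n) F) :
    conjFun (g * h) s = conjFun g (conjFun h s) := by
  apply Subtype.ext
  show ((g * h : GL (Fin n) F) : Matrix (Fin n) (Fin n) F) * (s : Matrix (Fin n) (Fin n) F) *
      (((g * h)⁻¹ : GL (Fin n) F) : Matrix (Fin n) (Fin n) F) =
    (g : Matrix (Fin n) (Fin n) F) * ((h : Matrix (Fin n) (Fin n) F) * (s : Matrix (Fin n) (Fin n) F) *
      ((h⁻¹ : GL (Fin n) F) : Matrix (Fin n) (Fin n) F)) * ((g⁻¹ : GL (Fin n) F) : Matrix (Fin n) (Fin n) F)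
  rw [_root_.mul_inv_rev, Units.val_mul, Units.val_mul]
  simp only [mul_assoc]

lemma conjFun_map_mul (g : GL (Fin n) F) (s t : Matrix.SpecialLinearGroup (Fin n) F) :
    conjFun g (s * t) = conjFun g s * conjFun g t := by
  apply Subtype.ext
  show (g : Matrix (Fin n) (Fin n) F) * ((s : Matrix (Fin n) (Fin n) F) * (t : Matrix (Fin n) (Fin n) F)) *
      ((g⁻¹ : GL (Fin n) F) : Matrix (Fin n) (Fin n) F) =
    ((g : Matrix (Fin n) (Fin n) F) * (s : Matrix (Fin n) (Fin n) F) *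
      ((g⁻¹ : GL (Fin n) F) : Matrix (Fin n) (Fin n) F)) *
    ((g : Matrix (Fin n) (Fin n) F) * (t : Matrix (Fin n) (Fin n) F) *
      ((g⁻¹ : GL (Fin n) F) : Matrix (Fin n) (Fin n) F))
  have h : ((g⁻¹ : GL (Fin n) F) : Matrix (Fin n) (Fin n) F) * (g : Matrix (Fin n) (Fin n) F) = 1 :=
    Units.inv_mul g
  calc (g : Matrix (Fin n) (Fin n) F) * ((s : Matrix (Fin n) (Fin n) F) * (t : Matrix (Fin n) (Fin n) F)) *
        ((g⁻¹ : GL (Fin n) F) : Matrix (Fin n) (Fin n) F)
      = (g : Matrix (Fin n) (Fin n) F) * (s : Matrix (Fin n) (Fin n) F) * (1 : Matrix (Fin n) (Fin n) F) *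
        (t : Matrix (Fin n) (Fin n) F) * ((g⁻¹ : GL (Fin n) F) : Matrix (Fin n) (Fin n) F) := by
        rw [mul_one]; simp only [mul_assoc]
    _ = _ := by rw [← h]; simp only [mul_assoc]

/-- Conjugation as an automorphism of `SL`. -/
def conjSL (g : GL (Fin n) F) : Matrix.SpecialLinearGroup (Fin n) F ≃* Matrix.SpecialLinearGroup (Fin n) F where
  toFun := conjFun g
  invFun := conjFun g⁻¹
  left_inv s := by rw [← conjFun_mul, inv_mul_cancel, conjFun_one]
  right_inv s := by rw [← conjFun_mul, mul_inv_cancel, conjFun_one]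
  map_mul' := conjFun_map_mul g

lemma conjSL_apply (g : GL (Fin n) F) (s : Matrix.SpecialLinearGroup (Fin n) F) : conjSL g s = conjFun g s := rfl

/-- The automorphism of `PSL` induced by an automorphism of `SL`. -/
def autPSL (e : Matrix.SpecialLinearGroup (Fin n) F ≃* Matrix.SpecialLinearGroup (Fin n) F) :
    MulAut (Matrix.ProjectiveSpecialLinearGroup (Fin n) F) :=
  QuotientGroup.congr (Subgroup.center _) (Subgroup.center _) e
    (Subgroup.characteristic_iff_map_eq.1 inferInstance e)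

lemma autPSL_mk (e : Matrix.SpecialLinearGroup (Fin n) F ≃* Matrix.SpecialLinearGroup (Fin n) F)
    (s : Matrix.SpecialLinearGroup (Fin n) F) :
    autPSL e (QuotientGroup.mk s) = (QuotientGroup.mk (e s) : Matrix.ProjectiveSpecialLinearGroup (Fin n) F) := rfl

lemma aut_ext {a b : MulAut (Matrix.ProjectiveSpecialLinearGroup (Fin n) F)}
    (h : ∀ s : Matrix.SpecialLinearGroup (Fin n) F, a (QuotientGroup.mk s) = b (QuotientGroup.mk s)) : a = b := by
  apply MulEquiv.ext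
  intro x
  induction x using QuotientGroup.induction_on with
  | H s => exact h s

/-- The action of `GL` on `PSL`. -/
def Phi : GL (Fin n) F →* MulAut (Matrix.ProjectiveSpecialLinearGroup (Fin n) F) :=
  MonoidHom.mk' (fun g => autPSL (conjSL g)) (by
    intro g h
    apply aut_ext
    intro s
    rw [MulAut.mul_apply, autPSL_mk, autPSL_mk, autPSL_mk, conjSL_apply, conjSL_apply, conjSL_apply,
      conjFun_mul])

lemma Phi_mk (g : GL (Fin n) F) (s : Matrix.SpecialLinearGroup (Fin n) F) :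
    Phi g (QuotientGroup.mk s) = (QuotientGroup.mk (conjFun g s) : Matrix.ProjectiveSpecialLinearGroup (Fin n) F) := rfl

lemma isInnerDiag_iff (β : MulAut (Matrix.ProjectiveSpecialLinearGroup (Fin n) F)) :
    Cfsg.IsInnerDiagonalAutPSL β ↔ ∃ g : GL (Fin n) F, β = Phi g := by
  constructor
  · rintro ⟨g, hg⟩
    refine ⟨g, aut_ext fun s => ?_⟩
    rw [Phi_mk]
    exact hg s (conjFun g s) rfl
  · rintro ⟨g, rfl⟩
    refine ⟨g, fun s s' hs => ?_⟩
    rw [Phi_mk]
    congr 1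
    apply Subtype.ext
    rw [conjFun_coe, hs]

lemma inndiag_eq : Cfsg.inndiagPSL n F = (Phi (n := n) (F := F)).range := by
  unfold Cfsg.inndiagPSL Cfsg.autSubgroupOf
  have : {β : MulAut (Matrix.ProjectiveSpecialLinearGroup (Fin n) F) | Cfsg.IsInnerDiagonalAutPSL β} =
      ((Phi (n := n) (F := F)).range : Set _) := by
    ext β
    show Cfsg.IsInnerDiagonalAutPSL β ↔ _
    rw [isInnerDiag_iff]
    constructor
    · rintro ⟨g, rfl⟩
      exact ⟨g, rfl⟩
    · rintro ⟨g, rfl⟩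
      exact ⟨g, rfl⟩
  rw [this, Subgroup.closure_eq]

/-- The elementary transvection as an element of `SL`. -/
def tv (i j : Fin n) (hij : i ≠ j) : Matrix.SpecialLinearGroup (Fin n) F :=
  ⟨transvection i j (1 : F), det_transvection_of_ne i j hij 1⟩

lemma tv_coe (i j : Fin n) (hij : i ≠ j) :
    ((tv i j hij : Matrix.SpecialLinearGroup (Fin n) F) : Matrix (Fin n) (Fin n) F) = 1 + single i j (1 : F) := rfl

lemma scalar_eq_smul (r : F) : scalar (Fin n) r = r • (1 : Matrix (Fin n) (Fin n) F) := by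
  rw [Matrix.scalar_apply, ← Matrix.smul_one_eq_diagonal]

lemma mk_eq_iff (s t : Matrix.SpecialLinearGroup (Fin n) F) :
    (QuotientGroup.mk s : Matrix.ProjectiveSpecialLinearGroup (Fin n) F) = QuotientGroup.mk t ↔
      ∃ r : F, r ^ n = 1 ∧ (t : Matrix (Fin n) (Fin n) F) = r • (s : Matrix (Fin n) (Fin n) F) := by
  rw [QuotientGroup.eq, Matrix.SpecialLinearGroup.mem_center_iff]
  simp only [Fintype.card_fin]
  have hmul : ∀ a b : Matrix.SpecialLinearGroup (Fin n) F,
      ((a * b : Matrix.SpecialLinearGroup (Fin n) F) : Matrix (Fin n) (Fin n) F) =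
        (a : Matrix (Fin n) (Fin n) F) * (b : Matrix (Fin n) (Fin n) F) := fun a b => rfl
  constructor
  · rintro ⟨r, hr, hs⟩
    refine ⟨r, hr, ?_⟩
    have h1 : t = s * (s⁻¹ * t) := by group
    have h3 : (t : Matrix (Fin n) (Fin n) F) = (s : Matrix (Fin n) (Fin n) F) *
        ((s⁻¹ * t : Matrix.SpecialLinearGroup (Fin n) F) : Matrix (Fin n) (Fin n) F) := by
      conv_lhs => rw [h1]
      rfl
    rw [h3, ← hs, scalar_eq_smul, Matrix.mul_smul, mul_one]
  · rintro ⟨r, hr, ht⟩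
    refine ⟨r, hr, ?_⟩
    rw [hmul, ht, Matrix.mul_smul, ← hmul, inv_mul_cancel, scalar_eq_smul]
    rfl

lemma conj_tv_eq (g : GL (Fin n) F) (i j : Fin n) (hij : i ≠ j)
    (h : (QuotientGroup.mk (tv i j hij) : Matrix.ProjectiveSpecialLinearGroup (Fin n) F) =
      QuotientGroup.mk (conjFun g (tv i j hij))) :
    (g : Matrix (Fin n) (Fin n) F) * single i j (1 : F) = single i j (1 : F) * (g : Matrix (Fin n) (Fin n) F) := by
  obtain ⟨r, -, hr⟩ := (mk_eq_iff _ _).1 h
  rw [conjFun_coe, tv_coe] at hr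
  set N : Matrix (Fin n) (Fin n) F := single i j (1 : F) with hN
  have hNN : N * N = 0 := by
    rw [hN, single_mul_single_of_ne _ _ _ _ (Ne.symm hij)]
  have hginv : ((g⁻¹ : GL (Fin n) F) : Matrix (Fin n) (Fin n) F) * (g : Matrix (Fin n) (Fin n) F) = 1 :=
    Units.inv_mul g
  have hginv' : (g : Matrix (Fin n) (Fin n) F) * ((g⁻¹ : GL (Fin n) F) : Matrix (Fin n) (Fin n) F) = 1 :=
    Units.mul_inv g
  -- M := g N g⁻¹ = r • (1 + N) - 1
  have hM : (g : Matrix (Fin n) (Fin n) F) * N * ((g⁻¹ : GL (Fin n) F) : Matrix (Fin n) (Fin n) F) =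
      r • (1 + N) - 1 := by
    rw [← hr, mul_add, add_mul, mul_one, hginv']
    abel
  have hMM : (r • (1 + N) - 1) * (r • (1 + N) - 1) = 0 := by
    rw [← hM]
    calc (g : Matrix (Fin n) (Fin n) F) * N * ((g⁻¹ : GL (Fin n) F) : Matrix (Fin n) (Fin n) F) *
          ((g : Matrix (Fin n) (Fin n) F) * N * ((g⁻¹ : GL (Fin n) F) : Matrix (Fin n) (Fin n) F))
        = (g : Matrix (Fin n) (Fin n) F) * N * (((g⁻¹ : GL (Fin n) F) : Matrix (Fin n) (Fin n) F) *
          (g : Matrix (Fin n) (Fin n) F)) * N * ((g⁻¹ : GL (Fin n) F) : Matrix (Fin n) (Fin n) F) := by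
          simp only [mul_assoc]
      _ = 0 := by
          rw [hginv, mul_one, mul_assoc (g : Matrix (Fin n) (Fin n) F), hNN, mul_zero, zero_mul]
  have hrow : ∀ k, (r • (1 + N) - 1) j k = if j = k then r - 1 else 0 := by
    intro k
    have hNjk : N j k = 0 := by
      rw [hN, single_apply, if_neg]
      rintro ⟨h1, -⟩
      exact hij h1
    rw [Matrix.sub_apply, Matrix.smul_apply, Matrix.add_apply, hNjk, add_zero, Matrix.one_apply]
    split_ifs <;> simp
  have hr1 : r = 1 := by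
    have := congrFun (congrFun hMM j) j
    rw [mul_apply] at this
    simp only [hrow, ite_mul, zero_mul, Finset.sum_ite_eq, Finset.mem_univ, if_true, Matrix.zero_apply] at this
    have h2 : (r - 1) = 0 := by
      rcases mul_eq_zero.1 this with h | h <;> exact h
    linear_combination h2
  rw [hr1, one_smul] at hM
  have hM' : (g : Matrix (Fin n) (Fin n) F) * N * ((g⁻¹ : GL (Fin n) F) : Matrix (Fin n) (Fin n) F) = N := by
    rw [hM]
    abel
  calc (g : Matrix (Fin n) (Fin n) F) * N = (g : Matrix (Fin n) (Fin n) F) * N *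
        (((g⁻¹ : GL (Fin n) F) : Matrix (Fin n) (Fin n) F) * (g : Matrix (Fin n) (Fin n) F)) := by
        rw [hginv, mul_one]
    _ = N * (g : Matrix (Fin n) (Fin n) F) := by
        rw [← mul_assoc, hM']

lemma Phi_eq_one_iff (g : GL (Fin n) F) : Phi g = 1 ↔ g ∈ Cfsg.Geo.scalars (Fin n) F := by
  rw [Cfsg.Geo.mem_scalars_iff]
  constructor
  · intro h
    have hcomm : ∀ i j : Fin n, i ≠ j → Commute (single i j (1 : F)) (g : Matrix (Fin n) (Fin n) F) := by
      intro i j hij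
      have h1 := congrFun (congrArg DFunLike.coe h) (QuotientGroup.mk (tv i j hij))
      rw [Phi_mk] at h1
      exact (conj_tv_eq g i j hij h1.symm).symm
    obtain ⟨c, hc⟩ := mem_range_scalar_iff_commute_single.2 hcomm
    have hc' : (g : Matrix (Fin n) (Fin n) F) = c • 1 := by rw [← hc, scalar_eq_smul]
    by_cases hn : n = 0
    · subst hn
      exact ⟨1, Subsingleton.elim _ _⟩
    have hne : Nonempty (Fin n) := ⟨⟨0, Nat.pos_of_ne_zero hn⟩⟩
    have hc0 : c ≠ 0 := by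
      rintro rfl
      have hdet := (Matrix.isUnit_iff_isUnit_det _).1 g.isUnit
      rw [hc', zero_smul, det_zero] at hdet
      exact not_isUnit_zero hdet
    exact ⟨Units.mk0 c hc0, hc'⟩
  · rintro ⟨c, hc⟩
    apply aut_ext
    intro s
    rw [Phi_mk, MulAut.one_apply]
    congr 1
    apply Subtype.ext
    show (g : Matrix (Fin n) (Fin n) F) * (s : Matrix (Fin n) (Fin n) F) *
      ((g⁻¹ : GL (Fin n) F) : Matrix (Fin n) (Fin n) F) = (s : Matrix (Fin n) (Fin n) F)
    have hcomm : (g : Matrix (Fin n) (Fin n) F) * (s : Matrix (Fin n) (Fin n) F) =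
        (s : Matrix (Fin n) (Fin n) F) * (g : Matrix (Fin n) (Fin n) F) := by
      rw [hc, Matrix.smul_mul, Matrix.mul_smul, one_mul, mul_one]
    rw [hcomm, mul_assoc, Units.mul_inv, mul_one]

/-- Transpose on `SL`. -/
def tSL (s : Matrix.SpecialLinearGroup (Fin n) F) : Matrix.SpecialLinearGroup (Fin n) F :=
  ⟨(s : Matrix (Fin n) (Fin n) F)ᵀ, by rw [det_transpose]; exact s.2⟩

lemma tSL_mul (s t : Matrix.SpecialLinearGroup (Fin n) F) : tSL (s * t) = tSL t * tSL s := by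
  apply Subtype.ext
  show ((s : Matrix (Fin n) (Fin n) F) * (t : Matrix (Fin n) (Fin n) F))ᵀ =
    (t : Matrix (Fin n) (Fin n) F)ᵀ * (s : Matrix (Fin n) (Fin n) F)ᵀ
  rw [transpose_mul]

lemma tSL_one : tSL (1 : Matrix.SpecialLinearGroup (Fin n) F) = 1 := by
  apply Subtype.ext
  show ((1 : Matrix (Fin n) (Fin n) F))ᵀ = 1
  rw [transpose_one]

lemma tSL_tSL (s : Matrix.SpecialLinearGroup (Fin n) F) : tSL (tSL s) = s := by
  apply Subtype.ext
  show ((s : Matrix (Fin n) (Fin n) F)ᵀ)ᵀ = _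
  rw [transpose_transpose]

lemma tSL_inv (s : Matrix.SpecialLinearGroup (Fin n) F) : tSL s⁻¹ = (tSL s)⁻¹ := by
  apply eq_inv_of_mul_eq_one_left
  rw [← tSL_mul, mul_inv_cancel, tSL_one]

/-- Inverse transpose as an automorphism of `SL`. -/
def itSL : Matrix.SpecialLinearGroup (Fin n) F ≃* Matrix.SpecialLinearGroup (Fin n) F where
  toFun s := tSL s⁻¹
  invFun s := tSL s⁻¹
  left_inv s := by
    show tSL (tSL s⁻¹)⁻¹ = s
    rw [tSL_inv, tSL_tSL, inv_inv]
  right_inv s := by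
    show tSL (tSL s⁻¹)⁻¹ = s
    rw [tSL_inv, tSL_tSL, inv_inv]
  map_mul' s t := by
    show tSL (s * t)⁻¹ = tSL s⁻¹ * tSL t⁻¹
    rw [_root_.mul_inv_rev, tSL_mul]

lemma itSL_apply (s : Matrix.SpecialLinearGroup (Fin n) F) : itSL s = tSL s⁻¹ := rfl

/-- The inverse-transpose automorphism of `PSL`. -/
def iota0 : MulAut (Matrix.ProjectiveSpecialLinearGroup (Fin n) F) := autPSL itSL

lemma iota0_mk (s : Matrix.SpecialLinearGroup (Fin n) F) :
    iota0 (QuotientGroup.mk s) =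
      (QuotientGroup.mk (tSL s⁻¹) : Matrix.ProjectiveSpecialLinearGroup (Fin n) F) := rfl

lemma iota_eq (ι : MulAut (Matrix.ProjectiveSpecialLinearGroup (Fin n) F))
    (hι : Cfsg.IsInverseTransposeAutPSL ι) : ι = iota0 := by
  apply aut_ext
  intro s
  rw [iota0_mk]
  exact hι s (tSL s⁻¹) rfl

lemma isInverseTranspose_iota0 :
    Cfsg.IsInverseTransposeAutPSL (iota0 : MulAut (Matrix.ProjectiveSpecialLinearGroup (Fin n) F)) := by
  intro s s' hs
  rw [iota0_mk]
  congr 1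
  apply Subtype.ext
  rw [hs]
  rfl

lemma iota0_sq : (iota0 : MulAut (Matrix.ProjectiveSpecialLinearGroup (Fin n) F)) * iota0 = 1 := by
  apply aut_ext
  intro s
  rw [MulAut.mul_apply, iota0_mk, iota0_mk, MulAut.one_apply, tSL_inv, tSL_tSL, inv_inv]

/-- Transpose on `GL`. -/
def tGL (g : GL (Fin n) F) : GL (Fin n) F :=
  ⟨(g : Matrix (Fin n) (Fin n) F)ᵀ, ((g⁻¹ : GL (Fin n) F) : Matrix (Fin n) (Fin n) F)ᵀ, by
    rw [← transpose_mul, Units.inv_mul, transpose_one], by
    rw [← transpose_mul, Units.mul_inv, transpose_one]⟩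

lemma tGL_coe (g : GL (Fin n) F) : ((tGL g : GL (Fin n) F) : Matrix (Fin n) (Fin n) F) =
    (g : Matrix (Fin n) (Fin n) F)ᵀ := rfl

lemma tGL_inv_coe (g : GL (Fin n) F) : (((tGL g)⁻¹ : GL (Fin n) F) : Matrix (Fin n) (Fin n) F) =
    ((g⁻¹ : GL (Fin n) F) : Matrix (Fin n) (Fin n) F)ᵀ := rfl

lemma iota0_Phi (h : GL (Fin n) F) :
    (iota0 : MulAut (Matrix.ProjectiveSpecialLinearGroup (Fin n) F)) * Phi h = Phi (tGL h)⁻¹ * iota0 := by
  apply aut_ext
  intro s
  rw [MulAut.mul_apply, MulAut.mul_apply, Phi_mk, iota0_mk, iota0_mk, Phi_mk]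
  congr 1
  have h1 : (conjFun h s)⁻¹ = conjFun h s⁻¹ := (map_inv (conjSL h) s).symm
  rw [h1]
  apply Subtype.ext
  show ((h : Matrix (Fin n) (Fin n) F) * ((s⁻¹ : Matrix.SpecialLinearGroup (Fin n) F) : Matrix (Fin n) (Fin n) F) *
      ((h⁻¹ : GL (Fin n) F) : Matrix (Fin n) (Fin n) F))ᵀ =
    (((tGL h)⁻¹ : GL (Fin n) F) : Matrix (Fin n) (Fin n) F) *
      ((s⁻¹ : Matrix.SpecialLinearGroup (Fin n) F) : Matrix (Fin n) (Fin n) F)ᵀ *
      ((((tGL h)⁻¹)⁻¹ : GL (Fin n) F) : Matrix (Fin n) (Fin n) F)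
  rw [inv_inv, tGL_inv_coe, tGL_coe, transpose_mul, transpose_mul, mul_assoc]

/-- The graph-type automorphism attached to an invertible matrix `A` (a bilinear form). -/
def gam (A : GL (Fin n) F) : MulAut (Matrix.ProjectiveSpecialLinearGroup (Fin n) F) := Phi A⁻¹ * iota0

lemma gam_one : gam (1 : GL (Fin n) F) = iota0 := by
  unfold gam
  rw [inv_one, map_one, one_mul]

/-- `Phi h` commutes with `gam A` iff `hᵀ A h` is a scalar multiple of `A`. -/
lemma comm_gam_iff (A h : GL (Fin n) F) :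
    Phi h * gam A = gam A * Phi h ↔ tGL h * A * h * A⁻¹ ∈ Cfsg.Geo.scalars (Fin n) F := by
  have key : (iota0 : MulAut (Matrix.ProjectiveSpecialLinearGroup (Fin n) F)) * Phi h =
      (Phi (tGL h))⁻¹ * iota0 := by rw [iota0_Phi, map_inv]
  rw [← Phi_eq_one_iff, map_mul, map_mul, map_mul, map_inv]
  unfold gam
  rw [map_inv]
  constructor
  · intro h1
    have h2 : Phi h * (Phi A)⁻¹ = (Phi A)⁻¹ * (Phi (tGL h))⁻¹ := by
      have h3 : Phi h * (Phi A)⁻¹ * iota0 = (Phi A)⁻¹ * (Phi (tGL h))⁻¹ * iota0 := by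
        rw [mul_assoc, h1, mul_assoc, key, ← mul_assoc]
      exact mul_right_cancel h3
    calc Phi (tGL h) * Phi A * Phi h * (Phi A)⁻¹ = Phi (tGL h) * Phi A * (Phi h * (Phi A)⁻¹) := by group
      _ = 1 := by rw [h2]; group
  · intro h1
    have h2 : Phi h * (Phi A)⁻¹ = (Phi A)⁻¹ * (Phi (tGL h))⁻¹ := by
      calc Phi h * (Phi A)⁻¹ = (Phi A)⁻¹ * (Phi (tGL h))⁻¹ *
            (Phi (tGL h) * Phi A * Phi h * (Phi A)⁻¹) := by group
        _ = _ := by rw [h1, mul_one]
    rw [← mul_assoc, h2, mul_assoc, mul_assoc, key]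

/-- The group of matrices whose action commutes with `gam A`. -/
def SimGL (A : GL (Fin n) F) : Subgroup (GL (Fin n) F) :=
  (Subgroup.centralizer {gam A}).comap Phi

lemma mem_SimGL_iff (A h : GL (Fin n) F) :
    h ∈ SimGL A ↔ ∃ c : Fˣ, (h : Matrix (Fin n) (Fin n) F)ᵀ * (A : Matrix (Fin n) (Fin n) F) *
      (h : Matrix (Fin n) (Fin n) F) = (c : F) • (A : Matrix (Fin n) (Fin n) F) := by
  unfold SimGL
  rw [Subgroup.mem_comap, Subgroup.mem_centralizer_iff]
  simp only [Set.mem_singleton_iff, forall_eq]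
  rw [eq_comm, comm_gam_iff, Cfsg.Geo.mem_scalars_iff]
  have hA : ((A⁻¹ : GL (Fin n) F) : Matrix (Fin n) (Fin n) F) * (A : Matrix (Fin n) (Fin n) F) = 1 :=
    Units.inv_mul A
  have hA' : (A : Matrix (Fin n) (Fin n) F) * ((A⁻¹ : GL (Fin n) F) : Matrix (Fin n) (Fin n) F) = 1 :=
    Units.mul_inv A
  constructor
  · rintro ⟨c, hc⟩
    refine ⟨c, ?_⟩
    rw [Units.val_mul, Units.val_mul, Units.val_mul, tGL_coe] at hc
    calc (h : Matrix (Fin n) (Fin n) F)ᵀ * (A : Matrix (Fin n) (Fin n) F) * (h : Matrix (Fin n) (Fin n) F)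
        = (h : Matrix (Fin n) (Fin n) F)ᵀ * (A : Matrix (Fin n) (Fin n) F) * (h : Matrix (Fin n) (Fin n) F) *
          (((A⁻¹ : GL (Fin n) F) : Matrix (Fin n) (Fin n) F) * (A : Matrix (Fin n) (Fin n) F)) := by
          rw [hA, mul_one]
      _ = (c : F) • (A : Matrix (Fin n) (Fin n) F) := by
          rw [← mul_assoc, hc, Matrix.smul_mul, one_mul]
  · rintro ⟨c, hc⟩
    refine ⟨c, ?_⟩
    rw [Units.val_mul, Units.val_mul, Units.val_mul, tGL_coe, hc, Matrix.smul_mul, hA']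

lemma scalars_le_SimGL (A : GL (Fin n) F) : Cfsg.Geo.scalars (Fin n) F ≤ SimGL A := by
  intro h hh
  unfold SimGL
  rw [Subgroup.mem_comap, (Phi_eq_one_iff h).2 hh]
  exact one_mem _

/-- The first isomorphism theorem for the centraliser of `gam A`. -/
theorem centralizer_equiv (A : GL (Fin n) F) :
    Nonempty (↥(Cfsg.inndiagPSL n F ⊓ Subgroup.centralizer {gam A}) ≃*
      ↥(SimGL A) ⧸ (Cfsg.Geo.scalars (Fin n) F).subgroupOf (SimGL A)) := by
  have h1 : Cfsg.inndiagPSL n F ⊓ Subgroup.centralizer {gam A} = (Phi.domRestrict (SimGL A)).range := by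
    rw [MonoidHom.domRestrict_range, inndiag_eq]
    unfold SimGL
    rw [Subgroup.map_comap_eq]
  have h2 : (Phi.domRestrict (SimGL A)).ker = (Cfsg.Geo.scalars (Fin n) F).subgroupOf (SimGL A) := by
    ext ⟨h, hh⟩
    rw [MonoidHom.mem_ker, Subgroup.mem_subgroupOf]
    show Phi h = 1 ↔ _
    rw [Phi_eq_one_iff]
  rw [h1]
  exact ⟨(QuotientGroup.quotientKerEquivRange (Phi.domRestrict (SimGL A))).symm.trans
    (QuotientGroup.quotientMulEquivOfEq h2)⟩

end Cfsg.Agent.Lib.Helper19.PSLGraph
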