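import Mathlib
import Cfsg.Prelude.Def_LieTypeDatum
import Cfsg.Agent.Lib.Helper19.PSLGraph

/-!
# Helper19: similarity groups of matrices, transfer along linear equivalences
-/

set_option autoImplicit false

namespace Cfsg.Agent.Lib.Helper19.PSLGraph

open Matrix
open scoped MatrixGroups

section quad

variable {n : ℕ} {F : Type*} [Field F]

/-- The quadratic function of a matrix. -/
def QA (A : Matrix (Fin n) (Fin n) F) (v : Fin n → F) : F := v ⬝ᵥ (A *ᵥ v)

lemma dot_mulVec_mulVec (h A : Matrix (Fin n) (Fin n) F) (u v : Fin n → F) :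
    (h *ᵥ u) ⬝ᵥ (A *ᵥ (h *ᵥ v)) = u ⬝ᵥ ((hᵀ * A * h) *ᵥ v) := by
  rw [← Matrix.mulVec_mulVec, ← Matrix.mulVec_mulVec, Matrix.dotProduct_mulVec u hᵀ,
    Matrix.vecMul_transpose]

lemma eq_zero_of_quad_zero (h2 : (2 : F) ≠ 0) (M : Matrix (Fin n) (Fin n) F) (hM : Mᵀ = M)
    (h : ∀ v : Fin n → F, v ⬝ᵥ (M *ᵥ v) = 0) : M = 0 := by
  classical
  have hb : ∀ u v : Fin n → F, u ⬝ᵥ (M *ᵥ v) + v ⬝ᵥ (M *ᵥ u) = 0 := by
    intro u v
    have := h (u + v)
    rw [Matrix.mulVec_add, add_dotProduct, dotProduct_add, dotProduct_add, h u, h v] at this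
    linear_combination this
  ext i j
  have h1 := hb (Pi.single i 1) (Pi.single j 1)
  simp only [Matrix.mulVec_single_one, single_one_dotProduct, Matrix.col_apply] at h1
  have h3 : M j i = M i j := by
    conv_lhs => rw [← hM]
    rfl
  rw [h3] at h1
  have : (2 : F) * M i j = 0 := by linear_combination h1
  rcases mul_eq_zero.1 this with h4 | h4
  · exact absurd h4 h2
  · exact h4

lemma SimGL_eq_quadSim (h2 : (2 : F) ≠ 0) (A : GL (Fin n) F)
    (hA : (A : Matrix (Fin n) (Fin n) F)ᵀ = (A : Matrix (Fin n) (Fin n) F)) :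
    SimGL A = Cfsg.Geo.quadSimilarityGroup (QA (A : Matrix (Fin n) (Fin n) F)) := by
  ext h
  rw [mem_SimGL_iff]
  show _ ↔ ∃ c : Fˣ, ∀ v, QA (A : Matrix (Fin n) (Fin n) F) ((h : Matrix (Fin n) (Fin n) F) *ᵥ v) =
    (c : F) * QA (A : Matrix (Fin n) (Fin n) F) v
  constructor
  · rintro ⟨c, hc⟩
    refine ⟨c, fun v => ?_⟩
    unfold QA
    rw [dot_mulVec_mulVec, hc, Matrix.smul_mulVec, dotProduct_smul, smul_eq_mul]
  · rintro ⟨c, hc⟩
    refine ⟨c, ?_⟩
    have hz : (h : Matrix (Fin n) (Fin n) F)ᵀ * (A : Matrix (Fin n) (Fin n) F) *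
        (h : Matrix (Fin n) (Fin n) F) - (c : F) • (A : Matrix (Fin n) (Fin n) F) = 0 := by
      apply eq_zero_of_quad_zero h2
      · rw [transpose_sub, transpose_smul, transpose_mul, transpose_mul, transpose_transpose, hA,
          mul_assoc]
      · intro v
        have := hc v
        unfold QA at this
        rw [dot_mulVec_mulVec] at this
        rw [Matrix.sub_mulVec, dotProduct_sub, this, Matrix.smul_mulVec, dotProduct_smul, smul_eq_mul,
          sub_self]
    exact sub_eq_zero.1 hz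

end quad

section transfer

variable {F : Type*} [Field F] {ι₁ ι₂ : Type} [Fintype ι₁] [DecidableEq ι₁] [Fintype ι₂]
  [DecidableEq ι₂]

/-- Transport of invertible matrices along a linear equivalence. -/
noncomputable def theta (E : (ι₁ → F) ≃ₗ[F] (ι₂ → F)) : GL ι₁ F →* GL ι₂ F :=
  MonoidHom.mk' (fun h =>
    ⟨LinearMap.toMatrix' E.toLinearMap * (h : Matrix ι₁ ι₁ F) * LinearMap.toMatrix' E.symm.toLinearMap,
      LinearMap.toMatrix' E.toLinearMap * ((h⁻¹ : GL ι₁ F) : Matrix ι₁ ι₁ F) *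
        LinearMap.toMatrix' E.symm.toLinearMap, by
      have h1 : LinearMap.toMatrix' E.symm.toLinearMap * LinearMap.toMatrix' E.toLinearMap =
          (1 : Matrix ι₁ ι₁ F) := by
        rw [← LinearMap.toMatrix'_comp]
        have : E.symm.toLinearMap.comp E.toLinearMap = LinearMap.id := by
          apply LinearMap.ext; intro x; simp
        rw [this, LinearMap.toMatrix'_id]
      have h2 : LinearMap.toMatrix' E.toLinearMap * LinearMap.toMatrix' E.symm.toLinearMap =
          (1 : Matrix ι₂ ι₂ F) := by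
        rw [← LinearMap.toMatrix'_comp]
        have : E.toLinearMap.comp E.symm.toLinearMap = LinearMap.id := by
          apply LinearMap.ext; intro x; simp
        rw [this, LinearMap.toMatrix'_id]
      calc LinearMap.toMatrix' E.toLinearMap * (h : Matrix ι₁ ι₁ F) *
            LinearMap.toMatrix' E.symm.toLinearMap *
            (LinearMap.toMatrix' E.toLinearMap * ((h⁻¹ : GL ι₁ F) : Matrix ι₁ ι₁ F) *
              LinearMap.toMatrix' E.symm.toLinearMap)
          = LinearMap.toMatrix' E.toLinearMap * ((h : Matrix ι₁ ι₁ F) *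
            (LinearMap.toMatrix' E.symm.toLinearMap * LinearMap.toMatrix' E.toLinearMap) *
              ((h⁻¹ : GL ι₁ F) : Matrix ι₁ ι₁ F)) * LinearMap.toMatrix' E.symm.toLinearMap := by
            simp only [Matrix.mul_assoc]
        _ = 1 := by rw [h1, mul_one, Units.mul_inv, Matrix.mul_one, h2], by
      have h1 : LinearMap.toMatrix' E.symm.toLinearMap * LinearMap.toMatrix' E.toLinearMap =
          (1 : Matrix ι₁ ι₁ F) := by
        rw [← LinearMap.toMatrix'_comp]
        have : E.symm.toLinearMap.comp E.toLinearMap = LinearMap.id := by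
          apply LinearMap.ext; intro x; simp
        rw [this, LinearMap.toMatrix'_id]
      have h2 : LinearMap.toMatrix' E.toLinearMap * LinearMap.toMatrix' E.symm.toLinearMap =
          (1 : Matrix ι₂ ι₂ F) := by
        rw [← LinearMap.toMatrix'_comp]
        have : E.toLinearMap.comp E.symm.toLinearMap = LinearMap.id := by
          apply LinearMap.ext; intro x; simp
        rw [this, LinearMap.toMatrix'_id]
      calc LinearMap.toMatrix' E.toLinearMap * ((h⁻¹ : GL ι₁ F) : Matrix ι₁ ι₁ F) *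
            LinearMap.toMatrix' E.symm.toLinearMap *
            (LinearMap.toMatrix' E.toLinearMap * (h : Matrix ι₁ ι₁ F) *
              LinearMap.toMatrix' E.symm.toLinearMap)
          = LinearMap.toMatrix' E.toLinearMap * (((h⁻¹ : GL ι₁ F) : Matrix ι₁ ι₁ F) *
            (LinearMap.toMatrix' E.symm.toLinearMap * LinearMap.toMatrix' E.toLinearMap) *
              (h : Matrix ι₁ ι₁ F)) * LinearMap.toMatrix' E.symm.toLinearMap := by
            simp only [Matrix.mul_assoc]
        _ = 1 := by rw [h1, mul_one, Units.inv_mul, Matrix.mul_one, h2]⟩) (by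
    intro g h
    apply Units.ext
    have h1 : LinearMap.toMatrix' E.symm.toLinearMap * LinearMap.toMatrix' E.toLinearMap =
        (1 : Matrix ι₁ ι₁ F) := by
      rw [← LinearMap.toMatrix'_comp]
      have : E.symm.toLinearMap.comp E.toLinearMap = LinearMap.id := by
        apply LinearMap.ext; intro x; simp
      rw [this, LinearMap.toMatrix'_id]
    show LinearMap.toMatrix' E.toLinearMap * ((g * h : GL ι₁ F) : Matrix ι₁ ι₁ F) *
        LinearMap.toMatrix' E.symm.toLinearMap =
      LinearMap.toMatrix' E.toLinearMap * (g : Matrix ι₁ ι₁ F) * LinearMap.toMatrix' E.symm.toLinearMap *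
        (LinearMap.toMatrix' E.toLinearMap * (h : Matrix ι₁ ι₁ F) * LinearMap.toMatrix' E.symm.toLinearMap)
    calc LinearMap.toMatrix' E.toLinearMap * ((g * h : GL ι₁ F) : Matrix ι₁ ι₁ F) *
          LinearMap.toMatrix' E.symm.toLinearMap
        = LinearMap.toMatrix' E.toLinearMap * ((g : Matrix ι₁ ι₁ F) * (1 : Matrix ι₁ ι₁ F) *
          (h : Matrix ι₁ ι₁ F)) * LinearMap.toMatrix' E.symm.toLinearMap := by
          rw [mul_one, Units.val_mul]
      _ = _ := by
          rw [← h1]
          simp only [Matrix.mul_assoc])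

lemma theta_coe (E : (ι₁ → F) ≃ₗ[F] (ι₂ → F)) (h : GL ι₁ F) :
    ((theta E h : GL ι₂ F) : Matrix ι₂ ι₂ F) =
      LinearMap.toMatrix' E.toLinearMap * (h : Matrix ι₁ ι₁ F) *
        LinearMap.toMatrix' E.symm.toLinearMap := rfl

lemma theta_mulVec (E : (ι₁ → F) ≃ₗ[F] (ι₂ → F)) (h : GL ι₁ F) (v : ι₁ → F) :
    ((theta E h : GL ι₂ F) : Matrix ι₂ ι₂ F) *ᵥ (E v) = E ((h : Matrix ι₁ ι₁ F) *ᵥ v) := by
  rw [theta_coe, ← Matrix.mulVec_mulVec, ← Matrix.mulVec_mulVec, LinearMap.toMatrix'_mulVec,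
    LinearMap.toMatrix'_mulVec]
  simp

lemma theta_symm_theta (E : (ι₁ → F) ≃ₗ[F] (ι₂ → F)) (h : GL ι₁ F) :
    theta E.symm (theta E h) = h := by
  apply Units.ext
  rw [theta_coe, theta_coe, LinearEquiv.symm_symm]
  have h1 : LinearMap.toMatrix' E.symm.toLinearMap * LinearMap.toMatrix' E.toLinearMap =
      (1 : Matrix ι₁ ι₁ F) := by
    rw [← LinearMap.toMatrix'_comp]
    have : E.symm.toLinearMap.comp E.toLinearMap = LinearMap.id := by
      apply LinearMap.ext; intro x; simp
    rw [this, LinearMap.toMatrix'_id]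
  calc LinearMap.toMatrix' E.symm.toLinearMap * (LinearMap.toMatrix' E.toLinearMap *
        (h : Matrix ι₁ ι₁ F) * LinearMap.toMatrix' E.symm.toLinearMap) *
        LinearMap.toMatrix' E.toLinearMap
      = (LinearMap.toMatrix' E.symm.toLinearMap * LinearMap.toMatrix' E.toLinearMap) *
        (h : Matrix ι₁ ι₁ F) * (LinearMap.toMatrix' E.symm.toLinearMap *
        LinearMap.toMatrix' E.toLinearMap) := by simp only [Matrix.mul_assoc]
    _ = _ := by rw [h1, one_mul, mul_one]

lemma theta_scalar (E : (ι₁ → F) ≃ₗ[F] (ι₂ → F)) (h : GL ι₁ F)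
    (hh : h ∈ Cfsg.Geo.scalars ι₁ F) : theta E h ∈ Cfsg.Geo.scalars ι₂ F := by
  rw [Cfsg.Geo.mem_scalars_iff] at hh ⊢
  obtain ⟨c, hc⟩ := hh
  refine ⟨c, ?_⟩
  have h2 : LinearMap.toMatrix' E.toLinearMap * LinearMap.toMatrix' E.symm.toLinearMap =
      (1 : Matrix ι₂ ι₂ F) := by
    rw [← LinearMap.toMatrix'_comp]
    have : E.toLinearMap.comp E.symm.toLinearMap = LinearMap.id := by
      apply LinearMap.ext; intro x; simp
    rw [this, LinearMap.toMatrix'_id]
  rw [theta_coe, hc, Matrix.mul_smul, Matrix.smul_mul, Matrix.mul_one, h2]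

lemma theta_scalar_iff (E : (ι₁ → F) ≃ₗ[F] (ι₂ → F)) (h : GL ι₁ F) :
    theta E h ∈ Cfsg.Geo.scalars ι₂ F ↔ h ∈ Cfsg.Geo.scalars ι₁ F := by
  constructor
  · intro hh
    have := theta_scalar E.symm _ hh
    rwa [theta_symm_theta] at this
  · exact theta_scalar E h

/-- Transfer of projective quotients. -/
theorem projQuot_congr (E : (ι₁ → F) ≃ₗ[F] (ι₂ → F)) (S₁ : Subgroup (GL ι₁ F))
    (S₂ : Subgroup (GL ι₂ F)) (hS : ∀ h, h ∈ S₁ ↔ theta E h ∈ S₂) :
    Nonempty (Cfsg.projQuot S₁ ≃* Cfsg.projQuot S₂) := by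
  let f : ↥S₁ →* Cfsg.projQuot S₂ :=
    (QuotientGroup.mk' ((Cfsg.Geo.scalars ι₂ F).subgroupOf S₂)).comp
      (((theta E).domRestrict S₁).codRestrict S₂ (fun x => (hS x.1).1 x.2))
  have hf : ∀ x : ↥S₁, f x = QuotientGroup.mk ⟨theta E x.1, (hS x.1).1 x.2⟩ := fun x => rfl
  have hsurj : Function.Surjective f := by
    intro y
    induction y using QuotientGroup.induction_on with
    | H y =>
      obtain ⟨y, hy⟩ := y
      have hy' : theta E.symm y ∈ S₁ := by
        rw [hS]
        have := theta_symm_theta E.symm y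
        rw [LinearEquiv.symm_symm] at this
        rwa [this]
      refine ⟨⟨theta E.symm y, hy'⟩, ?_⟩
      rw [hf]
      congr 1
      apply Subtype.ext
      have := theta_symm_theta E.symm y
      rw [LinearEquiv.symm_symm] at this
      exact this
  have hker : f.ker = (Cfsg.Geo.scalars ι₁ F).subgroupOf S₁ := by
    ext x
    rw [MonoidHom.mem_ker, hf, QuotientGroup.eq_one_iff, Subgroup.mem_subgroupOf,
      Subgroup.mem_subgroupOf]
    exact theta_scalar_iff E x.1
  exact ⟨(QuotientGroup.quotientMulEquivOfEq hker.symm).trans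
    (QuotientGroup.quotientKerEquivOfSurjective f hsurj)⟩

/-- Transfer for similarity groups of quadratic functions. -/
theorem pgo_congr (E : (ι₁ → F) ≃ₗ[F] (ι₂ → F)) (Q₁ : (ι₁ → F) → F) (Q₂ : (ι₂ → F) → F)
    (hQ : ∀ v, Q₂ (E v) = Q₁ v) : Nonempty (Cfsg.PGO F Q₁ ≃* Cfsg.PGO F Q₂) := by
  apply projQuot_congr E
  intro h
  constructor
  · rintro ⟨c, hc⟩
    refine ⟨c, fun w => ?_⟩
    obtain ⟨v, rfl⟩ := E.surjective w
    rw [theta_mulVec, hQ, hQ, hc]
  · rintro ⟨c, hc⟩
    refine ⟨c, fun v => ?_⟩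
    have := hc (E v)
    rw [theta_mulVec, hQ, hQ] at this
    exact this

end transfer

end Cfsg.Agent.Lib.Helper19.PSLGraph
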