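-- Orthogonal bases with a constant value of `Q` (odd dimension; even dimension with square
-- discriminant), over a finite field of odd characteristic.
import Mathlib
import Cfsg.Prelude.Def_Classical
import Cfsg.Prelude.Def_ClassicalGeometry
import Cfsg.Agent.Lib.Helper19.OrthSpinor
import Cfsg.Agent.Lib.Helper19.OrthNegOne
import Cfsg.Agent.Lib.Helper19.OrthDiag
import Cfsg.Agent.Lib.Helper19.QuadDisc

set_option autoImplicit false

namespace Cfsg.Agent.Lib.Helper19.OrthRefl

open Matrix QuadraticMap Cfsg.Agent.Lib.Helper19.QuadWitt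

variable {ι : Type} [Fintype ι] [DecidableEq ι] {F : Type*} [Field F]

/-- The Gram determinant of an orthogonal family of full size, compared with the standard one. -/
theorem gram_det_orthFam (h2 : (2 : F) ≠ 0) (Q : QuadraticForm F (ι → F))
    (v : Fin (Module.finrank F (ι → F)) → (ι → F)) (hv : IsOrthFam Q v) :
    ∃ u : F, u ≠ 0 ∧ (gram Q (Pi.basisFun F ι)).det
      = u ^ 2 * (2 ^ Module.finrank F (ι → F) * ∏ i, Q (v i)) := by
  obtain ⟨u, hu, hdet⟩ := gram_det_change Q (Pi.basisFun F ι) (hv.basis h2 Q rfl)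
  refine ⟨u, hu, ?_⟩
  have hgram : gram Q (hv.basis h2 Q rfl) = Matrix.diagonal (fun i => 2 * Q (v i)) := by
    ext i j
    rw [Cfsg.Agent.Lib.Helper19.QuadWitt.gram_apply, IsOrthFam.basis_apply, IsOrthFam.basis_apply]
    by_cases hij : i = j
    · subst hij
      rw [Matrix.diagonal_apply_eq, polar_self']
    · rw [Matrix.diagonal_apply_ne _ hij, hv.1 i j hij]
  rw [hdet, hgram, Matrix.det_diagonal, Finset.prod_mul_distrib, Finset.prod_const,
    Finset.card_univ, Fintype.card_fin]

/-- The product of the values of a family which is constant away from one index. -/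
theorem prod_const_except {d : ℕ} (f : Fin d → F) (c : F) (l : Fin d)
    (h : ∀ i, i ≠ l → f i = c) : ∏ i, f i = f l * c ^ (d - 1) := by
  classical
  rw [← Finset.mul_prod_erase Finset.univ f (Finset.mem_univ l)]
  congr 1
  rw [Finset.prod_congr rfl (fun i hi => h i (Finset.ne_of_mem_erase hi)), Finset.prod_const,
    Finset.card_erase_of_mem (Finset.mem_univ l), Finset.card_univ, Fintype.card_fin]

/-- Rescaling one member of an orthogonal family. -/
theorem IsOrthFam.rescale (Q : QuadraticForm F (ι → F)) {d : ℕ} {v : Fin d → (ι → F)}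
    (hv : IsOrthFam Q v) (l : Fin d) (s : F) (hs : s ≠ 0) :
    IsOrthFam Q (fun i => if i = l then s • v l else v i) := by
  constructor
  · intro i j hij
    dsimp only
    by_cases hi : i = l
    · subst hi
      rw [if_pos rfl, if_neg (Ne.symm hij), QuadraticMap.polar_smul_left, hv.1 i j hij, smul_zero]
    · by_cases hj : j = l
      · subst hj
        rw [if_neg hi, if_pos rfl, QuadraticMap.polar_smul_right, hv.1 i j hij, smul_zero]
      · rw [if_neg hi, if_neg hj]; exact hv.1 i j hij
  · intro i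
    dsimp only
    by_cases hi : i = l
    · subst hi
      rw [if_pos rfl, QuadraticMap.map_smul, smul_eq_mul]
      exact mul_ne_zero (mul_ne_zero hs hs) (hv.2 i)
    · rw [if_neg hi]; exact hv.2 i

/-- In odd dimension there is an orthogonal basis with a constant value of `Q`. -/
theorem exists_orthFam_all_const_odd [Fintype F] (h2 : (2 : F) ≠ 0) (Q : QuadraticForm F (ι → F))
    (hQ : (QuadraticMap.polarBilin Q).Nondegenerate) (hodd : Odd (Module.finrank F (ι → F))) :
    ∃ c : F, c ≠ 0 ∧ ∃ v : Fin (Module.finrank F (ι → F)) → (ι → F), IsOrthFam Q v ∧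
      ∀ i, Q (v i) = c := by
  classical
  set d := Module.finrank F (ι → F) with hd
  set D := (gram Q (Pi.basisFun F ι)).det with hD
  have hD0 : D ≠ 0 := by
    obtain ⟨v₀, h1, h3⟩ := exists_orthogonal_basis h2 Q hQ
    obtain ⟨u, hu, hdet⟩ := gram_det_orthFam h2 Q v₀ ⟨h1, h3⟩
    rw [hD, hdet]
    exact mul_ne_zero (pow_ne_zero 2 hu) (mul_ne_zero (pow_ne_zero _ h2)
      (Finset.prod_ne_zero_iff.2 (fun i _ => h3 i)))
  set c := 2 * D with hc
  have hc0 : c ≠ 0 := mul_ne_zero h2 hD0
  obtain ⟨e, he⟩ := hodd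
  have hd1 : d - 1 + 1 ≤ d := by omega
  obtain ⟨v, hv, hvc⟩ := exists_orthFam_const h2 Q hQ c hc0 (d - 1) hd1
  set l : Fin d := ⟨d - 1, by omega⟩ with hl
  have hvc' : ∀ i, i ≠ l → Q (v i) = c := by
    intro i hi
    apply hvc
    have : (i : ℕ) ≠ d - 1 := fun h => hi (Fin.ext h)
    have := i.2
    omega
  obtain ⟨u, hu, hdet⟩ := gram_det_orthFam h2 Q v hv
  rw [prod_const_except (fun i => Q (v i)) c l hvc'] at hdet
  set δ := Q (v l) with hδ
  have hδ0 : δ ≠ 0 := hv.2 l
  have hde : d - 1 = 2 * e := by omega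
  rw [← hD, ← hd, hde, he] at hdet
  -- `c * δ` is a square
  set P := u * (2 ^ e * c ^ e) with hP
  have hP0 : P ≠ 0 := mul_ne_zero hu (mul_ne_zero (pow_ne_zero _ h2) (pow_ne_zero _ hc0))
  have hDP : D = 2 * P ^ 2 * δ := by
    calc D = u ^ 2 * (2 ^ (2 * e + 1) * (δ * c ^ (2 * e))) := hdet
      _ = 2 * P ^ 2 * δ := by rw [hP]; ring
  have hsq : c * (P * P) * δ = D * D := by
    have : D * D = D * (2 * P ^ 2 * δ) := by rw [← hDP]
    rw [this, hc]; ring
  have ht0 : D / P ≠ 0 := div_ne_zero hD0 hP0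
  set s := c / (D / P) with hs
  have hs0 : s ≠ 0 := div_ne_zero hc0 ht0
  refine ⟨c, hc0, fun i => if i = l then s • v l else v i, hv.rescale Q l s hs0, ?_⟩
  intro i
  dsimp only
  by_cases hi : i = l
  · subst hi
    rw [if_pos rfl, QuadraticMap.map_smul, smul_eq_mul, ← hδ, hs]
    field_simp
    rw [pow_two]
    linear_combination hsq
  · rw [if_neg hi]; exact hvc' i hi

end Cfsg.Agent.Lib.Helper19.OrthRefl
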