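import Mathlib
import Cfsg.Prelude.Def_LieTypeDatum
import Cfsg.Agent.Lib.Helper19.PSLGraph
import Cfsg.Agent.Lib.Helper19.PSLGraph2
import Cfsg.Agent.Lib.Helper19.QuadWitt
import Cfsg.Agent.Lib.Helper19.QuadStd
import Cfsg.Agent.Lib.Helper19.QuadDisc
import Cfsg.Agent.S2623

/-!
# Helper19: the type of the quadratic form of a symmetric matrix
-/

set_option autoImplicit false

namespace Cfsg.Agent.Lib.Helper19.PSLGraph

open Matrix QuadraticMap
open scoped MatrixGroups
open Cfsg.Agent.Lib.Helper19.QuadWitt Cfsg.Agent.Lib.Helper19.QuadStd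

section symm

variable {n : ℕ} {F : Type*} [Field F]

/-- The quadratic form of a matrix. -/
noncomputable def qfA (A : Matrix (Fin n) (Fin n) F) : QuadraticForm F (Fin n → F) :=
  (Matrix.toBilin' A).toQuadraticMap

lemma qfA_apply (A : Matrix (Fin n) (Fin n) F) (v : Fin n → F) : qfA A v = QA A v := by
  unfold qfA QA
  rw [LinearMap.BilinMap.toQuadraticMap_apply, Matrix.toBilin'_apply']

lemma coe_qfA (A : Matrix (Fin n) (Fin n) F) : ⇑(qfA A) = QA A := funext (qfA_apply A)

lemma polar_qfA (A : Matrix (Fin n) (Fin n) F) (hA : Aᵀ = A) (u v : Fin n → F) :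
    polar ⇑(qfA A) u v = 2 * (u ⬝ᵥ (A *ᵥ v)) := by
  unfold polar
  rw [qfA_apply, qfA_apply, qfA_apply]
  unfold QA
  have hsymm : v ⬝ᵥ (A *ᵥ u) = u ⬝ᵥ (A *ᵥ v) := by
    rw [Matrix.dotProduct_mulVec, ← Matrix.mulVec_transpose, hA, dotProduct_comm]
  rw [Matrix.mulVec_add, add_dotProduct, dotProduct_add, dotProduct_add, hsymm]
  ring

lemma qfA_nondeg (h2 : (2 : F) ≠ 0) (A : Matrix (Fin n) (Fin n) F) (hA : Aᵀ = A) (hdet : IsUnit A.det) :
    (polarBilin (qfA A)).Nondegenerate := by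
  classical
  apply nondegenerate_of_sep
  intro v hv
  have h1 : ∀ w : Fin n → F, w ⬝ᵥ (A *ᵥ v) = 0 := by
    intro w
    have := hv w
    rw [polar_comm, polar_qfA A hA] at this
    rcases mul_eq_zero.1 this with h | h
    · exact absurd h h2
    · exact h
  have h3 : A *ᵥ v = 0 := by
    funext i
    have := h1 (Pi.single i 1)
    rwa [single_one_dotProduct] at this
  have hinj := Matrix.mulVec_injective_iff_isUnit.2 ((Matrix.isUnit_iff_isUnit_det A).2 hdet)
  apply hinj
  rw [h3, Matrix.mulVec_zero]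

lemma gram_qfA (A : Matrix (Fin n) (Fin n) F) (hA : Aᵀ = A) :
    QuadWitt.gram (qfA A) (Pi.basisFun F (Fin n)) = (2 : F) • A := by
  classical
  ext i j
  rw [QuadWitt.gram_apply, polar_qfA A hA, Matrix.smul_apply, smul_eq_mul]
  simp [Pi.basisFun_apply, Matrix.mulVec_single_one, single_one_dotProduct]

end symm

section parity

variable {F : Type*} [Field F] [Fintype F]

lemma isSquare_neg_one_pow_iff (hodd : Odd (Fintype.card F)) (m : ℕ) :
    IsSquare ((-1 : F) ^ m) ↔ Even (2 * m * (Fintype.card F - 1) / 4) := by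
  obtain ⟨t, ht⟩ := hodd
  have h1 : 2 * m * (Fintype.card F - 1) / 4 = m * t := by
    rw [ht]
    have : 2 * m * (2 * t + 1 - 1) = 4 * (m * t) := by
      rw [Nat.add_sub_cancel]
      ring
    rw [this, Nat.mul_div_cancel_left _ (by norm_num : 0 < 4)]
  rw [h1, Nat.even_mul]
  constructor
  · intro hsq
    by_cases hm : Even m
    · exact Or.inl hm
    · right
      rw [Nat.not_even_iff_odd] at hm
      rw [hm.neg_one_pow] at hsq
      have := FiniteField.isSquare_neg_one_iff.1 hsq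
      rw [ht] at this
      by_contra hto
      rw [Nat.not_even_iff_odd] at hto
      obtain ⟨s, hs⟩ := hto
      apply this
      rw [hs]
      omega
  · rintro (hm | ht')
    · rw [hm.neg_one_pow]
      exact ⟨1, by ring⟩
    · have : IsSquare (-1 : F) := by
        rw [FiniteField.isSquare_neg_one_iff, ht]
        obtain ⟨s, hs⟩ := ht'
        rw [hs]
        omega
      exact this.pow m

end parity

section pgo

variable {F : Type*} [Field F] [Fintype F]

theorem pgo_symm_even (h2 : (2 : F) ≠ 0) (m : ℕ) (hm : 1 ≤ m)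
    (A : Matrix (Fin (2 * m)) (Fin (2 * m)) F) (hA : Aᵀ = A) (hdet : IsUnit A.det) :
    (IsSquare ((-1 : F) ^ m * A.det) →
      Nonempty (Cfsg.PGO F (QA A) ≃* Cfsg.PGO F (Cfsg.quadFormPlus m F))) ∧
    (¬ IsSquare ((-1 : F) ^ m * A.det) → ∃ a b : F,
      (∀ z₁ z₂ : F, z₁ ^ 2 + a * z₁ * z₂ + b * z₂ ^ 2 = 0 → z₁ = 0 ∧ z₂ = 0) ∧
      Nonempty (Cfsg.PGO F (QA A) ≃* Cfsg.PGO F (Cfsg.quadFormMinus (m - 1) F a b))) := by
  classical
  obtain ⟨k, rfl⟩ : ∃ k, m = k + 1 := ⟨m - 1, by omega⟩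
  have hQ := qfA_nondeg h2 A hA hdet
  have hV : Module.finrank F (Fin (2 * (k + 1)) → F) = 2 * (k + 1) := Module.finrank_fin_fun F
  have hgram : (QuadWitt.gram (qfA A) (Pi.basisFun F (Fin (2 * (k + 1))))).det =
      (2 : F) ^ (2 * (k + 1)) * A.det := by
    rw [gram_qfA A hA, Matrix.det_smul, Fintype.card_fin]
  have h2k : (2 : F) ^ (k + 1) ≠ 0 := pow_ne_zero _ h2
  have hs : ((-1 : F) ^ k) * ((-1 : F) ^ k) = 1 := by
    rw [← pow_add, ← two_mul, pow_mul]
    simp
  rcases even_structure (Q := qfA A) hQ hV with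
    ⟨e, f, h⟩ | ⟨k', hk', e, f, x, y, h, hx, hy, hQx, hxy, hζ⟩
  · have hsq : IsSquare ((-1 : F) ^ (k + 1) * A.det) := by
      obtain ⟨u, hu, hdu⟩ := Cfsg.Agent.S2623.det_of_hyp hV h (Pi.basisFun F (Fin (2 * (k + 1))))
      rw [hgram, det_Jp] at hdu
      refine ⟨u / 2 ^ (k + 1), ?_⟩
      rw [div_mul_div_comm, eq_div_iff (mul_ne_zero h2k h2k), pow_succ (-1 : F)]
      linear_combination (-((-1 : F) ^ k)) * hdu + u ^ 2 * hs
    refine ⟨fun _ => ?_, fun hn => absurd hsq hn⟩
    have hli := h.linearIndependent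
    let b := basisOfLinearIndependentOfCardEqFinrank hli (by rw [hV]; simp; ring)
    have hb : ⇑b = Sum.elim e f := coe_basisOfLinearIndependentOfCardEqFinrank _ _
    have hE : ∀ u, Cfsg.quadFormPlus (k + 1) F (b.equivFun u) = QA A u := by
      intro u
      rw [← qfA_apply]
      conv_rhs => rw [← b.sum_repr u, hb, Q_fam_hyp h]
      rfl
    exact pgo_congr b.equivFun (QA A) (Cfsg.quadFormPlus (k + 1) F) hE
  · obtain rfl : k' = k := by omega
    have hnsq : ¬ IsSquare ((-1 : F) ^ (k' + 1) * A.det) := by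
      obtain ⟨u, hu, hdu⟩ := Cfsg.Agent.S2623.det_of_ell hV h hx hy hQx hxy hζ
        (Pi.basisFun F (Fin (2 * (k' + 1))))
      rw [hgram, det_Jp] at hdu
      intro hsq
      apply Cfsg.Agent.S2623.not_isSquare_disc h2 hζ
      obtain ⟨r, hr⟩ := hsq
      refine ⟨r * 2 ^ (k' + 1) / u, ?_⟩
      rw [div_mul_div_comm, eq_div_iff (mul_ne_zero hu hu)]
      rw [pow_succ (-1 : F)] at hr
      linear_combination ((2 : F) ^ (k' + 1) * 2 ^ (k' + 1)) * hr + ((-1 : F) ^ k') * hdu
        - ((1 - 4 * (qfA A) y) * u ^ 2) * hs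
    refine ⟨fun hs => absurd hs hnsq, fun _ => ?_⟩
    have hli := elliptic_linearIndependent h hx hy hQx hxy hζ
    let b := basisOfLinearIndependentOfCardEqFinrank hli (by rw [hV]; simp; ring)
    have hb : ⇑b = Sum.elim (Sum.elim e f) ![x, y] :=
      coe_basisOfLinearIndependentOfCardEqFinrank _ _
    have hE : ∀ u, Cfsg.quadFormMinus k' F 1 (qfA A y) (b.equivFun u) = QA A u := by
      intro u
      rw [← qfA_apply]
      conv_rhs => rw [← b.sum_repr u, hb, Q_fam_pairs h hx hy, hQx, hxy]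
      unfold Cfsg.quadFormMinus
      rw [Module.Basis.equivFun_apply]
      ring
    refine ⟨1, qfA A y, ?_, ?_⟩
    · intro z₁ z₂ hz
      by_cases hz2 : z₂ = 0
      · subst hz2
        refine ⟨?_, rfl⟩
        have : z₁ ^ 2 = 0 := by linear_combination hz
        exact pow_eq_zero_iff (by norm_num) |>.1 this
      · exfalso
        apply hζ (z₁ / z₂)
        field_simp
        linear_combination hz
    · rw [Nat.add_sub_cancel]
      exact pgo_congr b.equivFun (QA A) (Cfsg.quadFormMinus k' F 1 (qfA A y)) hE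

end pgo

end Cfsg.Agent.Lib.Helper19.PSLGraph
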