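import Mathlib
import Cfsg.Prelude.Def_LieTypeDatum
import Cfsg.Agent.Lib.Helper19.PSLGraph
import Cfsg.Agent.Lib.Helper19.PSLGraph2

/-!
# Helper19: graph automorphisms of `PSL_n` and bilinear forms
-/

set_option autoImplicit false

namespace Cfsg.Agent.Lib.Helper19.PSLGraph

open Matrix
open scoped MatrixGroups

variable {n : ℕ} {F : Type*} [Field F]

lemma tGL_mul (g h : GL (Fin n) F) : tGL (g * h) = tGL h * tGL g := by
  apply Units.ext
  rw [Units.val_mul, tGL_coe, tGL_coe, tGL_coe, Units.val_mul, transpose_mul]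

lemma tGL_one : tGL (1 : GL (Fin n) F) = 1 := by
  apply Units.ext
  rw [tGL_coe, Units.val_one, transpose_one]

lemma tGL_inv (g : GL (Fin n) F) : tGL g⁻¹ = (tGL g)⁻¹ := by
  apply eq_inv_of_mul_eq_one_left
  rw [← tGL_mul, mul_inv_cancel, tGL_one]

lemma tGL_tGL (g : GL (Fin n) F) : tGL (tGL g) = g := by
  apply Units.ext
  rw [tGL_coe, tGL_coe, transpose_transpose]

lemma isGraphAut_iff (hn : 3 ≤ n) (γ : MulAut (Matrix.ProjectiveSpecialLinearGroup (Fin n) F)) :
    Cfsg.IsGraphAutClassPSL γ ↔ ∃ A : GL (Fin n) F, γ = gam A := by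
  constructor
  · rintro ⟨-, δ, γ₀, hδ, hγ₀, rfl⟩
    obtain ⟨g, rfl⟩ := (isInnerDiag_iff δ).1 hδ
    rw [iota_eq γ₀ hγ₀]
    refine ⟨g⁻¹, ?_⟩
    unfold gam
    rw [inv_inv]
  · rintro ⟨A, rfl⟩
    exact ⟨hn, Phi A⁻¹, iota0, (isInnerDiag_iff _).2 ⟨A⁻¹, rfl⟩, isInverseTranspose_iota0, rfl⟩

lemma iota0_Phi' (h : GL (Fin n) F) :
    (iota0 : MulAut (Matrix.ProjectiveSpecialLinearGroup (Fin n) F)) * Phi h = Phi (tGL h⁻¹) * iota0 := by
  rw [iota0_Phi, tGL_inv]

lemma gam_sq (A : GL (Fin n) F) : gam A * gam A = Phi (A⁻¹ * tGL A) := by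
  unfold gam
  rw [mul_assoc, ← mul_assoc iota0, iota0_Phi', inv_inv, mul_assoc, iota0_sq, mul_one, ← map_mul]

lemma conj_gam (h A : GL (Fin n) F) :
    Phi h * gam A * (Phi h)⁻¹ = gam ((tGL h)⁻¹ * A * h⁻¹) := by
  unfold gam
  rw [← map_inv, mul_assoc, mul_assoc, iota0_Phi', inv_inv, ← mul_assoc, ← mul_assoc, ← map_mul, ← map_mul]
  congr 2
  rw [_root_.mul_inv_rev, _root_.mul_inv_rev, inv_inv, inv_inv, mul_assoc]

lemma gam_eq_iff (A B : GL (Fin n) F) : gam A = gam B ↔ A * B⁻¹ ∈ Cfsg.Geo.scalars (Fin n) F := by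
  unfold gam
  rw [mul_left_inj, ← Phi_eq_one_iff, map_mul, map_inv, map_inv]
  constructor
  · intro h
    rw [← h]
    group
  · intro h
    have : (Phi A)⁻¹ = (Phi A)⁻¹ * (Phi A * (Phi B)⁻¹) := by rw [h, mul_one]
    rw [this]
    group

lemma isConj_iff (A B : GL (Fin n) F) :
    Cfsg.IsConjUnder (Cfsg.inndiagPSL n F) (gam A) (gam B) ↔
      ∃ (g : GL (Fin n) F) (c : Fˣ), (g : Matrix (Fin n) (Fin n) F)ᵀ * (A : Matrix (Fin n) (Fin n) F) *
        (g : Matrix (Fin n) (Fin n) F) = (c : F) • (B : Matrix (Fin n) (Fin n) F) := by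
  have hB : ((B⁻¹ : GL (Fin n) F) : Matrix (Fin n) (Fin n) F) * (B : Matrix (Fin n) (Fin n) F) = 1 :=
    Units.inv_mul B
  have hB' : (B : Matrix (Fin n) (Fin n) F) * ((B⁻¹ : GL (Fin n) F) : Matrix (Fin n) (Fin n) F) = 1 :=
    Units.mul_inv B
  constructor
  · rintro ⟨x, hx, hxy⟩
    rw [inndiag_eq] at hx
    obtain ⟨h, rfl⟩ := hx
    rw [conj_gam, eq_comm, gam_eq_iff, Cfsg.Geo.mem_scalars_iff] at hxy
    obtain ⟨c, hc⟩ := hxy
    refine ⟨h⁻¹, c, ?_⟩
    rw [Units.val_mul, Units.val_mul, Units.val_mul, ← tGL_inv, tGL_coe] at hc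
    calc ((h⁻¹ : GL (Fin n) F) : Matrix (Fin n) (Fin n) F)ᵀ * (A : Matrix (Fin n) (Fin n) F) *
          ((h⁻¹ : GL (Fin n) F) : Matrix (Fin n) (Fin n) F)
        = ((h⁻¹ : GL (Fin n) F) : Matrix (Fin n) (Fin n) F)ᵀ * (A : Matrix (Fin n) (Fin n) F) *
          ((h⁻¹ : GL (Fin n) F) : Matrix (Fin n) (Fin n) F) *
          (((B⁻¹ : GL (Fin n) F) : Matrix (Fin n) (Fin n) F) * (B : Matrix (Fin n) (Fin n) F)) := by
          rw [hB, mul_one]
      _ = (c : F) • (B : Matrix (Fin n) (Fin n) F) := by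
          rw [← mul_assoc, hc, Matrix.smul_mul, one_mul]
  · rintro ⟨g, c, hc⟩
    refine ⟨Phi g⁻¹, ?_, ?_⟩
    · rw [inndiag_eq]
      exact ⟨g⁻¹, rfl⟩
    · rw [conj_gam, eq_comm, gam_eq_iff, Cfsg.Geo.mem_scalars_iff]
      refine ⟨c, ?_⟩
      rw [Units.val_mul, Units.val_mul, Units.val_mul, ← tGL_inv, inv_inv, tGL_coe, hc, Matrix.smul_mul,
        hB']

/-- Key unipotent lemma: a conjugate of `1 + N` with `N² = 0` that is a scalar multiple of `1 + N'`
with a vanishing row of `N'` has scalar `1`. -/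
lemma unip_scalar (g : GL (Fin n) F) (N N' : Matrix (Fin n) (Fin n) F) (hNN : N * N = 0) (r : F)
    (hr : (g : Matrix (Fin n) (Fin n) F) * (1 + N) * ((g⁻¹ : GL (Fin n) F) : Matrix (Fin n) (Fin n) F) =
      r • (1 + N')) (j : Fin n) (hrow : ∀ k, N' j k = 0) : r = 1 := by
  have hginv : ((g⁻¹ : GL (Fin n) F) : Matrix (Fin n) (Fin n) F) * (g : Matrix (Fin n) (Fin n) F) = 1 :=
    Units.inv_mul g
  have hginv' : (g : Matrix (Fin n) (Fin n) F) * ((g⁻¹ : GL (Fin n) F) : Matrix (Fin n) (Fin n) F) = 1 :=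
    Units.mul_inv g
  have hM : (g : Matrix (Fin n) (Fin n) F) * N * ((g⁻¹ : GL (Fin n) F) : Matrix (Fin n) (Fin n) F) =
      r • (1 + N') - 1 := by
    rw [← hr, mul_add, add_mul, mul_one, hginv']
    abel
  have hMM : (r • (1 + N') - 1) * (r • (1 + N') - 1) = 0 := by
    rw [← hM]
    calc (g : Matrix (Fin n) (Fin n) F) * N * ((g⁻¹ : GL (Fin n) F) : Matrix (Fin n) (Fin n) F) *
          ((g : Matrix (Fin n) (Fin n) F) * N * ((g⁻¹ : GL (Fin n) F) : Matrix (Fin n) (Fin n) F))
        = (g : Matrix (Fin n) (Fin n) F) * N * (((g⁻¹ : GL (Fin n) F) : Matrix (Fin n) (Fin n) F) *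
          (g : Matrix (Fin n) (Fin n) F)) * N * ((g⁻¹ : GL (Fin n) F) : Matrix (Fin n) (Fin n) F) := by
          simp only [mul_assoc]
      _ = 0 := by
          rw [hginv, mul_one, mul_assoc (g : Matrix (Fin n) (Fin n) F), hNN, mul_zero, zero_mul]
  have hrow' : ∀ k, (r • (1 + N') - 1) j k = if j = k then r - 1 else 0 := by
    intro k
    rw [Matrix.sub_apply, Matrix.smul_apply, Matrix.add_apply, hrow k, add_zero, Matrix.one_apply]
    split_ifs <;> simp
  have := congrFun (congrFun hMM j) j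
  rw [mul_apply] at this
  simp only [hrow', ite_mul, zero_mul, Finset.sum_ite_eq, Finset.mem_univ, if_true,
    Matrix.zero_apply] at this
  have h2 : (r - 1) = 0 := by
    rcases mul_eq_zero.1 this with h | h <;> exact h
  linear_combination h2

lemma iota0_not_inner (hn : 3 ≤ n) (g : GL (Fin n) F) :
    (iota0 : MulAut (Matrix.ProjectiveSpecialLinearGroup (Fin n) F)) ≠ Phi g := by
  intro heq
  have hginv : ((g⁻¹ : GL (Fin n) F) : Matrix (Fin n) (Fin n) F) * (g : Matrix (Fin n) (Fin n) F) = 1 :=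
    Units.inv_mul g
  have hginv' : (g : Matrix (Fin n) (Fin n) F) * ((g⁻¹ : GL (Fin n) F) : Matrix (Fin n) (Fin n) F) = 1 :=
    Units.mul_inv g
  -- g E_ij g⁻¹ = - E_ji
  have key : ∀ i j : Fin n, i ≠ j → (g : Matrix (Fin n) (Fin n) F) * single i j (1 : F) *
      ((g⁻¹ : GL (Fin n) F) : Matrix (Fin n) (Fin n) F) = - single j i (1 : F) := by
    intro i j hij
    have h1 := congrFun (congrArg DFunLike.coe heq) (QuotientGroup.mk (tv i j hij))
    rw [Phi_mk, iota0_mk] at h1
    obtain ⟨r, -, hr⟩ := (mk_eq_iff _ _).1 h1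
    rw [conjFun_coe, tv_coe] at hr
    have hNN : single i j (1 : F) * single i j (1 : F) = (0 : Matrix (Fin n) (Fin n) F) :=
      single_mul_single_of_ne _ _ _ _ (Ne.symm hij) _
    have htinv : (((tv i j hij : Matrix.SpecialLinearGroup (Fin n) F)⁻¹ :
        Matrix.SpecialLinearGroup (Fin n) F) : Matrix (Fin n) (Fin n) F) = 1 - single i j (1 : F) := by
      have hmul : (1 + single i j (1 : F)) * (1 - single i j (1 : F)) = (1 : Matrix (Fin n) (Fin n) F) := by
        calc (1 + single i j (1 : F)) * (1 - single i j (1 : F))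
            = (1 : Matrix (Fin n) (Fin n) F) - single i j (1 : F) * single i j (1 : F) := by noncomm_ring
          _ = 1 := by rw [hNN, sub_zero]
      have h3 : (tv i j hij : Matrix.SpecialLinearGroup (Fin n) F)⁻¹ =
          ⟨1 - single i j (1 : F), by
            have := congrArg det hmul
            rw [det_mul, det_one, ← tv_coe i j hij, (tv i j hij).2, one_mul] at this
            exact this⟩ := by
        apply inv_eq_of_mul_eq_one_right
        apply Subtype.ext
        exact hmul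
      rw [h3]
    have htS : ((tSL (tv i j hij : Matrix.SpecialLinearGroup (Fin n) F)⁻¹ :
        Matrix.SpecialLinearGroup (Fin n) F) : Matrix (Fin n) (Fin n) F) = 1 + (- single j i (1 : F)) := by
      show ((((tv i j hij : Matrix.SpecialLinearGroup (Fin n) F)⁻¹ :
        Matrix.SpecialLinearGroup (Fin n) F) : Matrix (Fin n) (Fin n) F))ᵀ = _
      rw [htinv, transpose_sub, transpose_one, transpose_single, sub_eq_add_neg]
    rw [htS] at hr
    have hr' := hr
    have := unip_scalar g _ _ hNN r hr' i (by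
      intro k
      rw [Matrix.neg_apply, single_apply, if_neg (by
        rintro ⟨h7, -⟩
        exact hij h7.symm), neg_zero])
    rw [this, one_smul] at hr'
    have : (g : Matrix (Fin n) (Fin n) F) * single i j (1 : F) *
        ((g⁻¹ : GL (Fin n) F) : Matrix (Fin n) (Fin n) F) =
        (g : Matrix (Fin n) (Fin n) F) * (1 + single i j (1 : F)) *
        ((g⁻¹ : GL (Fin n) F) : Matrix (Fin n) (Fin n) F) - 1 := by
      rw [mul_add, add_mul, mul_one, hginv']
      abel
    rw [this, hr']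
    abel
  let i : Fin n := ⟨0, by omega⟩
  let j : Fin n := ⟨1, by omega⟩
  let k : Fin n := ⟨2, by omega⟩
  have hij : i ≠ j := by intro h; simpa [i, j] using congrArg Fin.val h
  have hjk : j ≠ k := by intro h; simpa [j, k] using congrArg Fin.val h
  have hik : i ≠ k := by intro h; simpa [i, k] using congrArg Fin.val h
  have h1 := key i j hij
  have h2 := key j k hjk
  have h3 := key i k hik
  have hprod : single i j (1 : F) * single j k (1 : F) = (single i k (1 : F) : Matrix (Fin n) (Fin n) F) := by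
    rw [single_mul_single_same, mul_one]
  have h4 : (g : Matrix (Fin n) (Fin n) F) * single i k (1 : F) *
      ((g⁻¹ : GL (Fin n) F) : Matrix (Fin n) (Fin n) F) =
      (- single j i (1 : F)) * (- single k j (1 : F)) := by
    rw [← h1, ← h2, ← hprod]
    calc (g : Matrix (Fin n) (Fin n) F) * (single i j (1 : F) * single j k (1 : F)) *
          ((g⁻¹ : GL (Fin n) F) : Matrix (Fin n) (Fin n) F)
        = (g : Matrix (Fin n) (Fin n) F) * single i j (1 : F) * (1 : Matrix (Fin n) (Fin n) F) *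
          single j k (1 : F) * ((g⁻¹ : GL (Fin n) F) : Matrix (Fin n) (Fin n) F) := by
          rw [mul_one]; simp only [mul_assoc]
      _ = _ := by rw [← hginv]; simp only [mul_assoc]
  rw [h3, neg_mul_neg, single_mul_single_of_ne _ _ _ _ hik] at h4
  have h5 := congrFun (congrFun h4 k) i
  rw [Matrix.neg_apply, single_apply, if_pos ⟨rfl, rfl⟩, Matrix.zero_apply] at h5
  exact one_ne_zero (neg_eq_zero.1 h5)

lemma gam_ne_one (hn : 3 ≤ n) (A : GL (Fin n) F) : gam A ≠ 1 := by
  intro h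
  unfold gam at h
  apply iota0_not_inner hn A
  have : (iota0 : MulAut (Matrix.ProjectiveSpecialLinearGroup (Fin n) F)) = (Phi A⁻¹)⁻¹ := by
    rw [eq_inv_iff_mul_eq_one, mul_eq_one_iff_eq_inv.1 h]
    group
  rw [this, ← map_inv, inv_inv]

lemma orderOf_gam (hn : 3 ≤ n) (A : GL (Fin n) F) (c : F)
    (hA : (A : Matrix (Fin n) (Fin n) F)ᵀ = c • (A : Matrix (Fin n) (Fin n) F)) (hc : c ≠ 0) :
    orderOf (gam A) = 2 := by
  apply orderOf_eq_prime
  · rw [pow_two, gam_sq, Phi_eq_one_iff, Cfsg.Geo.mem_scalars_iff]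
    refine ⟨Units.mk0 c hc, ?_⟩
    rw [Units.val_mul, tGL_coe, hA, Matrix.mul_smul, Units.inv_mul]
    rfl
  · exact gam_ne_one hn A

lemma transpose_of_order_two (A : GL (Fin n) F) (h : orderOf (gam A) = 2) :
    ∃ c : F, c * c = 1 ∧ (A : Matrix (Fin n) (Fin n) F)ᵀ = c • (A : Matrix (Fin n) (Fin n) F) := by
  have h1 : gam A * gam A = 1 := by
    rw [← pow_two, ← h, pow_orderOf_eq_one]
  rw [gam_sq, Phi_eq_one_iff, Cfsg.Geo.mem_scalars_iff] at h1
  obtain ⟨c, hc⟩ := h1
  rw [Units.val_mul, tGL_coe] at hc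
  have hA : (A : Matrix (Fin n) (Fin n) F)ᵀ = (c : F) • (A : Matrix (Fin n) (Fin n) F) := by
    calc (A : Matrix (Fin n) (Fin n) F)ᵀ = (A : Matrix (Fin n) (Fin n) F) *
          (((A⁻¹ : GL (Fin n) F) : Matrix (Fin n) (Fin n) F) * (A : Matrix (Fin n) (Fin n) F)ᵀ) := by
          rw [← mul_assoc, Units.mul_inv, one_mul]
      _ = _ := by rw [hc, Matrix.mul_smul, mul_one]
  refine ⟨c, ?_, hA⟩
  have h2 : (A : Matrix (Fin n) (Fin n) F) = ((c : F) * c) • (A : Matrix (Fin n) (Fin n) F) := by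
    conv_lhs => rw [← transpose_transpose (A : Matrix (Fin n) (Fin n) F), hA, transpose_smul, hA, smul_smul]
  by_contra hne
  have h3 : ((c : F) * c - 1) • (A : Matrix (Fin n) (Fin n) F) = 0 := by
    rw [sub_smul, one_smul, ← h2, sub_self]
  have h4 : (A : Matrix (Fin n) (Fin n) F) = 0 := by
    rcases smul_eq_zero.1 h3 with h5 | h5
    · exact absurd (sub_eq_zero.1 h5) hne
    · exact h5
  have hdet := (Matrix.isUnit_iff_isUnit_det _).1 A.isUnit
  by_cases hn : n = 0
  · subst hn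
    apply hne
    have : gam A = 1 := by
      apply aut_ext
      intro s
      have : ∀ x y : Matrix.ProjectiveSpecialLinearGroup (Fin 0) F, x = y := by
        intro x y
        induction x using QuotientGroup.induction_on with
        | H a =>
          induction y using QuotientGroup.induction_on with
          | H b => rw [Subsingleton.elim a b]
      exact this _ _
    rw [this, orderOf_one] at h
    omega
  · have hne' : Nonempty (Fin n) := ⟨⟨0, Nat.pos_of_ne_zero hn⟩⟩
    rw [h4, det_zero] at hdet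
    exact not_isUnit_zero hdet

end Cfsg.Agent.Lib.Helper19.PSLGraph
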