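import Mathlib
import Cfsg.Prelude.Def_LieTypeDatum
import Cfsg.Agent.Lib.Helper19.PSLGraph
import Cfsg.Agent.Lib.Helper19.PSLGraph2
import Cfsg.Agent.Lib.Helper19.PSLGraph3
import Cfsg.Agent.Lib.Helper19.PSLGraph4
import Cfsg.Agent.Lib.Helper19.OrthDiag
import Cfsg.Agent.Lib.Helper19.OrthDiag2
import Cfsg.Agent.S0752

/-!
# Helper19: classification of symmetric and alternating matrices up to congruence
-/

set_option autoImplicit false

namespace Cfsg.Agent.Lib.Helper19.PSLGraph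

open Matrix QuadraticMap
open scoped MatrixGroups
open Cfsg.Agent.Lib.Helper19.QuadWitt Cfsg.Agent.Lib.Helper19.QuadStd Cfsg.Agent.Lib.Helper19.OrthRefl

section bil

variable {n : ℕ} {F : Type*} [Field F]

/-- The bilinear function of a matrix. -/
def BA (A : Matrix (Fin n) (Fin n) F) (u v : Fin n → F) : F := u ⬝ᵥ (A *ᵥ v)

lemma eq_zero_of_bil_zero (M : Matrix (Fin n) (Fin n) F)
    (h : ∀ u v : Fin n → F, u ⬝ᵥ (M *ᵥ v) = 0) : M = 0 := by
  classical
  ext i j
  have := h (Pi.single i 1) (Pi.single j 1)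
  simpa [Matrix.mulVec_single_one, single_one_dotProduct] using this

lemma SimGL_eq_bilSim (A : GL (Fin n) F) :
    SimGL A = Cfsg.Geo.similarityGroup (BA (A : Matrix (Fin n) (Fin n) F)) := by
  ext h
  rw [mem_SimGL_iff]
  show _ ↔ ∃ c : Fˣ, ∀ u v, BA (A : Matrix (Fin n) (Fin n) F) ((h : Matrix (Fin n) (Fin n) F) *ᵥ u)
    ((h : Matrix (Fin n) (Fin n) F) *ᵥ v) = (c : F) * BA (A : Matrix (Fin n) (Fin n) F) u v
  constructor
  · rintro ⟨c, hc⟩
    refine ⟨c, fun u v => ?_⟩
    unfold BA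
    rw [dot_mulVec_mulVec, hc, Matrix.smul_mulVec, dotProduct_smul, smul_eq_mul]
  · rintro ⟨c, hc⟩
    refine ⟨c, ?_⟩
    have hz : (h : Matrix (Fin n) (Fin n) F)ᵀ * (A : Matrix (Fin n) (Fin n) F) *
        (h : Matrix (Fin n) (Fin n) F) - (c : F) • (A : Matrix (Fin n) (Fin n) F) = 0 := by
      apply eq_zero_of_bil_zero
      intro u v
      have := hc u v
      unfold BA at this
      rw [dot_mulVec_mulVec] at this
      rw [Matrix.sub_mulVec, dotProduct_sub, this, Matrix.smul_mulVec, dotProduct_smul, smul_eq_mul,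
        sub_self]
    exact sub_eq_zero.1 hz

/-- The invertible matrix of a linear automorphism. -/
noncomputable def glOfEquiv (E : (Fin n → F) ≃ₗ[F] (Fin n → F)) : GL (Fin n) F :=
  ⟨LinearMap.toMatrix' E.toLinearMap, LinearMap.toMatrix' E.symm.toLinearMap, by
    rw [← LinearMap.toMatrix'_comp]
    have : E.toLinearMap.comp E.symm.toLinearMap = LinearMap.id := by
      apply LinearMap.ext; intro x; simp
    rw [this, LinearMap.toMatrix'_id], by
    rw [← LinearMap.toMatrix'_comp]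
    have : E.symm.toLinearMap.comp E.toLinearMap = LinearMap.id := by
      apply LinearMap.ext; intro x; simp
    rw [this, LinearMap.toMatrix'_id]⟩

lemma glOfEquiv_mulVec (E : (Fin n → F) ≃ₗ[F] (Fin n → F)) (x : Fin n → F) :
    ((glOfEquiv E : GL (Fin n) F) : Matrix (Fin n) (Fin n) F) *ᵥ x = E x := by
  show LinearMap.toMatrix' E.toLinearMap *ᵥ x = E x
  rw [LinearMap.toMatrix'_mulVec]
  rfl

end bil

section transfer2

variable {F : Type*} [Field F] {ι₁ ι₂ : Type} [Fintype ι₁] [DecidableEq ι₁] [Fintype ι₂]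
  [DecidableEq ι₂]

/-- Transfer for similarity groups of two-argument forms. -/
theorem sim_congr (E : (ι₁ → F) ≃ₗ[F] (ι₂ → F)) (f₁ : (ι₁ → F) → (ι₁ → F) → F)
    (f₂ : (ι₂ → F) → (ι₂ → F) → F) (hf : ∀ u v, f₂ (E u) (E v) = f₁ u v) :
    Nonempty (Cfsg.projQuot (Cfsg.Geo.similarityGroup f₁) ≃*
      Cfsg.projQuot (Cfsg.Geo.similarityGroup f₂)) := by
  apply projQuot_congr E
  intro h
  constructor
  · rintro ⟨c, hc⟩
    refine ⟨c, fun w w' => ?_⟩
    obtain ⟨u, rfl⟩ := E.surjective w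
    obtain ⟨v, rfl⟩ := E.surjective w'
    rw [theta_mulVec, theta_mulVec, hf, hf, hc]
  · rintro ⟨c, hc⟩
    refine ⟨c, fun u v => ?_⟩
    have := hc (E u) (E v)
    rw [theta_mulVec, theta_mulVec, hf, hf] at this
    exact this

end transfer2

section symmclass

variable {n : ℕ} {F : Type*} [Field F]

lemma Q_sum_orth (h2 : (2 : F) ≠ 0) (Q : QuadraticForm F (Fin n → F)) {d : ℕ}
    {v : Fin d → (Fin n → F)} (hv : IsOrthFam Q v) (c : Fin d → F) :
    Q (∑ i, c i • v i) = ∑ i, c i ^ 2 * Q (v i) := by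
  have h1 : polar ⇑Q (∑ j, c j • v j) (∑ i, c i • v i) = ∑ j, c j * (c j * (2 * Q (v j))) := by
    rw [polar_sum_left]
    apply Finset.sum_congr rfl
    intro j _
    rw [QuadraticMap.polar_smul_left, polar_sum_orth Q hv c j, smul_eq_mul]
  rw [polar_self'] at h1
  have h3 : (2 : F) * Q (∑ i, c i • v i) = 2 * ∑ i, c i ^ 2 * Q (v i) := by
    rw [h1, Finset.mul_sum]
    exact Finset.sum_congr rfl (fun i _ => by ring)
  exact mul_left_cancel₀ h2 h3

theorem exists_congr_symm [Fintype F] (h2 : (2 : F) ≠ 0) (hn : 1 ≤ n) (A B : GL (Fin n) F)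
    (hA : (A : Matrix (Fin n) (Fin n) F)ᵀ = (A : Matrix (Fin n) (Fin n) F))
    (hB : (B : Matrix (Fin n) (Fin n) F)ᵀ = (B : Matrix (Fin n) (Fin n) F))
    (hsq : IsSquare ((A : Matrix (Fin n) (Fin n) F).det * (B : Matrix (Fin n) (Fin n) F).det)) :
    ∃ g : GL (Fin n) F, (g : Matrix (Fin n) (Fin n) F)ᵀ * (B : Matrix (Fin n) (Fin n) F) *
      (g : Matrix (Fin n) (Fin n) F) = (A : Matrix (Fin n) (Fin n) F) := by
  classical
  have hdA := (Matrix.isUnit_iff_isUnit_det _).1 A.isUnit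
  have hdB := (Matrix.isUnit_iff_isUnit_det _).1 B.isUnit
  have hQA := qfA_nondeg h2 _ hA hdA
  have hQB := qfA_nondeg h2 _ hB hdB
  have hfr : Module.finrank F (Fin n → F) = n := Module.finrank_fin_fun F
  have hk : (n - 1) + 1 ≤ Module.finrank F (Fin n → F) := by rw [hfr]; omega
  obtain ⟨v, hv, hvc⟩ := exists_orthFam_const h2 (qfA (A : Matrix (Fin n) (Fin n) F)) hQA 1 one_ne_zero
    (n - 1) hk
  obtain ⟨w, hw, hwc⟩ := exists_orthFam_const h2 (qfA (B : Matrix (Fin n) (Fin n) F)) hQB 1 one_ne_zero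
    (n - 1) hk
  set l : Fin (Module.finrank F (Fin n → F)) := ⟨n - 1, by rw [hfr]; omega⟩ with hl
  have hpow : (2 : F) ^ Module.finrank F (Fin n → F) = 2 ^ n := by rw [hfr]
  have hvc' : ∀ i, i ≠ l → qfA (A : Matrix (Fin n) (Fin n) F) (v i) = 1 := by
    intro i hi
    apply hvc
    have : (i : ℕ) ≠ n - 1 := fun h => hi (Fin.ext h)
    have := i.2
    omega
  have hwc' : ∀ i, i ≠ l → qfA (B : Matrix (Fin n) (Fin n) F) (w i) = 1 := by
    intro i hi
    apply hwc
    have : (i : ℕ) ≠ n - 1 := fun h => hi (Fin.ext h)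
    have := i.2
    omega
  obtain ⟨u, hu, hdetA⟩ := gram_det_orthFam h2 _ v hv
  obtain ⟨u', hu', hdetB⟩ := gram_det_orthFam h2 _ w hw
  rw [prod_const_except _ 1 l hvc', one_pow, mul_one, gram_qfA _ hA, Matrix.det_smul,
    Fintype.card_fin] at hdetA
  rw [prod_const_except _ 1 l hwc', one_pow, mul_one, gram_qfA _ hB, Matrix.det_smul,
    Fintype.card_fin] at hdetB
  rw [hpow] at hdetA hdetB
  set δA := qfA (A : Matrix (Fin n) (Fin n) F) (v l) with hδA
  set δB := qfA (B : Matrix (Fin n) (Fin n) F) (w l) with hδB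
  have hδA0 : δA ≠ 0 := hv.2 l
  have hδB0 : δB ≠ 0 := hw.2 l
  have h2n : (2 : F) ^ n ≠ 0 := pow_ne_zero _ h2
  have hdA' : (A : Matrix (Fin n) (Fin n) F).det = u ^ 2 * δA := by
    apply mul_left_cancel₀ h2n
    rw [hdetA]
    ring
  have hdB' : (B : Matrix (Fin n) (Fin n) F).det = u' ^ 2 * δB := by
    apply mul_left_cancel₀ h2n
    rw [hdetB]
    ring
  obtain ⟨r, hr⟩ := hsq
  rw [hdA', hdB'] at hr
  -- s with s^2 * δB = δA
  set s := r / (u * u' * δB) with hs
  have hs2 : s ^ 2 * δB = δA := by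
    rw [hs]
    field_simp
    linear_combination (-1 : F) * hr
  have hs0 : s ≠ 0 := by
    intro h0
    rw [h0] at hs2
    apply hδA0
    rw [← hs2]
    ring
  have hw' := hw.rescale _ l s hs0
  set w' : Fin (Module.finrank F (Fin n → F)) → (Fin n → F) :=
    fun i => if i = l then s • w l else w i with hw'def
  have hvals : ∀ i, qfA (B : Matrix (Fin n) (Fin n) F) (w' i) = qfA (A : Matrix (Fin n) (Fin n) F) (v i) := by
    intro i
    by_cases hi : i = l
    · subst hi
      rw [hw'def]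
      simp only [if_true]
      rw [QuadraticMap.map_smul, smul_eq_mul, ← hδB, ← hδA, ← hs2]
      ring
    · rw [hw'def]
      simp only [if_neg hi]
      rw [hvc' i hi, hwc' i hi]
  let bv := hv.basis h2 _ rfl
  let bw := hw'.basis h2 _ rfl
  let E : (Fin n → F) ≃ₗ[F] (Fin n → F) := bv.equiv bw (Equiv.refl _)
  have hE : ∀ x, qfA (B : Matrix (Fin n) (Fin n) F) (E x) = qfA (A : Matrix (Fin n) (Fin n) F) x := by
    intro x
    have hx : x = ∑ i, bv.repr x i • v i := by
      conv_lhs => rw [← bv.sum_repr x]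
      exact Finset.sum_congr rfl (fun i _ => by rw [IsOrthFam.basis_apply])
    have hEx : E x = ∑ i, bv.repr x i • w' i := by
      conv_lhs => rw [← bv.sum_repr x]
      rw [map_sum]
      apply Finset.sum_congr rfl
      intro i _
      rw [map_smul, Module.Basis.equiv_apply, Equiv.refl_apply, IsOrthFam.basis_apply]
    rw [hEx, Q_sum_orth h2 _ hw']
    conv_rhs => rw [hx, Q_sum_orth h2 _ hv]
    exact Finset.sum_congr rfl (fun i _ => by rw [hvals])
  refine ⟨glOfEquiv E, ?_⟩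
  have hz : ((glOfEquiv E : GL (Fin n) F) : Matrix (Fin n) (Fin n) F)ᵀ * (B : Matrix (Fin n) (Fin n) F) *
      ((glOfEquiv E : GL (Fin n) F) : Matrix (Fin n) (Fin n) F) - (A : Matrix (Fin n) (Fin n) F) = 0 := by
    apply eq_zero_of_quad_zero h2
    · rw [transpose_sub, transpose_mul, transpose_mul, transpose_transpose, hA, hB, mul_assoc]
    · intro x
      have := hE x
      rw [qfA_apply, qfA_apply] at this
      unfold QA at this
      rw [← glOfEquiv_mulVec, dot_mulVec_mulVec] at this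
      rw [Matrix.sub_mulVec, dotProduct_sub, this, sub_self]
  exact sub_eq_zero.1 hz

end symmclass

end Cfsg.Agent.Lib.Helper19.PSLGraph
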