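import Mathlib
import Cfsg.Prelude.Def_LieTypeDatum
import Cfsg.Agent.Lib.Helper19.PSLGraph
import Cfsg.Agent.Lib.Helper19.PSLGraph2
import Cfsg.Agent.Lib.Helper19.PSLGraph4
import Cfsg.Agent.Lib.Helper19.PSLGraph5
import Cfsg.Agent.S0752

/-!
# Helper19: alternating matrices and the standard symplectic matrix
-/

set_option autoImplicit false

namespace Cfsg.Agent.Lib.Helper19.PSLGraph

open Matrix
open scoped MatrixGroups

variable {F : Type*} [Field F]

/-- The index equivalence. -/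
def eJ (m : ℕ) : Fin m ⊕ Fin m ≃ Fin (2 * m) :=
  finSumFinEquiv.trans (finCongr (two_mul m).symm)

/-- The standard alternating matrix on `Fin (2m)`. -/
def AJmat (m : ℕ) (F : Type*) [Field F] : Matrix (Fin (2 * m)) (Fin (2 * m)) F :=
  (Matrix.J (Fin m) F).submatrix (eJ m).symm (eJ m).symm

lemma AJmat_transpose (m : ℕ) : (AJmat m F)ᵀ = - AJmat m F := by
  unfold AJmat
  rw [transpose_submatrix, Matrix.J_transpose]
  rfl

lemma AJmat_det (m : ℕ) : IsUnit (AJmat m F).det := by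
  unfold AJmat
  rw [Matrix.det_submatrix_equiv_self]
  exact Matrix.isUnit_det_J (Fin m) F

/-- The standard alternating matrix as an invertible matrix. -/
noncomputable def AJ (m : ℕ) (F : Type*) [Field F] : GL (Fin (2 * m)) F :=
  Matrix.GeneralLinearGroup.mk'' (AJmat m F) (AJmat_det m)

lemma AJ_coe (m : ℕ) : ((AJ m F : GL (Fin (2 * m)) F) : Matrix (Fin (2 * m)) (Fin (2 * m)) F) = AJmat m F := rfl

/-- The reindexing equivalence. -/
def EJ (m : ℕ) (F : Type*) [Field F] : (Fin (2 * m) → F) ≃ₗ[F] (Fin m ⊕ Fin m → F) :=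
  LinearEquiv.funCongrLeft F F (eJ m)

lemma EJ_apply (m : ℕ) (u : Fin (2 * m) → F) : EJ m F u = u ∘ (eJ m) := rfl

lemma symp_EJ (m : ℕ) (u v : Fin (2 * m) → F) :
    Cfsg.sympForm m F (EJ m F u) (EJ m F v) = BA (AJmat m F) u v := by
  unfold Cfsg.sympForm BA AJmat
  rw [EJ_apply, EJ_apply, Matrix.submatrix_mulVec_equiv, dotProduct_comp_equiv_symm, Equiv.symm_symm]

lemma BA_alt (h2 : (2 : F) ≠ 0) {n : ℕ} (A : Matrix (Fin n) (Fin n) F) (hA : Aᵀ = -A) (x : Fin n → F) :
    BA A x x = 0 := by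
  unfold BA
  have h1 : x ⬝ᵥ (A *ᵥ x) = x ⬝ᵥ (Aᵀ *ᵥ x) := by
    rw [Matrix.mulVec_transpose, Matrix.dotProduct_mulVec, dotProduct_comm]
  rw [hA, Matrix.neg_mulVec, dotProduct_neg] at h1
  have : (2 : F) * (x ⬝ᵥ (A *ᵥ x)) = 0 := by linear_combination h1
  rcases mul_eq_zero.1 this with h | h
  · exact absurd h h2
  · exact h

theorem exists_congr_alt (h2 : (2 : F) ≠ 0) (m : ℕ) (A : GL (Fin (2 * m)) F)
    (hA : (A : Matrix (Fin (2 * m)) (Fin (2 * m)) F)ᵀ = -(A : Matrix (Fin (2 * m)) (Fin (2 * m)) F)) :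
    ∃ g : GL (Fin (2 * m)) F, (g : Matrix (Fin (2 * m)) (Fin (2 * m)) F)ᵀ * AJmat m F *
      (g : Matrix (Fin (2 * m)) (Fin (2 * m)) F) = (-1 : F) • (A : Matrix (Fin (2 * m)) (Fin (2 * m)) F) := by
  classical
  set B : LinearMap.BilinForm F (Fin (2 * m) → F) :=
    Matrix.toBilin' (A : Matrix (Fin (2 * m)) (Fin (2 * m)) F) with hB
  have hBapp : ∀ x y, B x y = BA (A : Matrix (Fin (2 * m)) (Fin (2 * m)) F) x y := fun x y =>
    Matrix.toBilin'_apply' _ x y
  have hAlt : B.IsAlt := fun x => by rw [hBapp]; exact BA_alt h2 _ hA x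
  obtain ⟨m', k', b, r1, r2, r3, r4⟩ := Cfsg.Agent.S0752.result B hAlt
  -- the radical is trivial
  have hk' : k' = 0 := by
    by_contra hk
    have j : Fin k' := ⟨0, Nat.pos_of_ne_zero hk⟩
    have h0 : b (Sum.inr j) = 0 := by
      have h1 : ∀ v, (b (Sum.inr j)) ⬝ᵥ ((A : Matrix (Fin (2 * m)) (Fin (2 * m)) F) *ᵥ v) = 0 := by
        intro v
        have := r4 j v
        rwa [hBapp] at this
      have h3 : (A : Matrix (Fin (2 * m)) (Fin (2 * m)) F)ᵀ *ᵥ (b (Sum.inr j)) = 0 := by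
        funext i
        have := h1 (Pi.single i 1)
        rw [Matrix.mulVec_single_one] at this
        rw [Matrix.mulVec_transpose]
        simpa [Matrix.vecMul, dotProduct, Matrix.col_apply] using this
      have hunit : IsUnit (A : Matrix (Fin (2 * m)) (Fin (2 * m)) F)ᵀ := by
        rw [Matrix.isUnit_transpose]
        exact A.isUnit
      have hinj := Matrix.mulVec_injective_iff_isUnit.2 hunit
      apply hinj
      rw [h3, Matrix.mulVec_zero]
    exact b.ne_zero (Sum.inr j) h0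
  subst hk'
  have hcard : Fintype.card ((Fin m' ⊕ Fin m') ⊕ Fin 0) = 2 * m := by
    rw [← Module.finrank_eq_card_basis b, Module.finrank_fin_fun]
  have hm' : m' = m := by
    simp only [Fintype.card_sum, Fintype.card_fin] at hcard
    omega
  subst hm'
  let b' : Module.Basis (Fin m' ⊕ Fin m') F (Fin (2 * m') → F) := b.reindex (Equiv.sumEmpty _ _)
  have hb' : ∀ s, b' s = b (Sum.inl s) := by
    intro s
    show b.reindex (Equiv.sumEmpty _ _) s = _
    rw [Module.Basis.reindex_apply]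
    rfl
  have hG : LinearMap.BilinForm.toMatrix b' B = - Matrix.J (Fin m') F := by
    ext s t
    rw [LinearMap.BilinForm.toMatrix_apply, hb', hb']
    rcases s with i | i <;> rcases t with j | j
    · rw [r2]
      simp [Matrix.J]
    · rw [r1]
      simp [Matrix.J, Matrix.one_apply]
    · rw [← hAlt.neg_eq, r1]
      simp [Matrix.J, Matrix.one_apply, eq_comm]
    · rw [r3]
      simp [Matrix.J]
  let EA : (Fin (2 * m') → F) ≃ₗ[F] (Fin m' ⊕ Fin m' → F) := b'.equivFun
  have hEA : ∀ x y, Cfsg.sympForm m' F (EA x) (EA y) =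
      - BA (A : Matrix (Fin (2 * m')) (Fin (2 * m')) F) x y := by
    intro x y
    rw [← hBapp, LinearMap.BilinForm.apply_eq_dotProduct_toMatrix_mulVec b' B x y, hG]
    unfold Cfsg.sympForm
    rw [Matrix.neg_mulVec, dotProduct_neg, neg_neg]
    rfl
  let E : (Fin (2 * m') → F) ≃ₗ[F] (Fin (2 * m') → F) := EA.trans (EJ m' F).symm
  have hE : ∀ x y, BA (AJmat m' F) (E x) (E y) =
      - BA (A : Matrix (Fin (2 * m')) (Fin (2 * m')) F) x y := by
    intro x y
    rw [← symp_EJ, ← hEA]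
    show Cfsg.sympForm m' F ((EJ m' F) ((EJ m' F).symm (EA x))) ((EJ m' F) ((EJ m' F).symm (EA y))) = _
    rw [LinearEquiv.apply_symm_apply, LinearEquiv.apply_symm_apply]
  refine ⟨glOfEquiv E, ?_⟩
  have hz : ((glOfEquiv E : GL (Fin (2 * m')) F) : Matrix (Fin (2 * m')) (Fin (2 * m')) F)ᵀ * AJmat m' F *
      ((glOfEquiv E : GL (Fin (2 * m')) F) : Matrix (Fin (2 * m')) (Fin (2 * m')) F) -
      (-1 : F) • (A : Matrix (Fin (2 * m')) (Fin (2 * m')) F) = 0 := by
    apply eq_zero_of_bil_zero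
    intro x y
    have := hE x y
    unfold BA at this
    rw [← glOfEquiv_mulVec, ← glOfEquiv_mulVec, dot_mulVec_mulVec] at this
    rw [Matrix.sub_mulVec, dotProduct_sub, this, Matrix.smul_mulVec, dotProduct_smul, smul_eq_mul]
    ring
  exact sub_eq_zero.1 hz

end Cfsg.Agent.Lib.Helper19.PSLGraph
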