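import Mathlib
import Cfsg.Prelude.Def_LieTypeDatum
import Cfsg.Agent.Lib.Helper19.PSLGraph
import Cfsg.Agent.Lib.Helper19.PSLGraph2
import Cfsg.Agent.Lib.Helper19.PSLGraph5
import Cfsg.Agent.Lib.Helper19.QuadStd

/-!
# Helper19: characteristic two tools: square roots, isometry groups, and the isomorphism between
the orthogonal group of `x₀² + Σ xᵢyᵢ` and the isometry group of the symmetric form
`x₀x₀' + Σ (xᵢyᵢ' + yᵢxᵢ')`.
-/

set_option autoImplicit false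

namespace Cfsg.Agent.Lib.Helper19.PSLGraph

open Matrix
open scoped MatrixGroups

section sqrt

variable {F : Type*} [Field F]

/-- A square root (meaningful in a finite field of characteristic two). -/
noncomputable def sqrt2 (x : F) : F := by
  classical exact if h : ∃ y : F, y * y = x then h.choose else 0

lemma sq_inj2 (h2 : (2 : F) = 0) {a b : F} (h : a * a = b * b) : a = b := by
  have h1 : (a - b) * (a - b) = 0 := by linear_combination h + (b * b - a * b) * h2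
  exact sub_eq_zero.1 (mul_self_eq_zero.1 h1)

variable [Finite F]

lemma sqrt2_mul_self (h2 : (2 : F) = 0) (x : F) : sqrt2 x * sqrt2 x = x := by
  have hinj : Function.Injective (fun y : F => y * y) := fun a b h => sq_inj2 h2 h
  obtain ⟨y, hy⟩ := (Finite.injective_iff_surjective.1 hinj) x
  have hex : ∃ y : F, y * y = x := ⟨y, hy⟩
  unfold sqrt2
  rw [dif_pos hex]
  exact hex.choose_spec

lemma sqrt2_eq (h2 : (2 : F) = 0) {x y : F} (h : y * y = x) : sqrt2 x = y :=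
  sq_inj2 h2 (by rw [sqrt2_mul_self h2, h])

lemma sqrt2_add (h2 : (2 : F) = 0) (a b : F) : sqrt2 (a + b) = sqrt2 a + sqrt2 b :=
  sqrt2_eq h2 (by
    linear_combination sqrt2_mul_self h2 a + sqrt2_mul_self h2 b + (sqrt2 a * sqrt2 b) * h2)

lemma sqrt2_sq_mul (h2 : (2 : F) = 0) (a b : F) : sqrt2 (a * a * b) = a * sqrt2 b :=
  sqrt2_eq h2 (by linear_combination (a * a) * sqrt2_mul_self h2 b)

lemma sqrt2_sq (h2 : (2 : F) = 0) (a : F) : sqrt2 (a * a) = a := sqrt2_eq h2 rfl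

lemma sqrt2_zero (h2 : (2 : F) = 0) : sqrt2 (0 : F) = 0 := sqrt2_eq h2 (by ring)

lemma add_self2 (h2 : (2 : F) = 0) (a : F) : a + a = 0 := by linear_combination a * h2

/-- An additive function, homogeneous of degree two, is the square of a linear form. -/
lemma sqrt2_linear (h2 : (2 : F) = 0) {ι : Type*} [Fintype ι] [DecidableEq ι]
    (f : (ι → F) → F) (hadd : ∀ v w, f (v + w) = f v + f w)
    (hsm : ∀ (a : F) v, f (a • v) = a * a * f v) (v : ι → F) :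
    sqrt2 (f v) = ∑ j, v j * sqrt2 (f (Pi.single j 1)) := by
  let φ : (ι → F) →ₗ[F] F :=
    { toFun := fun v => sqrt2 (f v)
      map_add' := fun v w => by rw [hadd, sqrt2_add h2]
      map_smul' := fun a v => by
        simp only [RingHom.id_apply, smul_eq_mul]
        rw [hsm, sqrt2_sq_mul h2] }
  have h := LinearMap.pi_apply_eq_sum_univ φ v
  have h1 : ∀ i : ι, (fun j => if i = j then (1 : F) else 0) = Pi.single i 1 := by
    intro i
    funext j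
    rw [Pi.single_apply]
    simp only [eq_comm]
  simp only [h1] at h
  exact h

end sqrt

section forms

variable {F : Type*} [Field F] {m : ℕ}

/-- The first coordinate. -/
def lam2 (v : Unit ⊕ (Fin m ⊕ Fin m) → F) : F := v (Sum.inl ())

/-- The hyperbolic part of the polar form. -/
def PP2 (v w : Unit ⊕ (Fin m ⊕ Fin m) → F) : F :=
  ∑ i : Fin m, (v (Sum.inr (Sum.inl i)) * w (Sum.inr (Sum.inr i)) +
    w (Sum.inr (Sum.inl i)) * v (Sum.inr (Sum.inr i)))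

/-- The standard non-alternating symmetric form. -/
def BB2 (v w : Unit ⊕ (Fin m ⊕ Fin m) → F) : F := lam2 v * lam2 w + PP2 v w

/-- The first basis vector. -/
def ee2 (m : ℕ) (F : Type*) [Field F] : Unit ⊕ (Fin m ⊕ Fin m) → F := Pi.single (Sum.inl ()) 1

lemma lam2_add (v w : Unit ⊕ (Fin m ⊕ Fin m) → F) : lam2 (v + w) = lam2 v + lam2 w := rfl

lemma lam2_smul (a : F) (v : Unit ⊕ (Fin m ⊕ Fin m) → F) : lam2 (a • v) = a * lam2 v := rfl

lemma lam2_ee2 : lam2 (ee2 m F) = 1 := by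
  unfold lam2 ee2
  simp

lemma ee2_inr (t : Fin m ⊕ Fin m) : ee2 m F (Sum.inr t) = 0 := by
  unfold ee2
  simp

lemma PP2_congr {v v' w w' : Unit ⊕ (Fin m ⊕ Fin m) → F} (hv : ∀ t, v (Sum.inr t) = v' (Sum.inr t))
    (hw : ∀ t, w (Sum.inr t) = w' (Sum.inr t)) : PP2 v w = PP2 v' w' := by
  unfold PP2
  simp only [hv, hw]

lemma PP2_add_ee2 (v w : Unit ⊕ (Fin m ⊕ Fin m) → F) (a b : F) :
    PP2 (v + a • ee2 m F) (w + b • ee2 m F) = PP2 v w := by
  apply PP2_congr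
  · intro t
    simp [ee2_inr]
  · intro t
    simp [ee2_inr]

lemma PP2_ee2_right (v : Unit ⊕ (Fin m ⊕ Fin m) → F) : PP2 v (ee2 m F) = 0 := by
  unfold PP2
  simp [ee2_inr]

lemma PP2_self (h2 : (2 : F) = 0) (v : Unit ⊕ (Fin m ⊕ Fin m) → F) : PP2 v v = 0 := by
  unfold PP2
  apply Finset.sum_eq_zero
  intro i _
  linear_combination (v (Sum.inr (Sum.inl i)) * v (Sum.inr (Sum.inr i))) * h2

lemma PP2_comm (v w : Unit ⊕ (Fin m ⊕ Fin m) → F) : PP2 v w = PP2 w v := by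
  unfold PP2
  apply Finset.sum_congr rfl
  intro i _
  ring

lemma BB2_self (h2 : (2 : F) = 0) (v : Unit ⊕ (Fin m ⊕ Fin m) → F) :
    BB2 v v = lam2 v * lam2 v := by
  unfold BB2
  rw [PP2_self h2, add_zero]

lemma BB2_ee2_right (v : Unit ⊕ (Fin m ⊕ Fin m) → F) : BB2 v (ee2 m F) = lam2 v := by
  unfold BB2
  rw [PP2_ee2_right, lam2_ee2, mul_one, add_zero]

lemma quadOdd_add (h2 : (2 : F) = 0) (v w : Unit ⊕ (Fin m ⊕ Fin m) → F) :
    Cfsg.quadFormOdd m F (v + w) = Cfsg.quadFormOdd m F v + Cfsg.quadFormOdd m F w + PP2 v w := by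
  have h := QuadStd.polar_stdOdd (F := F) m v w
  rw [QuadStd.coe_stdOdd] at h
  unfold QuadraticMap.polar at h
  unfold PP2
  linear_combination h + (v (Sum.inl ()) * w (Sum.inl ())) * h2

lemma quadOdd_smul (a : F) (v : Unit ⊕ (Fin m ⊕ Fin m) → F) :
    Cfsg.quadFormOdd m F (a • v) = a * a * Cfsg.quadFormOdd m F v := by
  rw [← QuadStd.stdOdd_apply, ← QuadStd.stdOdd_apply, QuadraticMap.map_smul, smul_eq_mul]

lemma quadOdd_ee2 : Cfsg.quadFormOdd m F (ee2 m F) = 1 := by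
  unfold Cfsg.quadFormOdd
  simp [ee2_inr]
  unfold ee2
  simp

lemma quadOdd_add_ee2 (h2 : (2 : F) = 0) (v : Unit ⊕ (Fin m ⊕ Fin m) → F) (a : F) :
    Cfsg.quadFormOdd m F (v + a • ee2 m F) = Cfsg.quadFormOdd m F v + a * a := by
  rw [quadOdd_add h2, quadOdd_smul, quadOdd_ee2, mul_one]
  have : PP2 v (a • ee2 m F) = 0 := by
    have := PP2_add_ee2 (F := F) v 0 0 a
    rw [zero_smul, add_zero, zero_add] at this
    rw [this]
    unfold PP2
    simp
  rw [this, add_zero]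

lemma BB2_nondeg (x : Unit ⊕ (Fin m ⊕ Fin m) → F) (hx : ∀ u, BB2 u x = 0) : x = 0 := by
  classical
  funext s
  rcases s with u | i | i
  · have := hx (Pi.single (Sum.inl ()) 1)
    unfold BB2 lam2 PP2 at this
    simpa using this
  · have := hx (Pi.single (Sum.inr (Sum.inr i)) 1)
    unfold BB2 lam2 PP2 at this
    simpa [Pi.single_apply] using this
  · have := hx (Pi.single (Sum.inr (Sum.inl i)) 1)
    unfold BB2 lam2 PP2 at this
    simpa [Pi.single_apply] using this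

lemma PP2_radical (x : Unit ⊕ (Fin m ⊕ Fin m) → F) (hx : ∀ u, PP2 u x = 0) :
    x = lam2 x • ee2 m F := by
  classical
  funext s
  rcases s with u | i | i
  · unfold lam2 ee2
    simp
  · have := hx (Pi.single (Sum.inr (Sum.inr i)) 1)
    unfold PP2 at this
    simp only [Pi.smul_apply, ee2_inr, smul_eq_mul, mul_zero]
    simpa [Pi.single_apply] using this
  · have := hx (Pi.single (Sum.inr (Sum.inl i)) 1)
    unfold PP2 at this
    simp only [Pi.smul_apply, ee2_inr, smul_eq_mul, mul_zero]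
    simpa [Pi.single_apply] using this

end forms


section isogroups

variable {F : Type*} [Field F] {ι : Type} [Fintype ι] [DecidableEq ι]

/-- The isometry group of a two-argument form. -/
def isoB2 (f : (ι → F) → (ι → F) → F) : Subgroup (GL ι F) where
  carrier := {g | ∀ u v, f ((g : Matrix ι ι F) *ᵥ u) ((g : Matrix ι ι F) *ᵥ v) = f u v}
  mul_mem' {a b} ha hb := by
    intro u v
    rw [Units.val_mul, ← Matrix.mulVec_mulVec, ← Matrix.mulVec_mulVec, ha, hb]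
  one_mem' := fun u v => by simp
  inv_mem' {a} ha := by
    intro u v
    have h := ha (((a⁻¹ : GL ι F) : Matrix ι ι F) *ᵥ u) (((a⁻¹ : GL ι F) : Matrix ι ι F) *ᵥ v)
    rw [Matrix.mulVec_mulVec, Matrix.mulVec_mulVec, ← Units.val_mul, mul_inv_cancel, Units.val_one,
      Matrix.one_mulVec, Matrix.one_mulVec] at h
    exact h.symm

/-- The isometry group of a one-argument form. -/
def isoQ2 (Q : (ι → F) → F) : Subgroup (GL ι F) where
  carrier := {g | ∀ v, Q ((g : Matrix ι ι F) *ᵥ v) = Q v}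
  mul_mem' {a b} ha hb := by
    intro v
    rw [Units.val_mul, ← Matrix.mulVec_mulVec, ha, hb]
  one_mem' := fun v => by simp
  inv_mem' {a} ha := by
    intro v
    have h := ha (((a⁻¹ : GL ι F) : Matrix ι ι F) *ᵥ v)
    rw [Matrix.mulVec_mulVec, ← Units.val_mul, mul_inv_cancel, Units.val_one,
      Matrix.one_mulVec] at h
    exact h.symm

lemma mem_isoB2 (f : (ι → F) → (ι → F) → F) (g : GL ι F) :
    g ∈ isoB2 f ↔ ∀ u v, f ((g : Matrix ι ι F) *ᵥ u) ((g : Matrix ι ι F) *ᵥ v) = f u v := Iff.rfl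

lemma mem_isoQ2 (Q : (ι → F) → F) (g : GL ι F) :
    g ∈ isoQ2 Q ↔ ∀ v, Q ((g : Matrix ι ι F) *ᵥ v) = Q v := Iff.rfl

/-- The scalar matrix of a unit. -/
def scalGL (ι : Type) [Fintype ι] [DecidableEq ι] (d : Fˣ) : GL ι F :=
  Units.map (Matrix.scalar ι : F →+* Matrix ι ι F).toMonoidHom d

lemma scalGL_mem (d : Fˣ) : scalGL ι d ∈ Cfsg.Geo.scalars ι F := ⟨d, rfl⟩

lemma scalGL_mulVec (d : Fˣ) (v : ι → F) :
    ((scalGL ι d : GL ι F) : Matrix ι ι F) *ᵥ v = (d : F) • v := by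
  show (Matrix.scalar ι (d : F)) *ᵥ v = _
  rw [Matrix.scalar_apply, ← Matrix.smul_one_eq_diagonal, Matrix.smul_mulVec, Matrix.one_mulVec]

lemma GL_surj (g : GL ι F) (w : ι → F) : ∃ v, (g : Matrix ι ι F) *ᵥ v = w :=
  ⟨((g⁻¹ : GL ι F) : Matrix ι ι F) *ᵥ w, by
    rw [Matrix.mulVec_mulVec, ← Units.val_mul, mul_inv_cancel, Units.val_one, Matrix.one_mulVec]⟩

/-- A subgroup of `GL` that is the product of the scalars and a subgroup `O` meeting the scalars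
trivially has projective quotient `O`. -/
theorem projQuot_of_complement (S O : Subgroup (GL ι F)) (hOS : O ≤ S)
    (hdec : ∀ h ∈ S, ∃ z ∈ Cfsg.Geo.scalars ι F, h * z ∈ O)
    (htriv : ∀ h ∈ O, h ∈ Cfsg.Geo.scalars ι F → h = 1) :
    Nonempty (↥O ≃* Cfsg.projQuot S) := by
  let f : ↥O →* Cfsg.projQuot S :=
    (QuotientGroup.mk' ((Cfsg.Geo.scalars ι F).subgroupOf S)).comp (Subgroup.inclusion hOS)
  have hf : ∀ x : ↥O, f x = QuotientGroup.mk ⟨x.1, hOS x.2⟩ := fun x => rfl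
  have hinj : Function.Injective f := by
    rw [← MonoidHom.ker_eq_bot_iff, eq_bot_iff]
    intro x hx
    rw [MonoidHom.mem_ker, hf, QuotientGroup.eq_one_iff, Subgroup.mem_subgroupOf] at hx
    rw [Subgroup.mem_bot]
    exact Subtype.ext (htriv x.1 x.2 hx)
  have hsurj : Function.Surjective f := by
    intro y
    induction y using QuotientGroup.induction_on with
    | H y =>
      obtain ⟨h, hh⟩ := y
      obtain ⟨z, hz, hhz⟩ := hdec h hh
      refine ⟨⟨h * z, hhz⟩, ?_⟩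
      rw [hf, QuotientGroup.eq, Subgroup.mem_subgroupOf]
      show (h * z)⁻¹ * h ∈ _
      have : (h * z)⁻¹ * h = z⁻¹ := by group
      rw [this]
      exact inv_mem hz
  exact ⟨MulEquiv.ofBijective f ⟨hinj, hsurj⟩⟩

end isogroups


section theta2

variable {F : Type*} [Field F] {m : ℕ}

lemma PP2_sub_right (u x y : Unit ⊕ (Fin m ⊕ Fin m) → F) : PP2 u (x - y) = PP2 u x - PP2 u y := by
  unfold PP2
  rw [← Finset.sum_sub_distrib]
  apply Finset.sum_congr rfl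
  intro i _
  simp only [Pi.sub_apply]
  ring

lemma BB2_sub_right (u x y : Unit ⊕ (Fin m ⊕ Fin m) → F) : BB2 u (x - y) = BB2 u x - BB2 u y := by
  unfold BB2
  rw [PP2_sub_right]
  have : lam2 (x - y) = lam2 x - lam2 y := rfl
  rw [this]
  ring

variable [Finite F]

lemma isoB_lam (h2 : (2 : F) = 0) (h : GL (Unit ⊕ (Fin m ⊕ Fin m)) F)
    (hh : h ∈ isoB2 (BB2 (F := F) (m := m))) (v : Unit ⊕ (Fin m ⊕ Fin m) → F) :
    lam2 (h.1 *ᵥ v) = lam2 v := by
  have := hh v v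
  rw [BB2_self h2, BB2_self h2] at this
  exact sq_inj2 h2 this

lemma isoB_PP (h2 : (2 : F) = 0) (h : GL (Unit ⊕ (Fin m ⊕ Fin m)) F)
    (hh : h ∈ isoB2 (BB2 (F := F) (m := m))) (v w : Unit ⊕ (Fin m ⊕ Fin m) → F) :
    PP2 (h.1 *ᵥ v) (h.1 *ᵥ w) = PP2 v w := by
  have := hh v w
  unfold BB2 at this
  rw [isoB_lam h2 h hh, isoB_lam h2 h hh] at this
  exact add_left_cancel this

lemma isoB_ee2 (h2 : (2 : F) = 0) (h : GL (Unit ⊕ (Fin m ⊕ Fin m)) F)
    (hh : h ∈ isoB2 (BB2 (F := F) (m := m))) :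
    h.1 *ᵥ ee2 m F = ee2 m F := by
  have key : ∀ u, BB2 u (h.1 *ᵥ ee2 m F - ee2 m F) = 0 := by
    intro u
    obtain ⟨v, rfl⟩ := GL_surj h u
    rw [BB2_sub_right, hh, BB2_ee2_right, BB2_ee2_right, isoB_lam h2 h hh, sub_self]
  exact sub_eq_zero.1 (BB2_nondeg _ key)

lemma isoQ_PP (h2 : (2 : F) = 0) (g : GL (Unit ⊕ (Fin m ⊕ Fin m)) F)
    (hg : g ∈ isoQ2 (Cfsg.quadFormOdd m F)) (v w : Unit ⊕ (Fin m ⊕ Fin m) → F) :
    PP2 (g.1 *ᵥ v) (g.1 *ᵥ w) = PP2 v w := by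
  have h1 := hg (v + w)
  rw [Matrix.mulVec_add, quadOdd_add h2, quadOdd_add h2, hg v, hg w] at h1
  exact add_left_cancel h1

lemma isoQ_ee2 (h2 : (2 : F) = 0) (g : GL (Unit ⊕ (Fin m ⊕ Fin m)) F)
    (hg : g ∈ isoQ2 (Cfsg.quadFormOdd m F)) :
    g.1 *ᵥ ee2 m F = ee2 m F := by
  have hrad : ∀ u, PP2 u (g.1 *ᵥ ee2 m F) = 0 := by
    intro u
    obtain ⟨v, rfl⟩ := GL_surj g u
    rw [isoQ_PP h2 g hg, PP2_ee2_right]
  obtain ⟨μ, hμ⟩ : ∃ μ : F, g.1 *ᵥ ee2 m F = μ • ee2 m F :=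
    ⟨_, PP2_radical _ hrad⟩
  have h1 := hg (ee2 m F)
  rw [hμ, quadOdd_smul, quadOdd_ee2, mul_one] at h1
  have : μ = 1 := sq_inj2 h2 (by rw [h1, one_mul])
  rw [hμ, this, one_smul]

/-- The correction functional. -/
noncomputable def phi2 (h : Matrix (Unit ⊕ (Fin m ⊕ Fin m)) (Unit ⊕ (Fin m ⊕ Fin m)) F)
    (v : Unit ⊕ (Fin m ⊕ Fin m) → F) : F :=
  sqrt2 (Cfsg.quadFormOdd m F v + Cfsg.quadFormOdd m F (h *ᵥ v))

/-- From isometries of the symmetric form to isometries of the quadratic form. -/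
noncomputable def TT2 (h : Matrix (Unit ⊕ (Fin m ⊕ Fin m)) (Unit ⊕ (Fin m ⊕ Fin m)) F) :
    Matrix (Unit ⊕ (Fin m ⊕ Fin m)) (Unit ⊕ (Fin m ⊕ Fin m)) F :=
  h + Matrix.vecMulVec (ee2 m F) (fun j => phi2 h (Pi.single j 1))

/-- From isometries of the quadratic form to isometries of the symmetric form. -/
def SS2 (g : Matrix (Unit ⊕ (Fin m ⊕ Fin m)) (Unit ⊕ (Fin m ⊕ Fin m)) F) :
    Matrix (Unit ⊕ (Fin m ⊕ Fin m)) (Unit ⊕ (Fin m ⊕ Fin m)) F :=
  g + Matrix.vecMulVec (ee2 m F) (fun j => ee2 m F j + g (Sum.inl ()) j)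

lemma SS2_mulVec (g : Matrix (Unit ⊕ (Fin m ⊕ Fin m)) (Unit ⊕ (Fin m ⊕ Fin m)) F)
    (v : Unit ⊕ (Fin m ⊕ Fin m) → F) :
    SS2 g *ᵥ v = g *ᵥ v + (lam2 v + lam2 (g *ᵥ v)) • ee2 m F := by
  unfold SS2
  rw [Matrix.add_mulVec, Matrix.vecMulVec_mulVec, op_smul_eq_smul]
  congr 2
  unfold lam2
  rw [show (fun j => ee2 m F j + g (Sum.inl ()) j) = ee2 m F + g (Sum.inl ()) from rfl,
    add_dotProduct]
  congr 1
  unfold ee2
  rw [single_one_dotProduct]

lemma phi2_eq (h2 : (2 : F) = 0) (h : GL (Unit ⊕ (Fin m ⊕ Fin m)) F)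
    (hh : h ∈ isoB2 (BB2 (F := F) (m := m))) (v : Unit ⊕ (Fin m ⊕ Fin m) → F) :
    phi2 h.1 v = ∑ j, v j * phi2 h.1 (Pi.single j 1) := by
  classical
  unfold phi2
  apply sqrt2_linear h2 (fun v => Cfsg.quadFormOdd m F v +
    Cfsg.quadFormOdd m F (h.1 *ᵥ v))
  · intro v w
    rw [Matrix.mulVec_add, quadOdd_add h2, quadOdd_add h2, isoB_PP h2 h hh]
    linear_combination (PP2 v w) * h2
  · intro a v
    rw [Matrix.mulVec_smul, quadOdd_smul, quadOdd_smul]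
    ring

lemma TT2_mulVec (h2 : (2 : F) = 0) (h : GL (Unit ⊕ (Fin m ⊕ Fin m)) F)
    (hh : h ∈ isoB2 (BB2 (F := F) (m := m))) (v : Unit ⊕ (Fin m ⊕ Fin m) → F) :
    TT2 h.1 *ᵥ v = h.1 *ᵥ v + phi2 h.1 v • ee2 m F := by
  unfold TT2
  rw [Matrix.add_mulVec, Matrix.vecMulVec_mulVec, op_smul_eq_smul, phi2_eq h2 h hh v]
  congr 2
  unfold dotProduct
  apply Finset.sum_congr rfl
  intro j _
  ring

lemma phi2_mul_self (h2 : (2 : F) = 0) (h : Matrix (Unit ⊕ (Fin m ⊕ Fin m)) (Unit ⊕ (Fin m ⊕ Fin m)) F)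
    (v : Unit ⊕ (Fin m ⊕ Fin m) → F) :
    phi2 h v * phi2 h v = Cfsg.quadFormOdd m F v + Cfsg.quadFormOdd m F (h *ᵥ v) :=
  sqrt2_mul_self h2 _

/-- `TT2 h` preserves the quadratic form. -/
lemma TT2_quad (h2 : (2 : F) = 0) (h : GL (Unit ⊕ (Fin m ⊕ Fin m)) F)
    (hh : h ∈ isoB2 (BB2 (F := F) (m := m))) (v : Unit ⊕ (Fin m ⊕ Fin m) → F) :
    Cfsg.quadFormOdd m F (TT2 h.1 *ᵥ v) = Cfsg.quadFormOdd m F v := by
  rw [TT2_mulVec h2 h hh, quadOdd_add_ee2 h2, phi2_mul_self h2]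
  linear_combination (Cfsg.quadFormOdd m F (h.1 *ᵥ v)) * h2

/-- `SS2 g` preserves the symmetric form. -/
lemma SS2_bil (h2 : (2 : F) = 0) (g : GL (Unit ⊕ (Fin m ⊕ Fin m)) F)
    (hg : g ∈ isoQ2 (Cfsg.quadFormOdd m F)) (v w : Unit ⊕ (Fin m ⊕ Fin m) → F) :
    BB2 (SS2 g.1 *ᵥ v) (SS2 g.1 *ᵥ w) = BB2 v w := by
  rw [SS2_mulVec, SS2_mulVec]
  unfold BB2
  rw [PP2_add_ee2, isoQ_PP h2 g hg, lam2_add, lam2_add, lam2_smul, lam2_smul, lam2_ee2]
  linear_combination (lam2 (g.1 *ᵥ v) * lam2 w + lam2 v * lam2 (g.1 *ᵥ w)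
    + lam2 (g.1 *ᵥ v) * lam2 (g.1 *ᵥ w) * 2) * h2


lemma phi2_add_ee2 (h2 : (2 : F) = 0) (h : GL (Unit ⊕ (Fin m ⊕ Fin m)) F)
    (hh : h ∈ isoB2 (BB2 (F := F) (m := m))) (u : Unit ⊕ (Fin m ⊕ Fin m) → F) (a : F) :
    phi2 h.1 (u + a • ee2 m F) = phi2 h.1 u := by
  unfold phi2
  rw [Matrix.mulVec_add, Matrix.mulVec_smul, isoB_ee2 h2 h hh, quadOdd_add_ee2 h2,
    quadOdd_add_ee2 h2]
  congr 1
  linear_combination (a * a) * h2

lemma phi2_mul (h2 : (2 : F) = 0) (h h' : GL (Unit ⊕ (Fin m ⊕ Fin m)) F)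
    (v : Unit ⊕ (Fin m ⊕ Fin m) → F) :
    phi2 (h * h').1 v = phi2 h'.1 v + phi2 h.1 (h'.1 *ᵥ v) := by
  unfold phi2
  rw [← sqrt2_add h2, Units.val_mul, ← Matrix.mulVec_mulVec]
  congr 1
  linear_combination (-Cfsg.quadFormOdd m F (h'.1 *ᵥ v)) * h2

lemma TT2_mul (h2 : (2 : F) = 0) (h h' : GL (Unit ⊕ (Fin m ⊕ Fin m)) F)
    (hh : h ∈ isoB2 (BB2 (F := F) (m := m))) (hh' : h' ∈ isoB2 (BB2 (F := F) (m := m))) :
    TT2 (h * h').1 = TT2 h.1 * TT2 h'.1 := by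
  rw [Matrix.ext_iff_mulVec]
  intro v
  rw [TT2_mulVec h2 _ (mul_mem hh hh'), ← Matrix.mulVec_mulVec, TT2_mulVec h2 h' hh',
    TT2_mulVec h2 h hh, phi2_add_ee2 h2 h hh, Matrix.mulVec_add, Matrix.mulVec_smul,
    isoB_ee2 h2 h hh, phi2_mul h2, Units.val_mul, ← Matrix.mulVec_mulVec, add_smul, add_assoc]

lemma TT2_one (h2 : (2 : F) = 0) :
    TT2 (1 : Matrix (Unit ⊕ (Fin m ⊕ Fin m)) (Unit ⊕ (Fin m ⊕ Fin m)) F) = 1 := by
  rw [Matrix.ext_iff_mulVec]
  intro v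
  have h := TT2_mulVec h2 (1 : GL (Unit ⊕ (Fin m ⊕ Fin m)) F) (one_mem _) v
  rw [Units.val_one] at h
  rw [h, Matrix.one_mulVec]
  unfold phi2
  rw [Matrix.one_mulVec, add_self2 h2, sqrt2_zero h2, zero_smul, add_zero]

lemma SS2_mul (h2 : (2 : F) = 0) (g g' : GL (Unit ⊕ (Fin m ⊕ Fin m)) F)
    (hg : g ∈ isoQ2 (Cfsg.quadFormOdd m F)) :
    SS2 (g * g').1 = SS2 g.1 * SS2 g'.1 := by
  rw [Matrix.ext_iff_mulVec]
  intro v
  rw [← Matrix.mulVec_mulVec, SS2_mulVec, SS2_mulVec, SS2_mulVec, Matrix.mulVec_add,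
    Matrix.mulVec_smul, isoQ_ee2 h2 g hg, Units.val_mul, ← Matrix.mulVec_mulVec, lam2_add, lam2_add,
    lam2_smul, lam2_ee2, add_assoc, ← add_smul]
  congr 2
  linear_combination (-(lam2 v + lam2 (g'.1 *ᵥ v)) - lam2 (g'.1 *ᵥ v)) * h2

lemma SS2_one (h2 : (2 : F) = 0) :
    SS2 (1 : Matrix (Unit ⊕ (Fin m ⊕ Fin m)) (Unit ⊕ (Fin m ⊕ Fin m)) F) = 1 := by
  rw [Matrix.ext_iff_mulVec]
  intro v
  rw [SS2_mulVec, Matrix.one_mulVec, add_self2 h2, zero_smul, add_zero]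

lemma SS2_TT2 (h2 : (2 : F) = 0) (h : GL (Unit ⊕ (Fin m ⊕ Fin m)) F)
    (hh : h ∈ isoB2 (BB2 (F := F) (m := m))) : SS2 (TT2 h.1) = h.1 := by
  rw [Matrix.ext_iff_mulVec]
  intro v
  rw [SS2_mulVec, TT2_mulVec h2 h hh, lam2_add, lam2_smul, lam2_ee2, isoB_lam h2 h hh, add_assoc,
    ← add_smul]
  have : phi2 h.1 v + (lam2 v + (lam2 v + phi2 h.1 v * 1)) = 0 := by
    linear_combination (phi2 h.1 v + lam2 v) * h2
  rw [this, zero_smul, add_zero]

/-- The monoid homomorphism underlying `TT2`. -/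
noncomputable def TThom (h2 : (2 : F) = 0) :
    ↥(isoB2 (BB2 (F := F) (m := m))) →* Matrix (Unit ⊕ (Fin m ⊕ Fin m)) (Unit ⊕ (Fin m ⊕ Fin m)) F where
  toFun h := TT2 h.1.1
  map_one' := TT2_one h2
  map_mul' h h' := TT2_mul h2 h.1 h'.1 h.2 h'.2

/-- The monoid homomorphism underlying `SS2`. -/
noncomputable def SShom (h2 : (2 : F) = 0) :
    ↥(isoQ2 (Cfsg.quadFormOdd m F)) →* Matrix (Unit ⊕ (Fin m ⊕ Fin m)) (Unit ⊕ (Fin m ⊕ Fin m)) F where
  toFun g := SS2 g.1.1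
  map_one' := SS2_one h2
  map_mul' g g' := SS2_mul h2 g.1 g'.1 g.2

lemma TThom_mem (h2 : (2 : F) = 0) (h : ↥(isoB2 (BB2 (F := F) (m := m)))) :
    (TThom h2).toHomUnits h ∈ isoQ2 (Cfsg.quadFormOdd m F) := by
  intro v
  exact TT2_quad h2 h.1 h.2 v

lemma SShom_mem (h2 : (2 : F) = 0) (g : ↥(isoQ2 (Cfsg.quadFormOdd m F))) :
    (SShom h2).toHomUnits g ∈ isoB2 (BB2 (F := F) (m := m)) := by
  intro v w
  exact SS2_bil h2 g.1 g.2 v w

lemma TT2_SS2 (h2 : (2 : F) = 0) (g : ↥(isoQ2 (Cfsg.quadFormOdd m F))) :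
    TT2 (SS2 g.1.1) = g.1.1 := by
  rw [Matrix.ext_iff_mulVec]
  intro v
  have h := TT2_mulVec h2 ((SShom h2).toHomUnits g) (SShom_mem h2 g) v
  have hc : (((SShom h2).toHomUnits g : GL (Unit ⊕ (Fin m ⊕ Fin m)) F)).1 = SS2 g.1.1 := rfl
  rw [hc] at h
  rw [h]
  have hphi : phi2 (SS2 g.1.1) v = lam2 v + lam2 (g.1.1 *ᵥ v) := by
    unfold phi2
    apply sqrt2_eq h2
    rw [SS2_mulVec, quadOdd_add_ee2 h2, g.2 v]
    linear_combination (-Cfsg.quadFormOdd m F v) * h2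
  rw [hphi, SS2_mulVec, add_assoc, ← add_smul, add_self2 h2, zero_smul, add_zero]

/-- The isomorphism between the two isometry groups. -/
noncomputable def TTiso (h2 : (2 : F) = 0) :
    ↥(isoB2 (BB2 (F := F) (m := m))) ≃* ↥(isoQ2 (Cfsg.quadFormOdd m F)) where
  toFun h := ⟨(TThom h2).toHomUnits h, TThom_mem h2 h⟩
  invFun g := ⟨(SShom h2).toHomUnits g, SShom_mem h2 g⟩
  left_inv h := by
    apply Subtype.ext
    apply Units.ext
    exact SS2_TT2 h2 h.1 h.2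
  right_inv g := by
    apply Subtype.ext
    apply Units.ext
    exact TT2_SS2 h2 g
  map_mul' h h' := by
    apply Subtype.ext
    exact map_mul (TThom h2).toHomUnits h h'


lemma BB2_smul_smul (a b : F) (u v : Unit ⊕ (Fin m ⊕ Fin m) → F) :
    BB2 (a • u) (b • v) = a * b * BB2 u v := by
  unfold BB2 PP2
  rw [lam2_smul, lam2_smul, mul_add, Finset.mul_sum]
  congr 1
  · ring
  · apply Finset.sum_congr rfl
    intro i _
    simp only [Pi.smul_apply, smul_eq_mul]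
    ring

lemma BB2_ee2_ee2 : BB2 (ee2 m F) (ee2 m F) = 1 := by
  rw [BB2_ee2_right, lam2_ee2]

/-- The projective similarity group of the symmetric form is its isometry group. -/
theorem projQuot_BB2 (h2 : (2 : F) = 0) :
    Nonempty (↥(isoB2 (BB2 (F := F) (m := m))) ≃*
      Cfsg.projQuot (Cfsg.Geo.similarityGroup (BB2 (F := F) (m := m)))) := by
  apply projQuot_of_complement
  · intro h hh
    exact ⟨1, fun u v => by rw [hh u v, Units.val_one, one_mul]⟩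
  · rintro h ⟨c, hc⟩
    have hd : sqrt2 (c : F) ≠ 0 := by
      intro h0
      have := sqrt2_mul_self h2 (c : F)
      rw [h0, mul_zero] at this
      exact c.ne_zero this.symm
    refine ⟨scalGL _ (Units.mk0 _ hd)⁻¹, scalGL_mem _, ?_⟩
    intro u v
    rw [Units.val_mul, ← Matrix.mulVec_mulVec, ← Matrix.mulVec_mulVec, hc, scalGL_mulVec,
      scalGL_mulVec, BB2_smul_smul, Units.val_inv_eq_inv_val, Units.val_mk0]
    have := sqrt2_mul_self h2 (c : F)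
    field_simp
    rw [pow_two, this]
  · intro h hh hs
    rw [Cfsg.Geo.mem_scalars_iff] at hs
    obtain ⟨c, hc⟩ := hs
    have h1 := hh (ee2 m F) (ee2 m F)
    rw [hc, Matrix.smul_mulVec, Matrix.one_mulVec, BB2_smul_smul, BB2_ee2_ee2, mul_one] at h1
    have hc1 : (c : F) = 1 := sq_inj2 h2 (by rw [h1, one_mul])
    apply Units.ext
    rw [hc, hc1, one_smul, Units.val_one]

/-- The projective similarity group of the quadratic form is its isometry group. -/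
theorem projQuot_quadOdd (h2 : (2 : F) = 0) :
    Nonempty (↥(isoQ2 (Cfsg.quadFormOdd m F)) ≃* Cfsg.PGO F (Cfsg.quadFormOdd m F)) := by
  apply projQuot_of_complement
  · intro h hh
    exact ⟨1, fun v => by rw [hh v, Units.val_one, one_mul]⟩
  · rintro h ⟨c, hc⟩
    have hd : sqrt2 (c : F) ≠ 0 := by
      intro h0
      have := sqrt2_mul_self h2 (c : F)
      rw [h0, mul_zero] at this
      exact c.ne_zero this.symm
    refine ⟨scalGL _ (Units.mk0 _ hd)⁻¹, scalGL_mem _, ?_⟩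
    intro v
    rw [Units.val_mul, ← Matrix.mulVec_mulVec, hc, scalGL_mulVec, quadOdd_smul,
      Units.val_inv_eq_inv_val, Units.val_mk0]
    have := sqrt2_mul_self h2 (c : F)
    field_simp
    rw [pow_two, this]
  · intro h hh hs
    rw [Cfsg.Geo.mem_scalars_iff] at hs
    obtain ⟨c, hc⟩ := hs
    have h1 := hh (ee2 m F)
    rw [hc, Matrix.smul_mulVec, Matrix.one_mulVec, quadOdd_smul, quadOdd_ee2, mul_one] at h1
    have hc1 : (c : F) = 1 := sq_inj2 h2 (by rw [h1, one_mul])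
    apply Units.ext
    rw [hc, hc1, one_smul, Units.val_one]

/-- In characteristic two the projective similarity group of the standard non-alternating symmetric
form in odd dimension is the projective conformal orthogonal group. -/
theorem projQuot_BB2_PGO (h2 : (2 : F) = 0) :
    Nonempty (Cfsg.projQuot (Cfsg.Geo.similarityGroup (BB2 (F := F) (m := m))) ≃*
      Cfsg.PGO F (Cfsg.quadFormOdd m F)) := by
  obtain ⟨e1⟩ := projQuot_BB2 (F := F) (m := m) h2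
  obtain ⟨e2⟩ := projQuot_quadOdd (F := F) (m := m) h2
  exact ⟨e1.symm.trans ((TTiso h2).trans e2)⟩

end theta2

end Cfsg.Agent.Lib.Helper19.PSLGraph
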