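import Mathlib
import Cfsg.Prelude.Def_LieTypeDatum
import Cfsg.Agent.Lib.Helper19.PSLGraph
import Cfsg.Agent.Lib.Helper19.PSLGraph2
import Cfsg.Agent.Lib.Helper19.PSLGraph5
import Cfsg.Agent.Lib.Helper19.PSLGraph8
import Cfsg.Agent.S0752

/-!
# Helper19: normal form of symmetric matrices in characteristic two, odd dimension
-/

set_option autoImplicit false

namespace Cfsg.Agent.Lib.Helper19.PSLGraph

open Matrix
open scoped MatrixGroups

section normalform

variable {F : Type*} [Field F] {n : ℕ}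

lemma BA_symm (A : Matrix (Fin n) (Fin n) F) (hA : Aᵀ = A) (u v : Fin n → F) :
    BA A u v = BA A v u := by
  unfold BA
  rw [Matrix.dotProduct_mulVec, ← Matrix.mulVec_transpose, hA, dotProduct_comm]

lemma BA_nondeg (A : GL (Fin n) F) (hA : A.1ᵀ = A.1) (x : Fin n → F)
    (hx : ∀ v, BA A.1 x v = 0) : x = 0 := by
  classical
  have h3 : A.1 *ᵥ x = 0 := by
    funext i
    have := hx (Pi.single i 1)
    rw [BA_symm A.1 hA] at this
    unfold BA at this
    rwa [single_one_dotProduct] at this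
  have hinj := Matrix.mulVec_injective_iff_isUnit.2 A.isUnit
  apply hinj
  rw [h3, Matrix.mulVec_zero]

lemma BA_add_left (A : Matrix (Fin n) (Fin n) F) (u u' v : Fin n → F) :
    BA A (u + u') v = BA A u v + BA A u' v := by
  unfold BA
  rw [add_dotProduct]

lemma BA_add_right (A : Matrix (Fin n) (Fin n) F) (u v v' : Fin n → F) :
    BA A u (v + v') = BA A u v + BA A u v' := by
  unfold BA
  rw [Matrix.mulVec_add, dotProduct_add]

lemma BA_smul_left (A : Matrix (Fin n) (Fin n) F) (a : F) (u v : Fin n → F) :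
    BA A (a • u) v = a * BA A u v := by
  unfold BA
  rw [smul_dotProduct, smul_eq_mul]

lemma BA_smul_right (A : Matrix (Fin n) (Fin n) F) (a : F) (u v : Fin n → F) :
    BA A u (a • v) = a * BA A u v := by
  unfold BA
  rw [Matrix.mulVec_smul, dotProduct_smul, smul_eq_mul]

variable [Fintype F]

/-- In characteristic two, a symmetric bilinear form restricted to the diagonal is the square of
a linear form. -/
lemma BA_diag_char2 (h2 : (2 : F) = 0) (A : Matrix (Fin n) (Fin n) F) (hA : Aᵀ = A) :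
    ∃ d : Fin n → F, ∀ v, BA A v v = (d ⬝ᵥ v) * (d ⬝ᵥ v) := by
  classical
  refine ⟨fun j => sqrt2 (BA A (Pi.single j 1) (Pi.single j 1)), fun v => ?_⟩
  have h := sqrt2_linear h2 (fun v => BA A v v)
    (fun v w => by
      rw [BA_add_left, BA_add_right, BA_add_right, BA_symm A hA w v]
      linear_combination (BA A v w) * h2)
    (fun a v => by
      rw [BA_smul_left, BA_smul_right]
      ring) v
  have h3 : (fun j => sqrt2 (BA A (Pi.single j 1) (Pi.single j 1))) ⬝ᵥ v = sqrt2 (BA A v v) := by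
    rw [h]
    unfold dotProduct
    apply Finset.sum_congr rfl
    intro j _
    ring
  rw [h3, sqrt2_mul_self h2]

theorem normal_form_char2 (h2 : (2 : F) = 0) (m : ℕ) (A : GL (Fin (2 * m + 1)) F)
    (hA : A.1ᵀ = A.1) :
    ∃ E : (Fin (2 * m + 1) → F) ≃ₗ[F] (Unit ⊕ (Fin m ⊕ Fin m) → F),
      ∀ u v, BB2 (E u) (E v) = BA A.1 u v := by
  classical
  obtain ⟨d, hd⟩ := BA_diag_char2 h2 A.1 hA
  set B : LinearMap.BilinForm F (Fin (2 * m + 1) → F) :=
    Matrix.toBilin' (A.1 + Matrix.vecMulVec d d) with hB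
  have hBapp : ∀ x y, B x y = BA A.1 x y + (d ⬝ᵥ x) * (d ⬝ᵥ y) := by
    intro x y
    rw [hB, Matrix.toBilin'_apply', Matrix.add_mulVec, dotProduct_add, Matrix.vecMulVec_mulVec,
      op_smul_eq_smul, dotProduct_smul, smul_eq_mul, dotProduct_comm x d]
    unfold BA
    ring
  have hAlt : B.IsAlt := fun x => by
    rw [hBapp, hd]
    linear_combination ((d ⬝ᵥ x) * (d ⬝ᵥ x)) * h2
  obtain ⟨m', k', b, r1, r2, r3, r4⟩ := Cfsg.Agent.S0752.result B hAlt
  have hcard : 2 * m' + k' = 2 * m + 1 := by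
    have h1 := Module.finrank_eq_card_basis b
    rw [Module.finrank_fin_fun] at h1
    simp only [Fintype.card_sum, Fintype.card_fin] at h1
    omega
  -- radical vectors
  have hrad : ∀ j : Fin k', ∀ v, BA A.1 (b (Sum.inr j)) v = (d ⬝ᵥ b (Sum.inr j)) * (d ⬝ᵥ v) := by
    intro j v
    have := r4 j v
    rw [hBapp] at this
    linear_combination this - ((d ⬝ᵥ b (Sum.inr j)) * (d ⬝ᵥ v)) * h2
  have hdne : ∀ j : Fin k', d ⬝ᵥ b (Sum.inr j) ≠ 0 := by
    intro j h0
    apply b.ne_zero (Sum.inr j)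
    apply BA_nondeg A hA
    intro v
    rw [hrad, h0, zero_mul]
  have hk1 : k' ≤ 1 := by
    by_contra hk
    have hk2 : 2 ≤ k' := by omega
    let j0 : Fin k' := ⟨0, by omega⟩
    let j1 : Fin k' := ⟨1, by omega⟩
    have hne : (Sum.inr j1 : (Fin m' ⊕ Fin m') ⊕ Fin k') ≠ Sum.inr j0 := by
      intro h
      have := Sum.inr_injective h
      simp [j0, j1, Fin.ext_iff] at this
    have hx : (d ⬝ᵥ b (Sum.inr j1)) • b (Sum.inr j0) - (d ⬝ᵥ b (Sum.inr j0)) • b (Sum.inr j1) = 0 := by
      apply BA_nondeg A hA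
      intro v
      rw [sub_eq_add_neg, ← neg_smul, BA_add_left, BA_smul_left, BA_smul_left, hrad, hrad]
      ring
    have h1 := congrArg (fun x => b.repr x (Sum.inr j0)) hx
    simp only [map_sub, map_smul, Module.Basis.repr_self, Finsupp.coe_sub, Finsupp.coe_smul,
      Pi.sub_apply, Pi.smul_apply, Finsupp.single_eq_same, smul_eq_mul, mul_one, map_zero,
      Finsupp.coe_zero, Pi.zero_apply] at h1
    rw [Finsupp.single_eq_of_ne hne.symm, mul_zero, sub_zero] at h1
    exact hdne j1 h1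
  obtain rfl : k' = 1 := by omega
  obtain rfl : m' = m := by omega
  -- the map
  let δL : (Fin (2 * m' + 1) → F) →ₗ[F] F :=
    { toFun := fun v => d ⬝ᵥ v
      map_add' := fun v w => dotProduct_add d v w
      map_smul' := fun a v => by simp [dotProduct_smul] }
  let EL : (Fin (2 * m' + 1) → F) →ₗ[F] (Unit ⊕ (Fin m' ⊕ Fin m') → F) :=
    LinearMap.pi (Sum.elim (fun _ : Unit => δL) (fun t => b.coord (Sum.inl t)))
  have hEL0 : ∀ v, EL v (Sum.inl ()) = d ⬝ᵥ v := fun v => rfl
  have hEL1 : ∀ v t, EL v (Sum.inr t) = b.repr v (Sum.inl t) := fun v t => rfl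
  have hinj : Function.Injective EL := by
    rw [← LinearMap.ker_eq_bot, LinearMap.ker_eq_bot']
    intro v hv
    have h0 : d ⬝ᵥ v = 0 := by rw [← hEL0, hv]; rfl
    have h1 : ∀ t, b.repr v (Sum.inl t) = 0 := fun t => by rw [← hEL1, hv]; rfl
    have hv' : v = b.repr v (Sum.inr 0) • b (Sum.inr 0) := by
      conv_lhs => rw [← b.sum_repr v]
      rw [Fintype.sum_sum_type, Fin.sum_univ_one]
      simp only [h1, zero_smul, Finset.sum_const_zero, zero_add]
    rw [hv', dotProduct_smul, smul_eq_mul] at h0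
    rcases mul_eq_zero.1 h0 with h | h
    · rw [hv', h, zero_smul]
    · exact absurd h (hdne 0)
  have hfin : Module.finrank F (Fin (2 * m' + 1) → F) =
      Module.finrank F (Unit ⊕ (Fin m' ⊕ Fin m') → F) := by
    rw [Module.finrank_fin_fun, Module.finrank_fintype_fun_eq_card]
    simp only [Fintype.card_sum, Fintype.card_fin, Fintype.card_unit]
    omega
  refine ⟨LinearMap.linearEquivOfInjective EL hinj hfin, fun u v => ?_⟩
  rw [LinearMap.linearEquivOfInjective_apply, LinearMap.linearEquivOfInjective_apply]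
  -- Gram matrix
  have hG : LinearMap.BilinForm.toMatrix b B =
      Matrix.fromBlocks (Matrix.fromBlocks 0 1 (-1) 0) 0 0 0 := by
    ext s t
    rw [LinearMap.BilinForm.toMatrix_apply]
    rcases s with (i | i) | i <;> rcases t with (j | j) | j
    · rw [r2]; simp
    · rw [r1]; simp [Matrix.one_apply]
    · rw [← hAlt.neg_eq, r4, neg_zero]; simp
    · rw [← hAlt.neg_eq, r1]; simp [Matrix.one_apply, eq_comm]
    · rw [r3]; simp
    · rw [← hAlt.neg_eq, r4, neg_zero]; simp
    · rw [r4]; simp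
    · rw [r4]; simp
    · rw [r4]; simp
  have hBuv : B u v = ∑ i : Fin m', (b.repr u (Sum.inl (Sum.inl i)) * b.repr v (Sum.inl (Sum.inr i)) -
      b.repr v (Sum.inl (Sum.inl i)) * b.repr u (Sum.inl (Sum.inr i))) := by
    rw [LinearMap.BilinForm.apply_eq_dotProduct_toMatrix_mulVec b B u v, hG]
    simp [Matrix.fromBlocks_mulVec, dotProduct, Fintype.sum_sum_type, Matrix.mulVec,
      Matrix.one_apply, Finset.sum_sub_distrib]
    rw [← sub_eq_add_neg]
    congr 1
    apply Finset.sum_congr rfl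
    intro i _
    ring
  have hBA : BA A.1 u v = B u v - (d ⬝ᵥ u) * (d ⬝ᵥ v) := by
    rw [hBapp]
    ring
  unfold BB2 lam2 PP2
  rw [hEL0, hEL0, hBA, hBuv]
  simp only [hEL1]
  rw [Finset.sum_add_distrib, Finset.sum_sub_distrib]
  linear_combination (d ⬝ᵥ u * d ⬝ᵥ v +
    ∑ i, b.repr v (Sum.inl (Sum.inl i)) * b.repr u (Sum.inl (Sum.inr i))) * h2

end normalform

end Cfsg.Agent.Lib.Helper19.PSLGraph
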