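import Mathlib
import Cfsg.Prelude.Def_LieTypeDatum
import Cfsg.Agent.Lib.Helper19.PSLGraph
import Cfsg.Agent.Lib.Helper19.PSLGraph2
import Cfsg.Agent.Lib.Helper19.PSLGraph5
import Cfsg.Agent.Lib.Helper19.PSLGraph6
import Cfsg.Agent.Lib.Helper19.PSLGraph8
import Cfsg.Agent.Lib.Helper19.PSLGraph9
import Cfsg.Agent.Lib.Helper27.SympTransv
import Cfsg.Agent.Lib.Helper27.SympTransv2
import Cfsg.Agent.Lib.Helper27.SympTransv3
import Cfsg.Agent.Lib.Helper27.SympRankOne
import Cfsg.Agent.S0752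
import Cfsg.Agent.S0271

/-!
# Helper19: symmetric matrices in characteristic two, even dimension
-/

set_option autoImplicit false

namespace Cfsg.Agent.Lib.Helper19.PSLGraph

open Matrix
open scoped MatrixGroups
open Cfsg.Agent.Lib.Helper27.SympTransv

section coords

variable {F : Type*} [Field F]

/-- Symplectic coordinates from a symplectic basis. -/
lemma symp_coords_of_basis {V : Type*} [AddCommGroup V] [Module F V] (m : ℕ)
    (B : LinearMap.BilinForm F V) (hAlt : B.IsAlt)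
    (b : Module.Basis ((Fin m ⊕ Fin m) ⊕ Fin 0) F V)
    (r1 : ∀ i j : Fin m, B (b (Sum.inl (Sum.inl i))) (b (Sum.inl (Sum.inr j))) = if i = j then 1 else 0)
    (r2 : ∀ i j : Fin m, B (b (Sum.inl (Sum.inl i))) (b (Sum.inl (Sum.inl j))) = 0)
    (r3 : ∀ i j : Fin m, B (b (Sum.inl (Sum.inr i))) (b (Sum.inl (Sum.inr j))) = 0) :
    ∃ E : V ≃ₗ[F] (Fin m ⊕ Fin m → F), ∀ x y, Cfsg.sympForm m F (E x) (E y) = - B x y := by
  classical
  let b' : Module.Basis (Fin m ⊕ Fin m) F V := b.reindex (Equiv.sumEmpty _ _)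
  have hb' : ∀ s, b' s = b (Sum.inl s) := by
    intro s
    show b.reindex (Equiv.sumEmpty _ _) s = _
    rw [Module.Basis.reindex_apply]
    rfl
  have hG : LinearMap.BilinForm.toMatrix b' B = - Matrix.J (Fin m) F := by
    ext s t
    rw [LinearMap.BilinForm.toMatrix_apply, hb', hb']
    rcases s with i | i <;> rcases t with j | j
    · rw [r2]
      simp [Matrix.J]
    · rw [r1]
      simp [Matrix.J, Matrix.one_apply]
    · rw [← hAlt.neg_eq, r1]
      simp [Matrix.J, Matrix.one_apply, eq_comm]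
    · rw [r3]
      simp [Matrix.J]
  refine ⟨b'.equivFun, fun x y => ?_⟩
  rw [LinearMap.BilinForm.apply_eq_dotProduct_toMatrix_mulVec b' B x y, hG]
  unfold Cfsg.sympForm
  rw [Matrix.neg_mulVec, dotProduct_neg, neg_neg]
  rfl

end coords

section even

variable {F : Type*} [Field F] [Fintype F]

/-- The symmetric non-alternating model form attached to a vector. -/
def CC3 {m : ℕ} (e : Fin m ⊕ Fin m → F) (x y : Fin m ⊕ Fin m → F) : F :=
  Cfsg.sympForm m F x y + Cfsg.sympForm m F x e * Cfsg.sympForm m F y e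

lemma neg_eq_self2 (h2 : (2 : F) = 0) (a : F) : -a = a := by linear_combination (-a) * h2

/-- Normal form of the alternating and the non-alternating symmetric matrices in even dimension,
characteristic two. -/
theorem normal_form_char2_even (h2 : (2 : F) = 0) (m : ℕ) (A : GL (Fin (2 * m)) F)
    (hA : A.1ᵀ = A.1) :
    ((∀ x, BA A.1 x x = 0) → ∃ E : (Fin (2 * m) → F) ≃ₗ[F] (Fin m ⊕ Fin m → F),
      ∀ x y, Cfsg.sympForm m F (E x) (E y) = BA A.1 x y) ∧
    ((¬ ∀ x, BA A.1 x x = 0) → ∀ e : Fin m ⊕ Fin m → F, e ≠ 0 →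
      ∃ E : (Fin (2 * m) → F) ≃ₗ[F] (Fin m ⊕ Fin m → F), ∀ x y, CC3 e (E x) (E y) = BA A.1 x y) := by
  classical
  obtain ⟨d, hd⟩ := BA_diag_char2 h2 A.1 hA
  set B : LinearMap.BilinForm F (Fin (2 * m) → F) :=
    Matrix.toBilin' (A.1 + Matrix.vecMulVec d d) with hB
  have hBapp : ∀ x y, B x y = BA A.1 x y + (d ⬝ᵥ x) * (d ⬝ᵥ y) := by
    intro x y
    rw [hB, Matrix.toBilin'_apply', Matrix.add_mulVec, dotProduct_add, Matrix.vecMulVec_mulVec,
      op_smul_eq_smul, dotProduct_smul, smul_eq_mul, dotProduct_comm x d]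
    unfold BA
    ring
  have hAlt : B.IsAlt := fun x => by
    rw [hBapp, hd]
    linear_combination ((d ⬝ᵥ x) * (d ⬝ᵥ x)) * h2
  obtain ⟨m', k', b, r1, r2, r3, r4⟩ := Cfsg.Agent.S0752.result B hAlt
  have hcard : 2 * m' + k' = 2 * m := by
    have h1 := Module.finrank_eq_card_basis b
    rw [Module.finrank_fin_fun] at h1
    simp only [Fintype.card_sum, Fintype.card_fin] at h1
    omega
  have hrad : ∀ j : Fin k', ∀ v, BA A.1 (b (Sum.inr j)) v = (d ⬝ᵥ b (Sum.inr j)) * (d ⬝ᵥ v) := by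
    intro j v
    have := r4 j v
    rw [hBapp] at this
    linear_combination this - ((d ⬝ᵥ b (Sum.inr j)) * (d ⬝ᵥ v)) * h2
  have hdne : ∀ j : Fin k', d ⬝ᵥ b (Sum.inr j) ≠ 0 := by
    intro j h0
    apply b.ne_zero (Sum.inr j)
    apply BA_nondeg A hA
    intro v
    rw [hrad, h0, zero_mul]
  have hk1 : k' ≤ 1 := by
    by_contra hk
    have hk2 : 2 ≤ k' := by omega
    let j0 : Fin k' := ⟨0, by omega⟩
    let j1 : Fin k' := ⟨1, by omega⟩
    have hne : (Sum.inr j1 : (Fin m' ⊕ Fin m') ⊕ Fin k') ≠ Sum.inr j0 := by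
      intro h
      have := Sum.inr_injective h
      simp [j0, j1, Fin.ext_iff] at this
    have hx : (d ⬝ᵥ b (Sum.inr j1)) • b (Sum.inr j0) - (d ⬝ᵥ b (Sum.inr j0)) • b (Sum.inr j1) = 0 := by
      apply BA_nondeg A hA
      intro v
      rw [sub_eq_add_neg, ← neg_smul, BA_add_left, BA_smul_left, BA_smul_left, hrad, hrad]
      ring
    have h1 := congrArg (fun x => b.repr x (Sum.inr j0)) hx
    simp only [map_sub, map_smul, Module.Basis.repr_self, Finsupp.coe_sub, Finsupp.coe_smul,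
      Pi.sub_apply, Pi.smul_apply, Finsupp.single_eq_same, smul_eq_mul, mul_one, map_zero,
      Finsupp.coe_zero, Pi.zero_apply] at h1
    rw [Finsupp.single_eq_of_ne hne.symm, mul_zero, sub_zero] at h1
    exact hdne j1 h1
  obtain rfl : k' = 0 := by omega
  obtain rfl : m' = m := by omega
  obtain ⟨E₀, hE₀⟩ := symp_coords_of_basis m' B hAlt b r1 r2 r3
  have hE₀' : ∀ x y, Cfsg.sympForm m' F (E₀ x) (E₀ y) = BA A.1 x y + (d ⬝ᵥ x) * (d ⬝ᵥ y) := by
    intro x y
    rw [hE₀, hBapp, neg_eq_self2 h2]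
  constructor
  · intro halt
    refine ⟨E₀, fun x y => ?_⟩
    rw [hE₀']
    have hdx : d ⬝ᵥ x = 0 := by
      have := hd x
      rw [halt x] at this
      exact mul_self_eq_zero.1 this.symm
    rw [hdx, zero_mul, add_zero]
  · intro hnalt e he
    -- the functional `μ = δ ∘ E₀⁻¹` is `ω(·, e')`
    let μ : (Fin m' ⊕ Fin m' → F) →ₗ[F] F :=
      { toFun := fun w => d ⬝ᵥ E₀.symm w
        map_add' := fun v w => by rw [map_add, dotProduct_add]
        map_smul' := fun a v => by
          rw [map_smul, dotProduct_smul]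
          rfl }
    have hμ : ∀ x, μ (E₀ x) = d ⬝ᵥ x := by
      intro x
      show d ⬝ᵥ E₀.symm (E₀ x) = _
      rw [LinearEquiv.symm_apply_apply]
    let e' : Fin m' ⊕ Fin m' → F :=
      Sum.elim (fun i => μ (Pi.single (Sum.inr i) 1)) (fun i => - μ (Pi.single (Sum.inl i) 1))
    have he' : ∀ w, Cfsg.sympForm m' F w e' = μ w := by
      intro w
      rw [sf_apply, LinearMap.pi_apply_eq_sum_univ μ w, Fintype.sum_sum_type]
      have h1 : ∀ s : Fin m' ⊕ Fin m', (fun j => if s = j then (1 : F) else 0) = Pi.single s 1 := by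
        intro s
        funext j
        rw [Pi.single_apply]
        simp only [eq_comm]
      simp only [h1, e', Sum.elim_inl, Sum.elim_inr, smul_eq_mul]
      rw [← Finset.sum_add_distrib]
      apply Finset.sum_congr rfl
      intro i _
      ring
    have he'0 : e' ≠ 0 := by
      intro h0
      apply hnalt
      intro x
      rw [hd, ← hμ, ← he', h0, sf_zero_right, zero_mul]
    obtain ⟨g, hg⟩ := Cfsg.Agent.S0271.result m' e' e he'0 he
    have hgg : g.1 * (g⁻¹).1 = 1 := by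
      have := mul_inv_cancel g
      exact congrArg Subtype.val this
    have hgg' : (g⁻¹).1 * g.1 = 1 := by
      have := inv_mul_cancel g
      exact congrArg Subtype.val this
    let G : (Fin m' ⊕ Fin m' → F) ≃ₗ[F] (Fin m' ⊕ Fin m' → F) := Matrix.toLin'OfInv hgg' hgg
    have hG : ∀ w, G w = g.1 *ᵥ w := fun w => rfl
    refine ⟨E₀.trans G, fun x y => ?_⟩
    rw [LinearEquiv.trans_apply, LinearEquiv.trans_apply, hG, hG]
    unfold CC3
    rw [sp_preserves g.1 g.2]
    have h3 : ∀ w, Cfsg.sympForm m' F (g.1 *ᵥ w) e = μ w := by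
      intro w
      rw [← he', ← hg]
      exact sp_preserves g.1 g.2 w e'
    rw [h3, h3, hμ, hμ, hE₀']
    linear_combination (d ⬝ᵥ x * d ⬝ᵥ y) * h2

end even


section groups

variable {F : Type*} [Field F]

lemma dot_mulVec_mulVec' {ι : Type*} [Fintype ι] (h A : Matrix ι ι F) (u v : ι → F) :
    (h *ᵥ u) ⬝ᵥ (A *ᵥ (h *ᵥ v)) = u ⬝ᵥ ((hᵀ * A * h) *ᵥ v) := by
  rw [← Matrix.mulVec_mulVec, ← Matrix.mulVec_mulVec, Matrix.dotProduct_mulVec u hᵀ,
    Matrix.vecMul_transpose]

lemma eq_of_bil_eq {ι : Type*} [Fintype ι] [DecidableEq ι] (M N : Matrix ι ι F)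
    (h : ∀ u v : ι → F, u ⬝ᵥ (M *ᵥ v) = u ⬝ᵥ (N *ᵥ v)) : M = N := by
  ext i j
  have := h (Pi.single i 1) (Pi.single j 1)
  simpa [Matrix.mulVec_single_one, single_one_dotProduct] using this

/-- In characteristic two (finite field), the projective similarity group of a bilinear function
is its isometry group. -/
theorem projQuot_sim_char2 [Finite F] (h2 : (2 : F) = 0) {ι : Type} [Fintype ι] [DecidableEq ι]
    (f : (ι → F) → (ι → F) → F) (hbil : ∀ (a b : F) u v, f (a • u) (b • v) = a * b * f u v)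
    (u₀ v₀ : ι → F) (hne : f u₀ v₀ ≠ 0) :
    Nonempty (↥(isoB2 f) ≃* Cfsg.projQuot (Cfsg.Geo.similarityGroup f)) := by
  apply projQuot_of_complement
  · intro h hh
    exact ⟨1, fun u v => by rw [hh u v, Units.val_one, one_mul]⟩
  · rintro h ⟨c, hc⟩
    have hd : sqrt2 (c : F) ≠ 0 := by
      intro h0
      have := sqrt2_mul_self h2 (c : F)
      rw [h0, mul_zero] at this
      exact c.ne_zero this.symm
    refine ⟨scalGL _ (Units.mk0 _ hd)⁻¹, scalGL_mem _, ?_⟩
    intro u v
    rw [Units.val_mul, ← Matrix.mulVec_mulVec, ← Matrix.mulVec_mulVec, hc, scalGL_mulVec,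
      scalGL_mulVec, hbil, Units.val_inv_eq_inv_val, Units.val_mk0]
    have := sqrt2_mul_self h2 (c : F)
    field_simp
    rw [pow_two, this]
  · intro h hh hs
    rw [Cfsg.Geo.mem_scalars_iff] at hs
    obtain ⟨c, hc⟩ := hs
    have h1 := hh u₀ v₀
    rw [hc, Matrix.smul_mulVec, Matrix.one_mulVec, Matrix.smul_mulVec, Matrix.one_mulVec, hbil] at h1
    have hcc : (c : F) * c = 1 := by
      have : ((c : F) * c - 1) * f u₀ v₀ = 0 := by linear_combination h1
      rcases mul_eq_zero.1 this with h3 | h3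
      · exact sub_eq_zero.1 h3
      · exact absurd h3 hne
    have hc1 : (c : F) = 1 := sq_inj2 h2 (by rw [hcc, one_mul])
    apply Units.ext
    rw [hc, hc1, one_smul, Units.val_one]

variable {m : ℕ}

/-- A symplectic matrix as an invertible matrix. -/
def spGL2 (A : Matrix.symplecticGroup (Fin m) F) : GL (Fin m ⊕ Fin m) F :=
  ⟨A.1, (A⁻¹).1, congrArg Subtype.val (mul_inv_cancel A), congrArg Subtype.val (inv_mul_cancel A)⟩

lemma spGL2_coe (A : Matrix.symplecticGroup (Fin m) F) :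
    ((spGL2 A : GL (Fin m ⊕ Fin m) F) : Matrix (Fin m ⊕ Fin m) (Fin m ⊕ Fin m) F) = A.1 := rfl

lemma mem_symp_of_preserves (g : Matrix (Fin m ⊕ Fin m) (Fin m ⊕ Fin m) F)
    (hg : ∀ u v, Cfsg.sympForm m F (g *ᵥ u) (g *ᵥ v) = Cfsg.sympForm m F u v) :
    g ∈ Matrix.symplecticGroup (Fin m) F := by
  rw [_root_.SymplecticGroup.mem_iff']
  apply eq_of_bil_eq
  intro u v
  rw [← dot_mulVec_mulVec']
  exact hg u v

/-- The isometry group of the symplectic form is the symplectic group. -/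
def sympEquiv2 : ↥(isoB2 (Cfsg.sympForm m F)) ≃* ↥(Matrix.symplecticGroup (Fin m) F) where
  toFun g := ⟨g.1.1, mem_symp_of_preserves g.1.1 g.2⟩
  invFun A := ⟨spGL2 A, fun u v => sp_preserves A.1 A.2 u v⟩
  left_inv g := by
    apply Subtype.ext
    apply Units.ext
    rfl
  right_inv A := by
    apply Subtype.ext
    rfl
  map_mul' g h := by
    apply Subtype.ext
    rfl

lemma symp_nondeg_right (y : Fin m ⊕ Fin m → F) (hy : ∀ w, Cfsg.sympForm m F w y = 0) : y = 0 := by
  by_contra hne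
  obtain ⟨a, -, ha⟩ := nondegOn_top y Submodule.mem_top hne
  apply ha
  rw [sf_swap, hy, neg_zero]

lemma CC3_nondeg (e y : Fin m ⊕ Fin m → F) (hy : ∀ w, CC3 e w y = 0) : y = 0 := by
  have h1 : y + Cfsg.sympForm m F y e • e = 0 := by
    apply symp_nondeg_right
    intro w
    rw [sf_add_right, sf_smul_right]
    have := hy w
    unfold CC3 at this
    linear_combination this
  have h2' : Cfsg.sympForm m F y e = 0 := by
    have h3 := congrArg (fun z => Cfsg.sympForm m F z e) h1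
    simp only [sf_add_left, sf_smul_left, sf_self, sf_zero_left, mul_zero, add_zero] at h3
    exact h3
  rw [h2', zero_smul, add_zero] at h1
  exact h1

lemma CC3_smul_smul (e : Fin m ⊕ Fin m → F) (a b : F) (u v : Fin m ⊕ Fin m → F) :
    CC3 e (a • u) (b • v) = a * b * CC3 e u v := by
  unfold CC3
  rw [sf_smul_left, sf_smul_right, sf_smul_left, sf_smul_left]
  ring

lemma sf_smul_smul (a b : F) (u v : Fin m ⊕ Fin m → F) :
    Cfsg.sympForm m F (a • u) (b • v) = a * b * Cfsg.sympForm m F u v := by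
  rw [sf_smul_left, sf_smul_right]
  ring

lemma mem_isoB2_CC3_iff (h2 : (2 : F) = 0) (e : Fin m ⊕ Fin m → F) (g : GL (Fin m ⊕ Fin m) F) :
    g ∈ isoB2 (CC3 e) ↔ g ∈ isoB2 (Cfsg.sympForm m F) ∧ g.1 *ᵥ e = e := by
  constructor
  · intro hg
    have h1 : ∀ x, Cfsg.sympForm m F (g.1 *ᵥ x) e = Cfsg.sympForm m F x e := by
      intro x
      have := hg x x
      unfold CC3 at this
      rw [sf_self, sf_self, zero_add, zero_add] at this
      exact sq_inj2 h2 this
    have h3 : ∀ x y, Cfsg.sympForm m F (g.1 *ᵥ x) (g.1 *ᵥ y) = Cfsg.sympForm m F x y := by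
      intro x y
      have := hg x y
      unfold CC3 at this
      rw [h1, h1] at this
      exact add_right_cancel this
    refine ⟨h3, ?_⟩
    apply sub_eq_zero.1
    apply symp_nondeg_right
    intro w
    obtain ⟨x, rfl⟩ := GL_surj g w
    rw [sf_sub_right, h3, h1, sub_self]
  · rintro ⟨h3, he⟩ x y
    unfold CC3
    have h1 : ∀ x, Cfsg.sympForm m F (g.1 *ᵥ x) e = Cfsg.sympForm m F x e := by
      intro x
      conv_lhs => rw [← he]
      exact h3 x e
    rw [h3 x y, h1, h1]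

lemma mem_centralizer_tv_iff (h2 : (2 : F) = 0) (e : Fin m ⊕ Fin m → F) (he : e ≠ 0)
    (A : Matrix.symplecticGroup (Fin m) F) :
    A ∈ Subgroup.centralizer ({Cfsg.Agent.Lib.Helper27.SympTransv.tv e 1} : Set (Matrix.symplecticGroup (Fin m) F)) ↔ A.1 *ᵥ e = e := by
  rw [Subgroup.mem_centralizer_singleton_iff]
  constructor
  · intro h
    have h1 : Cfsg.Agent.Lib.Helper27.SympTransv.tv (act A e) 1 = Cfsg.Agent.Lib.Helper27.SympTransv.tv e 1 := by
      rw [← conj_tv, h, mul_inv_cancel_right]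
    obtain ⟨a, ha, hae⟩ := tv_eq_tv e (act A e) he 1 one_ne_zero h1
    have ha1 : a = 1 := sq_inj2 h2 (by rw [← pow_two, ha, one_mul])
    rw [ha1, one_smul] at hae
    exact hae
  · intro h
    have h1 := conj_tv A e (1 : F)
    have h3 : act A e = e := h
    rw [h3] at h1
    symm
    calc Cfsg.Agent.Lib.Helper27.SympTransv.tv e 1 * A
        = A * Cfsg.Agent.Lib.Helper27.SympTransv.tv e 1 * A⁻¹ * A := by rw [h1]
      _ = A * Cfsg.Agent.Lib.Helper27.SympTransv.tv e 1 := by group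

/-- The isometry group of the non-alternating model form is the centraliser of a transvection. -/
def stabEquiv2 (h2 : (2 : F) = 0) (e : Fin m ⊕ Fin m → F) (he : e ≠ 0) :
    ↥(isoB2 (CC3 e)) ≃*
      ↥(Subgroup.centralizer ({Cfsg.Agent.Lib.Helper27.SympTransv.tv e 1} : Set (Matrix.symplecticGroup (Fin m) F))) where
  toFun g := ⟨⟨g.1.1, mem_symp_of_preserves g.1.1 ((mem_isoB2_CC3_iff h2 e g.1).1 g.2).1⟩,
    (mem_centralizer_tv_iff h2 e he _).2 ((mem_isoB2_CC3_iff h2 e g.1).1 g.2).2⟩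
  invFun A := ⟨spGL2 A.1, (mem_isoB2_CC3_iff h2 e _).2
    ⟨fun u v => sp_preserves A.1.1 A.1.2 u v, (mem_centralizer_tv_iff h2 e he A.1).1 A.2⟩⟩
  left_inv g := by
    apply Subtype.ext
    apply Units.ext
    rfl
  right_inv A := by
    apply Subtype.ext
    apply Subtype.ext
    rfl
  map_mul' g h := by
    apply Subtype.ext
    apply Subtype.ext
    rfl

end groups

end Cfsg.Agent.Lib.Helper19.PSLGraph
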