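import Mathlib
import Cfsg.Prelude.Def_LieTypeDatum
import Cfsg.Agent.Lib.Helper19.PSLGraph
import Cfsg.Agent.Lib.Helper19.PSLGraph10
import Cfsg.Agent.Lib.Helper27.UField
import Cfsg.Agent.Lib.Helper27.UForm
import Cfsg.Agent.Lib.Helper27.UGroup

/-!
# Helper19: the action of `GU_n` on `PSU_n`, field automorphisms
-/

set_option autoImplicit false

namespace Cfsg.Agent.Lib.Helper19.PSUGraph

open Matrix Cfsg
open Cfsg.Agent.Lib.Helper27.Unitary
open scoped MatrixGroups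

section pre

variable {n : ℕ} {F : Type*} [Field F] {q : ℕ}

lemma mem_SU_iff_toGL (s : Matrix.SpecialLinearGroup (Fin n) F) :
    s ∈ SU n F q ↔ Matrix.SpecialLinearGroup.toGL s ∈ GU n F q := Iff.rfl

end pre

section conj

variable {n : ℕ} {F : Type*} [Field F] [Fintype F] {q : ℕ}

/-- Entrywise `q`-th power of a matrix. -/
def cjM (q : ℕ) (M : Matrix (Fin n) (Fin n) F) : Matrix (Fin n) (Fin n) F := M.map (fun x => x ^ q)

/-- Entrywise `q`-th power of a vector. -/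
def cjV (q : ℕ) (v : Fin n → F) : Fin n → F := fun i => v i ^ q

lemma cjM_eq (hF : Fintype.card F = q ^ 2) (M : Matrix (Fin n) (Fin n) F) :
    cjM q M = M.map (conjHom hF) := rfl

lemma cjM_apply (M : Matrix (Fin n) (Fin n) F) (i j : Fin n) : cjM q M i j = M i j ^ q := rfl

lemma cjM_mul (hF : Fintype.card F = q ^ 2) (A B : Matrix (Fin n) (Fin n) F) :
    cjM q (A * B) = cjM q A * cjM q B := by
  rw [cjM_eq hF, cjM_eq hF, cjM_eq hF, Matrix.map_mul]

lemma cjM_one (hF : Fintype.card F = q ^ 2) : cjM q (1 : Matrix (Fin n) (Fin n) F) = 1 := by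
  rw [cjM_eq hF, Matrix.map_one _ (map_zero _) (map_one _)]

lemma cjM_cjM (hF : Fintype.card F = q ^ 2) (A : Matrix (Fin n) (Fin n) F) :
    cjM q (cjM q A) = A := by
  ext i j
  exact cj_cj hF (A i j)

lemma cjM_transpose (A : Matrix (Fin n) (Fin n) F) : cjM q Aᵀ = (cjM q A)ᵀ := rfl

lemma cjM_smul (c : F) (A : Matrix (Fin n) (Fin n) F) : cjM q (c • A) = c ^ q • cjM q A := by
  ext i j
  simp [cjM, mul_pow]

lemma det_cjM (hF : Fintype.card F = q ^ 2) (A : Matrix (Fin n) (Fin n) F) :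
    (cjM q A).det = A.det ^ q := by
  rw [cjM_eq hF]
  exact (RingHom.map_det (conjHom hF) A).symm

lemma cjV_cjV (hF : Fintype.card F = q ^ 2) (v : Fin n → F) : cjV q (cjV q v) = v := by
  funext i
  exact cj_cj hF (v i)

lemma cjV_mulVec (hF : Fintype.card F = q ^ 2) (M : Matrix (Fin n) (Fin n) F) (v : Fin n → F) :
    cjV q (M *ᵥ v) = cjM q M *ᵥ cjV q v := by
  funext i
  exact RingHom.map_mulVec (conjHom hF) M v i

lemma hermForm_eq (u v : Fin n → F) : hermForm n F q u v = u ⬝ᵥ cjV q v := rfl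

lemma hermForm_mulVec (hF : Fintype.card F = q ^ 2) (g : Matrix (Fin n) (Fin n) F) (u v : Fin n → F) :
    hermForm n F q (g *ᵥ u) (g *ᵥ v) = u ⬝ᵥ ((gᵀ * cjM q g) *ᵥ cjV q v) := by
  rw [hermForm_eq, cjV_mulVec hF, ← Matrix.mulVec_mulVec, Matrix.dotProduct_mulVec u gᵀ,
    Matrix.vecMul_transpose]

lemma mat_mem_GU_iff (hF : Fintype.card F = q ^ 2) (g : GL (Fin n) F) :
    g ∈ GU n F q ↔ g.1ᵀ * cjM q g.1 = 1 := by
  constructor
  · intro hg
    apply Cfsg.Agent.Lib.Helper19.PSLGraph.eq_of_bil_eq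
    intro u w
    have h : hermForm n F q (g.1 *ᵥ u) (g.1 *ᵥ cjV q w) = hermForm n F q u (cjV q w) :=
      hg u (cjV q w)
    rw [hermForm_mulVec hF, hermForm_eq, cjV_cjV hF] at h
    rw [h, Matrix.one_mulVec]
  · intro h u v
    show hermForm n F q (g.1 *ᵥ u) (g.1 *ᵥ v) = _
    rw [hermForm_mulVec hF, h, Matrix.one_mulVec]
    rfl

lemma mat_mem_SU_iff (hF : Fintype.card F = q ^ 2) (s : Matrix.SpecialLinearGroup (Fin n) F) :
    s ∈ SU n F q ↔ s.1ᵀ * cjM q s.1 = 1 := by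
  rw [mem_SU_iff_toGL, mat_mem_GU_iff hF]
  rfl

/-- For unitary matrices the conjugate is the inverse transpose. -/
lemma cjM_of_GU (hF : Fintype.card F = q ^ 2) (g : GL (Fin n) F) (hg : g ∈ GU n F q) :
    cjM q g.1 = (g⁻¹).1ᵀ := by
  have h := (mat_mem_GU_iff hF g).1 hg
  have h2 : (g⁻¹).1ᵀ * g.1ᵀ = 1 := by
    rw [← Matrix.transpose_mul, Units.mul_inv, Matrix.transpose_one]
  calc cjM q g.1 = (g⁻¹).1ᵀ * g.1ᵀ * cjM q g.1 := by rw [h2, one_mul]
    _ = (g⁻¹).1ᵀ := by rw [mul_assoc, h, mul_one]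

end conj


section aut

open Cfsg.Agent.Lib.Helper19.PSLGraph (conjFun conjFun_coe conjFun_one conjFun_mul conjFun_map_mul)

variable {n : ℕ} {F : Type*} [Field F] {q : ℕ}

lemma toGL_conjFun (g : GL (Fin n) F) (s : Matrix.SpecialLinearGroup (Fin n) F) :
    Matrix.SpecialLinearGroup.toGL (conjFun g s) = g * Matrix.SpecialLinearGroup.toGL s * g⁻¹ := by
  apply Units.ext
  rfl

lemma conjFun_mem_SU (g : GL (Fin n) F) (hg : g ∈ GU n F q) (s : Matrix.SpecialLinearGroup (Fin n) F)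
    (hs : s ∈ SU n F q) : conjFun g s ∈ SU n F q := by
  rw [mem_SU_iff_toGL, toGL_conjFun]
  exact mul_mem (mul_mem hg ((mem_SU_iff_toGL s).1 hs)) (inv_mem hg)

/-- Conjugation by a unitary matrix on `SU`. -/
def conjSU (g : ↥(GU n F q)) : ↥(SU n F q) ≃* ↥(SU n F q) where
  toFun s := ⟨conjFun g.1 s.1, conjFun_mem_SU g.1 g.2 s.1 s.2⟩
  invFun s := ⟨conjFun g.1⁻¹ s.1, conjFun_mem_SU g.1⁻¹ (inv_mem g.2) s.1 s.2⟩
  left_inv s := by
    apply Subtype.ext
    show conjFun g.1⁻¹ (conjFun g.1 s.1) = s.1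
    rw [← conjFun_mul, inv_mul_cancel, conjFun_one]
  right_inv s := by
    apply Subtype.ext
    show conjFun g.1 (conjFun g.1⁻¹ s.1) = s.1
    rw [← conjFun_mul, mul_inv_cancel, conjFun_one]
  map_mul' s t := by
    apply Subtype.ext
    exact conjFun_map_mul g.1 s.1 t.1

lemma conjSU_coe (g : ↥(GU n F q)) (s : ↥(SU n F q)) : (conjSU g s).1 = conjFun g.1 s.1 := rfl

/-- The automorphism of `PSU` induced by an automorphism of `SU`. -/
def autPSU (e : ↥(SU n F q) ≃* ↥(SU n F q)) : MulAut (PSU n F q) :=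
  QuotientGroup.congr (Subgroup.center _) (Subgroup.center _) e
    (Subgroup.characteristic_iff_map_eq.1 inferInstance e)

lemma autPSU_mk (e : ↥(SU n F q) ≃* ↥(SU n F q)) (s : ↥(SU n F q)) :
    autPSU e (QuotientGroup.mk s) = (QuotientGroup.mk (e s) : PSU n F q) := rfl

lemma autU_ext {a b : MulAut (PSU n F q)}
    (h : ∀ s : ↥(SU n F q), a (QuotientGroup.mk s) = b (QuotientGroup.mk s)) : a = b := by
  apply MulEquiv.ext
  intro x
  induction x using QuotientGroup.induction_on with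
  | H s => exact h s

/-- The action of `GU` on `PSU`. -/
def PhiU : ↥(GU n F q) →* MulAut (PSU n F q) :=
  MonoidHom.mk' (fun g => autPSU (conjSU g)) (by
    intro g h
    apply autU_ext
    intro s
    rw [MulAut.mul_apply, autPSU_mk, autPSU_mk, autPSU_mk]
    congr 1
    apply Subtype.ext
    rw [conjSU_coe, conjSU_coe, conjSU_coe]
    exact conjFun_mul g.1 h.1 s.1)

lemma PhiU_mk (g : ↥(GU n F q)) (s : ↥(SU n F q)) :
    PhiU g (QuotientGroup.mk s) = (QuotientGroup.mk (conjSU g s) : PSU n F q) := rfl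

lemma isInnerDiagU_iff (β : MulAut (PSU n F q)) :
    Cfsg.IsInnerDiagonalAutPSU β ↔ ∃ g : ↥(GU n F q), β = PhiU g := by
  constructor
  · rintro ⟨g, hgU, hg⟩
    refine ⟨⟨g, hgU⟩, autU_ext fun s => ?_⟩
    rw [PhiU_mk]
    exact hg s (conjSU ⟨g, hgU⟩ s) rfl
  · rintro ⟨g, rfl⟩
    refine ⟨g.1, g.2, fun s s' hs => ?_⟩
    rw [PhiU_mk]
    congr 1
    apply Subtype.ext
    apply Subtype.ext
    rw [conjSU_coe, conjFun_coe, hs]

lemma inndiagU_eq : Cfsg.inndiagPSU n F q = (PhiU (n := n) (F := F) (q := q)).range := by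
  unfold Cfsg.inndiagPSU Cfsg.autSubgroupOf
  have : {β : MulAut (PSU n F q) | Cfsg.IsInnerDiagonalAutPSU β} =
      ((PhiU (n := n) (F := F) (q := q)).range : Set _) := by
    ext β
    show Cfsg.IsInnerDiagonalAutPSU β ↔ _
    rw [isInnerDiagU_iff]
    constructor
    · rintro ⟨g, rfl⟩
      exact ⟨g, rfl⟩
    · rintro ⟨g, rfl⟩
      exact ⟨g, rfl⟩
  rw [this, Subgroup.closure_eq]

/-! ### field automorphisms -/

/-- Entrywise image of a vector. -/
def mapV (σ : F ≃+* F) (v : Fin n → F) : Fin n → F := fun i => σ (v i)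

lemma mapV_mulVec (σ : F ≃+* F) (M : Matrix (Fin n) (Fin n) F) (v : Fin n → F) :
    mapV σ (M *ᵥ v) = M.map σ *ᵥ mapV σ v := by
  funext i
  exact RingHom.map_mulVec (σ : F →+* F) M v i

lemma hermForm_mapV (σ : F ≃+* F) (u v : Fin n → F) :
    hermForm n F q (mapV σ u) (mapV σ v) = σ (hermForm n F q u v) := by
  simp [hermForm, mapV, map_sum, map_mul, map_pow]

lemma mapV_symm (σ : F ≃+* F) (v : Fin n → F) : mapV σ (mapV σ.symm v) = v := by
  funext i
  simp [mapV]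

lemma map_mem_GU (σ : F ≃+* F) (g : GL (Fin n) F) (hg : g ∈ GU n F q) :
    Matrix.GeneralLinearGroup.map (σ : F →+* F) g ∈ GU n F q := by
  intro u v
  show hermForm n F q ((g.1.map σ) *ᵥ u) ((g.1.map σ) *ᵥ v) = _
  rw [← mapV_symm σ u, ← mapV_symm σ v, ← mapV_mulVec, ← mapV_mulVec, hermForm_mapV, hermForm_mapV]
  congr 1
  exact hg _ _

/-- The entrywise field automorphism of `GU`. -/
def fieldGU (σ : F ≃+* F) : ↥(GU n F q) →* ↥(GU n F q) where
  toFun g := ⟨Matrix.GeneralLinearGroup.map (σ : F →+* F) g.1, map_mem_GU σ g.1 g.2⟩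
  map_one' := by
    apply Subtype.ext
    exact map_one _
  map_mul' g h := by
    apply Subtype.ext
    exact map_mul _ g.1 h.1

lemma fieldGU_coe (σ : F ≃+* F) (g : ↥(GU n F q)) : ((fieldGU σ g).1 : GL (Fin n) F).1 = g.1.1.map σ := rfl

lemma toGL_map (σ : F ≃+* F) (s : Matrix.SpecialLinearGroup (Fin n) F) :
    Matrix.SpecialLinearGroup.toGL (Matrix.SpecialLinearGroup.map (σ : F →+* F) s) =
      Matrix.GeneralLinearGroup.map (σ : F →+* F) (Matrix.SpecialLinearGroup.toGL s) := by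
  apply Units.ext
  rfl

lemma map_mem_SU (σ : F ≃+* F) (s : Matrix.SpecialLinearGroup (Fin n) F) (hs : s ∈ SU n F q) :
    Matrix.SpecialLinearGroup.map (σ : F →+* F) s ∈ SU n F q := by
  rw [mem_SU_iff_toGL, toGL_map]
  exact map_mem_GU σ _ ((mem_SU_iff_toGL s).1 hs)

/-- The entrywise field automorphism of `SU`. -/
def fieldSU (σ : F ≃+* F) : ↥(SU n F q) ≃* ↥(SU n F q) where
  toFun s := ⟨Matrix.SpecialLinearGroup.map (σ : F →+* F) s.1, map_mem_SU σ s.1 s.2⟩
  invFun s := ⟨Matrix.SpecialLinearGroup.map (σ.symm : F →+* F) s.1, map_mem_SU σ.symm s.1 s.2⟩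
  left_inv s := by
    apply Subtype.ext
    apply Subtype.ext
    ext i j
    simp
  right_inv s := by
    apply Subtype.ext
    apply Subtype.ext
    ext i j
    simp
  map_mul' s t := by
    apply Subtype.ext
    exact map_mul _ s.1 t.1

lemma fieldSU_coe (σ : F ≃+* F) (s : ↥(SU n F q)) : ((fieldSU σ s).1 : Matrix.SpecialLinearGroup (Fin n) F).1 = s.1.1.map σ := rfl

/-- The standard field automorphism of `PSU`. -/
def fieldPSU (σ : F ≃+* F) : MulAut (PSU n F q) := autPSU (fieldSU σ)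

lemma fieldPSU_mk (σ : F ≃+* F) (s : ↥(SU n F q)) :
    fieldPSU σ (QuotientGroup.mk s) = (QuotientGroup.mk (fieldSU σ s) : PSU n F q) := rfl

lemma isFieldAutU_iff (σ : F ≃+* F) (φ : MulAut (PSU n F q)) :
    Cfsg.IsFieldAutPSUOf σ φ ↔ φ = fieldPSU σ := by
  constructor
  · intro h
    apply autU_ext
    intro s
    rw [fieldPSU_mk]
    exact h s (fieldSU σ s) rfl
  · rintro rfl s s' hs
    rw [fieldPSU_mk]
    congr 1
    apply Subtype.ext
    apply Subtype.ext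
    rw [fieldSU_coe, hs]

lemma fieldPSU_mul (σ τ : F ≃+* F) :
    (fieldPSU σ * fieldPSU τ : MulAut (PSU n F q)) = fieldPSU (σ * τ) := by
  apply autU_ext
  intro s
  rw [MulAut.mul_apply, fieldPSU_mk, fieldPSU_mk, fieldPSU_mk]
  congr 1

lemma fieldPSU_one : (fieldPSU (1 : F ≃+* F) : MulAut (PSU n F q)) = 1 := by
  apply autU_ext
  intro s
  rw [fieldPSU_mk]
  show _ = QuotientGroup.mk s
  congr 1

/-- Field automorphisms normalise the inner-diagonal group. -/
lemma fieldPSU_PhiU (σ : F ≃+* F) (g : ↥(GU n F q)) :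
    (fieldPSU σ * PhiU g : MulAut (PSU n F q)) = PhiU (fieldGU σ g) * fieldPSU σ := by
  apply autU_ext
  intro s
  rw [MulAut.mul_apply, MulAut.mul_apply, PhiU_mk, fieldPSU_mk, fieldPSU_mk, PhiU_mk]
  congr 1
  apply Subtype.ext
  apply Subtype.ext
  rw [fieldSU_coe, conjSU_coe, conjFun_coe, conjSU_coe, conjFun_coe, fieldSU_coe]
  have hinv : ((fieldGU σ g).1⁻¹ : GL (Fin n) F).1 = (g.1⁻¹ : GL (Fin n) F).1.map σ := by
    have : ((fieldGU σ g).1⁻¹ : GL (Fin n) F) = Matrix.GeneralLinearGroup.map (σ : F →+* F) g.1⁻¹ := by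
      rw [map_inv]
      rfl
    rw [this]
    rfl
  rw [hinv, fieldGU_coe]
  rw [Matrix.map_mul, Matrix.map_mul]

end aut

end Cfsg.Agent.Lib.Helper19.PSUGraph
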