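import Mathlib

/-!
# Some facts on the alternating group of degree six (helper19)
-/

set_option autoImplicit false

namespace Cfsg.Agent.Lib.Helper19.A6

open Equiv Equiv.Perm

/-- among three even permutations of the same cycle type two are conjugate in the alternating
group -/
lemma conj_of_three {n : ℕ} (σ₁ σ₂ σ₃ : alternatingGroup (Fin n))
    (h12 : (σ₁ : Perm (Fin n)).cycleType = (σ₂ : Perm (Fin n)).cycleType)
    (h13 : (σ₁ : Perm (Fin n)).cycleType = (σ₃ : Perm (Fin n)).cycleType) :
    IsConj σ₁ σ₂ ∨ IsConj σ₁ σ₃ ∨ IsConj σ₂ σ₃ := by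
  obtain ⟨π, hπ⟩ := isConj_iff.1 ((isConj_iff_cycleType_eq).2 h12)
  obtain ⟨ρ, hρ⟩ := isConj_iff.1 ((isConj_iff_cycleType_eq).2 h13)
  rcases Int.units_eq_one_or (sign π) with h | h
  · left
    rw [isConj_iff]
    exact ⟨⟨π, mem_alternatingGroup.mpr h⟩, Subtype.ext hπ⟩
  · rcases Int.units_eq_one_or (sign ρ) with h' | h'
    · right; left
      rw [isConj_iff]
      exact ⟨⟨ρ, mem_alternatingGroup.mpr h'⟩, Subtype.ext hρ⟩
    · right; right
      rw [isConj_iff]
      refine ⟨⟨ρ * π⁻¹, ?_⟩, Subtype.ext ?_⟩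
      · rw [mem_alternatingGroup, Perm.sign_mul, sign_inv, h, h']
        rfl
      · show (ρ * π⁻¹) * (σ₂ : Perm (Fin n)) * (ρ * π⁻¹)⁻¹ = (σ₃ : Perm (Fin n))
        rw [← hπ, ← hρ]
        group

/-- the cycle types of the permutations of odd order of six letters -/
lemma cycleType_of_odd_order (g : Perm (Fin 6)) (k : ℕ) (hk : orderOf g = k) (hodd : Odd k)
    (hk1 : 1 < k) :
    (k = 3 ∧ (g.cycleType = {3} ∨ g.cycleType = {3, 3})) ∨ (k = 5 ∧ g.cycleType = {5}) := by
  have hg1 : g ≠ 1 := by
    rintro rfl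
    rw [orderOf_one] at hk
    omega
  have hm0 : g.cycleType ≠ 0 := fun h => hg1 (cycleType_eq_zero.mp h)
  have hmem : ∀ c ∈ g.cycleType, 3 ≤ c ∧ Odd c := by
    intro c hc
    have h1 := two_le_of_mem_cycleType hc
    have h2 : c ∣ k := hk ▸ dvd_of_mem_cycleType hc
    have h3 : Odd c := Odd.of_dvd_nat hodd h2
    refine ⟨?_, h3⟩
    rcases h3 with ⟨r, hr⟩
    omega
  have hsum : g.cycleType.sum ≤ 6 := by
    have := sum_cycleType_le g
    simpa using this
  have hlcm : g.cycleType.lcm = k := by rw [lcm_cycleType, hk]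
  obtain ⟨c, hc⟩ := Multiset.exists_mem_of_ne_zero hm0
  obtain ⟨m', hm'⟩ := Multiset.exists_cons_of_mem hc
  rw [hm'] at hmem hsum hlcm ⊢
  rw [Multiset.sum_cons] at hsum
  have hc3 := hmem c (Multiset.mem_cons_self c m')
  by_cases hm'0 : m' = 0
  · subst hm'0
    rw [Multiset.lcm_cons, Multiset.lcm_zero, lcm_one_right, normalize_eq] at hlcm
    rw [Multiset.sum_zero] at hsum
    have hc5 : c = 3 ∨ c = 5 := by
      rcases hc3.2 with ⟨r, hr⟩
      omega
    rcases hc5 with h | h
    · left
      refine ⟨by omega, Or.inl ?_⟩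
      rw [h]
      rfl
    · right
      refine ⟨by omega, ?_⟩
      rw [h]
      rfl
  · obtain ⟨c', hc'⟩ := Multiset.exists_mem_of_ne_zero hm'0
    obtain ⟨m'', hm''⟩ := Multiset.exists_cons_of_mem hc'
    rw [hm''] at hmem hsum hlcm ⊢
    rw [Multiset.sum_cons] at hsum
    have hc'3 := hmem c' (Multiset.mem_cons_of_mem (Multiset.mem_cons_self c' m''))
    have hm''0 : m'' = 0 := by
      by_contra hne
      obtain ⟨c'', hc''⟩ := Multiset.exists_mem_of_ne_zero hne
      have h3 := hmem c'' (Multiset.mem_cons_of_mem (Multiset.mem_cons_of_mem hc''))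
      have h4 : c'' ≤ m''.sum := Multiset.single_le_sum (fun _ _ => Nat.zero_le _) _ hc''
      omega
    subst hm''0
    rw [Multiset.sum_zero] at hsum
    have e1 : c = 3 := by omega
    have e2 : c' = 3 := by omega
    subst e1 e2
    left
    constructor
    · rw [← hlcm]
      simp [Multiset.lcm_cons]
    · right
      rfl

/-- two even permutations of six letters that are 3-cycles are conjugate in `A_6` -/
lemma conj_of_three_cycles (σ τ : alternatingGroup (Fin 6))
    (hσ : (σ : Perm (Fin 6)).cycleType = {3}) (hτ : (τ : Perm (Fin 6)).cycleType = {3}) :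
    IsConj σ τ := by
  apply alternatingGroup.isConj_of
  · rw [isConj_iff_cycleType_eq, hσ, hτ]
  · rw [← sum_cycleType, hσ]
    simp

/-- among four elements of `A_6` of the same odd order greater than one, two are conjugate -/
theorem exists_conj_of_four (b : Fin 4 → alternatingGroup (Fin 6)) (k : ℕ)
    (hk : ∀ i, orderOf (b i) = k) (hodd : Odd k) (hk1 : 1 < k) :
    ∃ i j, i ≠ j ∧ IsConj (b i) (b j) := by
  have hk' : ∀ i, orderOf ((b i : alternatingGroup (Fin 6)) : Perm (Fin 6)) = k := by
    intro i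
    rw [Subgroup.orderOf_coe]
    exact hk i
  have key2 : ∀ i j, i ≠ j → ((b i : alternatingGroup (Fin 6)) : Perm (Fin 6)).cycleType = {3} →
      ((b j : alternatingGroup (Fin 6)) : Perm (Fin 6)).cycleType = {3} →
      ∃ i j, i ≠ j ∧ IsConj (b i) (b j) :=
    fun i j hij hi hj => ⟨i, j, hij, conj_of_three_cycles _ _ hi hj⟩
  have key3 : ∀ i j l, i ≠ j → i ≠ l → j ≠ l →
      ((b i : alternatingGroup (Fin 6)) : Perm (Fin 6)).cycleType =
        ((b j : alternatingGroup (Fin 6)) : Perm (Fin 6)).cycleType →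
      ((b i : alternatingGroup (Fin 6)) : Perm (Fin 6)).cycleType =
        ((b l : alternatingGroup (Fin 6)) : Perm (Fin 6)).cycleType →
      ∃ i j, i ≠ j ∧ IsConj (b i) (b j) := by
    intro i j l hij hil hjl h1 h2
    rcases conj_of_three (b i) (b j) (b l) h1 h2 with h | h | h
    · exact ⟨i, j, hij, h⟩
    · exact ⟨i, l, hil, h⟩
    · exact ⟨j, l, hjl, h⟩
  have hcl := fun i => cycleType_of_odd_order _ k (hk' i) hodd hk1
  rcases hcl 0 with ⟨h3, h0⟩ | ⟨h5, h0⟩
  · have hc : ∀ i, ((b i : alternatingGroup (Fin 6)) : Perm (Fin 6)).cycleType = {3} ∨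
        ((b i : alternatingGroup (Fin 6)) : Perm (Fin 6)).cycleType = {3, 3} := by
      intro i
      rcases hcl i with ⟨_, h⟩ | ⟨h5, _⟩
      · exact h
      · omega
    rcases hc 0 with a0 | a0 <;> rcases hc 1 with a1 | a1 <;> rcases hc 2 with a2 | a2 <;>
      rcases hc 3 with a3 | a3 <;>
      first
      | exact key2 0 1 (by decide) a0 a1
      | exact key2 0 2 (by decide) a0 a2
      | exact key2 0 3 (by decide) a0 a3
      | exact key2 1 2 (by decide) a1 a2
      | exact key2 1 3 (by decide) a1 a3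
      | exact key2 2 3 (by decide) a2 a3
      | exact key3 0 1 2 (by decide) (by decide) (by decide) (a0.trans a1.symm) (a0.trans a2.symm)
      | exact key3 0 1 3 (by decide) (by decide) (by decide) (a0.trans a1.symm) (a0.trans a3.symm)
      | exact key3 0 2 3 (by decide) (by decide) (by decide) (a0.trans a2.symm) (a0.trans a3.symm)
      | exact key3 1 2 3 (by decide) (by decide) (by decide) (a1.trans a2.symm) (a1.trans a3.symm)
  · have hc : ∀ i, ((b i : alternatingGroup (Fin 6)) : Perm (Fin 6)).cycleType = {5} := by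
      intro i
      rcases hcl i with ⟨h3, _⟩ | ⟨_, h⟩
      · omega
      · exact h
    exact key3 0 1 2 (by decide) (by decide) (by decide) ((hc 0).trans (hc 1).symm)
      ((hc 0).trans (hc 2).symm)

/-- a fixed involution of `A_6` -/
def z0 : alternatingGroup (Fin 6) :=
  ⟨swap 0 1 * swap 2 3, by
    rw [mem_alternatingGroup, Perm.sign_mul, sign_swap (by decide), sign_swap (by decide)]
    rfl⟩

lemma z0_mul_self : z0 * z0 = 1 := by
  apply Subtype.ext
  show (swap (0 : Fin 6) 1 * swap 2 3) * (swap 0 1 * swap 2 3) = 1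
  decide

lemma z0_ne_one : z0 ≠ 1 := by
  intro h
  have := congrArg (fun g : alternatingGroup (Fin 6) => (g : Perm (Fin 6)) 0) h
  revert this
  show ((swap (0 : Fin 6) 1 * swap 2 3 : Perm (Fin 6))) 0 = (1 : Perm (Fin 6)) 0 → False
  decide

/-- the centraliser of this involution in `A_6` has order dividing sixteen -/
lemma card_centralizer_z0_dvd :
    Nat.card ↥(Subgroup.centralizer ({z0} : Set (alternatingGroup (Fin 6)))) ∣ 16 := by
  have h1 : Nat.card ↥(Subgroup.centralizer ({(z0 : Perm (Fin 6))} : Set (Perm (Fin 6)))) = 16 := by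
    rw [nat_card_centralizer]
    have hct : ((z0 : alternatingGroup (Fin 6)) : Perm (Fin 6)).cycleType = {2, 2} :=
      cycleType_swap_mul_swap_of_nodup (by decide)
    rw [hct]
    decide
  rw [← h1]
  have h2 : (Subgroup.centralizer ({z0} : Set (alternatingGroup (Fin 6)))).map
      (alternatingGroup (Fin 6)).subtype ≤
      Subgroup.centralizer ({(z0 : Perm (Fin 6))} : Set (Perm (Fin 6))) := by
    rintro _ ⟨c, hc, rfl⟩
    rw [Subgroup.mem_centralizer_iff]
    intro h hh
    rw [Set.mem_singleton_iff] at hh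
    subst hh
    have := (Subgroup.mem_centralizer_iff.mp hc) z0 rfl
    exact congrArg Subtype.val this
  have h3 := Subgroup.card_dvd_of_le h2
  rwa [Subgroup.card_map_of_injective (Subgroup.subtype_injective _)] at h3

end Cfsg.Agent.Lib.Helper19.A6
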