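import Mathlib
import Cfsg.Prelude.Def_Classical
import Cfsg.Prelude.Def_LieClassical

/-!
# Helper19: the unitary group inside orthogonal groups (restriction of scalars)

* `isoHom`: a representation `ρ : G →* End_F V` preserving `Q' ∘ T` for a linear equivalence
  `T : V ≃ₗ[F] (κ → F)` gives a hom `G →* isometryGroup F Q'`, injective when `ρ` is.
* `sig`: `x ↦ x ^ q` on `K` as a ring hom (`|F| = q`), with trace and norm formulas for
  `|K| = q ^ 2`.
* `rhoGU`: `GU_m(K, q)` acting `F`-linearly on `K ^ m`, preserving `v ↦ Σ N(v_i)`.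
* `Tpair`: a linear isometry from `(K ^ (r+r), Σ N(v_i))` to the hyperbolic form
  `quadFormPlus (r+r) F`.
-/

set_option autoImplicit false

namespace Cfsg.Agent.Lib.Helper19.UnitaryOrth

open Matrix

section transfer

variable {F : Type*} [Field F] {V : Type*} [AddCommGroup V] [Module F V]
  {κ : Type} [Fintype κ] [DecidableEq κ] {G : Type*} [Group G]

/-- The matrix hom attached to a representation and a coordinate system. -/
noncomputable def toGLhom (T : V ≃ₗ[F] (κ → F)) (ρ : G →* Module.End F V) : G →* GL κ F :=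
  (Units.map
    (LinearMap.toMatrixAlgEquiv (Module.Basis.ofEquivFun T) :
      Module.End F V →* Matrix κ κ F)).comp ρ.toHomUnits

lemma toGLhom_coe (T : V ≃ₗ[F] (κ → F)) (ρ : G →* Module.End F V) (g : G) :
    ((toGLhom T ρ g : GL κ F) : Matrix κ κ F) =
      LinearMap.toMatrixAlgEquiv (Module.Basis.ofEquivFun T) (ρ g) := rfl

lemma toGLhom_mulVec (T : V ≃ₗ[F] (κ → F)) (ρ : G →* Module.End F V) (g : G) (w : κ → F) :
    ((toGLhom T ρ g : GL κ F) : Matrix κ κ F) *ᵥ w = T (ρ g (T.symm w)) := by
  have h := LinearMap.toMatrix_mulVec_repr (Module.Basis.ofEquivFun T)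
    (Module.Basis.ofEquivFun T) (ρ g) (T.symm w)
  have e1 : ∀ x : V, ⇑((Module.Basis.ofEquivFun T).repr x) = T x := by
    intro x
    funext i
    exact Module.Basis.ofEquivFun_repr_apply T x i
  rw [e1, e1, LinearEquiv.apply_symm_apply] at h
  rw [toGLhom_coe]
  exact h

lemma toGLhom_injective (T : V ≃ₗ[F] (κ → F)) (ρ : G →* Module.End F V)
    (hρ : Function.Injective ρ) : Function.Injective (toGLhom T ρ) := by
  intro g g' h
  apply hρ
  have h1 : ((toGLhom T ρ g : GL κ F) : Matrix κ κ F) = (toGLhom T ρ g' : GL κ F) := by rw [h]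
  rw [toGLhom_coe, toGLhom_coe] at h1
  exact (LinearMap.toMatrixAlgEquiv (Module.Basis.ofEquivFun T)).injective h1

/-- The hom into the isometry group. -/
noncomputable def isoHom (Q' : (κ → F) → F) (T : V ≃ₗ[F] (κ → F)) (ρ : G →* Module.End F V)
    (hρ : ∀ g v, Q' (T (ρ g v)) = Q' (T v)) : G →* ↥(Cfsg.isometryGroup F Q') :=
  (toGLhom T ρ).codRestrict _ (fun g => by
    intro u v
    show Q' (_ *ᵥ u) = Q' u
    rw [Units.coeHom_apply, toGLhom_mulVec, hρ, LinearEquiv.apply_symm_apply])

lemma isoHom_injective (Q' : (κ → F) → F) (T : V ≃ₗ[F] (κ → F)) (ρ : G →* Module.End F V)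
    (hρ : ∀ g v, Q' (T (ρ g v)) = Q' (T v)) (hinj : Function.Injective ρ) :
    Function.Injective (isoHom Q' T ρ hρ) := by
  intro g g' h
  apply toGLhom_injective T ρ hinj
  exact congrArg Subtype.val h

end transfer

section unitary

variable {F : Type*} (K : Type*) [Field F] [Fintype F] [Field K] [Fintype K] [Algebra F K] {q : ℕ}
  (hF : Fintype.card F = q) (hK : Fintype.card K = q ^ 2)

/-- `x ↦ x ^ q` as a ring hom. -/
noncomputable def sig : K →+* K where
  toFun x := x ^ q
  map_one' := one_pow q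
  map_mul' x y := mul_pow x y q
  map_zero' := zero_pow (by rw [← hF]; exact Fintype.card_ne_zero)
  map_add' x y := by
    obtain ⟨p, hp⟩ := CharP.exists F
    haveI := hp
    haveI : Fact p.Prime := ⟨CharP.char_is_prime F p⟩
    haveI : CharP K p := charP_of_injective_algebraMap (algebraMap F K).injective p
    obtain ⟨k, -, hk⟩ := FiniteField.card F p
    rw [hF] at hk
    show (x + y) ^ q = x ^ q + y ^ q
    rw [hk]
    exact add_pow_char_pow x y p k

lemma sig_apply (x : K) : sig K hF x = x ^ q := rfl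

lemma sig_algebraMap (c : F) : sig K hF (algebraMap F K c) = algebraMap F K c := by
  rw [sig_apply, ← map_pow, ← hF, FiniteField.pow_card]

include hK in
lemma sig_sig (x : K) : sig K hF (sig K hF x) = x := by
  rw [sig_apply, sig_apply, ← pow_mul, ← pow_two, ← hK, FiniteField.pow_card]

include hF hK in
lemma finrank_eq : Module.finrank F K = 2 := by
  have hq2 : 2 ≤ q := by
    rw [← hF]
    exact Fintype.one_lt_card
  have h1 := Module.card_eq_pow_finrank (K := F) (V := K)
  rw [hK, hF] at h1
  exact (Nat.pow_right_injective hq2 h1).symm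

include hK in
lemma trace_eq (z : K) : algebraMap F K (Algebra.trace F K z) = z + sig K hF z := by
  rw [FiniteField.algebraMap_trace_eq_sum_pow, finrank_eq K hF hK, Finset.sum_range_succ,
    Finset.sum_range_one, pow_zero, pow_one, pow_one, Nat.card_eq_fintype_card, hF, sig_apply]

include hK in
lemma norm_eq (x : K) : algebraMap F K (Algebra.norm F x) = x * sig K hF x := by
  rw [FiniteField.algebraMap_norm_eq_prod_pow, finrank_eq K hF hK, Finset.prod_range_succ,
    Finset.prod_range_one, pow_zero, pow_one, pow_one, Nat.card_eq_fintype_card, hF, sig_apply]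

lemma sig_smul (c : F) (z : K) : sig K hF (c • z) = c • sig K hF z := by
  rw [Algebra.smul_def, map_mul, sig_algebraMap, ← Algebra.smul_def]

/-- `sig` as an `F`-linear map. -/
noncomputable def sigL : K →ₗ[F] K where
  toFun := sig K hF
  map_add' := map_add _
  map_smul' c z := sig_smul K hF c z

/-- `w ↦ Tr (y * σ w)`. -/
noncomputable def tau (y : K) : K →ₗ[F] F :=
  (Algebra.trace F K) ∘ₗ (LinearMap.mulLeft F y) ∘ₗ (sigL K hF)

lemma tau_apply (y w : K) : tau K hF y w = Algebra.trace F K (y * sig K hF w) := rfl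

include hF hK in
lemma exists_omega : ∃ ω : K, ω * sig K hF ω = -1 := by
  obtain ⟨ω, hω⟩ := FiniteField.norm_surjective F K (-1 : F)
  refine ⟨ω, ?_⟩
  rw [← norm_eq K hF hK, hω, map_neg, map_one]

include hF hK in
lemma exists_c : ∃ c : K, c + sig K hF c = 1 := by
  obtain ⟨c, hc⟩ := Algebra.trace_surjective F K (1 : F)
  refine ⟨c, ?_⟩
  rw [← trace_eq K hF hK, hc, map_one]

include hK in
lemma pair_identity (ω c x y : K) (hω : ω * sig K hF ω = -1) (hc : c + sig K hF c = 1) :
    Algebra.trace F K ((x - ω * y) * sig K hF (ω * y + c * (x - ω * y))) =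
      Algebra.norm F x + Algebra.norm F y := by
  apply (algebraMap F K).injective
  rw [(algebraMap F K).map_add, trace_eq K hF hK, norm_eq K hF hK, norm_eq K hF hK]
  simp only [map_mul, map_add, map_sub, sig_sig K hF hK]
  have h1 : sig K hF c = 1 - c := by rw [← hc]; ring
  have h2 : y * sig K hF y = - (ω * y) * (sig K hF ω * sig K hF y) := by
    have : - (ω * y) * (sig K hF ω * sig K hF y) = - (ω * sig K hF ω) * (y * sig K hF y) := by ring
    rw [this, hω]
    ring
  rw [h2, h1]
  ring

lemma tau_expand (b : Module.Basis (Fin 2) F K) (u w : K) :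
    b.repr u 0 * tau K hF (b 0) w + b.repr u 1 * tau K hF (b 1) w =
      Algebra.trace F K (u * sig K hF w) := by
  conv_rhs => rw [← b.sum_repr u]
  rw [Fin.sum_univ_two, add_mul, map_add, smul_mul_assoc, smul_mul_assoc, map_smul, map_smul,
    smul_eq_mul, smul_eq_mul]
  rfl

include hK in
lemma tau_inj (b : Module.Basis (Fin 2) F K) (w : K)
    (h0 : tau K hF (b 0) w = 0) (h1 : tau K hF (b 1) w = 0) : w = 0 := by
  by_contra hw
  have hsw : sig K hF w ≠ 0 := by
    intro h
    apply hw
    exact (map_eq_zero (sig K hF)).1 h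
  obtain ⟨z, hz⟩ := Algebra.trace_surjective F K (1 : F)
  have h := tau_expand K hF b (z / sig K hF w) w
  rw [h0, h1, mul_zero, mul_zero, add_zero, div_mul_cancel₀ _ hsw, hz] at h
  exact zero_ne_one h

/-! ### The pairing isometry -/

/-- `v ↦ x_j - ω y_j`. -/
noncomputable def Umap (ω : K) (r : ℕ) (j : Fin r) : (Fin (r + r) → K) →ₗ[F] K :=
  (LinearMap.proj (Fin.castAdd r j) : (Fin (r + r) → K) →ₗ[F] K) -
    (LinearMap.mulLeft F ω) ∘ₗ (LinearMap.proj (Fin.natAdd r j) : (Fin (r + r) → K) →ₗ[F] K)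

/-- `v ↦ ω y_j + c (x_j - ω y_j)`. -/
noncomputable def Wmap (ω c : K) (r : ℕ) (j : Fin r) : (Fin (r + r) → K) →ₗ[F] K :=
  (LinearMap.mulLeft F ω) ∘ₗ (LinearMap.proj (Fin.natAdd r j) : (Fin (r + r) → K) →ₗ[F] K) +
    (LinearMap.mulLeft F c) ∘ₗ Umap (F := F) K ω r j

lemma Umap_apply (ω : K) (r : ℕ) (j : Fin r) (v : Fin (r + r) → K) :
    Umap (F := F) K ω r j v = v (Fin.castAdd r j) - ω * v (Fin.natAdd r j) := rfl

lemma Wmap_apply (ω c : K) (r : ℕ) (j : Fin r) (v : Fin (r + r) → K) :
    Wmap (F := F) K ω c r j v = ω * v (Fin.natAdd r j) +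
      c * (v (Fin.castAdd r j) - ω * v (Fin.natAdd r j)) := rfl

/-- The linear isometry onto the hyperbolic space. -/
noncomputable def Tpair (b : Module.Basis (Fin 2) F K) (ω c : K) (r : ℕ) :
    (Fin (r + r) → K) →ₗ[F] (Fin (r + r) ⊕ Fin (r + r) → F) :=
  LinearMap.pi (Sum.elim
    (Fin.addCases (fun j => (b.coord 0) ∘ₗ Umap K ω r j) (fun j => (b.coord 1) ∘ₗ Umap K ω r j))
    (Fin.addCases (fun j => tau K hF (b 0) ∘ₗ Wmap K ω c r j)
      (fun j => tau K hF (b 1) ∘ₗ Wmap K ω c r j)))

include hK in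
lemma Tpair_form (b : Module.Basis (Fin 2) F K) (ω c : K) (r : ℕ)
    (hω : ω * sig K hF ω = -1) (hc : c + sig K hF c = 1) (v : Fin (r + r) → K) :
    Cfsg.quadFormPlus (r + r) F (Tpair K hF b ω c r v) = ∑ i, Algebra.norm F (v i) := by
  unfold Cfsg.quadFormPlus
  rw [Fin.sum_univ_add, Fin.sum_univ_add, ← Finset.sum_add_distrib, ← Finset.sum_add_distrib]
  apply Finset.sum_congr rfl
  intro j _
  simp only [Tpair, LinearMap.pi_apply, Sum.elim_inl, Sum.elim_inr, Fin.addCases_left,
    Fin.addCases_right, LinearMap.comp_apply, Module.Basis.coord_apply]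
  rw [tau_expand, Umap_apply, Wmap_apply, pair_identity K hF hK ω c _ _ hω hc]

include hK in
lemma Tpair_injective (b : Module.Basis (Fin 2) F K) (ω c : K) (r : ℕ) (hω0 : ω ≠ 0) :
    Function.Injective (Tpair K hF b ω c r) := by
  rw [injective_iff_map_eq_zero]
  intro v hv
  have hU : ∀ j : Fin r, Umap (F := F) K ω r j v = 0 := by
    intro j
    have h0 := congrFun hv (Sum.inl (Fin.castAdd r j))
    have h1 := congrFun hv (Sum.inl (Fin.natAdd r j))
    simp only [Tpair, LinearMap.pi_apply, Sum.elim_inl, Fin.addCases_left, Fin.addCases_right,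
      LinearMap.comp_apply, Module.Basis.coord_apply, Pi.zero_apply] at h0 h1
    apply b.repr.injective
    ext s
    fin_cases s
    · simpa using h0
    · simpa using h1
  have hW : ∀ j : Fin r, Wmap (F := F) K ω c r j v = 0 := by
    intro j
    have h0 := congrFun hv (Sum.inr (Fin.castAdd r j))
    have h1 := congrFun hv (Sum.inr (Fin.natAdd r j))
    simp only [Tpair, LinearMap.pi_apply, Sum.elim_inr, Fin.addCases_left, Fin.addCases_right,
      LinearMap.comp_apply, Pi.zero_apply] at h0 h1
    exact tau_inj K hF hK b _ h0 h1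
  funext i
  have hy : ∀ j : Fin r, v (Fin.natAdd r j) = 0 := by
    intro j
    have h1 := hU j
    have h2 := hW j
    rw [Umap_apply] at h1
    rw [Wmap_apply, h1, mul_zero, add_zero] at h2
    exact (mul_eq_zero.1 h2).resolve_left hω0
  have hx : ∀ j : Fin r, v (Fin.castAdd r j) = 0 := by
    intro j
    have h1 := hU j
    rw [Umap_apply, hy j, mul_zero, sub_zero] at h1
    exact h1
  induction i using Fin.addCases with
  | left j => exact hx j
  | right j => exact hy j

/-! ### The representation of `GU` -/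

/-- `GU_m(K, q)` acting `F`-linearly on `K ^ m`. -/
noncomputable def rhoGU (F : Type*) [Field F] [Algebra F K] (m q : ℕ) :
    ↥(Cfsg.GU m K q) →* Module.End F (Fin m → K) where
  toFun g := (Matrix.toLin' (g.1.1 : Matrix (Fin m) (Fin m) K)).restrictScalars F
  map_one' := by
    ext v i
    simp
  map_mul' g h := by
    ext v i
    simp [Matrix.toLin'_mul]

lemma rhoGU_apply (m : ℕ) (g : ↥(Cfsg.GU m K q)) (v : Fin m → K) :
    rhoGU K F m q g v = (g.1.1 : Matrix (Fin m) (Fin m) K) *ᵥ v := rfl

lemma rhoGU_injective (m : ℕ) : Function.Injective (rhoGU K F m q) := by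
  intro g h hgh
  apply Subtype.ext
  apply Units.ext
  apply Matrix.toLin'.injective
  apply LinearMap.ext
  intro v
  have := congrArg (fun f => f v) hgh
  exact this

include hF hK in
lemma rhoGU_norm (m : ℕ) (g : ↥(Cfsg.GU m K q)) (v : Fin m → K) :
    ∑ i, Algebra.norm F (rhoGU K F m q g v i) = ∑ i, Algebra.norm F (v i) := by
  apply (algebraMap F K).injective
  rw [map_sum, map_sum]
  simp only [norm_eq K hF hK, sig_apply]
  exact g.2 v v

include hF hK in
lemma finrank_source (m : ℕ) : Module.finrank F (Fin m → K) = m + m := by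
  rw [Module.finrank_pi_fintype]
  simp [finrank_eq K hF hK]
  ring

end unitary

end Cfsg.Agent.Lib.Helper19.UnitaryOrth
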