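import Mathlib
import Cfsg.Agent.Lib.Helper19.UnitaryOrth

/-!
# Helper19: splitting an anisotropic binary form over the quadratic extension

`exists_roots`: for `|F| = q`, `|K| = q ^ 2` and an anisotropic form `z₁² + a z₁ z₂ + c z₂²` over
`F` there are a ring hom `f : F →+* K` and `θ ≠ θ'` in `K` with `θ + θ' = f a`, `θ * θ' = f c`
(so `z₁² + a z₁ z₂ + c z₂² = (z₁ + θ z₂)(z₁ + θ' z₂)` over `K`).
-/

set_option autoImplicit false

namespace Cfsg.Agent.Lib.Helper19.QuadExt

open Cfsg.Agent.Lib.Helper19.UnitaryOrth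

section setting

variable {F K : Type*} [Field F] [Fintype F] [Field K] [Fintype K] [Algebra F K] {q : ℕ}
  (hF : Fintype.card F = q) (hK : Fintype.card K = q ^ 2)

include hF hK in
lemma sig_ne_id : ∃ x : K, sig K hF x ≠ x := by
  by_contra hcon
  push Not at hcon
  have hq2 : 2 ≤ q := by
    rw [← hF]
    exact Fintype.one_lt_card
  have hne : (Polynomial.X ^ q - Polynomial.X : Polynomial K) ≠ 0 :=
    FiniteField.X_pow_card_sub_X_ne_zero K (by omega)
  have hsub : (Finset.univ : Finset K).val ⊆
      (Polynomial.X ^ q - Polynomial.X : Polynomial K).roots := by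
    intro x _
    rw [Polynomial.mem_roots hne]
    simp only [Polynomial.IsRoot, Polynomial.eval_sub, Polynomial.eval_pow, Polynomial.eval_X]
    rw [← sig_apply K hF, hcon, sub_self]
  have h := Polynomial.card_le_degree_of_subset_roots hsub
  rw [FiniteField.X_pow_card_sub_X_natDegree_eq K (by omega), Finset.card_univ, hK] at h
  nlinarith

include hF hK in
lemma vieta (b' : Module.Basis (Fin 2) F K) (θ : K) (a b : F) (h0 : b' 0 = 1)
    (h1 : b' 1 = θ)
    (hθ : θ ^ 2 - algebraMap F K a * θ + algebraMap F K b = 0) :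
    sig K hF θ ≠ θ ∧ θ + sig K hF θ = algebraMap F K a ∧ θ * sig K hF θ = algebraMap F K b := by
  have hσθ : sig K hF θ ≠ θ := by
    intro hfix
    obtain ⟨y, hy⟩ := sig_ne_id (K := K) hF hK
    apply hy
    conv_lhs => rw [← b'.sum_repr y]
    conv_rhs => rw [← b'.sum_repr y]
    rw [Fin.sum_univ_two, map_add, sig_smul, sig_smul, h0, h1, hfix, RingHom.map_one]
  have hθ' : (sig K hF θ) ^ 2 - algebraMap F K a * sig K hF θ + algebraMap F K b = 0 := by
    have := congrArg (sig K hF) hθ
    simpa [sig_algebraMap] using this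
  have hsum : θ + sig K hF θ = algebraMap F K a := by
    have h : (θ - sig K hF θ) * (θ + sig K hF θ - algebraMap F K a) = 0 := by
      linear_combination hθ - hθ'
    rcases mul_eq_zero.1 h with h | h
    · exact absurd (sub_eq_zero.1 h).symm hσθ
    · exact sub_eq_zero.1 h
  have hprod : θ * sig K hF θ = algebraMap F K b := by
    linear_combination θ * hsum - hθ
  exact ⟨hσθ, hsum, hprod⟩

end setting

theorem exists_roots {F K : Type*} [Field F] [Fintype F] [Field K] [Fintype K] {q : ℕ}
    (hF : Fintype.card F = q) (hK : Fintype.card K = q ^ 2) (a b : F)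
    (hab : ∀ z₁ z₂ : F, z₁ ^ 2 + a * z₁ * z₂ + b * z₂ ^ 2 = 0 → z₁ = 0 ∧ z₂ = 0) :
    ∃ (f : F →+* K) (θ θ' : K), θ + θ' = f a ∧ θ * θ' = f b ∧ θ ≠ θ' := by
  classical
  have hnoroot : ∀ x : F, x ^ 2 - a * x + b ≠ 0 := by
    intro x hx
    have := (hab (-x) 1 (by linear_combination hx)).2
    exact one_ne_zero this
  let g : Polynomial F := Polynomial.X ^ 2 - Polynomial.C a * Polynomial.X + Polynomial.C b
  have hgdeg : g.natDegree = 2 := by
    unfold g
    compute_degree!
  have hgmonic : g.Monic := by
    unfold g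
    monicity!
  have hirr : Irreducible g := by
    apply Polynomial.irreducible_of_degree_le_three_of_not_isRoot
    · rw [hgdeg]
      simp
    · intro x hx
      apply hnoroot x
      have : g.eval x = 0 := hx
      simpa [g] using this
  haveI : Fact (Irreducible g) := ⟨hirr⟩
  let E := AdjoinRoot g
  have hfrE : Module.finrank F E = 2 := by
    rw [(AdjoinRoot.powerBasis' hgmonic).finrank, AdjoinRoot.powerBasis'_dim, hgdeg]
  haveI : Module.Finite F E := (AdjoinRoot.powerBasis' hgmonic).finite
  haveI : Finite E := Module.finite_of_finite F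
  haveI : Fintype E := Fintype.ofFinite E
  have hEcard : Fintype.card E = q ^ 2 := by
    rw [Module.card_eq_pow_finrank (K := F) (V := E), hfrE, hF]
  let e : K ≃+* E := FiniteField.ringEquivOfCardEq (by rw [hK, hEcard])
  letI : Algebra F K := (e.symm.toRingHom.comp (algebraMap F E)).toAlgebra
  let θ : K := e.symm (AdjoinRoot.root g)
  have hmap : ∀ c : F, algebraMap F K c = e.symm (AdjoinRoot.of g c) := by
    intro c
    show e.symm (algebraMap F (AdjoinRoot g) c) = _
    rw [AdjoinRoot.algebraMap_eq]
  have hθ : θ ^ 2 - algebraMap F K a * θ + algebraMap F K b = 0 := by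
    have h := AdjoinRoot.eval₂_root g
    have h2 : (AdjoinRoot.root g) ^ 2 - AdjoinRoot.of g a * AdjoinRoot.root g +
        AdjoinRoot.of g b = 0 := by
      simpa [g, Polynomial.eval₂_add, Polynomial.eval₂_sub, Polynomial.eval₂_mul] using h
    rw [hmap, hmap]
    show e.symm (AdjoinRoot.root g) ^ 2 - e.symm (AdjoinRoot.of g a) * e.symm (AdjoinRoot.root g) +
      e.symm (AdjoinRoot.of g b) = 0
    rw [← map_pow, ← map_mul, ← map_sub, ← map_add, h2, map_zero]
  have hfr : Module.finrank F K = 2 := finrank_eq K hF hK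
  have hli : LinearIndependent F ![(1 : K), θ] := by
    rw [LinearIndependent.pair_iff]
    intro s t hst
    by_cases ht : t = 0
    · subst ht
      rw [zero_smul, add_zero, Algebra.smul_def, mul_one] at hst
      exact ⟨(map_eq_zero (algebraMap F K)).1 hst, rfl⟩
    · exfalso
      have hθs : θ = algebraMap F K (-s / t) := by
        rw [Algebra.smul_def, Algebra.smul_def, mul_one] at hst
        have ht' : algebraMap F K t ≠ 0 := (map_ne_zero (algebraMap F K)).2 ht
        rw [map_div₀, map_neg, eq_div_iff ht']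
        linear_combination hst
      apply hnoroot (-s / t)
      apply (algebraMap F K).injective
      rw [map_zero, ← hθ, hθs]
      simp only [map_add, map_sub, map_mul, map_pow]
  let b' : Module.Basis (Fin 2) F K :=
    basisOfLinearIndependentOfCardEqFinrank hli (by rw [hfr]; simp)
  have hb0 : b' 0 = 1 := by
    simp [b']
  have hb1 : b' 1 = θ := by
    simp [b']
  obtain ⟨h1, h2, h3⟩ := vieta hF hK b' θ a b hb0 hb1 hθ
  exact ⟨algebraMap F K, θ, sig K hF θ, h2, h3, fun h => h1 h.symm⟩

end Cfsg.Agent.Lib.Helper19.QuadExt
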