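import Mathlib
import Cfsg.Agent.Lib.Helper19.QuadExt
import Cfsg.Agent.Lib.Helper19.QuadWitt

/-!
# Helper19: anisotropic planes over a finite field and the norm form of the quadratic extension

Setting: `|F| = q`, `K` an `F`-algebra and a field with `|K| = q ^ 2`, `σ = sig K hF` the Frobenius.

* `N1`: the norm-one subgroup of `Kˣ`, of order `q + 1`.
* `exists_theta`: an anisotropic pair `(a, b)` has conjugate roots `θ, σ θ` in `K`.
* `card_pairs`: the number of pairs `(x, y)` in `K` with `N x = 1`, `Tr (x σ y) = a`, `N y = b`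
  is `2 (q + 1)`.
* `exists_normEquiv`: every anisotropic plane is isometric to `(K, N)`.
* `card_elliptic_pairs`: the same count in any anisotropic plane.
-/

set_option autoImplicit false

namespace Cfsg.Agent.Lib.Helper19.AnisoPlane

open Cfsg.Agent.Lib.Helper19.UnitaryOrth Cfsg.Agent.Lib.Helper19.QuadExt

section normone

variable {F K : Type*} [Field F] [Fintype F] [Field K] [Fintype K] [Algebra F K] {q : ℕ}
  (hF : Fintype.card F = q) (hK : Fintype.card K = q ^ 2)

/-- The norm-one subgroup. -/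
noncomputable def N1 (F K : Type*) [Field F] [Field K] [Algebra F K] : Subgroup Kˣ :=
  (Units.map (Algebra.norm F : K →* F)).ker

include hK in
lemma mem_N1 (u : Kˣ) : u ∈ N1 F K ↔ (u : K) * sig K hF u = 1 := by
  unfold N1
  rw [MonoidHom.mem_ker, Units.ext_iff, Units.coe_map, Units.val_one, ← norm_eq K hF hK]
  constructor
  · intro h
    have : (Algebra.norm F : K →* F) (u : K) = Algebra.norm F (u : K) := rfl
    rw [this] at h
    rw [h, map_one]
  · intro h
    apply (algebraMap F K).injective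
    rw [map_one]
    exact h

include hF hK in
lemma card_N1 : Nat.card (N1 F K) = q + 1 := by
  have hq2 : 2 ≤ q := by
    rw [← hF]
    exact Fintype.one_lt_card
  have hsurj := FiniteField.unitsMap_norm_surjective F K
  have h1 := Subgroup.card_eq_card_quotient_mul_card_subgroup (N1 F K)
  have h2 : Nat.card (Kˣ ⧸ N1 F K) = Nat.card Fˣ :=
    Nat.card_congr (QuotientGroup.quotientKerEquivOfSurjective _ hsurj).toEquiv
  rw [h2, Nat.card_units, Nat.card_units, Nat.card_eq_fintype_card, Nat.card_eq_fintype_card, hF,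
    hK] at h1
  have h3 : q ^ 2 - 1 = (q - 1) * (q + 1) := by
    obtain ⟨r, rfl⟩ : ∃ r, q = r + 1 := ⟨q - 1, by omega⟩
    simp only [Nat.add_sub_cancel]
    have : (r + 1) ^ 2 = r * (r + 1 + 1) + 1 := by ring
    rw [this, Nat.add_sub_cancel]
  rw [h3] at h1
  exact (Nat.eq_of_mul_eq_mul_left (by omega) h1).symm

/-- Norm-one elements of `K`. -/
noncomputable def normOneEquiv : {x : K // x * sig K hF x = 1} ≃ N1 F K where
  toFun x := ⟨Units.mk0 x.1 (fun h0 => by
    have := x.2
    rw [h0, zero_mul] at this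
    exact zero_ne_one this), by
    rw [mem_N1 hF hK]
    exact x.2⟩
  invFun u := ⟨(u.1 : K), (mem_N1 hF hK u.1).1 u.2⟩
  left_inv x := by
    apply Subtype.ext
    rfl
  right_inv u := by
    apply Subtype.ext
    apply Units.ext
    rfl

include hK in
lemma card_normOne : Nat.card {x : K // x * sig K hF x = 1} = q + 1 := by
  rw [Nat.card_congr (normOneEquiv hF hK), card_N1 hF hK]

end normone

section roots

variable {F K : Type*} [Field F] [Fintype F] [Field K] [Fintype K] [Algebra F K] {q : ℕ}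
  (hF : Fintype.card F = q) (hK : Fintype.card K = q ^ 2)

include hK in
theorem exists_theta (a b : F)
    (hab : ∀ z₁ z₂ : F, z₁ ^ 2 + a * z₁ * z₂ + b * z₂ ^ 2 = 0 → z₁ = 0 ∧ z₂ = 0) :
    ∃ θ : K, sig K hF θ ≠ θ ∧ θ + sig K hF θ = algebraMap F K a ∧
      θ * sig K hF θ = algebraMap F K b := by
  classical
  have hnoroot : ∀ x : F, x ^ 2 - a * x + b ≠ 0 := by
    intro x hx
    have := (hab (-x) 1 (by linear_combination hx)).2
    exact one_ne_zero this
  let g : Polynomial F := Polynomial.X ^ 2 - Polynomial.C a * Polynomial.X + Polynomial.C b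
  have hgdeg : g.natDegree = 2 := by
    unfold g
    compute_degree!
  have hgmonic : g.Monic := by
    unfold g
    monicity!
  have hirr : Irreducible g := by
    apply Polynomial.irreducible_of_degree_le_three_of_not_isRoot
    · rw [hgdeg]
      simp
    · intro x hx
      apply hnoroot x
      have : g.eval x = 0 := hx
      simpa [g] using this
  haveI : Fact (Irreducible g) := ⟨hirr⟩
  have hfrE : Module.finrank F (AdjoinRoot g) = 2 := by
    rw [(AdjoinRoot.powerBasis' hgmonic).finrank, AdjoinRoot.powerBasis'_dim, hgdeg]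
  have hfr : Module.finrank F K = 2 := finrank_eq K hF hK
  obtain ⟨φ⟩ := FiniteField.nonempty_algHom_of_finrank_dvd (F := F) (K := AdjoinRoot g) (L := K)
    (by rw [hfrE, hfr])
  let θ : K := φ (AdjoinRoot.root g)
  have hθ : θ ^ 2 - algebraMap F K a * θ + algebraMap F K b = 0 := by
    have h := AdjoinRoot.eval₂_root g
    have h2 : (AdjoinRoot.root g) ^ 2 - AdjoinRoot.of g a * AdjoinRoot.root g +
        AdjoinRoot.of g b = 0 := by
      simpa [g, Polynomial.eval₂_add, Polynomial.eval₂_sub, Polynomial.eval₂_mul] using h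
    have h3 := congrArg φ h2
    rw [map_zero, map_add, map_sub, map_mul, map_pow] at h3
    have hof : ∀ c : F, φ (AdjoinRoot.of g c) = algebraMap F K c := by
      intro c
      rw [← AdjoinRoot.algebraMap_eq, AlgHom.commutes]
    rw [hof, hof] at h3
    exact h3
  have hli : LinearIndependent F ![(1 : K), θ] := by
    rw [LinearIndependent.pair_iff]
    intro s t hst
    by_cases ht : t = 0
    · subst ht
      rw [zero_smul, add_zero, Algebra.smul_def, mul_one] at hst
      exact ⟨(map_eq_zero (algebraMap F K)).1 hst, rfl⟩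
    · exfalso
      have hθs : θ = algebraMap F K (-s / t) := by
        rw [Algebra.smul_def, Algebra.smul_def, mul_one] at hst
        have ht' : algebraMap F K t ≠ 0 := (map_ne_zero (algebraMap F K)).2 ht
        rw [map_div₀, map_neg, eq_div_iff ht']
        linear_combination hst
      apply hnoroot (-s / t)
      apply (algebraMap F K).injective
      rw [map_zero, ← hθ, hθs]
      simp only [map_add, map_sub, map_mul, map_pow]
  let b' : Module.Basis (Fin 2) F K :=
    basisOfLinearIndependentOfCardEqFinrank hli (by rw [hfr]; simp)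
  have hb0 : b' 0 = 1 := by
    simp [b']
  have hb1 : b' 1 = θ := by
    simp [b']
  exact ⟨θ, vieta hF hK b' θ a b hb0 hb1 hθ⟩

include hK in
lemma card_roots (a b : F)
    (hab : ∀ z₁ z₂ : F, z₁ ^ 2 + a * z₁ * z₂ + b * z₂ ^ 2 = 0 → z₁ = 0 ∧ z₂ = 0) :
    Nat.card {w : K // w + sig K hF w = algebraMap F K a ∧ w * sig K hF w = algebraMap F K b} =
      2 := by
  obtain ⟨θ, h1, h2, h3⟩ := exists_theta hF hK a b hab
  rw [Nat.card_eq_two_iff]
  refine ⟨⟨θ, h2, h3⟩, ⟨sig K hF θ, ?_, ?_⟩, ?_, ?_⟩
  · rw [sig_sig K hF hK, add_comm]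
    exact h2
  · rw [sig_sig K hF hK, mul_comm]
    exact h3
  · intro heq
    exact h1 (congrArg Subtype.val heq).symm
  · rw [Set.eq_univ_iff_forall]
    rintro ⟨w, hw1, hw2⟩
    have : (w - θ) * (w - sig K hF θ) = 0 := by
      have e1 : w ^ 2 - algebraMap F K a * w + algebraMap F K b = 0 := by
        rw [← hw1, ← hw2]
        ring
      have e2 : (w - θ) * (w - sig K hF θ) =
          w ^ 2 - (θ + sig K hF θ) * w + θ * sig K hF θ := by ring
      rw [e2, h2, h3]
      exact e1
    rcases mul_eq_zero.1 this with h | h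
    · left
      apply Subtype.ext
      exact sub_eq_zero.1 h
    · right
      apply Subtype.ext
      exact sub_eq_zero.1 h

/-- Pairs in `K`. -/
noncomputable def pairsEquiv (A B : K) :
    {p : K × K // p.1 * sig K hF p.1 = 1 ∧ p.1 * sig K hF p.2 + p.2 * sig K hF p.1 = A ∧
      p.2 * sig K hF p.2 = B} ≃
    {x : K // x * sig K hF x = 1} × {w : K // w + sig K hF w = A ∧ w * sig K hF w = B} where
  toFun p := (⟨p.1.1, p.2.1⟩, ⟨p.1.2 * sig K hF p.1.1, by
    obtain ⟨⟨x, y⟩, h1, h2, h3⟩ := p
    simp only at h1 h2 h3 ⊢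
    constructor
    · rw [map_mul, sig_sig K hF hK, ← h2]
      ring
    · rw [map_mul, sig_sig K hF hK, ← h3]
      linear_combination (y * sig K hF y) * h1⟩)
  invFun s := ⟨(s.1.1, s.1.1 * s.2.1), by
    obtain ⟨⟨x, h1⟩, ⟨w, h2, h3⟩⟩ := s
    simp only
    refine ⟨h1, ?_, ?_⟩
    · rw [map_mul, ← h2]
      linear_combination (w + sig K hF w) * h1
    · rw [map_mul, ← h3]
      linear_combination (w * sig K hF w) * h1⟩
  left_inv := by
    rintro ⟨⟨x, y⟩, h1, h2, h3⟩
    apply Subtype.ext
    refine Prod.ext rfl ?_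
    show x * (y * sig K hF x) = y
    linear_combination y * h1
  right_inv := by
    rintro ⟨⟨x, h1⟩, ⟨w, h2, h3⟩⟩
    refine Prod.ext rfl ?_
    apply Subtype.ext
    show x * w * sig K hF x = w
    linear_combination w * h1

include hK in
lemma card_pairs (a b : F)
    (hab : ∀ z₁ z₂ : F, z₁ ^ 2 + a * z₁ * z₂ + b * z₂ ^ 2 = 0 → z₁ = 0 ∧ z₂ = 0) :
    Nat.card {p : K × K // p.1 * sig K hF p.1 = 1 ∧
      p.1 * sig K hF p.2 + p.2 * sig K hF p.1 = algebraMap F K a ∧
      p.2 * sig K hF p.2 = algebraMap F K b} = 2 * (q + 1) := by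
  rw [Nat.card_congr (pairsEquiv hF hK _ _), Nat.card_prod, card_normOne hF hK,
    card_roots hF hK a b hab, mul_comm]

end roots

open Cfsg.Agent.Lib.Helper19.QuadWitt QuadraticMap

section plane

variable {F K : Type*} [Field F] [Fintype F] [Field K] [Fintype K] [Algebra F K] {q : ℕ}
  (hF : Fintype.card F = q) (hK : Fintype.card K = q ^ 2)
  {W : Type*} [AddCommGroup W] [Module F W]

include hK in
/-- Every anisotropic plane is isometric to the norm form. -/
theorem exists_normEquiv (hW : Module.finrank F W = 2) (Q : QuadraticForm F W)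
    (haniso : ∀ w, Q w = 0 → w = 0) :
    ∃ ν : W ≃ₗ[F] K, ∀ w, algebraMap F K (Q w) = ν w * sig K hF (ν w) := by
  classical
  haveI : FiniteDimensional F W := Module.finite_of_finrank_pos (by rw [hW]; norm_num)
  let bW : Module.Basis (Fin 2) F W := Module.finBasisOfFinrankEq F W hW
  set w₀ := bW 0 with hw₀
  set w₁ := bW 1 with hw₁
  have hw₀0 : w₀ ≠ 0 := bW.ne_zero 0
  set c := Q w₀ with hc
  have hc0 : c ≠ 0 := fun h => hw₀0 (haniso _ h)
  set β := polar ⇑Q w₀ w₁ with hβ
  set γ := Q w₁ with hγ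
  have hQ : ∀ s t : F, Q (s • w₀ + t • w₁) = s ^ 2 * c + t ^ 2 * γ + s * t * β := by
    intro s t
    rw [Q_lin2]
  have hrepr : ∀ w : W, w = bW.repr w 0 • w₀ + bW.repr w 1 • w₁ := by
    intro w
    conv_lhs => rw [← bW.sum_repr w]
    rw [Fin.sum_univ_two]
  have hab : ∀ z₁ z₂ : F, z₁ ^ 2 + (β / c) * z₁ * z₂ + (γ / c) * z₂ ^ 2 = 0 → z₁ = 0 ∧ z₂ = 0 := by
    intro z₁ z₂ h
    have h1 : Q (z₁ • w₀ + z₂ • w₁) = 0 := by
      rw [hQ]
      have : z₁ ^ 2 * c + z₂ ^ 2 * γ + z₁ * z₂ * β =
          c * (z₁ ^ 2 + (β / c) * z₁ * z₂ + (γ / c) * z₂ ^ 2) := by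
        field_simp
        ring
      rw [this, h, mul_zero]
    have h2 := haniso _ h1
    have h3 := congrArg (fun w => bW.repr w) h2
    simp only [map_add, map_smul, map_zero] at h3
    have h4 := congrArg (fun r => r 0) h3
    have h5 := congrArg (fun r => r 1) h3
    simp [hw₀, hw₁] at h4 h5
    exact ⟨h4, h5⟩
  obtain ⟨θ, -, hθ1, hθ2⟩ := exists_theta hF hK (β / c) (γ / c) hab
  obtain ⟨u₀, hu₀⟩ := FiniteField.norm_surjective F K c
  have hu₀' : u₀ * sig K hF u₀ = algebraMap F K c := by
    rw [← norm_eq K hF hK, hu₀]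
  let ν₀ : W →ₗ[F] K := bW.constr F ![u₀, u₀ * θ]
  have hν₀ : ∀ w, ν₀ w = u₀ * (algebraMap F K (bW.repr w 0) + algebraMap F K (bW.repr w 1) * θ) := by
    intro w
    show bW.constr F ![u₀, u₀ * θ] w = _
    rw [Module.Basis.constr_apply_fintype, Fin.sum_univ_two]
    simp only [Module.Basis.equivFun_apply, Matrix.cons_val_zero, Matrix.cons_val_one,
      Algebra.smul_def]
    ring
  have hval : ∀ w, algebraMap F K (Q w) = ν₀ w * sig K hF (ν₀ w) := by
    intro w
    rw [hν₀]
    conv_lhs => rw [hrepr w, hQ]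
    set s := bW.repr w 0
    set t := bW.repr w 1
    simp only [map_mul, map_add, sig_algebraMap]
    have e1 : algebraMap F K β = algebraMap F K c * (θ + sig K hF θ) := by
      rw [hθ1, ← map_mul]
      congr 1
      field_simp
    have e2 : algebraMap F K γ = algebraMap F K c * (θ * sig K hF θ) := by
      rw [hθ2, ← map_mul]
      congr 1
      field_simp
    simp only [map_pow]
    rw [e1, e2, ← hu₀']
    ring
  have hinj : Function.Injective ν₀ := by
    rw [injective_iff_map_eq_zero]
    intro w hw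
    apply haniso
    apply (algebraMap F K).injective
    rw [hval, hw, zero_mul, map_zero]
  have hdim : Module.finrank F W = Module.finrank F K := by
    rw [hW, finrank_eq K hF hK]
  haveI : FiniteDimensional F K := Module.finite_of_finrank_pos (by rw [finrank_eq K hF hK]; norm_num)
  refine ⟨LinearMap.linearEquivOfInjective ν₀ hinj hdim, ?_⟩
  intro w
  exact hval w

include hF hK in
/-- The number of elliptic pairs in an anisotropic plane. -/
theorem card_elliptic_pairs (hW : Module.finrank F W = 2) (Q : QuadraticForm F W)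
    (haniso : ∀ w, Q w = 0 → w = 0) (a b : F)
    (hab : ∀ z₁ z₂ : F, z₁ ^ 2 + a * z₁ * z₂ + b * z₂ ^ 2 = 0 → z₁ = 0 ∧ z₂ = 0) :
    Nat.card {p : W × W // Q p.1 = 1 ∧ polar ⇑Q p.1 p.2 = a ∧ Q p.2 = b} = 2 * (q + 1) := by
  obtain ⟨ν, hν⟩ := exists_normEquiv hF hK hW Q haniso
  rw [← card_pairs hF hK a b hab]
  apply Nat.card_congr
  refine Equiv.subtypeEquiv (ν.toEquiv.prodCongr ν.toEquiv) ?_
  rintro ⟨x, y⟩
  simp only [Equiv.prodCongr_apply, LinearEquiv.coe_toEquiv, Prod.map_fst, Prod.map_snd]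
  have hinj := (algebraMap F K).injective
  have hpol : algebraMap F K (polar ⇑Q x y) = ν x * sig K hF (ν y) + ν y * sig K hF (ν x) := by
    unfold polar
    rw [map_sub, map_sub, hν, hν, hν, map_add, map_add]
    ring
  constructor
  · rintro ⟨h1, h2, h3⟩
    refine ⟨?_, ?_, ?_⟩
    · rw [← hν, h1, map_one]
    · rw [← hpol, h2]
    · rw [← hν, h3]
  · rintro ⟨h1, h2, h3⟩
    refine ⟨?_, ?_, ?_⟩
    · apply hinj
      rw [hν, h1, map_one]
    · apply hinj
      rw [hpol, h2]
    · apply hinj
      rw [hν, h3]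

end plane

end Cfsg.Agent.Lib.Helper19.AnisoPlane
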