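-- Parity theory of maximal totally singular subspaces of a non-degenerate quadratic space of
-- dimension `2n` (any field, any characteristic): the "triangle parity" theorem.
import Mathlib

set_option autoImplicit false

namespace Cfsg.Agent.Lib.Helper19.Parity

open QuadraticMap Module

variable {F V : Type*} [Field F] [AddCommGroup V] [Module F V]

/-- A totally singular subspace. -/
def IsTS (Q : QuadraticForm F V) (U : Submodule F V) : Prop := ∀ u ∈ U, Q u = 0

variable {Q : QuadraticForm F V}

theorem IsTS.polar_zero {U : Submodule F V} (hU : IsTS Q U) {x y : V} (hx : x ∈ U) (hy : y ∈ U) :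
    QuadraticMap.polar (⇑Q) x y = 0 := by
  unfold QuadraticMap.polar
  rw [hU _ (U.add_mem hx hy), hU x hx, hU y hy]
  simp

theorem IsTS.mono {U W : Submodule F V} (hU : IsTS Q U) (h : W ≤ U) : IsTS Q W :=
  fun w hw => hU w (h hw)

theorem IsTS.le_orthogonal {U : Submodule F V} (hU : IsTS Q U) :
    U ≤ LinearMap.BilinForm.orthogonal (polarBilin Q) U := by
  intro x hx y hy
  exact hU.polar_zero hy hx

theorem IsTS.sup {U W : Submodule F V} (hU : IsTS Q U) (hW : IsTS Q W)
    (h : ∀ u ∈ U, ∀ w ∈ W, QuadraticMap.polar (⇑Q) u w = 0) : IsTS Q (U ⊔ W) := by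
  intro x hx
  obtain ⟨u, hu, w, hw, rfl⟩ := Submodule.mem_sup.1 hx
  rw [QuadraticMap.map_add (⇑Q) u w, hU u hu, hW w hw, h u hu w hw]
  simp

theorem isTS_span_singleton {w : V} (hw : Q w = 0) : IsTS Q (F ∙ w) := by
  intro x hx
  obtain ⟨c, rfl⟩ := Submodule.mem_span_singleton.1 hx
  rw [QuadraticMap.map_smul, hw, smul_zero]

variable [FiniteDimensional F V]

theorem IsTS.finrank_le (hQ : (polarBilin Q).Nondegenerate) {U : Submodule F V} (hU : IsTS Q U) :
    2 * finrank F U ≤ finrank F V := by
  have h1 := Submodule.finrank_mono hU.le_orthogonal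
  rw [LinearMap.BilinForm.finrank_orthogonal hQ] at h1
  have := Submodule.finrank_le U
  omega

theorem IsTS.orthogonal_eq (hQ : (polarBilin Q).Nondegenerate) {U : Submodule F V}
    (hU : IsTS Q U) (hd : 2 * finrank F U = finrank F V) : LinearMap.BilinForm.orthogonal (polarBilin Q) U = U := by
  symm
  apply Submodule.eq_of_le_of_finrank_eq hU.le_orthogonal
  rw [LinearMap.BilinForm.finrank_orthogonal hQ]
  omega

theorem IsTS.mem_of_orth (hQ : (polarBilin Q).Nondegenerate) {U : Submodule F V}
    (hU : IsTS Q U) (hd : 2 * finrank F U = finrank F V) {x : V}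
    (hx : ∀ u ∈ U, QuadraticMap.polar (⇑Q) u x = 0) : x ∈ U := by
  rw [← hU.orthogonal_eq hQ hd]
  exact hx

/-- If `x` is orthogonal to a hyperplane `H` of the maximal totally singular `U` and to a vector
of `U` outside `H`, then `x ∈ U`. -/
theorem mem_of_orth_hyperplane (hQ : (polarBilin Q).Nondegenerate) {n : ℕ}
    (hV : finrank F V = 2 * n) {U H : Submodule F V} (hU : IsTS Q U) (hUn : finrank F U = n)
    (hHU : H ≤ U) (hH : finrank F H + 1 = n) {w : V} (hw : w ∈ U) (hwH : w ∉ H) {x : V}
    (hxH : ∀ h ∈ H, QuadraticMap.polar (⇑Q) h x = 0) (hxw : QuadraticMap.polar (⇑Q) w x = 0) : x ∈ U := by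
  have hsup : H ⊔ (F ∙ w) = U := by
    apply Submodule.eq_of_le_of_finrank_le
    · exact sup_le hHU ((Submodule.span_singleton_le_iff_mem w U).2 hw)
    · have hlt : H < H ⊔ (F ∙ w) := by
        apply lt_of_le_of_ne le_sup_left
        intro heq
        apply hwH
        rw [heq]
        exact Submodule.mem_sup_right (Submodule.mem_span_singleton_self w)
      have := Submodule.finrank_lt_finrank_of_lt hlt
      omega
  apply hU.mem_of_orth hQ (by omega)
  intro u hu
  rw [← hsup] at hu
  obtain ⟨h, hh, y, hy, rfl⟩ := Submodule.mem_sup.1 hu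
  obtain ⟨c, rfl⟩ := Submodule.mem_span_singleton.1 hy
  rw [QuadraticMap.polar_add_left, QuadraticMap.polar_smul_left, hxH h hh, hxw]
  simp

/-- The key lemma: if two maximal totally singular subspaces meet in a hyperplane, their
intersections with a third differ in dimension by exactly one. -/
theorem adjacent_inter (hQ : (polarBilin Q).Nondegenerate) {n : ℕ} (hV : finrank F V = 2 * n)
    {U U' W : Submodule F V} (hU : IsTS Q U) (hUn : finrank F U = n) (hU' : IsTS Q U')
    (hUn' : finrank F U' = n) (hW : IsTS Q W) (hWn : finrank F W = n)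
    (hadj : finrank F ↥(U ⊓ U') + 1 = n) :
    finrank F ↥(U ⊓ W) = finrank F ↥(U' ⊓ W) + 1 ∨
      finrank F ↥(U' ⊓ W) = finrank F ↥(U ⊓ W) + 1 := by
  set H := U ⊓ U' with hH
  set a := finrank F ↥(W ⊓ H) with ha
  have hHU : H ≤ U := inf_le_left
  have hHU' : H ≤ U' := inf_le_right
  -- general facts for a maximal `T` containing `H`
  have hub : ∀ T : Submodule F V, finrank F T = n → H ≤ T → finrank F ↥(T ⊓ W) ≤ a + 1 := by
    intro T hTn hHT
    have h1 := Submodule.finrank_sup_add_finrank_inf_eq (T ⊓ W) H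
    have h2 : finrank F ↥((T ⊓ W) ⊔ H) ≤ n := by
      rw [← hTn]
      exact Submodule.finrank_mono (sup_le inf_le_left hHT)
    have h3 : finrank F ↥((T ⊓ W) ⊓ H) ≤ a := by
      rw [ha]
      apply Submodule.finrank_mono
      intro x hx
      exact ⟨hx.1.2, hx.2⟩
    omega
  have hex : ∀ T : Submodule F V, finrank F T = n → H ≤ T → (∃ x ∈ T ⊓ W, x ∉ H) →
      finrank F ↥(T ⊓ W) = a + 1 := by
    intro T hTn hHT hx
    obtain ⟨x, hx, hxH⟩ := hx
    have hlt : W ⊓ H < T ⊓ W := by
      apply lt_of_le_of_ne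
      · intro y hy
        exact ⟨hHT hy.2, hy.1⟩
      · intro heq
        apply hxH
        have : x ∈ W ⊓ H := by rw [heq]; exact hx
        exact this.2
    have := Submodule.finrank_lt_finrank_of_lt hlt
    have := hub T hTn hHT
    omega
  have hnex : ∀ T : Submodule F V, T ⊓ U ⊓ U' = H → H ≤ T → (¬∃ x ∈ T ⊓ W, x ∉ H) →
      finrank F ↥(T ⊓ W) = a := by
    intro T _ hHT hx
    push Not at hx
    have : T ⊓ W = W ⊓ H := by
      apply le_antisymm
      · intro y hy
        exact ⟨hy.2, hx y hy⟩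
      · intro y hy
        exact ⟨hHT hy.2, hy.1⟩
    rw [this]
  -- not both
  have hnotboth : ¬((∃ x ∈ U ⊓ W, x ∉ H) ∧ (∃ x ∈ U' ⊓ W, x ∉ H)) := by
    rintro ⟨⟨w, hw, hwH⟩, ⟨w', hw', hwH'⟩⟩
    apply hwH'
    refine ⟨?_, hw'.1⟩
    apply mem_of_orth_hyperplane hQ hV hU hUn hHU hadj hw.1 hwH
    · intro h hh
      exact hU'.polar_zero (hHU' hh) hw'.1
    · exact hW.polar_zero hw.2 hw'.2
  -- at least one
  have hone : (∃ x ∈ U ⊓ W, x ∉ H) ∨ (∃ x ∈ U' ⊓ W, x ∉ H) := by
    set M := LinearMap.BilinForm.orthogonal (polarBilin Q) (W ⊔ H) with hM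
    have hMW : ∀ x ∈ M, x ∈ W := by
      intro x hx
      apply hW.mem_of_orth hQ (by omega)
      intro u hu
      exact hx u (Submodule.mem_sup_left hu)
    have hMH : ∀ x ∈ M, ∀ h ∈ H, QuadraticMap.polar (⇑Q) h x = 0 := by
      intro x hx h hh
      exact hx h (Submodule.mem_sup_right hh)
    have hMdim : finrank F M = a + 1 := by
      rw [hM, LinearMap.BilinForm.finrank_orthogonal hQ]
      have h1 := Submodule.finrank_sup_add_finrank_inf_eq W H
      have := Submodule.finrank_le (W ⊔ H)
      omega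
    have hx : ∃ x ∈ M, x ∉ H := by
      by_contra hcon
      push Not at hcon
      have hle : M ≤ W ⊓ H := fun x hx => ⟨hMW x hx, hcon x hx⟩
      have := Submodule.finrank_mono hle
      omega
    obtain ⟨x, hxM, hxH⟩ := hx
    have hxW := hMW x hxM
    -- `x ∈ U ⊔ U'`
    have hsup : U ⊔ U' = LinearMap.BilinForm.orthogonal (polarBilin Q) H := by
      apply Submodule.eq_of_le_of_finrank_le
      · apply sup_le
        · intro u hu h hh
          exact hU.polar_zero (hHU hh) hu
        · intro u hu h hh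
          exact hU'.polar_zero (hHU' hh) hu
      · rw [LinearMap.BilinForm.finrank_orthogonal hQ]
        have h1 := Submodule.finrank_sup_add_finrank_inf_eq U U'
        rw [← hH] at h1
        omega
    have hxs : x ∈ U ⊔ U' := by
      rw [hsup]
      intro h hh
      exact hMH x hxM h hh
    obtain ⟨u, hu, u', hu', hxe⟩ := Submodule.mem_sup.1 hxs
    have hpol : QuadraticMap.polar (⇑Q) u u' = 0 := by
      have hQx := hW x hxW
      rw [← hxe, QuadraticMap.map_add (⇑Q) u u', hU u hu, hU' u' hu'] at hQx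
      simpa using hQx
    have hor : u ∈ H ∨ u' ∈ H := by
      by_contra hcon
      push Not at hcon
      apply hcon.2
      refine ⟨?_, hu'⟩
      apply mem_of_orth_hyperplane hQ hV hU hUn hHU hadj hu hcon.1
      · intro h hh
        exact hU'.polar_zero (hHU' hh) hu'
      · exact hpol
    rcases hor with h | h
    · right
      refine ⟨x, ⟨?_, hxW⟩, hxH⟩
      rw [← hxe]
      exact U'.add_mem (hHU' h) hu'
    · left
      refine ⟨x, ⟨?_, hxW⟩, hxH⟩
      rw [← hxe]
      exact U.add_mem hu (hHU h)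
  rcases hone with h | h
  · left
    have h1 := hex U hUn hHU h
    have h2 := hnex U' (by rw [hH]; ext y; simp; tauto) hHU' (fun h' => hnotboth ⟨h, h'⟩)
    omega
  · right
    have h1 := hex U' hUn' hHU' h
    have h2 := hnex U (by rw [hH]; ext y; simp) hHU (fun h' => hnotboth ⟨h', h⟩)
    omega

/-- Construction of an adjacent maximal totally singular subspace through a given singular
vector. -/
theorem exists_adjacent (hQ : (polarBilin Q).Nondegenerate) {n : ℕ} (hV : finrank F V = 2 * n)
    {U : Submodule F V} (hU : IsTS Q U) (hUn : finrank F U = n) {w : V} (hQw : Q w = 0)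
    (hwU : w ∉ U) :
    ∃ U' : Submodule F V, IsTS Q U' ∧ finrank F U' = n ∧ finrank F ↥(U ⊓ U') + 1 = n ∧ w ∈ U' ∧
      ∀ u ∈ U, QuadraticMap.polar (⇑Q) w u = 0 → u ∈ U' := by
  set K := LinearMap.ker (polarBilin Q w) with hK
  have hKmem : ∀ x, x ∈ K ↔ QuadraticMap.polar (⇑Q) w x = 0 := by
    intro x
    rw [hK, LinearMap.mem_ker]
    rfl
  have hKdim : 2 * n ≤ finrank F K + 1 := by
    have h1 := LinearMap.finrank_range_add_finrank_ker (polarBilin Q w)
    have h2 : finrank F ↥(LinearMap.range (polarBilin Q w)) ≤ 1 := by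
      have := Submodule.finrank_le (LinearMap.range (polarBilin Q w))
      rwa [finrank_self] at this
    rw [hV, ← hK] at h1
    omega
  have hUK : n ≤ finrank F ↥(U ⊓ K) + 1 := by
    have h1 := Submodule.finrank_sup_add_finrank_inf_eq U K
    have h2 := Submodule.finrank_le (U ⊔ K)
    omega
  set U' := (U ⊓ K) ⊔ (F ∙ w) with hU'
  have hwU' : w ∈ U' := Submodule.mem_sup_right (Submodule.mem_span_singleton_self w)
  have hTS : IsTS Q U' := by
    apply IsTS.sup (hU.mono inf_le_left) (isTS_span_singleton hQw)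
    intro u hu y hy
    obtain ⟨c, rfl⟩ := Submodule.mem_span_singleton.1 hy
    rw [QuadraticMap.polar_smul_right, QuadraticMap.polar_comm, (hKmem u).1 hu.2, smul_zero]
  have hlt : U ⊓ K < U' := by
    apply lt_of_le_of_ne le_sup_left
    intro heq
    apply hwU
    have : w ∈ U ⊓ K := by rw [heq]; exact hwU'
    exact this.1
  have hdim1 := Submodule.finrank_lt_finrank_of_lt hlt
  have hdim2 := hTS.finrank_le hQ
  have hUn' : finrank F U' = n := by omega
  refine ⟨U', hTS, hUn', ?_, hwU', ?_⟩
  · have hle : U ⊓ K ≤ U ⊓ U' := le_inf inf_le_left le_sup_left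
    have h1 := Submodule.finrank_mono hle
    have h2 : finrank F ↥(U ⊓ U') ≤ n := by
      rw [← hUn]; exact Submodule.finrank_mono inf_le_left
    have h3 : finrank F ↥(U ⊓ U') ≠ n := by
      intro h
      have hUU : U ⊓ U' = U := Submodule.eq_of_le_of_finrank_eq inf_le_left (by rw [h, hUn])
      have hUU' : U ⊓ U' = U' := Submodule.eq_of_le_of_finrank_eq inf_le_right (by rw [h, hUn'])
      apply hwU
      rw [← hUU, hUU']
      exact hwU'
    omega
  · intro u hu hwu
    exact Submodule.mem_sup_left ⟨hu, (hKmem u).2 hwu⟩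

/-- Triangle parity for maximal totally singular subspaces. -/
theorem triangle_parity (hQ : (polarBilin Q).Nondegenerate) {n : ℕ} (hV : finrank F V = 2 * n) :
    ∀ (k : ℕ) (U W X : Submodule F V), IsTS Q U → finrank F U = n → IsTS Q W → finrank F W = n →
      IsTS Q X → finrank F X = n → n - finrank F ↥(U ⊓ W) = k →
      Even ((n - finrank F ↥(U ⊓ W)) + (n - finrank F ↥(W ⊓ X)) + (n - finrank F ↥(U ⊓ X))) := by
  intro k
  induction k with
  | zero =>
    intro U W X hU hUn hW hWn hX hXn hk
    have hle : finrank F ↥(U ⊓ W) ≤ n := by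
      rw [← hUn]; exact Submodule.finrank_mono inf_le_left
    have heq : finrank F ↥(U ⊓ W) = n := by omega
    have hUU : U ⊓ W = U := Submodule.eq_of_le_of_finrank_eq inf_le_left (by rw [heq, hUn])
    have hWW : U ⊓ W = W := Submodule.eq_of_le_of_finrank_eq inf_le_right (by rw [heq, hWn])
    have hUW : U = W := by rw [← hUU, hWW]
    subst hUW
    rw [hk, zero_add]
    exact ⟨_, rfl⟩
  | succ k ih =>
    intro U W X hU hUn hW hWn hX hXn hk
    -- a vector of `W` outside `U`
    have hex : ∃ w ∈ W, w ∉ U := by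
      by_contra hcon
      push Not at hcon
      have hWU : W ≤ U := hcon
      have : U ⊓ W = W := inf_eq_right.2 hWU
      rw [this, hWn] at hk
      omega
    obtain ⟨w, hwW, hwU⟩ := hex
    obtain ⟨U', hU', hUn', hadj, hwU', hsub⟩ := exists_adjacent hQ hV hU hUn (hW w hwW) hwU
    -- `U' ⊓ W` is bigger than `U ⊓ W`
    have hlt : U ⊓ W < U' ⊓ W := by
      apply lt_of_le_of_ne
      · intro y hy
        exact ⟨hsub y hy.1 (hW.polar_zero hwW hy.2), hy.2⟩
      · intro heq
        apply hwU
        have : w ∈ U ⊓ W := by rw [heq]; exact ⟨hwU', hwW⟩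
        exact this.1
    have hdim := Submodule.finrank_lt_finrank_of_lt hlt
    have hkey1 := adjacent_inter hQ hV hU hUn hU' hUn' hW hWn hadj
    have hkey2 := adjacent_inter hQ hV hU hUn hU' hUn' hX hXn hadj
    have hIH := ih U' W X hU' hUn' hW hWn hX hXn (by omega)
    have hb1 : finrank F ↥(U ⊓ X) ≤ n := by
      rw [← hUn]; exact Submodule.finrank_mono inf_le_left
    have hb2 : finrank F ↥(U' ⊓ X) ≤ n := by
      rw [← hUn']; exact Submodule.finrank_mono inf_le_left
    have hb3 : finrank F ↥(U' ⊓ W) ≤ n := by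
      rw [← hUn']; exact Submodule.finrank_mono inf_le_left
    have hb4 : finrank F ↥(W ⊓ X) ≤ n := by
      rw [← hWn]; exact Submodule.finrank_mono inf_le_left
    rw [Nat.even_iff] at hIH ⊢
    omega

end Cfsg.Agent.Lib.Helper19.Parity
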