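-- Non-degenerate subspaces of a quadratic space: dimension bookkeeping.
import Mathlib
import Cfsg.Agent.Lib.Helper19.Parity

set_option autoImplicit false

namespace Cfsg.Agent.Lib.Helper19.Parity

open QuadraticMap Module

variable {F V : Type*} [Field F] [AddCommGroup V] [Module F V]

/-- Orthogonal complement with respect to the polar form. -/
def orth (Q : QuadraticForm F V) (W : Submodule F V) : Submodule F V :=
  LinearMap.BilinForm.orthogonal (polarBilin Q) W

variable {Q : QuadraticForm F V}

theorem mem_orth {W : Submodule F V} {x : V} :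
    x ∈ orth Q W ↔ ∀ w ∈ W, QuadraticMap.polar (⇑Q) w x = 0 := Iff.rfl

theorem polarBilin_isRefl (Q : QuadraticForm F V) : (polarBilin Q).IsRefl := by
  intro x y h
  rw [polarBilin_apply_apply] at h ⊢
  rw [QuadraticMap.polar_comm]
  exact h

theorem orth_sup (A B : Submodule F V) : orth Q (A ⊔ B) = orth Q A ⊓ orth Q B := by
  ext x
  constructor
  · intro hx
    exact ⟨fun a ha => hx a (Submodule.mem_sup_left ha), fun b hb => hx b (Submodule.mem_sup_right hb)⟩
  · rintro ⟨h1, h3⟩ y hy
    obtain ⟨a, ha, b, hb, rfl⟩ := Submodule.mem_sup.1 hy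
    show QuadraticMap.polar (⇑Q) (a + b) x = 0
    rw [QuadraticMap.polar_add_left, mem_orth.1 h1 a ha, mem_orth.1 h3 b hb, add_zero]

theorem orth_anti {A B : Submodule F V} (h : A ≤ B) : orth Q B ≤ orth Q A :=
  LinearMap.BilinForm.orthogonal_le h

/-- A non-degenerate subspace. -/
def Nondeg (Q : QuadraticForm F V) (W : Submodule F V) : Prop := W ⊓ orth Q W = ⊥

theorem Nondeg.exists_polar_ne {W : Submodule F V} (hW : Nondeg Q W) {u : V} (hu : u ∈ W)
    (hu0 : u ≠ 0) : ∃ y ∈ W, QuadraticMap.polar (⇑Q) u y ≠ 0 := by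
  by_contra hcon
  push Not at hcon
  apply hu0
  have : u ∈ W ⊓ orth Q W := by
    refine ⟨hu, ?_⟩
    intro w hw
    show QuadraticMap.polar (⇑Q) w u = 0
    rw [QuadraticMap.polar_comm]
    exact hcon w hw
  rw [hW] at this
  exact (Submodule.mem_bot F).1 this

variable [FiniteDimensional F V]

theorem orth_orth (hQ : (polarBilin Q).Nondegenerate) (W : Submodule F V) :
    orth Q (orth Q W) = W :=
  LinearMap.BilinForm.orthogonal_orthogonal hQ (polarBilin_isRefl Q) W

theorem finrank_orth (hQ : (polarBilin Q).Nondegenerate) (W : Submodule F V) :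
    finrank F (orth Q W) = finrank F V - finrank F W :=
  LinearMap.BilinForm.finrank_orthogonal hQ W

theorem nondeg_top (hQ : (polarBilin Q).Nondegenerate) : Nondeg Q (⊤ : Submodule F V) := by
  unfold Nondeg orth
  rw [LinearMap.BilinForm.orthogonal_top_eq_bot hQ, inf_bot_eq]

theorem inf_orth_eq (hQ : (polarBilin Q).Nondegenerate) (W S : Submodule F V) :
    W ⊓ orth Q S = orth Q (orth Q W ⊔ S) := by
  rw [orth_sup, orth_orth hQ]

/-- Dimension of the relative orthogonal complement in a non-degenerate subspace. -/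
theorem finrank_inf_orth (hQ : (polarBilin Q).Nondegenerate) {W S : Submodule F V}
    (hW : Nondeg Q W) (hS : S ≤ W) :
    finrank F ↥(W ⊓ orth Q S) + finrank F S = finrank F W := by
  rw [inf_orth_eq hQ, finrank_orth hQ]
  have h1 := Submodule.finrank_sup_add_finrank_inf_eq (orth Q W) S
  have h2 : orth Q W ⊓ S = ⊥ := by
    rw [eq_bot_iff, ← hW]
    intro x hx
    exact ⟨hS hx.2, hx.1⟩
  rw [h2, finrank_bot, add_zero, finrank_orth hQ] at h1
  have h3 := Submodule.finrank_le W
  have h4 := Submodule.finrank_le (orth Q W ⊔ S)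
  omega

/-- A totally singular subspace of a non-degenerate subspace has at most half its dimension. -/
theorem IsTS.finrank_le_of_nondeg (hQ : (polarBilin Q).Nondegenerate) {W S : Submodule F V}
    (hW : Nondeg Q W) (hS : S ≤ W) (hTS : IsTS Q S) : 2 * finrank F S ≤ finrank F W := by
  have h1 := finrank_inf_orth hQ hW hS
  have h2 : S ≤ W ⊓ orth Q S := le_inf hS hTS.le_orthogonal
  have h3 := Submodule.finrank_mono h2
  omega

/-- Intersecting with the kernel of a functional drops the dimension by at most one. -/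
theorem finrank_inf_ker_ge (A : Submodule F V) (φ : V →ₗ[F] F) :
    finrank F A ≤ finrank F ↥(A ⊓ LinearMap.ker φ) + 1 := by
  have h1 := LinearMap.finrank_range_add_finrank_ker φ
  have h2 : finrank F ↥(LinearMap.range φ) ≤ 1 := by
    have := Submodule.finrank_le (LinearMap.range φ)
    rwa [finrank_self] at this
  have h3 := Submodule.finrank_sup_add_finrank_inf_eq A (LinearMap.ker φ)
  have h4 := Submodule.finrank_le (A ⊔ LinearMap.ker φ)
  omega

/-- The span of a pair with non-zero polar product, in characteristic two. -/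
theorem pair_linearIndependent (h2 : (2 : F) = 0) {a b : V}
    (hab : QuadraticMap.polar (⇑Q) a b ≠ 0) : LinearIndependent F ![a, b] := by
  rw [LinearIndependent.pair_iff]
  intro s t hst
  have hpaa : QuadraticMap.polar (⇑Q) a a = 0 := by
    rw [QuadraticMap.polar_self, two_smul, ← two_mul, h2, zero_mul]
  have hpbb : QuadraticMap.polar (⇑Q) b b = 0 := by
    rw [QuadraticMap.polar_self, two_smul, ← two_mul, h2, zero_mul]
  have h1 : QuadraticMap.polar (⇑Q) a (s • a + t • b) = 0 := by
    rw [hst]; exact QuadraticMap.polar_zero_right _ _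
  have h3 : QuadraticMap.polar (⇑Q) b (s • a + t • b) = 0 := by
    rw [hst]; exact QuadraticMap.polar_zero_right _ _
  rw [QuadraticMap.polar_add_right, QuadraticMap.polar_smul_right, QuadraticMap.polar_smul_right,
    hpaa, smul_zero, zero_add, smul_eq_mul] at h1
  rw [QuadraticMap.polar_add_right, QuadraticMap.polar_smul_right, QuadraticMap.polar_smul_right,
    hpbb, smul_zero, add_zero, smul_eq_mul, QuadraticMap.polar_comm] at h3
  exact ⟨(mul_eq_zero.1 h3).resolve_right hab, (mul_eq_zero.1 h1).resolve_right hab⟩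

/-- The plane spanned by a pair. -/
def plane (F : Type*) {V : Type*} [Field F] [AddCommGroup V] [Module F V] (a b : V) :
    Submodule F V := Submodule.span F (Set.range ![a, b])

theorem mem_plane {a b y : V} : y ∈ plane F a b ↔ ∃ α β : F, y = α • a + β • b := by
  unfold plane
  rw [Submodule.mem_span_range_iff_exists_fun]
  constructor
  · rintro ⟨c, rfl⟩
    refine ⟨c 0, c 1, ?_⟩
    rw [Fin.sum_univ_two]
    rfl
  · rintro ⟨α, β, rfl⟩
    refine ⟨![α, β], ?_⟩
    rw [Fin.sum_univ_two]
    rfl

theorem left_mem_plane (a b : V) : a ∈ plane F a b :=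
  mem_plane.2 ⟨1, 0, by simp⟩

theorem right_mem_plane (a b : V) : b ∈ plane F a b :=
  mem_plane.2 ⟨0, 1, by simp⟩

theorem plane_le {a b : V} {W : Submodule F V} (ha : a ∈ W) (hb : b ∈ W) : plane F a b ≤ W := by
  intro y hy
  obtain ⟨α, β, rfl⟩ := mem_plane.1 hy
  exact W.add_mem (W.smul_mem _ ha) (W.smul_mem _ hb)

theorem finrank_plane (h2 : (2 : F) = 0) {a b : V}
    (hab : QuadraticMap.polar (⇑Q) a b ≠ 0) : finrank F (plane F a b) = 2 := by
  unfold plane
  rw [finrank_span_eq_card (pair_linearIndependent h2 hab), Fintype.card_fin]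

theorem mem_orth_plane {a b x : V} :
    x ∈ orth Q (plane F a b) ↔
      QuadraticMap.polar (⇑Q) a x = 0 ∧ QuadraticMap.polar (⇑Q) b x = 0 := by
  constructor
  · intro hx
    exact ⟨hx a (left_mem_plane a b), hx b (right_mem_plane a b)⟩
  · rintro ⟨h1, h3⟩ y hy
    obtain ⟨α, β, rfl⟩ := mem_plane.1 hy
    show QuadraticMap.polar (⇑Q) (α • a + β • b) x = 0
    rw [QuadraticMap.polar_add_left, QuadraticMap.polar_smul_left, QuadraticMap.polar_smul_left,
      h1, h3, smul_zero, smul_zero, add_zero]

end Cfsg.Agent.Lib.Helper19.Parity
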