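-- The centraliser of `Ω(Q)` in the isometry group consists of `±1` (odd characteristic, dimension
-- at least four, given an orthogonal basis of vectors with a common value of `Q`).
import Mathlib
import Cfsg.Prelude.Def_Classical
import Cfsg.Prelude.Def_ClassicalGeometry
import Cfsg.Agent.Lib.Helper19.OrthSpinor
import Cfsg.Agent.Lib.Helper19.OrthNegOne
import Cfsg.Agent.Lib.Helper19.OrthDiag

set_option autoImplicit false

namespace Cfsg.Agent.Lib.Helper19.OrthRefl

open Matrix QuadraticMap

variable {ι : Type} [Fintype ι] [DecidableEq ι] {F : Type*} [Field F]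

/-- The action of a product of two reflections in orthogonal vectors. -/
theorem act_refl_refl (Q : QuadraticForm F (ι → F)) (a b : ι → F) (ha : Q a ≠ 0) (hb : Q b ≠ 0)
    (hab : polar (⇑Q) a b = 0) (y : ι → F) :
    act (refl Q a ha * refl Q b hb) y
      = y - ((Q a)⁻¹ * polar (⇑Q) a y) • a - ((Q b)⁻¹ * polar (⇑Q) b y) • b := by
  rw [act_mul, act_refl Q b hb, act_refl Q a ha, QuadraticMap.polar_sub_right,
    QuadraticMap.polar_smul_right, hab, smul_zero, sub_zero]
  abel

theorem act_refl_refl_self (Q : QuadraticForm F (ι → F)) (a b : ι → F) (ha : Q a ≠ 0)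
    (hb : Q b ≠ 0) (hab : polar (⇑Q) a b = 0) :
    act (refl Q a ha * refl Q b hb) a = -a := by
  rw [act_mul, act_refl_of_polar_eq_zero Q b hb a (by rw [QuadraticMap.polar_comm]; exact hab),
    act_refl_self]

/-- A vector negated by a product of two reflections in orthogonal vectors lies in their span. -/
theorem eq_of_act_refl_refl_eq_neg (h2 : (2 : F) ≠ 0) (Q : QuadraticForm F (ι → F)) (a b : ι → F)
    (ha : Q a ≠ 0) (hb : Q b ≠ 0) (hab : polar (⇑Q) a b = 0) (y : ι → F)
    (h : act (refl Q a ha * refl Q b hb) y = -y) :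
    y = ((2 : F)⁻¹ * ((Q a)⁻¹ * polar (⇑Q) a y)) • a
      + ((2 : F)⁻¹ * ((Q b)⁻¹ * polar (⇑Q) b y)) • b := by
  rw [act_refl_refl Q a b ha hb hab] at h
  have h1 : (2 : F) • y = ((Q a)⁻¹ * polar (⇑Q) a y) • a + ((Q b)⁻¹ * polar (⇑Q) b y) • b := by
    rw [two_smul]
    have : y + y = y - -y := by abel
    rw [this, ← h]
    abel
  have h3 : (2 : F)⁻¹ • ((2 : F) • y) = y := by rw [smul_smul, inv_mul_cancel₀ h2, one_smul]
  calc y = (2 : F)⁻¹ • ((2 : F) • y) := h3.symm
    _ = (2 : F)⁻¹ • (((Q a)⁻¹ * polar (⇑Q) a y) • a + ((Q b)⁻¹ * polar (⇑Q) b y) • b) := by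
        rw [h1]
    _ = _ := by rw [smul_add, smul_smul, smul_smul]

/-- A product of two reflections in vectors with the same value of `Q` lies in `Ω`. -/
theorem refl_mul_refl_mem_Omega [Fintype F] (h2 : (2 : F) ≠ 0) (Q : QuadraticForm F (ι → F))
    (hQ : (QuadraticMap.polarBilin Q).Nondegenerate) (hn : 2 ≤ Fintype.card ι) (a b : ι → F)
    (ha : Q a ≠ 0) (hb : Q b ≠ 0) (hQab : Q a = Q b) :
    refl Q a ha * refl Q b hb ∈ Cfsg.Omega F (⇑Q) := by
  classical
  rw [mem_Omega_iff h2 Q hQ hn 1 one_ne_zero]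
  constructor
  · rw [Subgroup.coe_mul, Units.val_mul, Matrix.det_mul, refl_det, refl_det]; ring
  · rw [map_mul, chi_refl h2 Q 1 one_ne_zero a ha, chi_refl h2 Q 1 one_ne_zero b hb, hQab]
    exact Int.units_mul_self _

theorem exists_two_ne {d : ℕ} (hd : 4 ≤ d) (i j : Fin d) :
    ∃ k l : Fin d, k ≠ i ∧ k ≠ j ∧ l ≠ i ∧ l ≠ j ∧ k ≠ l := by
  classical
  have hcard : 1 < (Finset.univ \ ({i, j} : Finset (Fin d))).card := by
    have h1 := Finset.le_card_sdiff ({i, j} : Finset (Fin d)) Finset.univ
    have h3 : ({i, j} : Finset (Fin d)).card ≤ 2 := Finset.card_le_two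
    rw [Finset.card_univ, Fintype.card_fin] at h1
    omega
  obtain ⟨k, hk, l, hl, hkl⟩ := Finset.one_lt_card.1 hcard
  simp only [Finset.mem_sdiff, Finset.mem_univ, Finset.mem_insert, Finset.mem_singleton, true_and,
    not_or] at hk hl
  exact ⟨k, l, hk.1, hk.2, hl.1, hl.2, hkl⟩

/-- The centraliser of `Ω` consists of `±1`. -/
theorem centralizer_Omega [Fintype F] (h2 : (2 : F) ≠ 0) (Q : QuadraticForm F (ι → F))
    (hQ : (QuadraticMap.polarBilin Q).Nondegenerate) (hn : 4 ≤ Fintype.card ι) (c : F)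
    (v : Fin (Module.finrank F (ι → F)) → (ι → F)) (hv : IsOrthFam Q v) (hvc : ∀ i, Q (v i) = c)
    (z : ↥(Cfsg.isometryGroup F ⇑Q)) (hz : ∀ g ∈ Cfsg.Omega F (⇑Q), g * z = z * g) :
    z = 1 ∨ z = negOne Q := by
  classical
  have hfr : Module.finrank F (ι → F) = Fintype.card ι := Module.finrank_fintype_fun_eq_card F
  have hd : 4 ≤ Module.finrank F (ι → F) := by rw [hfr]; exact hn
  have hn2 : 2 ≤ Fintype.card ι := by omega
  have hc0 : c ≠ 0 := by
    have := hv.2 ⟨0, by omega⟩
    rwa [hvc] at this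
  -- Step 1
  have step1 : ∀ i j, i ≠ j → ∃ α β : F, act z (v i) = α • v i + β • v j := by
    intro i j hij
    have hmem := refl_mul_refl_mem_Omega h2 Q hQ hn2 (v i) (v j) (hv.2 i) (hv.2 j)
      (by rw [hvc, hvc])
    have hcomm := hz _ hmem
    have h1 : act (refl Q (v i) (hv.2 i) * refl Q (v j) (hv.2 j)) (act z (v i))
        = -act z (v i) := by
      rw [← act_mul, hcomm, act_mul, act_refl_refl_self Q (v i) (v j) (hv.2 i) (hv.2 j)
        (hv.1 i j hij), act_neg]
    exact ⟨_, _, eq_of_act_refl_refl_eq_neg h2 Q (v i) (v j) (hv.2 i) (hv.2 j) (hv.1 i j hij) _ h1⟩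
  -- Step 2
  have step2 : ∀ i, ∃ lam : F, act z (v i) = lam • v i := by
    intro i
    obtain ⟨j, k, hji, _, hki, _, hjk⟩ := exists_two_ne hd i i
    obtain ⟨α, β, h1⟩ := step1 i j (Ne.symm hji)
    obtain ⟨α', β', h3⟩ := step1 i k (Ne.symm hki)
    have hβ : β = 0 := by
      have e1 : polar (⇑Q) (v j) (act z (v i)) = β * (2 * Q (v j)) := by
        rw [h1, QuadraticMap.polar_add_right, QuadraticMap.polar_smul_right,
          QuadraticMap.polar_smul_right, hv.1 j i hji, polar_self']
        simp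
      have e2 : polar (⇑Q) (v j) (act z (v i)) = 0 := by
        rw [h3, QuadraticMap.polar_add_right, QuadraticMap.polar_smul_right,
          QuadraticMap.polar_smul_right, hv.1 j i hji, hv.1 j k hjk]
        simp
      rw [e2] at e1
      rcases mul_eq_zero.mp e1.symm with h | h
      · exact h
      · exact absurd h (mul_ne_zero h2 (hv.2 j))
    exact ⟨α, by rw [h1, hβ, zero_smul, add_zero]⟩
  choose lam hlam using step2
  -- Step 4: all eigenvalues agree
  have step4 : ∀ i j, lam i = lam j := by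
    intro i j
    by_cases hij : i = j
    · rw [hij]
    obtain ⟨k, l, hki, hkj, hli, hlj, hkl⟩ := exists_two_ne hd i j
    set a := v i + v j with ha
    set b := v k + v l with hb
    have hQa : Q a = 2 * c := by
      have : Q (v i + v j) = Q (v i) + Q (v j) + polar (⇑Q) (v i) (v j) := by
        unfold QuadraticMap.polar; ring
      rw [ha, this, hvc, hvc, hv.1 i j hij]; ring
    have hQb : Q b = 2 * c := by
      have : Q (v k + v l) = Q (v k) + Q (v l) + polar (⇑Q) (v k) (v l) := by
        unfold QuadraticMap.polar; ring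
      rw [hb, this, hvc, hvc, hv.1 k l hkl]; ring
    have ha0 : Q a ≠ 0 := by rw [hQa]; exact mul_ne_zero h2 hc0
    have hb0 : Q b ≠ 0 := by rw [hQb]; exact mul_ne_zero h2 hc0
    have hab : polar (⇑Q) a b = 0 := by
      rw [ha, hb]
      simp only [QuadraticMap.polar_add_left, QuadraticMap.polar_add_right]
      rw [hv.1 i k (Ne.symm hki), hv.1 i l (Ne.symm hli), hv.1 j k (Ne.symm hkj),
        hv.1 j l (Ne.symm hlj)]
      ring
    have hmem := refl_mul_refl_mem_Omega h2 Q hQ hn2 a b ha0 hb0 (by rw [hQa, hQb])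
    have hcomm := hz _ hmem
    have h1 : act (refl Q a ha0 * refl Q b hb0) (act z a) = -act z a := by
      rw [← act_mul, hcomm, act_mul, act_refl_refl_self Q a b ha0 hb0 hab, act_neg]
    have h3 := eq_of_act_refl_refl_eq_neg h2 Q a b ha0 hb0 hab _ h1
    set α := (2 : F)⁻¹ * ((Q a)⁻¹ * polar (⇑Q) a (act z a)) with hα
    set β := (2 : F)⁻¹ * ((Q b)⁻¹ * polar (⇑Q) b (act z a)) with hβ
    have hza : act z a = lam i • v i + lam j • v j := by
      rw [ha, act_add, hlam, hlam]
    have ei : polar (⇑Q) (v i) (act z a) = lam i * (2 * c) := by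
      rw [hza, QuadraticMap.polar_add_right, QuadraticMap.polar_smul_right,
        QuadraticMap.polar_smul_right, hv.1 i j hij, polar_self', hvc]
      simp
    have ej : polar (⇑Q) (v j) (act z a) = lam j * (2 * c) := by
      rw [hza, QuadraticMap.polar_add_right, QuadraticMap.polar_smul_right,
        QuadraticMap.polar_smul_right, hv.1 j i (Ne.symm hij), polar_self', hvc]
      simp
    have ei' : polar (⇑Q) (v i) (act z a) = α * (2 * c) := by
      rw [h3, ha, hb]
      simp only [QuadraticMap.polar_add_right, QuadraticMap.polar_smul_right, polar_self']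
      rw [hv.1 i j hij, hv.1 i k (Ne.symm hki), hv.1 i l (Ne.symm hli), hvc]
      simp
    have ej' : polar (⇑Q) (v j) (act z a) = α * (2 * c) := by
      rw [h3, ha, hb]
      simp only [QuadraticMap.polar_add_right, QuadraticMap.polar_smul_right, polar_self']
      rw [hv.1 j i (Ne.symm hij), hv.1 j k (Ne.symm hkj), hv.1 j l (Ne.symm hlj), hvc]
      simp
    have h2c : (2 : F) * c ≠ 0 := mul_ne_zero h2 hc0
    have e1 : lam i = α := mul_right_cancel₀ h2c (ei.symm.trans ei')
    have e2 : lam j = α := mul_right_cancel₀ h2c (ej.symm.trans ej')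
    rw [e1, e2]
  -- Step 3: the common eigenvalue is `±1`
  set i₀ : Fin (Module.finrank F (ι → F)) := ⟨0, by omega⟩ with hi₀
  have hsq : lam i₀ * lam i₀ = 1 := by
    have h1 : Q (act z (v i₀)) = Q (v i₀) := Q_act z (v i₀)
    rw [hlam, QuadraticMap.map_smul, hvc, smul_eq_mul] at h1
    have : (lam i₀ * lam i₀ - 1) * c = 0 := by linear_combination h1
    rcases mul_eq_zero.mp this with h | h
    · exact sub_eq_zero.mp h
    · exact absurd h hc0
  have hall : ∀ x, act z x = lam i₀ • x := by
    intro x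
    set b := hv.basis h2 Q rfl with hb
    have hx := b.sum_repr x
    rw [← hx]
    unfold act
    rw [Matrix.mulVec_sum, Finset.smul_sum]
    apply Finset.sum_congr rfl
    intro i _
    rw [Matrix.mulVec_smul, hb, IsOrthFam.basis_apply, smul_comm]
    congr 1
    have := hlam i
    rw [step4 i i₀] at this
    exact this
  have hpm : lam i₀ = 1 ∨ lam i₀ = -1 := by
    have : (lam i₀ - 1) * (lam i₀ + 1) = 0 := by linear_combination hsq
    rcases mul_eq_zero.mp this with h | h
    · left; exact sub_eq_zero.mp h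
    · right; exact eq_neg_of_add_eq_zero_left h
  rcases hpm with h | h
  · left
    apply ext_act
    intro x
    rw [hall, h, one_smul, act_one]
  · right
    apply ext_act
    intro x
    rw [hall, h, act_negOne, neg_one_smul]

end Cfsg.Agent.Lib.Helper19.OrthRefl
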