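-- The centraliser of the products of two reflections in vectors with the same value of `Q`,
-- in any characteristic and without reference to an orthogonal basis.
import Mathlib
import Cfsg.Prelude.Def_Classical
import Cfsg.Prelude.Def_ClassicalGeometry
import Cfsg.Agent.Lib.Helper19.OrthRefl
import Cfsg.Agent.Lib.Helper19.OrthNegOne
import Cfsg.Agent.Lib.Helper19.OrthCenter
import Cfsg.Agent.Lib.Helper19.NondegSub
import Cfsg.Agent.Lib.Helper19.QuadWitt

set_option autoImplicit false

namespace Cfsg.Agent.Lib.Helper19.OrthRefl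

open Matrix QuadraticMap Module Cfsg.Agent.Lib.Helper19.Parity

variable {ι : Type} [Fintype ι] [DecidableEq ι] {F : Type*} [Field F]

/-- A vector fixed by the product of the reflections in two independent vectors is orthogonal to
both. -/
theorem polar_eq_zero_of_fix (Q : QuadraticForm F (ι → F)) {u v : ι → F} (hu : Q u ≠ 0)
    (hv : Q v ≠ 0) (hli : LinearIndependent F ![u, v]) (y : ι → F)
    (hy : act (refl Q u hu * refl Q v hv) y = y) :
    polar (⇑Q) u y = 0 ∧ polar (⇑Q) v y = 0 := by
  have h1 : act (refl Q v hv) y = act (refl Q u hu) y := by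
    have := congrArg (act (refl Q u hu)) hy
    rw [act_mul, ← act_mul, refl_mul_self, act_one] at this
    exact this
  rw [act_refl, act_refl] at h1
  have h3 : ((Q u)⁻¹ * polar (⇑Q) u y) • u + (-((Q v)⁻¹ * polar (⇑Q) v y)) • v = 0 := by
    rw [neg_smul]
    have : ((Q v)⁻¹ * polar (⇑Q) v y) • v = ((Q u)⁻¹ * polar (⇑Q) u y) • u :=
      sub_right_injective h1
    rw [this]
    abel
  obtain ⟨e1, e2⟩ := LinearIndependent.pair_iff.1 hli _ _ h3
  constructor
  · rcases mul_eq_zero.1 e1 with h | h
    · exact absurd (inv_eq_zero.1 h) hu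
    · exact h
  · rcases mul_eq_zero.1 (neg_eq_zero.1 e2) with h | h
    · exact absurd (inv_eq_zero.1 h) hv
    · exact h

theorem act_mem_orth_plane_of_comm (Q : QuadraticForm F (ι → F)) {u v : ι → F} (hu : Q u ≠ 0)
    (hv : Q v ≠ 0) (hli : LinearIndependent F ![u, v]) (z : ↥(Cfsg.isometryGroup F ⇑Q))
    (hz : refl Q u hu * refl Q v hv * z = z * (refl Q u hu * refl Q v hv)) (x : ι → F)
    (hx : x ∈ orth Q (plane F u v)) : act z x ∈ orth Q (plane F u v) := by
  rw [mem_orth_plane] at hx ⊢
  apply polar_eq_zero_of_fix Q hu hv hli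
  rw [← act_mul, hz, act_mul, act_mul, act_refl_of_polar_eq_zero Q v hv x hx.2,
    act_refl_of_polar_eq_zero Q u hu x hx.1]

theorem act_mem_plane_of_comm (Q : QuadraticForm F (ι → F))
    (hQ : (polarBilin Q).Nondegenerate) {u v : ι → F} (hu : Q u ≠ 0)
    (hv : Q v ≠ 0) (hli : LinearIndependent F ![u, v]) (z : ↥(Cfsg.isometryGroup F ⇑Q))
    (hz : refl Q u hu * refl Q v hv * z = z * (refl Q u hu * refl Q v hv)) (w : ι → F)
    (hw : w ∈ plane F u v) : act z w ∈ plane F u v := by
  have hz' : refl Q u hu * refl Q v hv * z⁻¹ = z⁻¹ * (refl Q u hu * refl Q v hv) :=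
    (Commute.inv_right (show Commute _ z from hz)).eq
  rw [← orth_orth hQ (plane F u v), mem_orth]
  intro x hx
  have h1 := act_mem_orth_plane_of_comm Q hu hv hli z⁻¹ hz' x hx
  have h3 : polar (⇑Q) w (act z⁻¹ x) = 0 := mem_orth.1 h1 w hw
  rw [← act_act_inv z x, polar_act, QuadraticMap.polar_comm]
  exact h3

/-- An isometry commuting with the products of two reflections in vectors with the same value
of `Q` stabilises every non-singular line. -/
theorem exists_eigen_of_comm [Finite F] (Q : QuadraticForm F (ι → F))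
    (hQ : (polarBilin Q).Nondegenerate) (hn : 4 ≤ Fintype.card ι)
    (z : ↥(Cfsg.isometryGroup F ⇑Q))
    (hz : ∀ (a b : ι → F) (ha : Q a ≠ 0) (hb : Q b ≠ 0), Q a = Q b →
      refl Q a ha * refl Q b hb * z = z * (refl Q a ha * refl Q b hb))
    (u : ι → F) (hu : Q u ≠ 0) : ∃ a : F, act z u = a • u ∧ a * a = 1 := by
  have hu0 : u ≠ 0 := by
    intro h; rw [h, QuadraticMap.map_zero] at hu; exact hu rfl
  have hfr : finrank F (ι → F) = Fintype.card ι := Module.finrank_fintype_fun_eq_card F
  set U := orth Q (F ∙ u) with hU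
  have hUfr : finrank F U = Fintype.card ι - 1 := by
    rw [hU, finrank_orth hQ, finrank_span_singleton hu0, hfr]
  have hUu : ∀ y ∈ U, polar (⇑Q) u y = 0 := by
    intro y hy
    exact mem_orth.1 hy u (Submodule.mem_span_singleton_self u)
  obtain ⟨x, hxU, hx0, hQx⟩ :=
    Cfsg.Agent.Lib.Helper19.QuadWitt.exists_singular_of_three (Q := Q) U (by rw [hUfr]; omega)
  have hxu : x ∉ F ∙ u := by
    intro h
    obtain ⟨t, rfl⟩ := Submodule.mem_span_singleton.1 h
    rw [QuadraticMap.map_smul, smul_eq_mul] at hQx
    rcases mul_eq_zero.1 hQx with h | h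
    · have ht : t = 0 := by
        rcases mul_eq_zero.1 h with h' | h' <;> exact h'
      apply hx0
      rw [ht, zero_smul]
    · exact hu h
  obtain ⟨y, hyU, hxy⟩ : ∃ y ∈ U, polar (⇑Q) x y ≠ 0 := by
    by_contra hcon
    push Not at hcon
    apply hxu
    rw [← orth_orth hQ (F ∙ u), mem_orth]
    intro w hw
    rw [QuadraticMap.polar_comm]
    exact hcon w hw
  set t := Q y / polar (⇑Q) x y with ht
  set x' := y - t • x with hx'
  have hx'U : x' ∈ U := U.sub_mem hyU (U.smul_mem _ hxU)
  have hQx' : Q x' = 0 := by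
    rw [hx', Q_sub', QuadraticMap.map_smul, hQx, smul_zero, add_zero,
      QuadraticMap.polar_smul_right, smul_eq_mul, QuadraticMap.polar_comm (⇑Q) y x, ht]
    field_simp
    ring
  have hxx' : polar (⇑Q) x x' ≠ 0 := by
    rw [hx', QuadraticMap.polar_sub_right, QuadraticMap.polar_smul_right, polar_self', hQx,
      mul_zero, smul_zero, sub_zero]
    exact hxy
  have hux : polar (⇑Q) u x = 0 := hUu x hxU
  have hux' : polar (⇑Q) u x' = 0 := hUu x' hx'U
  have hQv : Q (u + x) = Q u := by
    have : Q (u + x) = Q u + Q x + polar (⇑Q) u x := QuadraticMap.map_add (⇑Q) u x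
    rw [this, hQx, hux, add_zero, add_zero]
  have hQv' : Q (u + x') = Q u := by
    have : Q (u + x') = Q u + Q x' + polar (⇑Q) u x' := QuadraticMap.map_add (⇑Q) u x'
    rw [this, hQx', hux', add_zero, add_zero]
  have hv : Q (u + x) ≠ 0 := by rw [hQv]; exact hu
  have hv' : Q (u + x') ≠ 0 := by rw [hQv']; exact hu
  have hli : LinearIndependent F ![u, u + x] := by
    rw [LinearIndependent.pair_iff]
    intro s r hsr
    have h1 : polar (⇑Q) x' (s • u + r • (u + x)) = 0 := by
      rw [hsr]; exact QuadraticMap.polar_zero_right _ _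
    rw [QuadraticMap.polar_add_right, QuadraticMap.polar_smul_right,
      QuadraticMap.polar_smul_right, QuadraticMap.polar_add_right,
      QuadraticMap.polar_comm (⇑Q) x' u, hux', QuadraticMap.polar_comm (⇑Q) x' x, smul_zero,
      zero_add, zero_add, smul_eq_mul] at h1
    have hr : r = 0 := (mul_eq_zero.1 h1).resolve_right hxx'
    rw [hr, zero_smul, add_zero] at hsr
    exact ⟨(smul_eq_zero.1 hsr).resolve_right hu0, hr⟩
  have hli' : LinearIndependent F ![u, u + x'] := by
    rw [LinearIndependent.pair_iff]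
    intro s r hsr
    have h1 : polar (⇑Q) x (s • u + r • (u + x')) = 0 := by
      rw [hsr]; exact QuadraticMap.polar_zero_right _ _
    rw [QuadraticMap.polar_add_right, QuadraticMap.polar_smul_right,
      QuadraticMap.polar_smul_right, QuadraticMap.polar_add_right,
      QuadraticMap.polar_comm (⇑Q) x u, hux, smul_zero,
      zero_add, zero_add, smul_eq_mul] at h1
    have hr : r = 0 := (mul_eq_zero.1 h1).resolve_right hxx'
    rw [hr, zero_smul, add_zero] at hsr
    exact ⟨(smul_eq_zero.1 hsr).resolve_right hu0, hr⟩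
  have hm := act_mem_plane_of_comm Q hQ hu hv hli z (hz u (u + x) hu hv hQv.symm) u
    (left_mem_plane u (u + x))
  have hm' := act_mem_plane_of_comm Q hQ hu hv' hli' z (hz u (u + x') hu hv' hQv'.symm) u
    (left_mem_plane u (u + x'))
  obtain ⟨α, β, hαβ⟩ := mem_plane.1 hm
  obtain ⟨α', β', hαβ'⟩ := mem_plane.1 hm'
  have e1 : polar (⇑Q) x' (act z u) = β * polar (⇑Q) x x' := by
    rw [hαβ, QuadraticMap.polar_add_right, QuadraticMap.polar_smul_right,
      QuadraticMap.polar_smul_right, QuadraticMap.polar_add_right,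
      QuadraticMap.polar_comm (⇑Q) x' u, hux', QuadraticMap.polar_comm (⇑Q) x' x, smul_zero,
      zero_add, zero_add, smul_eq_mul]
  have e2 : polar (⇑Q) x' (act z u) = 0 := by
    rw [hαβ', QuadraticMap.polar_add_right, QuadraticMap.polar_smul_right,
      QuadraticMap.polar_smul_right, QuadraticMap.polar_add_right,
      QuadraticMap.polar_comm (⇑Q) x' u, hux', polar_self', hQx', mul_zero, smul_zero,
      zero_add, zero_add, smul_zero]
  have hβ : β = 0 := by
    rw [e2] at e1
    exact (mul_eq_zero.1 e1.symm).resolve_right hxx'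
  have hzu : act z u = α • u := by rw [hαβ, hβ, zero_smul, add_zero]
  refine ⟨α, hzu, ?_⟩
  have h1 : Q (act z u) = Q u := Q_act z u
  rw [hzu, QuadraticMap.map_smul, smul_eq_mul] at h1
  have : (α * α - 1) * Q u = 0 := by linear_combination h1
  exact sub_eq_zero.1 ((mul_eq_zero.1 this).resolve_right hu)

/-- In characteristic two such an isometry is trivial. -/
theorem eq_one_of_comm_c2 [Finite F] (h2 : (2 : F) = 0) (Q : QuadraticForm F (ι → F))
    (hQ : (polarBilin Q).Nondegenerate) (hn : 4 ≤ Fintype.card ι)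
    (z : ↥(Cfsg.isometryGroup F ⇑Q))
    (hz : ∀ (a b : ι → F) (ha : Q a ≠ 0) (hb : Q b ≠ 0), Q a = Q b →
      refl Q a ha * refl Q b hb * z = z * (refl Q a ha * refl Q b hb)) : z = 1 := by
  have hfr : finrank F (ι → F) = Fintype.card ι := Module.finrank_fintype_fun_eq_card F
  have hns : ∀ u : ι → F, Q u ≠ 0 → act z u = u := by
    intro u hu
    obtain ⟨a, ha, haa⟩ := exists_eigen_of_comm Q hQ hn z hz u hu
    have : (a + 1) * (a + 1) = 0 := by linear_combination haa + a * h2 + h2
    have ha1 : a = 1 := by
      have h1 : a + 1 = 0 := by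
        rcases mul_eq_zero.1 this with h | h <;> exact h
      have h3 : (1 : F) + 1 = 0 := by rw [one_add_one_eq_two]; exact h2
      linear_combination h1 - h3
    rw [ha, ha1, one_smul]
  apply ext_act
  intro x
  rw [act_one]
  by_cases hQx : Q x ≠ 0
  · exact hns x hQx
  push Not at hQx
  by_cases hx0 : x = 0
  · rw [hx0, act_zero]
  -- a non-singular vector orthogonal to `x`
  set U := orth Q (F ∙ x) with hU
  have hUfr : finrank F U = Fintype.card ι - 1 := by
    rw [hU, finrank_orth hQ, finrank_span_singleton hx0, hfr]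
  obtain ⟨w, hwU, hQw⟩ : ∃ w ∈ U, Q w ≠ 0 := by
    by_contra hcon
    push Not at hcon
    have hTS : IsTS Q U := hcon
    have := hTS.finrank_le hQ
    rw [hUfr, hfr] at this
    omega
  have hxw : polar (⇑Q) x w = 0 := mem_orth.1 hwU x (Submodule.mem_span_singleton_self x)
  have hQxw : Q (x + w) ≠ 0 := by
    have : Q (x + w) = Q x + Q w + polar (⇑Q) x w := QuadraticMap.map_add (⇑Q) x w
    rw [this, hQx, hxw, zero_add, add_zero]
    exact hQw
  have h1 := hns (x + w) hQxw
  rw [act_add, hns w hQw] at h1
  exact add_right_cancel h1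

/-- In odd characteristic such an isometry is `±1`. -/
theorem eq_one_or_negOne_of_comm [Finite F] (h2 : (2 : F) ≠ 0) (Q : QuadraticForm F (ι → F))
    (hQ : (polarBilin Q).Nondegenerate) (hn : 4 ≤ Fintype.card ι)
    (z : ↥(Cfsg.isometryGroup F ⇑Q))
    (hz : ∀ (a b : ι → F) (ha : Q a ≠ 0) (hb : Q b ≠ 0), Q a = Q b →
      refl Q a ha * refl Q b hb * z = z * (refl Q a ha * refl Q b hb)) :
    z = 1 ∨ z = negOne Q := by
  classical
  have hfr : finrank F (ι → F) = Fintype.card ι := Module.finrank_fintype_fun_eq_card F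
  obtain ⟨v, hortho, hns⟩ := exists_orthogonal_basis h2 Q hQ
  have hev : ∀ u : ι → F, Q u ≠ 0 → ∃ a : F, act z u = a • u ∧ a * a = 1 :=
    exists_eigen_of_comm Q hQ hn z hz
  choose lam hlam hlam2 using fun i => hev (v i) (hns i)
  have hd : 4 ≤ finrank F (ι → F) := by rw [hfr]; exact hn
  -- all eigenvalues agree
  have step : ∀ i j, lam i = lam j := by
    intro i j
    by_cases hij : i = j
    · rw [hij]
    obtain ⟨k, l, hki, hkj, hli, hlj, hkl⟩ := exists_two_ne hd i j
    by_cases h1 : Q (v i + v j) ≠ 0
    · obtain ⟨a, ha, _⟩ := hev _ h1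
      rw [act_add, hlam, hlam, smul_add] at ha
      have h3 : (lam i - a) • v i + (lam j - a) • v j = 0 := by
        rw [sub_smul, sub_smul]
        have : lam i • v i + lam j • v j - (a • v i + a • v j) = 0 := sub_eq_zero.2 ha
        rw [← this]
        abel
      have hli2 : LinearIndependent F ![v i, v j] := by
        have := v.linearIndependent.comp ![i, j] (by
          intro a b hab
          fin_cases a <;> fin_cases b <;> simp_all)
        convert this using 1
        ext a
        fin_cases a <;> rfl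
      obtain ⟨e1, e2⟩ := LinearIndependent.pair_iff.1 hli2 _ _ h3
      rw [sub_eq_zero.1 e1, sub_eq_zero.1 e2]
    · push Not at h1
      have hQij : Q (v i) + Q (v j) = 0 := by
        have : Q (v i + v j) = Q (v i) + Q (v j) + polar (⇑Q) (v i) (v j) :=
          QuadraticMap.map_add (⇑Q) (v i) (v j)
        rw [hortho i j hij, add_zero] at this
        rw [← this]; exact h1
      have h4 : Q (v i + v j + v k) ≠ 0 := by
        have e : Q (v i + v j + v k) = Q (v i + v j) + Q (v k) + polar (⇑Q) (v i + v j) (v k) :=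
          QuadraticMap.map_add (⇑Q) (v i + v j) (v k)
        rw [QuadraticMap.polar_add_left, hortho i k (Ne.symm hki), hortho j k (Ne.symm hkj), h1,
          zero_add, add_zero, add_zero] at e
        rw [e]
        exact hns k
      obtain ⟨a, ha, _⟩ := hev _ h4
      rw [act_add, act_add, hlam, hlam, hlam, smul_add, smul_add] at ha
      have h3 : (lam i - a) • v i + (lam j - a) • v j + (lam k - a) • v k = 0 := by
        rw [sub_smul, sub_smul, sub_smul]
        have : lam i • v i + lam j • v j + lam k • v k - (a • v i + a • v j + a • v k) = 0 :=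
          sub_eq_zero.2 ha
        rw [← this]
        abel
      have hli3 : LinearIndependent F ![v i, v j, v k] := by
        have := v.linearIndependent.comp ![i, j, k] (by
          intro a b hab
          fin_cases a <;> fin_cases b <;> simp_all)
        convert this using 1
        ext a
        fin_cases a <;> rfl
      have h5 := Fintype.linearIndependent_iff.1 hli3 ![lam i - a, lam j - a, lam k - a] (by
        rw [Fin.sum_univ_three]
        simpa using h3)
      have e1 := h5 0
      have e2 := h5 1
      simp at e1 e2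
      rw [sub_eq_zero.1 e1, sub_eq_zero.1 e2]
  set i₀ : Fin (finrank F (ι → F)) := ⟨0, by omega⟩ with hi₀
  have hall : ∀ x, act z x = lam i₀ • x := by
    intro x
    have hx := v.sum_repr x
    rw [← hx]
    unfold act
    rw [Matrix.mulVec_sum, Finset.smul_sum]
    apply Finset.sum_congr rfl
    intro i _
    rw [Matrix.mulVec_smul, smul_comm]
    congr 1
    have := hlam i
    rw [step i i₀] at this
    exact this
  have hpm : lam i₀ = 1 ∨ lam i₀ = -1 := by
    have : (lam i₀ - 1) * (lam i₀ + 1) = 0 := by linear_combination hlam2 i₀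
    rcases mul_eq_zero.mp this with h | h
    · left; exact sub_eq_zero.mp h
    · right; exact eq_neg_of_add_eq_zero_left h
  rcases hpm with h | h
  · left
    apply ext_act
    intro x
    rw [hall, h, one_smul, act_one]
  · right
    apply ext_act
    intro x
    rw [hall, h, act_negOne, neg_one_smul]

end Cfsg.Agent.Lib.Helper19.OrthRefl
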