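-- The parity homomorphism attached to a maximal totally singular subspace, for any group acting
-- by isometries; the parity of a reflection.
import Mathlib
import Cfsg.Agent.Lib.Helper19.Parity

set_option autoImplicit false

namespace Cfsg.Agent.Lib.Helper19.Parity

open QuadraticMap Module

variable {F V : Type*} [Field F] [AddCommGroup V] [Module F V] {Q : QuadraticForm F V}

theorem IsTS.map {U : Submodule F V} (hU : IsTS Q U) (e : V ≃ₗ[F] V) (he : ∀ v, Q (e v) = Q v) :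
    IsTS Q (U.map (e : V →ₗ[F] V)) := by
  rintro _ ⟨u, hu, rfl⟩
  show Q (e u) = 0
  rw [he]
  exact hU u hu

theorem map_mul_eq {G : Type*} [Group G] (ρ : G →* (V ≃ₗ[F] V)) (g h : G) (U : Submodule F V) :
    U.map ((ρ (g * h) : V ≃ₗ[F] V) : V →ₗ[F] V)
      = (U.map ((ρ h : V ≃ₗ[F] V) : V →ₗ[F] V)).map ((ρ g : V ≃ₗ[F] V) : V →ₗ[F] V) := by
  rw [← Submodule.map_comp]
  congr 1
  rw [map_mul]
  rfl

theorem map_one_eq {G : Type*} [Group G] (ρ : G →* (V ≃ₗ[F] V)) (U : Submodule F V) :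
    U.map ((ρ 1 : V ≃ₗ[F] V) : V →ₗ[F] V) = U := by
  rw [map_one]
  exact Submodule.map_id U

variable [FiniteDimensional F V]

/-- The parity homomorphism. -/
noncomputable def parityHom (hQ : (polarBilin Q).Nondegenerate) {n : ℕ}
    (hV : finrank F V = 2 * n) {G : Type*} [Group G] (ρ : G →* (V ≃ₗ[F] V))
    (hρ : ∀ g v, Q (ρ g v) = Q v) (U₀ : Submodule F V) (hU₀ : IsTS Q U₀)
    (hn : finrank F U₀ = n) : G →* ℤˣ where
  toFun g := (-1) ^ (n - finrank F ↥(U₀ ⊓ U₀.map ((ρ g : V ≃ₗ[F] V) : V →ₗ[F] V)))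
  map_one' := by
    rw [map_one_eq, inf_idem, hn, Nat.sub_self, pow_zero]
  map_mul' g h := by
    have hg := hU₀.map (ρ g) (hρ g)
    have hgh := hU₀.map (ρ (g * h)) (hρ (g * h))
    have hng : finrank F ↥(U₀.map ((ρ g : V ≃ₗ[F] V) : V →ₗ[F] V)) = n := by
      rw [LinearEquiv.finrank_map_eq, hn]
    have hngh : finrank F ↥(U₀.map ((ρ (g * h) : V ≃ₗ[F] V) : V →ₗ[F] V)) = n := by
      rw [LinearEquiv.finrank_map_eq, hn]
    have htri := triangle_parity hQ hV _ U₀ _ _ hU₀ hn hg hng hgh hngh rfl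
    have hmid : finrank F ↥(U₀.map ((ρ g : V ≃ₗ[F] V) : V →ₗ[F] V) ⊓
        U₀.map ((ρ (g * h) : V ≃ₗ[F] V) : V →ₗ[F] V))
        = finrank F ↥(U₀ ⊓ U₀.map ((ρ h : V ≃ₗ[F] V) : V →ₗ[F] V)) := by
      rw [map_mul_eq, ← Submodule.map_inf _ (ρ g).injective, LinearEquiv.finrank_map_eq]
    rw [hmid] at htri
    rw [← pow_add]
    obtain ⟨r, hr⟩ := htri
    have hpow : ∀ a b c : ℕ, a + b + c = r + r → ((-1 : ℤˣ)) ^ c = (-1) ^ (a + b) := by
      intro a b c habc
      have h1 : ((-1 : ℤˣ)) ^ (a + b + c) = 1 := by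
        rw [habc, ← two_mul, pow_mul]
        simp
      have h2 : ((-1 : ℤˣ)) ^ (a + b) * (-1) ^ (a + b) = 1 := by
        rw [← pow_add, ← two_mul, pow_mul]
        simp
      rw [pow_add] at h1
      calc ((-1 : ℤˣ)) ^ c = ((-1) ^ (a + b) * (-1) ^ (a + b)) * (-1) ^ c := by rw [h2, one_mul]
        _ = (-1) ^ (a + b) * ((-1) ^ (a + b) * (-1) ^ c) := by rw [mul_assoc]
        _ = (-1) ^ (a + b) := by rw [h1, mul_one]
    exact hpow _ _ _ hr

theorem parityHom_apply (hQ : (polarBilin Q).Nondegenerate) {n : ℕ}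
    (hV : finrank F V = 2 * n) {G : Type*} [Group G] (ρ : G →* (V ≃ₗ[F] V))
    (hρ : ∀ g v, Q (ρ g v) = Q v) (U₀ : Submodule F V) (hU₀ : IsTS Q U₀)
    (hn : finrank F U₀ = n) (g : G) :
    parityHom hQ hV ρ hρ U₀ hU₀ hn g
      = (-1) ^ (n - finrank F ↥(U₀ ⊓ U₀.map ((ρ g : V ≃ₗ[F] V) : V →ₗ[F] V))) := rfl

theorem neg_one_pow_eq_one_iff_even' (k : ℕ) : ((-1 : ℤˣ)) ^ k = 1 ↔ Even k := by
  constructor
  · intro h
    by_contra hk
    rw [Nat.not_even_iff_odd] at hk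
    rw [hk.neg_one_pow] at h
    exact absurd h (by decide)
  · intro h
    exact h.neg_one_pow

theorem parityHom_eq_one_iff (hQ : (polarBilin Q).Nondegenerate) {n : ℕ}
    (hV : finrank F V = 2 * n) {G : Type*} [Group G] (ρ : G →* (V ≃ₗ[F] V))
    (hρ : ∀ g v, Q (ρ g v) = Q v) (U₀ : Submodule F V) (hU₀ : IsTS Q U₀)
    (hn : finrank F U₀ = n) (g : G) :
    parityHom hQ hV ρ hρ U₀ hU₀ hn g = 1
      ↔ Even (n - finrank F ↥(U₀ ⊓ U₀.map ((ρ g : V ≃ₗ[F] V) : V →ₗ[F] V))) := by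
  rw [parityHom_apply, neg_one_pow_eq_one_iff_even']

/-- A reflection moves a maximal totally singular subspace to an adjacent one. -/
theorem finrank_inf_map_reflection (hQ : (polarBilin Q).Nondegenerate) {n : ℕ}
    (hV : finrank F V = 2 * n) {U : Submodule F V} (hU : IsTS Q U) (hUn : finrank F U = n)
    (e : V ≃ₗ[F] V) (v : V) (hv : Q v ≠ 0)
    (he : ∀ x, e x = x - ((Q v)⁻¹ * QuadraticMap.polar (⇑Q) v x) • v) :
    finrank F ↥(U ⊓ U.map (e : V →ₗ[F] V)) + 1 = n := by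
  set K := LinearMap.ker (polarBilin Q v) with hK
  have hKmem : ∀ x, x ∈ K ↔ QuadraticMap.polar (⇑Q) v x = 0 := by
    intro x
    rw [hK, LinearMap.mem_ker]
    rfl
  have hKdim : 2 * n ≤ finrank F K + 1 := by
    have h1 := LinearMap.finrank_range_add_finrank_ker (polarBilin Q v)
    have h2 : finrank F ↥(LinearMap.range (polarBilin Q v)) ≤ 1 := by
      have := Submodule.finrank_le (LinearMap.range (polarBilin Q v))
      rwa [finrank_self] at this
    rw [hV, ← hK] at h1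
    omega
  have hUK : n ≤ finrank F ↥(U ⊓ K) + 1 := by
    have h1 := Submodule.finrank_sup_add_finrank_inf_eq U K
    have h2 := Submodule.finrank_le (U ⊔ K)
    omega
  have hle : U ⊓ K ≤ U ⊓ U.map (e : V →ₗ[F] V) := by
    intro x hx
    refine ⟨hx.1, x, hx.1, ?_⟩
    show e x = x
    rw [he, (hKmem x).1 hx.2, mul_zero, zero_smul, sub_zero]
  have h1 := Submodule.finrank_mono hle
  have h2 : finrank F ↥(U ⊓ U.map (e : V →ₗ[F] V)) ≤ n := by
    rw [← hUn]; exact Submodule.finrank_mono inf_le_left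
  have hvU : v ∉ U := fun h => hv (hU v h)
  have h3 : finrank F ↥(U ⊓ U.map (e : V →ₗ[F] V)) ≠ n := by
    intro h
    have hUn' : finrank F ↥(U.map (e : V →ₗ[F] V)) = n := by
      rw [LinearEquiv.finrank_map_eq, hUn]
    have hUU : U ⊓ U.map (e : V →ₗ[F] V) = U :=
      Submodule.eq_of_le_of_finrank_eq inf_le_left (by rw [h, hUn])
    have hUU' : U ⊓ U.map (e : V →ₗ[F] V) = U.map (e : V →ₗ[F] V) :=
      Submodule.eq_of_le_of_finrank_eq inf_le_right (by rw [h, hUn'])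
    have hmapU : U.map (e : V →ₗ[F] V) = U := by rw [← hUU', hUU]
    -- some `u ∈ U` is not orthogonal to `v`
    have hex : ∃ u ∈ U, QuadraticMap.polar (⇑Q) v u ≠ 0 := by
      by_contra hcon
      push Not at hcon
      apply hvU
      apply hU.mem_of_orth hQ (by omega)
      intro u hu
      rw [QuadraticMap.polar_comm]
      exact hcon u hu
    obtain ⟨u, hu, hpu⟩ := hex
    have heu : e u ∈ U := by
      rw [← hmapU]
      exact ⟨u, hu, rfl⟩
    rw [he] at heu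
    have hcv : ((Q v)⁻¹ * QuadraticMap.polar (⇑Q) v u) • v ∈ U := by
      have := U.sub_mem hu heu
      rwa [sub_sub_cancel] at this
    have hc : (Q v)⁻¹ * QuadraticMap.polar (⇑Q) v u ≠ 0 := mul_ne_zero (inv_ne_zero hv) hpu
    apply hvU
    have := U.smul_mem ((Q v)⁻¹ * QuadraticMap.polar (⇑Q) v u)⁻¹ hcv
    rwa [smul_smul, inv_mul_cancel₀ hc, one_smul] at this
  omega

end Cfsg.Agent.Lib.Helper19.Parity
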