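-- The parity character of the isometry group of a quadratic form on `ι → F` with respect to a
-- maximal totally singular subspace.
import Mathlib
import Cfsg.Prelude.Def_Classical
import Cfsg.Prelude.Def_ClassicalGeometry
import Cfsg.Agent.Lib.Helper19.OrthRefl
import Cfsg.Agent.Lib.Helper19.Parity
import Cfsg.Agent.Lib.Helper19.ParityHom

set_option autoImplicit false

namespace Cfsg.Agent.Lib.Helper19.OrthRefl

open Matrix QuadraticMap Module Cfsg.Agent.Lib.Helper19.Parity

variable {ι : Type} [Fintype ι] [DecidableEq ι] {F : Type*} [Field F]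

/-- The action of the isometry group by linear equivalences. -/
noncomputable def actEquiv (Q : (ι → F) → F) :
    ↥(Cfsg.isometryGroup F Q) →* ((ι → F) ≃ₗ[F] (ι → F)) :=
  MonoidHom.mk' (fun g =>
    { toFun := act g
      map_add' := act_add g
      map_smul' := fun t x => act_smul g t x
      invFun := act g⁻¹
      left_inv := act_inv_act g
      right_inv := act_act_inv g }) (by
    intro g h
    apply LinearEquiv.ext
    intro x
    exact act_mul g h x)

theorem actEquiv_apply (Q : (ι → F) → F) (g : ↥(Cfsg.isometryGroup F Q)) (x : ι → F) :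
    actEquiv Q g x = act g x := rfl

theorem actEquiv_coe (Q : (ι → F) → F) (g : ↥(Cfsg.isometryGroup F Q)) :
    ((actEquiv Q g : (ι → F) ≃ₗ[F] (ι → F)) : (ι → F) →ₗ[F] (ι → F))
      = Matrix.mulVecLin ((g : Matrix.GeneralLinearGroup ι F) : Matrix ι ι F) := by
  apply LinearMap.ext
  intro x
  rfl

theorem Q_actEquiv (Q : QuadraticForm F (ι → F)) (g : ↥(Cfsg.isometryGroup F ⇑Q)) (x : ι → F) :
    Q (actEquiv (⇑Q) g x) = Q x := Q_act g x

/-- The parity character of the isometry group. -/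
noncomputable def parityChar (Q : QuadraticForm F (ι → F))
    (hQ : (polarBilin Q).Nondegenerate) {n : ℕ} (hV : finrank F (ι → F) = 2 * n)
    (U₀ : Submodule F (ι → F)) (hU₀ : IsTS Q U₀) (hn : finrank F U₀ = n) :
    ↥(Cfsg.isometryGroup F ⇑Q) →* ℤˣ :=
  parityHom hQ hV (actEquiv (⇑Q)) (Q_actEquiv Q) U₀ hU₀ hn

theorem parityChar_eq_one_iff (Q : QuadraticForm F (ι → F))
    (hQ : (polarBilin Q).Nondegenerate) {n : ℕ} (hV : finrank F (ι → F) = 2 * n)
    (U₀ : Submodule F (ι → F)) (hU₀ : IsTS Q U₀) (hn : finrank F U₀ = n)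
    (g : ↥(Cfsg.isometryGroup F ⇑Q)) :
    parityChar Q hQ hV U₀ hU₀ hn g = 1 ↔ Even (n - finrank F ↥(U₀ ⊓ U₀.map
      (Matrix.mulVecLin ((g : Matrix.GeneralLinearGroup ι F) : Matrix ι ι F)))) := by
  unfold parityChar
  rw [parityHom_eq_one_iff, actEquiv_coe]

theorem parityChar_refl (Q : QuadraticForm F (ι → F))
    (hQ : (polarBilin Q).Nondegenerate) {n : ℕ} (hV : finrank F (ι → F) = 2 * n)
    (U₀ : Submodule F (ι → F)) (hU₀ : IsTS Q U₀) (hn : finrank F U₀ = n)
    (v : ι → F) (hv : Q v ≠ 0) :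
    parityChar Q hQ hV U₀ hU₀ hn (refl Q v hv) = -1 := by
  unfold parityChar
  rw [parityHom_apply]
  have h := finrank_inf_map_reflection hQ hV hU₀ hn (actEquiv (⇑Q) (refl Q v hv)) v hv
    (fun x => by rw [actEquiv_apply, act_refl])
  have : n - finrank F ↥(U₀ ⊓ U₀.map ((actEquiv (⇑Q) (refl Q v hv) : (ι → F) ≃ₗ[F] (ι → F)) :
      (ι → F) →ₗ[F] (ι → F))) = 1 := by omega
  rw [this, pow_one]

end Cfsg.Agent.Lib.Helper19.OrthRefl
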