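-- The Dickson invariant in characteristic two, as the parity character of `Q ⊕ Q` with respect to
-- the diagonal (a maximal totally singular subspace in characteristic two).
import Mathlib
import Cfsg.Prelude.Def_Classical
import Cfsg.Prelude.Def_ClassicalGeometry
import Cfsg.Agent.Lib.Helper19.OrthRefl
import Cfsg.Agent.Lib.Helper19.Parity
import Cfsg.Agent.Lib.Helper19.ParityHom
import Cfsg.Agent.Lib.Helper19.OrthParity

set_option autoImplicit false

namespace Cfsg.Agent.Lib.Helper19.Parity

open QuadraticMap Module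

section general

variable {F V : Type*} [Field F] [AddCommGroup V] [Module F V] {Q : QuadraticForm F V}

theorem prod_nondeg (hQ : (polarBilin Q).Nondegenerate) :
    (polarBilin (Q.prod Q)).Nondegenerate := by
  have hleft : ∀ x : V × V, (∀ y : V × V, polarBilin (Q.prod Q) x y = 0) → x = 0 := by
    intro x hx
    apply Prod.ext
    · apply hQ.1
      intro y
      have := hx (y, 0)
      simpa using this
    · apply hQ.1
      intro y
      have := hx (0, y)
      simpa using this
  constructor
  · exact hleft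
  · intro y hy
    apply hleft
    intro x
    have := hy x
    rw [polarBilin_apply_apply, QuadraticMap.polar_comm] at this
    exact this

/-- The diagonal. -/
def diag (F V : Type*) [Field F] [AddCommGroup V] [Module F V] : Submodule F (V × V) :=
  LinearMap.range (LinearMap.prod (LinearMap.id : V →ₗ[F] V) (LinearMap.id : V →ₗ[F] V))

theorem isTS_diag (h2 : (2 : F) = 0) : IsTS (Q.prod Q) (diag F V) := by
  rintro _ ⟨v, rfl⟩
  show Q v + Q v = 0
  rw [← two_mul, h2, zero_mul]

theorem finrank_diag [FiniteDimensional F V] : finrank F (diag F V) = finrank F V := by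
  unfold diag
  apply LinearMap.finrank_range_of_inj
  intro a b h
  exact congrArg Prod.fst h

/-- The action on `V × V` through the first factor. -/
noncomputable def leftAct {G : Type*} [Group G] (ρ : G →* (V ≃ₗ[F] V)) :
    G →* ((V × V) ≃ₗ[F] (V × V)) :=
  MonoidHom.mk' (fun g => LinearEquiv.prodCongr (ρ g) (LinearEquiv.refl F V)) (by
    intro g h
    apply LinearEquiv.ext
    intro p
    show (ρ (g * h) p.1, p.2) = (ρ g (ρ h p.1), p.2)
    rw [map_mul]
    rfl)

theorem leftAct_apply {G : Type*} [Group G] (ρ : G →* (V ≃ₗ[F] V)) (g : G) (p : V × V) :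
    leftAct ρ g p = (ρ g p.1, p.2) := rfl

theorem Q_leftAct {G : Type*} [Group G] (ρ : G →* (V ≃ₗ[F] V)) (hρ : ∀ g v, Q (ρ g v) = Q v)
    (g : G) (p : V × V) : (Q.prod Q) (leftAct ρ g p) = (Q.prod Q) p := by
  rw [leftAct_apply]
  show Q (ρ g p.1) + Q p.2 = Q p.1 + Q p.2
  rw [hρ]

variable [FiniteDimensional F V]

/-- The Dickson character of a group acting by isometries, characteristic two. -/
noncomputable def dicksonHom (h2 : (2 : F) = 0) (hQ : (polarBilin Q).Nondegenerate)
    {G : Type*} [Group G] (ρ : G →* (V ≃ₗ[F] V)) (hρ : ∀ g v, Q (ρ g v) = Q v) : G →* ℤˣ :=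
  parityHom (prod_nondeg hQ) (n := finrank F V) (by rw [Module.finrank_prod, two_mul])
    (leftAct ρ) (Q_leftAct ρ hρ) (diag F V) (isTS_diag h2) finrank_diag

theorem dicksonHom_reflection (h2 : (2 : F) = 0) (hQ : (polarBilin Q).Nondegenerate)
    {G : Type*} [Group G] (ρ : G →* (V ≃ₗ[F] V)) (hρ : ∀ g v, Q (ρ g v) = Q v) (g : G) (v : V)
    (hv : Q v ≠ 0) (hg : ∀ x, ρ g x = x - ((Q v)⁻¹ * QuadraticMap.polar (⇑Q) v x) • v) :
    dicksonHom h2 hQ ρ hρ g = -1 := by
  unfold dicksonHom
  rw [parityHom_apply]
  have hv2 : (Q.prod Q) (v, 0) ≠ 0 := by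
    show Q v + Q 0 ≠ 0
    rwa [QuadraticMap.map_zero, add_zero]
  have h := finrank_inf_map_reflection (prod_nondeg hQ) (n := finrank F V)
    (by rw [Module.finrank_prod, two_mul]) (isTS_diag h2) finrank_diag
    (leftAct ρ g) (v, 0) hv2 (by
      intro p
      rw [leftAct_apply, hg, QuadraticMap.polar_prod]
      have hQ2 : (Q.prod Q) (v, 0) = Q v := by
        show Q v + Q 0 = Q v
        rw [QuadraticMap.map_zero, add_zero]
      rw [hQ2]
      apply Prod.ext
      · simp
      · simp)
  have : finrank F V - finrank F ↥(diag F V ⊓ (diag F V).map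
      ((leftAct ρ g : (V × V) ≃ₗ[F] (V × V)) : (V × V) →ₗ[F] (V × V))) = 1 := by omega
  rw [this, pow_one]

end general

end Cfsg.Agent.Lib.Helper19.Parity

namespace Cfsg.Agent.Lib.Helper19.OrthRefl

open Matrix QuadraticMap Module Cfsg.Agent.Lib.Helper19.Parity

variable {ι : Type} [Fintype ι] [DecidableEq ι] {F : Type*} [Field F]

/-- The Dickson character of the isometry group of a quadratic form in characteristic two. -/
noncomputable def dicksonChar (h2 : (2 : F) = 0) (Q : QuadraticForm F (ι → F))
    (hQ : (polarBilin Q).Nondegenerate) : ↥(Cfsg.isometryGroup F ⇑Q) →* ℤˣ :=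
  dicksonHom h2 hQ (actEquiv (⇑Q)) (Q_actEquiv Q)

theorem dicksonChar_refl (h2 : (2 : F) = 0) (Q : QuadraticForm F (ι → F))
    (hQ : (polarBilin Q).Nondegenerate) (v : ι → F) (hv : Q v ≠ 0) :
    dicksonChar h2 Q hQ (refl Q v hv) = -1 := by
  unfold dicksonChar
  apply dicksonHom_reflection h2 hQ _ _ _ v hv
  intro x
  rw [actEquiv_apply, act_refl]

end Cfsg.Agent.Lib.Helper19.OrthRefl
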