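-- Generation of the orthogonal group by reflections in characteristic two (finite fields),
-- excluding the hyperbolic 4-space over the field of two elements.
import Mathlib
import Cfsg.Prelude.Def_Classical
import Cfsg.Prelude.Def_ClassicalGeometry
import Cfsg.Agent.Lib.Helper19.OrthRefl
import Cfsg.Agent.Lib.Helper19.Parity
import Cfsg.Agent.Lib.Helper19.NondegSub

set_option autoImplicit false

namespace Cfsg.Agent.Lib.Helper19.OrthRefl

open Matrix QuadraticMap Module Cfsg.Agent.Lib.Helper19.Parity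

variable {ι : Type} [Fintype ι] [DecidableEq ι] {F : Type*} [Field F]

/-! ### Characteristic two basics -/

theorem c2_negF (h2 : (2 : F) = 0) (a : F) : -a = a := by
  have : a + a = 0 := by rw [← two_mul, h2, zero_mul]
  exact neg_eq_of_add_eq_zero_left this

theorem c2_neg (h2 : (2 : F) = 0) (x : ι → F) : -x = x := by
  funext i
  exact c2_negF h2 (x i)

theorem c2_sub (h2 : (2 : F) = 0) (a b : ι → F) : a - b = a + b := by
  rw [sub_eq_add_neg, c2_neg h2]

theorem polar_self_c2 (h2 : (2 : F) = 0) (Q : QuadraticForm F (ι → F)) (x : ι → F) :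
    polar (⇑Q) x x = 0 := by
  rw [polar_self', h2, zero_mul]

theorem Q_sub_c2 (h2 : (2 : F) = 0) (Q : QuadraticForm F (ι → F)) (a b : ι → F) :
    Q (a - b) = Q a + Q b + polar (⇑Q) a b := by
  rw [Q_sub', sub_eq_add_neg, c2_negF h2]

theorem Q_add' (Q : QuadraticForm F (ι → F)) (a b : ι → F) :
    Q (a + b) = Q a + Q b + polar (⇑Q) a b := QuadraticMap.map_add (⇑Q) a b

theorem act_refl_self_c2 (h2 : (2 : F) = 0) (Q : QuadraticForm F (ι → F)) (v : ι → F)
    (hv : Q v ≠ 0) : act (refl Q v hv) v = v := by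
  rw [act_refl_self, c2_neg h2]

/-! ### Reflections in a subspace -/

/-- Reflections in non-singular vectors of `W`. -/
def RsetIn (Q : QuadraticForm F (ι → F)) (W : Submodule F (ι → F)) :
    Set ↥(Cfsg.isometryGroup F ⇑Q) :=
  {g | ∃ (v : ι → F) (hv : Q v ≠ 0), v ∈ W ∧ g = refl Q v hv}

/-- The subgroup generated by the reflections in vectors of `W`. -/
def TW (Q : QuadraticForm F (ι → F)) (W : Submodule F (ι → F)) :
    Subgroup ↥(Cfsg.isometryGroup F ⇑Q) := Subgroup.closure (RsetIn Q W)

theorem refl_mem_TW (Q : QuadraticForm F (ι → F)) {W : Submodule F (ι → F)} {v : ι → F}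
    (hv : Q v ≠ 0) (hvW : v ∈ W) : refl Q v hv ∈ TW Q W :=
  Subgroup.subset_closure ⟨v, hv, hvW, rfl⟩

theorem TW_mono (Q : QuadraticForm F (ι → F)) {W W' : Submodule F (ι → F)} (h : W ≤ W') :
    TW Q W ≤ TW Q W' := by
  apply Subgroup.closure_mono
  rintro g ⟨v, hv, hvW, rfl⟩
  exact ⟨v, hv, h hvW, rfl⟩

theorem TW_top (Q : QuadraticForm F (ι → F)) : TW Q ⊤ = Subgroup.closure (Rset Q) := by
  unfold TW
  congr 1
  ext g
  constructor
  · rintro ⟨v, hv, _, rfl⟩
    exact ⟨v, hv, rfl⟩
  · rintro ⟨v, hv, rfl⟩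
    exact ⟨v, hv, trivial, rfl⟩

theorem act_TW_of_orth (Q : QuadraticForm F (ι → F)) {W : Submodule F (ι → F)}
    {t : ↥(Cfsg.isometryGroup F ⇑Q)} (ht : t ∈ TW Q W) :
    ∀ x ∈ orth Q W, act t x = x := by
  induction ht using Subgroup.closure_induction with
  | mem g hg =>
    obtain ⟨v, hv, hvW, rfl⟩ := hg
    intro x hx
    exact act_refl_of_polar_eq_zero Q v hv x (hx v hvW)
  | one => intro x _; exact act_one x
  | mul a b _ _ ha hb =>
    intro x hx
    rw [act_mul, hb x hx, ha x hx]
  | inv a _ ha =>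
    intro x hx
    have := ha x hx
    rw [← this, act_inv_act, this]

theorem act_mem_of_fix_orth (Q : QuadraticForm F (ι → F))
    (hQ : (polarBilin Q).Nondegenerate) {W : Submodule F (ι → F)}
    (g : ↥(Cfsg.isometryGroup F ⇑Q)) (hfix : ∀ x ∈ orth Q W, act g x = x) {x : ι → F}
    (hx : x ∈ W) : act g x ∈ W := by
  rw [← orth_orth hQ W]
  intro y hy
  show polar (⇑Q) y (act g x) = 0
  rw [← hfix y hy, polar_act]
  rw [QuadraticMap.polar_comm]
  exact hy x hx

/-! ### The exceptional case -/

/-- The hyperbolic 4-space over the field of two elements. -/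
def Bad [Fintype F] (Q : QuadraticForm F (ι → F)) (W : Submodule F (ι → F)) : Prop :=
  Fintype.card F = 2 ∧ finrank F W = 4 ∧
    ∃ S : Submodule F (ι → F), S ≤ W ∧ finrank F S = 2 ∧ IsTS Q S

theorem eq_zero_or_one_of_card [Fintype F] (hF : Fintype.card F = 2) (a : F) : a = 0 ∨ a = 1 := by
  classical
  by_contra hcon
  push Not at hcon
  have h3 : ({0, 1, a} : Finset F).card = 3 :=
    Finset.card_eq_three.2 ⟨0, 1, a, zero_ne_one, hcon.1.symm, hcon.2.symm, rfl⟩
  have := Finset.card_le_univ ({0, 1, a} : Finset F)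
  omega

theorem exists_ne_zero_one [Fintype F] (hF : Fintype.card F ≠ 2) : ∃ l : F, l ≠ 0 ∧ l ≠ 1 := by
  classical
  by_contra hcon
  push Not at hcon
  have hsub : (Finset.univ : Finset F) ⊆ {0, 1} := by
    intro x _
    by_cases hx : x = 0
    · rw [hx]; simp
    · rw [hcon x hx]; simp
  have h1 := Finset.card_le_card hsub
  have h3 : ({0, 1} : Finset F).card ≤ 2 := Finset.card_le_two
  have h4 : 1 < Fintype.card F := Fintype.one_lt_card
  rw [Finset.card_univ] at h1
  omega

/-! ### Transitivity on vectors of a given non-zero norm -/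

theorem exists_both_ne (Q : QuadraticForm F (ι → F)) {W : Submodule F (ι → F)}
    (hW : Nondeg Q W) {u v : ι → F} (hu : u ∈ W) (hv : v ∈ W) (hu0 : u ≠ 0) (hv0 : v ≠ 0) :
    ∃ x ∈ W, polar (⇑Q) u x ≠ 0 ∧ polar (⇑Q) v x ≠ 0 := by
  obtain ⟨yu, hyu, hpu⟩ := hW.exists_polar_ne hu hu0
  obtain ⟨yv, hyv, hpv⟩ := hW.exists_polar_ne hv hv0
  by_cases h1 : polar (⇑Q) v yu = 0
  · by_cases h3 : polar (⇑Q) u yv = 0
    · refine ⟨yu + yv, W.add_mem hyu hyv, ?_, ?_⟩
      · rw [QuadraticMap.polar_add_right, h3, add_zero]; exact hpu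
      · rw [QuadraticMap.polar_add_right, h1, zero_add]; exact hpv
    · exact ⟨yv, hyv, h3, hpv⟩
  · exact ⟨yu, hyu, hpu, h1⟩

theorem exists_good_x [Fintype F] (h2 : (2 : F) = 0) (Q : QuadraticForm F (ι → F))
    (hQ : (polarBilin Q).Nondegenerate) {W : Submodule F (ι → F)} (hW : Nondeg Q W)
    (hbad : ¬Bad Q W) {u v : ι → F} (hu : u ∈ W) (hv : v ∈ W) (hQu : Q u ≠ 0)
    (hQuv : Q u = Q v) (hne : u ≠ v) (hp : polar (⇑Q) u v = 0) :
    ∃ x ∈ W, Q x ≠ 0 ∧ polar (⇑Q) u x ≠ 0 ∧ polar (⇑Q) v x ≠ 0 := by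
  have hu0 : u ≠ 0 := by
    intro h; rw [h, QuadraticMap.map_zero] at hQu; exact hQu rfl
  have hv0 : v ≠ 0 := by
    intro h; rw [hQuv, h, QuadraticMap.map_zero] at hQu; exact hQu rfl
  obtain ⟨x₀, hx₀, hpu, hpv⟩ := exists_both_ne Q hW hu hv hu0 hv0
  by_cases hQx₀ : Q x₀ ≠ 0
  · exact ⟨x₀, hx₀, hQx₀, hpu, hpv⟩
  push Not at hQx₀
  by_cases hF : Fintype.card F = 2
  · -- the field of two elements
    have h01 := eq_zero_or_one_of_card hF
    have hpu1 : polar (⇑Q) u x₀ = 1 := (h01 _).resolve_left hpu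
    have hpv1 : polar (⇑Q) v x₀ = 1 := (h01 _).resolve_left hpv
    set K := W ⊓ orth Q (plane F u v) with hK
    by_cases hk : ∃ k ∈ K, Q (x₀ + k) ≠ 0
    · obtain ⟨k, hkK, hQk⟩ := hk
      have hk' := mem_orth_plane.1 hkK.2
      refine ⟨x₀ + k, W.add_mem hx₀ hkK.1, hQk, ?_, ?_⟩
      · rw [QuadraticMap.polar_add_right, hk'.1, add_zero]; exact hpu
      · rw [QuadraticMap.polar_add_right, hk'.2, add_zero]; exact hpv
    · exfalso
      push Not at hk
      apply hbad
      -- `K` is totally isotropic for the polar form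
      have hKK : ∀ k ∈ K, ∀ k' ∈ K, polar (⇑Q) k k' = 0 := by
        intro k hk1 k' hk1'
        have e1 := hk (k + k') (K.add_mem hk1 hk1')
        have e2 := hk k hk1
        have e3 := hk k' hk1'
        rw [← add_assoc, Q_add', e2, zero_add, QuadraticMap.polar_add_left] at e1
        rw [Q_add', hQx₀, zero_add] at e3
        have : polar (⇑Q) k k' = (Q k' + (polar (⇑Q) x₀ k' + polar (⇑Q) k k'))
            - (Q k' + polar (⇑Q) x₀ k') := by ring
        rw [this, e1, e3, sub_zero]
      have hKle : K ≤ W ⊓ orth Q K := by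
        intro k hk1
        exact ⟨hk1.1, fun k' hk1' => hKK k' hk1' k hk1⟩
      have hd1 : finrank F ↥(W ⊓ orth Q K) + finrank F ↥K = finrank F ↥W :=
        finrank_inf_orth hQ hW inf_le_left
      have hd2 : finrank F ↥K ≤ finrank F ↥(W ⊓ orth Q K) := Submodule.finrank_mono hKle
      -- `K` has codimension at most two in `W`
      have hd3 : finrank F W ≤ finrank F K + 2 := by
        have hKeq : K = (W ⊓ LinearMap.ker (polarBilin Q u)) ⊓ LinearMap.ker (polarBilin Q v) := by
          ext x
          rw [hK]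
          constructor
          · rintro ⟨hxW, hxo⟩
            have := mem_orth_plane.1 hxo
            exact ⟨⟨hxW, this.1⟩, this.2⟩
          · rintro ⟨⟨hxW, hx1⟩, hx2⟩
            exact ⟨hxW, mem_orth_plane.2 ⟨hx1, hx2⟩⟩
        rw [hKeq]
        have a1 := finrank_inf_ker_ge W (polarBilin Q u)
        have a2 := finrank_inf_ker_ge (W ⊓ LinearMap.ker (polarBilin Q u)) (polarBilin Q v)
        omega
      -- the totally singular plane
      have hQd : Q (u - v) = 0 := by
        rw [Q_sub_c2 h2, hp, add_zero, ← hQuv, ← two_mul, h2, zero_mul]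
      have hpd : polar (⇑Q) (u - v) x₀ = 0 := by
        rw [QuadraticMap.polar_sub_left, hpu1, hpv1, sub_self]
      have hTS : IsTS Q (plane F (u - v) x₀) := by
        intro y hy
        obtain ⟨α, β, rfl⟩ := mem_plane.1 hy
        rw [Q_add', QuadraticMap.map_smul, QuadraticMap.map_smul, hQd, hQx₀,
          QuadraticMap.polar_smul_left, QuadraticMap.polar_smul_right, hpd]
        simp
      have hli : LinearIndependent F ![u - v, x₀] := by
        rw [LinearIndependent.pair_iff]
        intro s t hst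
        have h1 : polar (⇑Q) u (s • (u - v) + t • x₀) = 0 := by
          rw [hst]; exact QuadraticMap.polar_zero_right _ _
        rw [QuadraticMap.polar_add_right, QuadraticMap.polar_smul_right,
          QuadraticMap.polar_smul_right, QuadraticMap.polar_sub_right, polar_self_c2 h2, hp,
          sub_zero, smul_zero, zero_add, hpu1, smul_eq_mul, mul_one] at h1
        rw [h1, zero_smul, add_zero] at hst
        refine ⟨?_, h1⟩
        rcases smul_eq_zero.1 hst with h | h
        · exact h
        · exact absurd (sub_eq_zero.1 h) hne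
      have hfr : finrank F (plane F (u - v) x₀) = 2 := by
        unfold plane
        rw [finrank_span_eq_card hli, Fintype.card_fin]
      have hle : plane F (u - v) x₀ ≤ W := plane_le (W.sub_mem hu hv) hx₀
      have hd4 := IsTS.finrank_le_of_nondeg hQ hW hle hTS
      have hKdef : finrank F ↥K = finrank F ↥(W ⊓ orth Q (plane F u v)) := rfl
      refine ⟨hF, by omega, plane F (u - v) x₀, hle, hfr, hTS⟩
  · -- more than two elements
    obtain ⟨l, hl0, hl1⟩ := exists_ne_zero_one hF
    by_cases h1 : Q u + polar (⇑Q) x₀ u ≠ 0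
    · refine ⟨x₀ + u, W.add_mem hx₀ hu, ?_, ?_, ?_⟩
      · rw [Q_add', hQx₀, zero_add]; exact h1
      · rw [QuadraticMap.polar_add_right, polar_self_c2 h2, add_zero]; exact hpu
      · rw [QuadraticMap.polar_add_right, QuadraticMap.polar_comm (⇑Q) v u, hp, add_zero]
        exact hpv
    · push Not at h1
      refine ⟨l • x₀ + u, W.add_mem (W.smul_mem _ hx₀) hu, ?_, ?_, ?_⟩
      · rw [Q_add', QuadraticMap.map_smul, hQx₀, smul_zero, zero_add,
          QuadraticMap.polar_smul_left, smul_eq_mul]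
        have hpx : polar (⇑Q) x₀ u = Q u := by
          have := neg_eq_of_add_eq_zero_right h1
          rw [← this, c2_negF h2]
        rw [hpx]
        have : Q u + l * Q u = (1 + l) * Q u := by ring
        rw [this]
        apply mul_ne_zero _ hQu
        intro h
        apply hl1
        have := neg_eq_of_add_eq_zero_right h
        rw [← this, c2_negF h2]
      · rw [QuadraticMap.polar_add_right, polar_self_c2 h2, add_zero,
          QuadraticMap.polar_smul_right]
        exact smul_ne_zero hl0 hpu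
      · rw [QuadraticMap.polar_add_right, QuadraticMap.polar_comm (⇑Q) v u, hp, add_zero,
          QuadraticMap.polar_smul_right]
        exact smul_ne_zero hl0 hpv

end Cfsg.Agent.Lib.Helper19.OrthRefl
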