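-- Generation by reflections in characteristic two: transitivity lemmas and the induction.
import Mathlib
import Cfsg.Prelude.Def_Classical
import Cfsg.Prelude.Def_ClassicalGeometry
import Cfsg.Agent.Lib.Helper19.OrthRefl
import Cfsg.Agent.Lib.Helper19.Parity
import Cfsg.Agent.Lib.Helper19.NondegSub
import Cfsg.Agent.Lib.Helper19.OrthCD2

set_option autoImplicit false

namespace Cfsg.Agent.Lib.Helper19.OrthRefl

open Matrix QuadraticMap Module Cfsg.Agent.Lib.Helper19.Parity

variable {ι : Type} [Fintype ι] [DecidableEq ι] {F : Type*} [Field F]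

/-- `T(W)` is transitive on the vectors of `W` of a given non-zero norm. -/
theorem exists_TW_map [Fintype F] (h2 : (2 : F) = 0) (Q : QuadraticForm F (ι → F))
    (hQ : (polarBilin Q).Nondegenerate) {W : Submodule F (ι → F)} (hW : Nondeg Q W)
    (hbad : ¬Bad Q W) {u v : ι → F} (hu : u ∈ W) (hv : v ∈ W) (hQu : Q u ≠ 0)
    (hQuv : Q u = Q v) : ∃ t ∈ TW Q W, act t u = v := by
  by_cases hne : u = v
  · exact ⟨1, Subgroup.one_mem _, by rw [act_one, hne]⟩
  by_cases hp : polar (⇑Q) u v = 0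
  · obtain ⟨x, hxW, hQx, hpu, hpv⟩ := exists_good_x h2 Q hQ hW hbad hu hv hQu hQuv hne hp
    set w := act (refl Q x hQx) u with hw
    have hwW : w ∈ W := by
      rw [hw, act_refl]
      exact W.sub_mem hu (W.smul_mem _ hxW)
    have hQw : Q w = Q v := by rw [hw, Q_act (refl Q x hQx) u, hQuv]
    have hpwv : polar (⇑Q) w v ≠ 0 := by
      rw [hw, act_refl, QuadraticMap.polar_sub_left, hp, zero_sub, QuadraticMap.polar_smul_left,
        smul_eq_mul]
      apply neg_ne_zero.2
      apply mul_ne_zero (mul_ne_zero (inv_ne_zero hQx) _)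
      · rwa [QuadraticMap.polar_comm]
      · rwa [QuadraticMap.polar_comm]
    have hQwv : Q (w - v) ≠ 0 := by
      rw [Q_sub_c2 h2, hQw, ← two_mul, h2, zero_mul, zero_add]
      exact hpwv
    refine ⟨refl Q (w - v) hQwv * refl Q x hQx, ?_, ?_⟩
    · exact Subgroup.mul_mem _ (refl_mem_TW Q hQwv (W.sub_mem hwW hv)) (refl_mem_TW Q hQx hxW)
    · rw [act_mul, ← hw]
      exact act_refl_sub Q w v hQw hQwv
  · have hQuv' : Q (u - v) ≠ 0 := by
      rw [Q_sub_c2 h2, ← hQuv, ← two_mul, h2, zero_mul, zero_add]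
      exact hp
    exact ⟨refl Q (u - v) hQuv', refl_mem_TW Q hQuv' (W.sub_mem hu hv),
      act_refl_sub Q u v hQuv hQuv'⟩

/-- Moving `v'` to `v` while fixing `u`. -/
theorem exists_TW_fix (h2 : (2 : F) = 0) (Q : QuadraticForm F (ι → F))
    {W : Submodule F (ι → F)} {u v v' : ι → F} (hu : u ∈ W) (hv : v ∈ W) (hv' : v' ∈ W)
    (hQu : Q u ≠ 0) (hp : polar (⇑Q) u v = polar (⇑Q) u v') (hpne : polar (⇑Q) u v ≠ 0)
    (hQv : Q v' = Q v) : ∃ t ∈ TW Q W, act t u = u ∧ act t v' = v := by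
  by_cases hz : Q (v' - v) ≠ 0
  · refine ⟨refl Q (v' - v) hz, refl_mem_TW Q hz (W.sub_mem hv' hv), ?_, ?_⟩
    · apply act_refl_of_polar_eq_zero
      rw [QuadraticMap.polar_sub_left, QuadraticMap.polar_comm (⇑Q) v' u,
        QuadraticMap.polar_comm (⇑Q) v u, hp, sub_self]
    · exact act_refl_sub Q v' v hQv hz
  · push Not at hz
    have hpvv : polar (⇑Q) v' v = 0 := by
      rw [Q_sub_c2 h2, hQv, ← two_mul, h2, zero_mul, zero_add] at hz
      exact hz
    set v'' := act (refl Q u hQu) v with hv''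
    have hv''W : v'' ∈ W := by
      rw [hv'', act_refl]
      exact W.sub_mem hv (W.smul_mem _ hu)
    have hQv'' : Q v' = Q v'' := by rw [hv'', Q_act (refl Q u hQu) v, hQv]
    have hpv'' : polar (⇑Q) v' v'' ≠ 0 := by
      rw [hv'', act_refl, QuadraticMap.polar_sub_right, hpvv, zero_sub,
        QuadraticMap.polar_smul_right, smul_eq_mul]
      apply neg_ne_zero.2
      apply mul_ne_zero (mul_ne_zero (inv_ne_zero hQu) hpne)
      rw [QuadraticMap.polar_comm, ← hp]
      exact hpne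
    have hz' : Q (v' - v'') ≠ 0 := by
      rw [Q_sub_c2 h2, ← hQv'', ← two_mul, h2, zero_mul, zero_add]
      exact hpv''
    have hpu : polar (⇑Q) (v' - v'') u = 0 := by
      rw [QuadraticMap.polar_sub_left, QuadraticMap.polar_comm (⇑Q) v' u, ← hp, hv'']
      have : polar (⇑Q) (act (refl Q u hQu) v) u
          = polar (⇑Q) (act (refl Q u hQu) v) (act (refl Q u hQu) u) := by
        rw [act_refl_self_c2 h2]
      rw [this, polar_act, QuadraticMap.polar_comm (⇑Q) v u, sub_self]
    refine ⟨refl Q u hQu * refl Q (v' - v'') hz', ?_, ?_, ?_⟩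
    · exact Subgroup.mul_mem _ (refl_mem_TW Q hQu hu) (refl_mem_TW Q hz' (W.sub_mem hv' hv''W))
    · rw [act_mul, act_refl_of_polar_eq_zero Q _ hz' u hpu, act_refl_self_c2 h2]
    · rw [act_mul, act_refl_sub Q v' v'' hQv'' hz', hv'', ← act_mul, refl_mul_self, act_one]

/-- Decomposition of a vector of `W` along a plane with `polar u v ≠ 0`. -/
theorem exists_decomp (h2 : (2 : F) = 0) (Q : QuadraticForm F (ι → F)) {u v : ι → F}
    (hpne : polar (⇑Q) u v ≠ 0) (w : ι → F) :
    ∃ α β : F, polar (⇑Q) u (w - α • u - β • v) = 0 ∧ polar (⇑Q) v (w - α • u - β • v) = 0 := by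
  refine ⟨polar (⇑Q) v w / polar (⇑Q) u v, polar (⇑Q) u w / polar (⇑Q) u v, ?_, ?_⟩
  · rw [QuadraticMap.polar_sub_right, QuadraticMap.polar_sub_right, QuadraticMap.polar_smul_right,
      QuadraticMap.polar_smul_right, polar_self_c2 h2, smul_zero, sub_zero, smul_eq_mul]
    field_simp
    ring
  · rw [QuadraticMap.polar_sub_right, QuadraticMap.polar_sub_right, QuadraticMap.polar_smul_right,
      QuadraticMap.polar_smul_right, polar_self_c2 h2, smul_zero, sub_zero, smul_eq_mul,
      QuadraticMap.polar_comm (⇑Q) v u]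
    field_simp
    ring

theorem nondeg_inf_orth_plane (h2 : (2 : F) = 0) (Q : QuadraticForm F (ι → F))
    {W : Submodule F (ι → F)} (hW : Nondeg Q W) {u v : ι → F} (hu : u ∈ W) (hv : v ∈ W)
    (hpne : polar (⇑Q) u v ≠ 0) : Nondeg Q (W ⊓ orth Q (plane F u v)) := by
  unfold Nondeg
  rw [eq_bot_iff]
  rintro x ⟨⟨hxW, hxP⟩, hxo⟩
  have hxP' := mem_orth_plane.1 hxP
  have : x ∈ W ⊓ orth Q W := by
    refine ⟨hxW, ?_⟩
    intro w hw
    obtain ⟨α, β, h1, h3⟩ := exists_decomp h2 Q hpne w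
    have hw' : w - α • u - β • v ∈ W ⊓ orth Q (plane F u v) :=
      ⟨W.sub_mem (W.sub_mem hw (W.smul_mem _ hu)) (W.smul_mem _ hv), mem_orth_plane.2 ⟨h1, h3⟩⟩
    have h4 := hxo _ hw'
    have h5 : QuadraticMap.polar (⇑Q) (w - α • u - β • v) x = 0 := h4
    rw [QuadraticMap.polar_sub_left, QuadraticMap.polar_sub_left, QuadraticMap.polar_smul_left,
      QuadraticMap.polar_smul_left, hxP'.1, hxP'.2, smul_zero, smul_zero, sub_zero, sub_zero] at h5
    exact h5
  rw [hW] at this
  exact this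

/-- An isometry fixing `orth W`, `u` and `v` fixes the orthogonal complement of the smaller
subspace. -/
theorem fix_orth_inf (h2 : (2 : F) = 0) (Q : QuadraticForm F (ι → F))
    {W : Submodule F (ι → F)} {u v : ι → F} (hu : u ∈ W) (hv : v ∈ W)
    (hpne : polar (⇑Q) u v ≠ 0) (g : ↥(Cfsg.isometryGroup F ⇑Q))
    (hfix : ∀ x ∈ orth Q W, act g x = x) (hgu : act g u = u) (hgv : act g v = v) :
    ∀ y ∈ orth Q (W ⊓ orth Q (plane F u v)), act g y = y := by
  intro y hy
  obtain ⟨α, β, h1, h3⟩ := exists_decomp h2 Q hpne y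
  have hy' : y - α • u - β • v ∈ orth Q W := by
    intro w hw
    obtain ⟨α', β', h1', h3'⟩ := exists_decomp h2 Q hpne w
    have hw' : w - α' • u - β' • v ∈ W ⊓ orth Q (plane F u v) :=
      ⟨W.sub_mem (W.sub_mem hw (W.smul_mem _ hu)) (W.smul_mem _ hv), mem_orth_plane.2 ⟨h1', h3'⟩⟩
    have hw'u : QuadraticMap.polar (⇑Q) (w - α' • u - β' • v) u = 0 := by
      rw [QuadraticMap.polar_comm]; exact h1'
    have hw'v : QuadraticMap.polar (⇑Q) (w - α' • u - β' • v) v = 0 := by
      rw [QuadraticMap.polar_comm]; exact h3'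
    have e0 : QuadraticMap.polar (⇑Q) (w - α' • u - β' • v) y = 0 := hy _ hw'
    have e1 : QuadraticMap.polar (⇑Q) (w - α' • u - β' • v) (y - α • u - β • v) = 0 := by
      rw [QuadraticMap.polar_sub_right, QuadraticMap.polar_sub_right,
        QuadraticMap.polar_smul_right, QuadraticMap.polar_smul_right, hw'u, hw'v, e0]
      simp
    show QuadraticMap.polar (⇑Q) w (y - α • u - β • v) = 0
    have e2 : w = (w - α' • u - β' • v) + α' • u + β' • v := by abel
    rw [e2, QuadraticMap.polar_add_left, QuadraticMap.polar_add_left,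
      QuadraticMap.polar_smul_left, QuadraticMap.polar_smul_left, e1, h1, h3]
    simp
  have e3 : y = (y - α • u - β • v) + α • u + β • v := by abel
  rw [e3, act_add, act_add, act_smul, act_smul, hfix _ hy', hgu, hgv]

end Cfsg.Agent.Lib.Helper19.OrthRefl
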