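-- Generation by reflections in characteristic two: the choice of a good plane over the field of
-- two elements (dimension six), and the non-hyperbolic 4-spaces.
import Mathlib
import Cfsg.Prelude.Def_Classical
import Cfsg.Prelude.Def_ClassicalGeometry
import Cfsg.Agent.Lib.Helper19.OrthRefl
import Cfsg.Agent.Lib.Helper19.Parity
import Cfsg.Agent.Lib.Helper19.NondegSub
import Cfsg.Agent.Lib.Helper19.OrthCD2
import Cfsg.Agent.Lib.Helper19.OrthCD2b
import Cfsg.Agent.Lib.Helper19.QuadWitt
import Cfsg.Agent.Lib.Helper19.QuadSing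

set_option autoImplicit false

namespace Cfsg.Agent.Lib.Helper19.OrthRefl

open Matrix QuadraticMap Module Cfsg.Agent.Lib.Helper19.Parity Cfsg.Agent.Lib.Helper19.QuadWitt

variable {ι : Type} [Fintype ι] [DecidableEq ι] {F : Type*} [Field F]

/-- A 4-space `N ⊕ H` (anisotropic plane plus hyperbolic plane) over the field of two elements has
no totally singular plane. -/
theorem not_bad_of_NH [Fintype F] (h2 : (2 : F) = 0) (hF : Fintype.card F = 2)
    (Q : QuadraticForm F (ι → F)) (hQ : (polarBilin Q).Nondegenerate)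
    {W' : Submodule F (ι → F)} (hW' : Nondeg Q W') (hd : finrank F W' = 4)
    {n₁ n₂ e f : ι → F} (hn₁ : n₁ ∈ W') (hn₂ : n₂ ∈ W') (he : e ∈ W') (hf : f ∈ W')
    (hQn₁ : Q n₁ = 1) (hQn₂ : Q n₂ = 1) (hn : polar (⇑Q) n₁ n₂ = 1) (hQe : Q e = 0)
    (hQf : Q f = 0) (hef : polar (⇑Q) e f = 1) (h1e : polar (⇑Q) e n₁ = 0)
    (h1f : polar (⇑Q) f n₁ = 0) (h2e : polar (⇑Q) e n₂ = 0) (h2f : polar (⇑Q) f n₂ = 0) :
    ¬Bad Q W' := by
  rintro ⟨_, _, S, hSW, hSd, hTS⟩
  have h01 := eq_zero_or_one_of_card hF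
  have h11 : (1 : F) + 1 = 0 := by rw [one_add_one_eq_two, h2]
  have hef0 : polar (⇑Q) e f ≠ 0 := by rw [hef]; exact one_ne_zero
  have hn0 : polar (⇑Q) n₁ n₂ ≠ 0 := by rw [hn]; exact one_ne_zero
  -- the anisotropic part
  set N₀ := W' ⊓ orth Q (plane F e f) with hN₀
  have hN₀d : finrank F N₀ = 2 := by
    have : finrank F ↥N₀ + finrank F ↥(plane F e f) = finrank F ↥W' :=
      finrank_inf_orth hQ hW' (plane_le he hf)
    rw [finrank_plane h2 hef0] at this
    omega
  have hN₀eq : plane F n₁ n₂ = N₀ := by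
    apply Submodule.eq_of_le_of_finrank_eq
    · apply plane_le
      · exact ⟨hn₁, mem_orth_plane.2 ⟨h1e, h1f⟩⟩
      · exact ⟨hn₂, mem_orth_plane.2 ⟨h2e, h2f⟩⟩
    · rw [finrank_plane h2 hn0, hN₀d]
  have haniso : ∀ y ∈ N₀, Q y = 0 → y = 0 := by
    intro y hy hQy
    rw [← hN₀eq] at hy
    obtain ⟨α, β, rfl⟩ := mem_plane.1 hy
    rw [Q_add', QuadraticMap.map_smul, QuadraticMap.map_smul, QuadraticMap.polar_smul_left,
      QuadraticMap.polar_smul_right, hQn₁, hQn₂, hn] at hQy
    simp only [smul_eq_mul, mul_one] at hQy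
    rcases h01 α with ha | ha <;> rcases h01 β with hb | hb
    · rw [ha, hb]; simp
    · exfalso; rw [ha, hb] at hQy; simp at hQy
    · exfalso; rw [ha, hb] at hQy; simp at hQy
    · exfalso
      rw [ha, hb] at hQy
      simp only [mul_one] at hQy
      rw [h11, zero_add] at hQy
      exact one_ne_zero hQy
  have hfe : polar (⇑Q) f e = 1 := by rw [QuadraticMap.polar_comm]; exact hef
  have key : ∀ s ∈ W', polar (⇑Q) e s = 0 → Q s = 0 → s = polar (⇑Q) f s • e := by
    intro s hs hes hQs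
    have hmem : s - polar (⇑Q) f s • e ∈ N₀ := by
      refine ⟨W'.sub_mem hs (W'.smul_mem _ he), mem_orth_plane.2 ⟨?_, ?_⟩⟩
      · rw [QuadraticMap.polar_sub_right, QuadraticMap.polar_smul_right, polar_self_c2 h2, hes]
        simp
      · rw [QuadraticMap.polar_sub_right, QuadraticMap.polar_smul_right, hfe]
        simp
    have hQ0 : Q (s - polar (⇑Q) f s • e) = 0 := by
      rw [Q_sub', QuadraticMap.map_smul, hQe, hQs, QuadraticMap.polar_smul_right,
        QuadraticMap.polar_comm (⇑Q) s e, hes]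
      simp
    exact sub_eq_zero.1 (haniso _ hmem hQ0)
  -- a non-zero vector of `S` orthogonal to `e`
  have hdim := finrank_inf_ker_ge S (polarBilin Q e)
  have hpos : 0 < finrank F ↥(S ⊓ LinearMap.ker (polarBilin Q e)) := by omega
  obtain ⟨⟨s, hs⟩, hs0⟩ := Module.finrank_pos_iff_exists_ne_zero.1 hpos
  have hs0' : s ≠ 0 := fun h => hs0 (Subtype.ext h)
  have hes : polar (⇑Q) e s = 0 := hs.2
  have hse := key s (hSW hs.1) hes (hTS s hs.1)
  obtain ⟨c, hcdef⟩ : ∃ c : F, c = polar (⇑Q) f s := ⟨_, rfl⟩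
  rw [← hcdef] at hse
  have hc : c ≠ 0 := by
    intro h
    rw [h, zero_smul] at hse
    exact hs0' hse
  have heS : e ∈ S := by
    have := S.smul_mem c⁻¹ hs.1
    rwa [hse, smul_smul, inv_mul_cancel₀ hc, one_smul] at this
  have hSle : S ≤ F ∙ e := by
    intro s' hs'
    have h1 := key s' (hSW hs') (hTS.polar_zero heS hs') (hTS s' hs')
    rw [h1]
    exact Submodule.smul_mem _ _ (Submodule.mem_span_singleton_self e)
  have h1 := Submodule.finrank_mono hSle
  have h3 : finrank F ↥(F ∙ e) ≤ 1 := by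
    have := finrank_span_le_card (R := F) ({e} : Set (ι → F))
    simpa using this
  omega

/-! ### Restriction to a subspace -/

theorem polar_comp_subtype (Q : QuadraticForm F (ι → F)) (W : Submodule F (ι → F)) (a b : ↥W) :
    polar (⇑(Q.comp W.subtype)) a b = polar (⇑Q) (a : ι → F) (b : ι → F) := by
  unfold QuadraticMap.polar
  simp only [QuadraticMap.comp_apply, Submodule.subtype_apply, Submodule.coe_add]

theorem restrict_nondeg (Q : QuadraticForm F (ι → F)) {W : Submodule F (ι → F)}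
    (hW : Nondeg Q W) : (polarBilin (Q.comp W.subtype)).Nondegenerate := by
  have hleft : ∀ a : ↥W, (∀ b : ↥W, polarBilin (Q.comp W.subtype) a b = 0) → a = 0 := by
    intro a ha
    have : (a : ι → F) ∈ W ⊓ orth Q W := by
      refine ⟨a.2, ?_⟩
      intro w hw
      have := ha ⟨w, hw⟩
      rw [polarBilin_apply_apply, polar_comp_subtype] at this
      show polar (⇑Q) w (a : ι → F) = 0
      rw [QuadraticMap.polar_comm]
      exact this
    rw [hW] at this
    exact Subtype.ext ((Submodule.mem_bot F).1 this)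
  constructor
  · exact hleft
  · intro b hb
    apply hleft
    intro a
    have := hb a
    rw [polarBilin_apply_apply, QuadraticMap.polar_comm] at this
    exact this

theorem isHyp_coe (Q : QuadraticForm F (ι → F)) (W : Submodule F (ι → F)) {k : ℕ}
    {e f : Fin k → ↥W} (h : IsHyp (Q.comp W.subtype) e f) :
    IsHyp Q (fun i => (e i : ι → F)) (fun i => (f i : ι → F)) := by
  refine ⟨fun i => h.Qe i, fun i => h.Qf i, fun i j => ?_, fun i j => ?_, fun i j => ?_⟩
  · rw [← polar_comp_subtype]; exact h.ef i j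
  · rw [← polar_comp_subtype]; exact h.ee i j
  · rw [← polar_comp_subtype]; exact h.ff i j

theorem Q_add3 (Q : QuadraticForm F (ι → F)) (a b c : ι → F) :
    Q (a + b + c) = Q a + Q b + Q c + polar (⇑Q) a b + polar (⇑Q) a c + polar (⇑Q) b c := by
  rw [Q_add', Q_add', QuadraticMap.polar_add_left]
  ring

end Cfsg.Agent.Lib.Helper19.OrthRefl
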