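-- Generation by reflections in characteristic two: the good plane and the induction.
import Mathlib
import Cfsg.Prelude.Def_Classical
import Cfsg.Prelude.Def_ClassicalGeometry
import Cfsg.Agent.Lib.Helper19.OrthRefl
import Cfsg.Agent.Lib.Helper19.Parity
import Cfsg.Agent.Lib.Helper19.NondegSub
import Cfsg.Agent.Lib.Helper19.OrthCD2
import Cfsg.Agent.Lib.Helper19.OrthCD2b
import Cfsg.Agent.Lib.Helper19.OrthCD2c
import Cfsg.Agent.Lib.Helper19.QuadWitt
import Cfsg.Agent.Lib.Helper19.QuadSing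

set_option autoImplicit false

namespace Cfsg.Agent.Lib.Helper19.OrthRefl

open Matrix QuadraticMap Module Cfsg.Agent.Lib.Helper19.Parity Cfsg.Agent.Lib.Helper19.QuadWitt

variable {ι : Type} [Fintype ι] [DecidableEq ι] {F : Type*} [Field F]

theorem good_of_data [Fintype F] (h2 : (2 : F) = 0) (hF : Fintype.card F = 2)
    (Q : QuadraticForm F (ι → F)) (hQ : (polarBilin Q).Nondegenerate)
    {W : Submodule F (ι → F)} (hW : Nondeg Q W) (hd : finrank F W = 6)
    {u v n₁ n₂ e f : ι → F} (hu : u ∈ W) (hv : v ∈ W) (hn₁ : n₁ ∈ W) (hn₂ : n₂ ∈ W)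
    (he : e ∈ W) (hf : f ∈ W) (hQu : Q u ≠ 0) (hpuv : polar (⇑Q) u v ≠ 0)
    (o1 : polar (⇑Q) u n₁ = 0) (o2 : polar (⇑Q) v n₁ = 0) (o3 : polar (⇑Q) u n₂ = 0)
    (o4 : polar (⇑Q) v n₂ = 0) (o5 : polar (⇑Q) u e = 0) (o6 : polar (⇑Q) v e = 0)
    (o7 : polar (⇑Q) u f = 0) (o8 : polar (⇑Q) v f = 0)
    (hQn₁ : Q n₁ = 1) (hQn₂ : Q n₂ = 1) (hn : polar (⇑Q) n₁ n₂ = 1) (hQe : Q e = 0)
    (hQf : Q f = 0) (hef : polar (⇑Q) e f = 1) (h1e : polar (⇑Q) e n₁ = 0)
    (h1f : polar (⇑Q) f n₁ = 0) (h2e : polar (⇑Q) e n₂ = 0) (h2f : polar (⇑Q) f n₂ = 0) :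
    ∃ u v : ι → F, u ∈ W ∧ v ∈ W ∧ Q u ≠ 0 ∧ polar (⇑Q) u v ≠ 0 ∧
      ¬Bad Q (W ⊓ orth Q (plane F u v)) := by
  refine ⟨u, v, hu, hv, hQu, hpuv, ?_⟩
  have hW' := nondeg_inf_orth_plane h2 Q hW hu hv hpuv
  have hd' : finrank F ↥(W ⊓ orth Q (plane F u v)) = 4 := by
    have := finrank_inf_orth hQ hW (plane_le hu hv : plane F u v ≤ W)
    rw [finrank_plane h2 hpuv] at this
    omega
  exact not_bad_of_NH h2 hF Q hQ hW' hd' ⟨hn₁, mem_orth_plane.2 ⟨o1, o2⟩⟩
    ⟨hn₂, mem_orth_plane.2 ⟨o3, o4⟩⟩ ⟨he, mem_orth_plane.2 ⟨o5, o6⟩⟩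
    ⟨hf, mem_orth_plane.2 ⟨o7, o8⟩⟩ hQn₁ hQn₂ hn hQe hQf hef h1e h1f h2e h2f

theorem exists_good_plane_six [Fintype F] (h2 : (2 : F) = 0) (hF : Fintype.card F = 2)
    (Q : QuadraticForm F (ι → F)) (hQ : (polarBilin Q).Nondegenerate)
    {W : Submodule F (ι → F)} (hW : Nondeg Q W) (hd : finrank F W = 6) :
    ∃ u v : ι → F, u ∈ W ∧ v ∈ W ∧ Q u ≠ 0 ∧ polar (⇑Q) u v ≠ 0 ∧
      ¬Bad Q (W ⊓ orth Q (plane F u v)) := by
  have h11 : (1 : F) + 1 = 0 := by rw [one_add_one_eq_two, h2]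
  have h01 := eq_zero_or_one_of_card hF
  have hstruct := even_structure (Q := Q.comp W.subtype) (restrict_nondeg Q hW) (m := 3)
    (by rw [hd])
  rcases hstruct with ⟨e, f, h⟩ | ⟨k, hk, e, f, x, y, h, hx, hy, hQx, hxy, hζ⟩
  · -- hyperbolic
    have h' := isHyp_coe Q W h
    have memE : ∀ i, (e i : ι → F) ∈ W := fun i => (e i).2
    have memF : ∀ i, (f i : ι → F) ∈ W := fun i => (f i).2
    obtain ⟨E, G, hEG, memE', memG'⟩ : ∃ E G : Fin 3 → (ι → F), IsHyp Q E G ∧
      (∀ i, E i ∈ W) ∧ (∀ i, G i ∈ W) := ⟨_, _, h', memE, memF⟩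
    have ee := hEG.ee
    have ff := hEG.ff
    have ef := hEG.ef
    have fe := hEG.swap.ef
    have Qe := hEG.Qe
    have Qf := hEG.Qf
    apply good_of_data h2 hF Q hQ hW hd (u := E 0 + G 0) (v := E 0 + E 1 + G 1)
      (n₁ := E 0 + G 0 + E 1) (n₂ := E 0 + G 0 + G 1) (e := E 2) (f := G 2)
    · exact W.add_mem (memE' 0) (memG' 0)
    · exact W.add_mem (W.add_mem (memE' 0) (memE' 1)) (memG' 1)
    · exact W.add_mem (W.add_mem (memE' 0) (memG' 0)) (memE' 1)
    · exact W.add_mem (W.add_mem (memE' 0) (memG' 0)) (memG' 1)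
    · exact memE' 2
    · exact memG' 2
    · rw [Q_add', Qe, Qf, ef]; simp
    · simp [QuadraticMap.polar_add_left, QuadraticMap.polar_add_right, ee, ff, ef, fe, h2, h11]
    · simp [QuadraticMap.polar_add_left, QuadraticMap.polar_add_right, ee, ff, ef, fe, h2, h11]
    · simp [QuadraticMap.polar_add_left, QuadraticMap.polar_add_right, ee, ff, ef, fe, h2, h11]
    · simp [QuadraticMap.polar_add_left, QuadraticMap.polar_add_right, ee, ff, ef, fe, h2, h11]
    · simp [QuadraticMap.polar_add_left, QuadraticMap.polar_add_right, ee, ff, ef, fe, h2, h11]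
    · simp [QuadraticMap.polar_add_left, QuadraticMap.polar_add_right, ee, ff, ef, fe, h2, h11]
    · simp [QuadraticMap.polar_add_left, QuadraticMap.polar_add_right, ee, ff, ef, fe, h2, h11]
    · simp [QuadraticMap.polar_add_left, QuadraticMap.polar_add_right, ee, ff, ef, fe, h2, h11]
    · simp [QuadraticMap.polar_add_left, QuadraticMap.polar_add_right, ee, ff, ef, fe, h2, h11]
    · rw [Q_add3, Qe, Qf, Qe, ef, ee, fe]; simp
    · rw [Q_add3, Qe, Qf, Qf, ef, ef, ff]; simp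
    · simp [QuadraticMap.polar_add_left, QuadraticMap.polar_add_right, ee, ff, ef, fe, h2, h11]
    · exact Qe 2
    · exact Qf 2
    · rw [ef]; simp
    · simp [QuadraticMap.polar_add_left, QuadraticMap.polar_add_right, ee, ff, ef, fe, h2, h11]
    · simp [QuadraticMap.polar_add_left, QuadraticMap.polar_add_right, ee, ff, ef, fe, h2, h11]
    · simp [QuadraticMap.polar_add_left, QuadraticMap.polar_add_right, ee, ff, ef, fe, h2, h11]
    · simp [QuadraticMap.polar_add_left, QuadraticMap.polar_add_right, ee, ff, ef, fe, h2, h11]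
  · -- elliptic
    have hk2 : k = 2 := by omega
    subst hk2
    have h' := isHyp_coe Q W h
    have memE : ∀ i, (e i : ι → F) ∈ W := fun i => (e i).2
    have memF : ∀ i, (f i : ι → F) ∈ W := fun i => (f i).2
    have hxE : ∀ i, polar (⇑Q) ((e i : ι → F)) (x : ι → F) = 0 := by
      intro i
      rw [← polar_comp_subtype]
      exact ((mem_perp _ e f x).1 hx i).1
    have hxF : ∀ i, polar (⇑Q) ((f i : ι → F)) (x : ι → F) = 0 := by
      intro i
      rw [← polar_comp_subtype]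
      exact ((mem_perp _ e f x).1 hx i).2
    have hyE : ∀ i, polar (⇑Q) ((e i : ι → F)) (y : ι → F) = 0 := by
      intro i
      rw [← polar_comp_subtype]
      exact ((mem_perp _ e f y).1 hy i).1
    have hyF : ∀ i, polar (⇑Q) ((f i : ι → F)) (y : ι → F) = 0 := by
      intro i
      rw [← polar_comp_subtype]
      exact ((mem_perp _ e f y).1 hy i).2
    have hQx' : Q (x : ι → F) = 1 := hQx
    have hxy' : polar (⇑Q) (x : ι → F) (y : ι → F) = 1 := by
      rw [← polar_comp_subtype]; exact hxy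
    have hQy' : Q (y : ι → F) = 1 := by
      have h0 := hζ 0
      have hne : (Q.comp W.subtype) y ≠ 0 := by
        intro hc
        apply h0
        rw [hc]; simp
      exact (h01 _).resolve_left hne
    obtain ⟨E, G, hEG, memE', memG', hxE', hxG', hyE', hyG'⟩ : ∃ E G : Fin 2 → (ι → F),
        IsHyp Q E G ∧ (∀ i, E i ∈ W) ∧ (∀ i, G i ∈ W) ∧
        (∀ i, polar (⇑Q) (E i) (x : ι → F) = 0) ∧ (∀ i, polar (⇑Q) (G i) (x : ι → F) = 0) ∧
        (∀ i, polar (⇑Q) (E i) (y : ι → F) = 0) ∧ (∀ i, polar (⇑Q) (G i) (y : ι → F) = 0) :=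
      ⟨_, _, h', memE, memF, hxE, hxF, hyE, hyF⟩
    have ee := hEG.ee
    have ff := hEG.ff
    have ef := hEG.ef
    have fe := hEG.swap.ef
    have Qe := hEG.Qe
    have Qf := hEG.Qf
    apply good_of_data h2 hF Q hQ hW hd (u := E 0 + G 0) (v := E 0)
      (n₁ := (x : ι → F)) (n₂ := (y : ι → F)) (e := E 1) (f := G 1)
    · exact W.add_mem (memE' 0) (memG' 0)
    · exact memE' 0
    · exact x.2
    · exact y.2
    · exact memE' 1
    · exact memG' 1
    · rw [Q_add', Qe, Qf, ef]; simp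
    · simp [QuadraticMap.polar_add_left, QuadraticMap.polar_add_right, ee, ff, ef, fe, h2, h11]
    · simp [QuadraticMap.polar_add_left, hxE', hxG']
    · exact hxE' 0
    · simp [QuadraticMap.polar_add_left, hyE', hyG']
    · exact hyE' 0
    · simp [QuadraticMap.polar_add_left, QuadraticMap.polar_add_right, ee, ff, ef, fe, h2, h11]
    · simp [ee]
    · simp [QuadraticMap.polar_add_left, QuadraticMap.polar_add_right, ee, ff, ef, fe, h2, h11]
    · simp [ef]
    · exact hQx'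
    · exact hQy'
    · exact hxy'
    · exact Qe 1
    · exact Qf 1
    · rw [ef]; simp
    · exact hxE' 1
    · exact hxG' 1
    · exact hyE' 1
    · exact hyG' 1

end Cfsg.Agent.Lib.Helper19.OrthRefl
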