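-- Generation by reflections in characteristic two: the main theorem.
import Mathlib
import Cfsg.Prelude.Def_Classical
import Cfsg.Prelude.Def_ClassicalGeometry
import Cfsg.Agent.Lib.Helper19.OrthRefl
import Cfsg.Agent.Lib.Helper19.Parity
import Cfsg.Agent.Lib.Helper19.NondegSub
import Cfsg.Agent.Lib.Helper19.OrthCD2
import Cfsg.Agent.Lib.Helper19.OrthCD2b
import Cfsg.Agent.Lib.Helper19.OrthCD2c
import Cfsg.Agent.Lib.Helper19.OrthCD2d

set_option autoImplicit false

namespace Cfsg.Agent.Lib.Helper19.OrthRefl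

open Matrix QuadraticMap Module Cfsg.Agent.Lib.Helper19.Parity

variable {ι : Type} [Fintype ι] [DecidableEq ι] {F : Type*} [Field F]

theorem exists_nonsing (Q : QuadraticForm F (ι → F)) {W : Submodule F (ι → F)}
    (hW : Nondeg Q W) (hW0 : W ≠ ⊥) : ∃ u ∈ W, Q u ≠ 0 := by
  obtain ⟨x, hx, hx0⟩ := Submodule.exists_mem_ne_zero_of_ne_bot hW0
  obtain ⟨y, hy, hxy⟩ := hW.exists_polar_ne hx hx0
  by_cases h1 : Q x ≠ 0
  · exact ⟨x, hx, h1⟩
  by_cases h3 : Q y ≠ 0
  · exact ⟨y, hy, h3⟩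
  push Not at h1 h3
  refine ⟨x + y, W.add_mem hx hy, ?_⟩
  rw [Q_add', h1, h3, zero_add, zero_add]
  exact hxy

theorem exists_good_plane [Fintype F] (h2 : (2 : F) = 0) (Q : QuadraticForm F (ι → F))
    (hQ : (polarBilin Q).Nondegenerate) {W : Submodule F (ι → F)} (hW : Nondeg Q W)
    (hW0 : W ≠ ⊥) :
    ∃ u v : ι → F, u ∈ W ∧ v ∈ W ∧ Q u ≠ 0 ∧ polar (⇑Q) u v ≠ 0 ∧
      ¬Bad Q (W ⊓ orth Q (plane F u v)) := by
  by_cases hsp : Fintype.card F = 2 ∧ finrank F W = 6
  · exact exists_good_plane_six h2 hsp.1 Q hQ hW hsp.2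
  · obtain ⟨u, hu, hQu⟩ := exists_nonsing Q hW hW0
    have hu0 : u ≠ 0 := by
      intro h; rw [h, QuadraticMap.map_zero] at hQu; exact hQu rfl
    obtain ⟨v, hv, hpuv⟩ := hW.exists_polar_ne hu hu0
    refine ⟨u, v, hu, hv, hQu, hpuv, ?_⟩
    rintro ⟨hF, hd4, _⟩
    apply hsp
    refine ⟨hF, ?_⟩
    have := finrank_inf_orth hQ hW (plane_le hu hv : plane F u v ≤ W)
    rw [finrank_plane h2 hpuv] at this
    omega

/-- An isometry fixing `orth W` pointwise is a product of reflections in vectors of `W`. -/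
theorem mem_TW_of_fix [Fintype F] (h2 : (2 : F) = 0) (Q : QuadraticForm F (ι → F))
    (hQ : (polarBilin Q).Nondegenerate) :
    ∀ (d : ℕ) (W : Submodule F (ι → F)), finrank F W = d → Nondeg Q W → ¬Bad Q W →
      ∀ g : ↥(Cfsg.isometryGroup F ⇑Q), (∀ x ∈ orth Q W, act g x = x) → g ∈ TW Q W := by
  intro d
  induction d using Nat.strong_induction_on with
  | _ d ih =>
    intro W hd hW hbad g hfix
    by_cases hW0 : W = ⊥
    · subst hW0
      have hg1 : g = 1 := by
        apply ext_act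
        intro x
        rw [act_one]
        apply hfix
        intro w hw
        rw [(Submodule.mem_bot F).1 hw]
        exact QuadraticMap.polar_zero_left _ _
      rw [hg1]
      exact Subgroup.one_mem _
    · obtain ⟨u, v, hu, hv, hQu, hpuv, hbad'⟩ := exists_good_plane h2 Q hQ hW hW0
      have hguW : act g u ∈ W := act_mem_of_fix_orth Q hQ g hfix hu
      have hQgu : Q (act g u) ≠ 0 := by rw [Q_act g u]; exact hQu
      obtain ⟨t₁, ht₁, ht₁u⟩ := exists_TW_map h2 Q hQ hW hbad hguW hu hQgu (Q_act g u)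
      have hfix₁ : ∀ x ∈ orth Q W, act (t₁ * g) x = x := by
        intro x hx
        rw [act_mul, hfix x hx, act_TW_of_orth Q ht₁ x hx]
      have hg₁u : act (t₁ * g) u = u := by rw [act_mul, ht₁u]
      have hv'W : act (t₁ * g) v ∈ W := act_mem_of_fix_orth Q hQ (t₁ * g) hfix₁ hv
      have hpv' : polar (⇑Q) u v = polar (⇑Q) u (act (t₁ * g) v) := by
        conv_rhs => rw [← hg₁u]
        rw [polar_act]
      obtain ⟨t₂, ht₂, ht₂u, ht₂v⟩ := exists_TW_fix h2 Q hu hv hv'W hQu hpv' hpuv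
        (Q_act (t₁ * g) v)
      have hfix₂ : ∀ x ∈ orth Q W, act (t₂ * (t₁ * g)) x = x := by
        intro x hx
        rw [act_mul, hfix₁ x hx, act_TW_of_orth Q ht₂ x hx]
      have hg₂u : act (t₂ * (t₁ * g)) u = u := by rw [act_mul, hg₁u, ht₂u]
      have hg₂v : act (t₂ * (t₁ * g)) v = v := by rw [act_mul, ht₂v]
      have hfix' := fix_orth_inf h2 Q hu hv hpuv (t₂ * (t₁ * g)) hfix₂ hg₂u hg₂v
      have hW' := nondeg_inf_orth_plane h2 Q hW hu hv hpuv
      have hd' : finrank F ↥(W ⊓ orth Q (plane F u v)) < d := by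
        have := finrank_inf_orth hQ hW (plane_le hu hv : plane F u v ≤ W)
        rw [finrank_plane h2 hpuv] at this
        omega
      have hmem := ih _ hd' _ rfl hW' hbad' (t₂ * (t₁ * g)) hfix'
      have hmem' : t₂ * (t₁ * g) ∈ TW Q W := TW_mono Q inf_le_left hmem
      have hg : g = t₁⁻¹ * (t₂⁻¹ * (t₂ * (t₁ * g))) := by group
      rw [hg]
      exact Subgroup.mul_mem _ (Subgroup.inv_mem _ ht₁)
        (Subgroup.mul_mem _ (Subgroup.inv_mem _ ht₂) hmem')

/-- In characteristic two the isometry group is generated by reflections, except for the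
4-dimensional spaces over the field of two elements. -/
theorem closure_Rset_c2 [Fintype F] (h2 : (2 : F) = 0) (Q : QuadraticForm F (ι → F))
    (hQ : (polarBilin Q).Nondegenerate) (hex : Fintype.card F ≠ 2 ∨ Fintype.card ι ≠ 4) :
    Subgroup.closure (Rset Q) = ⊤ := by
  rw [eq_top_iff]
  intro g _
  rw [← TW_top]
  apply mem_TW_of_fix h2 Q hQ _ ⊤ rfl (nondeg_top hQ)
  · rintro ⟨hF, hd, _⟩
    rw [finrank_top, Module.finrank_fintype_fun_eq_card] at hd
    rcases hex with h | h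
    · exact h hF
    · exact h hd
  · intro x hx
    have : orth Q (⊤ : Submodule F (ι → F)) = ⊥ := LinearMap.BilinForm.orthogonal_top_eq_bot hQ
    rw [this, Submodule.mem_bot] at hx
    rw [hx, act_zero]

end Cfsg.Agent.Lib.Helper19.OrthRefl
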