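-- `Ω(Q)` in characteristic two: the kernel of the Dickson character, of index two, generated by
-- the products of two reflections.
import Mathlib
import Cfsg.Prelude.Def_Classical
import Cfsg.Prelude.Def_ClassicalGeometry
import Cfsg.Agent.Lib.Helper19.OrthRefl
import Cfsg.Agent.Lib.Helper19.OrthSpinor
import Cfsg.Agent.Lib.Helper19.Dickson
import Cfsg.Agent.Lib.Helper19.OrthCD2e

set_option autoImplicit false

namespace Cfsg.Agent.Lib.Helper19.OrthRefl

open Matrix QuadraticMap Module Cfsg.Agent.Lib.Helper19.Parity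

/-- The commutator subgroup of a group generated by a single conjugacy class of involutions is the
kernel of any sign character that is non-trivial on them. -/
theorem commutator_eq_ker_one {G : Type*} [Group G] (R : Set G)
    (hR : Subgroup.closure R = ⊤) (hinv : ∀ r ∈ R, r * r = 1) (D : G →* ℤˣ)
    (hD : ∀ r ∈ R, D r = -1) (hconj : ∀ r ∈ R, ∀ s ∈ R, ∃ g, g * r * g⁻¹ = s) :
    commutator G = D.ker := by
  apply le_antisymm
  · exact Abelianization.commutator_subset_ker D
  · intro g hg
    rw [MonoidHom.mem_ker] at hg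
    rw [← Abelianization.ker_of, MonoidHom.mem_ker]
    set π : G →* Abelianization G := Abelianization.of with hπ
    have hconj' : ∀ r ∈ R, ∀ s ∈ R, π r = π s := by
      intro r hr s hs
      obtain ⟨x, hx⟩ := hconj r hr s hs
      rw [← hx, map_mul, map_mul, map_inv, mul_comm (π x), mul_assoc, mul_inv_cancel, mul_one]
    have key : ∀ x : G, (D x = 1 → π x = 1) ∧ (D x = -1 → ∀ r ∈ R, π x = π r) := by
      intro x
      have hx : x ∈ Subgroup.closure R := by rw [hR]; trivial
      induction hx using Subgroup.closure_induction_left with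
      | one =>
        refine ⟨fun _ => map_one π, fun h => ?_⟩
        rw [map_one] at h
        exact absurd h (by decide)
      | mul_left r hr y _ ih =>
        constructor
        · intro h
          rw [map_mul, hD r hr] at h
          have hy : D y = -1 := by
            rcases Int.units_eq_one_or (D y) with h' | h'
            · rw [h'] at h; exact absurd h (by decide)
            · exact h'
          rw [map_mul, ih.2 hy r hr, ← map_mul, hinv r hr, map_one]
        · intro h s hs
          rw [map_mul, hD r hr] at h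
          have hy : D y = 1 := by
            rcases Int.units_eq_one_or (D y) with h' | h'
            · exact h'
            · rw [h'] at h; exact absurd h (by decide)
          rw [map_mul, ih.1 hy, mul_one]
          exact hconj' r hr s hs
      | inv_mul_cancel r hr y _ ih =>
        have hrinv : r⁻¹ = r := inv_eq_of_mul_eq_one_left (hinv r hr)
        rw [hrinv]
        constructor
        · intro h
          rw [map_mul, hD r hr] at h
          have hy : D y = -1 := by
            rcases Int.units_eq_one_or (D y) with h' | h'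
            · rw [h'] at h; exact absurd h (by decide)
            · exact h'
          rw [map_mul, ih.2 hy r hr, ← map_mul, hinv r hr, map_one]
        · intro h s hs
          rw [map_mul, hD r hr] at h
          have hy : D y = 1 := by
            rcases Int.units_eq_one_or (D y) with h' | h'
            · exact h'
            · rw [h'] at h; exact absurd h (by decide)
          rw [map_mul, ih.1 hy, mul_one]
          exact hconj' r hr s hs
    exact (key g).1 hg

variable {ι : Type} [Fintype ι] [DecidableEq ι] {F : Type*} [Field F]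

theorem isSquare_c2 [Fintype F] (h2 : (2 : F) = 0) (a : F) : IsSquare a := by
  haveI : CharP F 2 := CharTwo.of_one_ne_zero_of_two_eq_zero one_ne_zero h2
  exact FiniteField.isSquare_of_char_two (ringChar.eq F 2) a

/-- In characteristic two all reflections are conjugate. -/
theorem refl_conj_c2 [Fintype F] (h2 : (2 : F) = 0) (Q : QuadraticForm F (ι → F))
    (hQ : (polarBilin Q).Nondegenerate) (hex : Fintype.card F ≠ 2 ∨ Fintype.card ι ≠ 4)
    (u v : ι → F) (hu : Q u ≠ 0) (hv : Q v ≠ 0) :
    ∃ g : ↥(Cfsg.isometryGroup F ⇑Q), g * refl Q u hu * g⁻¹ = refl Q v hv := by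
  obtain ⟨s, hs⟩ := isSquare_c2 h2 (Q v / Q u)
  have hs0 : s ≠ 0 := by
    rintro rfl
    rw [mul_zero] at hs
    exact (div_ne_zero hv hu) hs
  have hQsu : Q (s • u) = Q v := by
    rw [QuadraticMap.map_smul, smul_eq_mul, ← hs]
    field_simp
  have hsu : Q (s • u) ≠ 0 := by rw [hQsu]; exact hv
  have hbad : ¬Bad Q (⊤ : Submodule F (ι → F)) := by
    rintro ⟨hF, hd, _⟩
    rw [finrank_top, Module.finrank_fintype_fun_eq_card] at hd
    rcases hex with h | h
    · exact h hF
    · exact h hd
  obtain ⟨t, _, ht⟩ := exists_TW_map h2 Q hQ (nondeg_top hQ) hbad (u := s • u) (v := v)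
    trivial trivial hsu hQsu
  refine ⟨t, ?_⟩
  rw [← refl_smul Q u hu s hs0 hsu]
  have hQt : Q (act t (s • u)) ≠ 0 := by rw [ht]; exact hv
  rw [conj_refl Q (s • u) hsu t hQt]
  exact refl_congr Q _ _ hQt hv ht

/-- `Ω(Q)` is the kernel of the Dickson character (characteristic two). -/
theorem Omega_eq_c2 [Fintype F] (h2 : (2 : F) = 0) (Q : QuadraticForm F (ι → F))
    (hQ : (polarBilin Q).Nondegenerate) (hex : Fintype.card F ≠ 2 ∨ Fintype.card ι ≠ 4) :
    Cfsg.Omega F (⇑Q) = (dicksonChar h2 Q hQ).ker := by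
  apply commutator_eq_ker_one (Rset Q) (closure_Rset_c2 h2 Q hQ hex)
  · rintro _ ⟨v, hv, rfl⟩
    exact refl_mul_self Q v hv
  · rintro _ ⟨v, hv, rfl⟩
    exact dicksonChar_refl h2 Q hQ v hv
  · rintro _ ⟨u, hu, rfl⟩ _ ⟨v, hv, rfl⟩
    exact refl_conj_c2 h2 Q hQ hex u v hu hv

theorem mem_Omega_iff_c2 [Fintype F] (h2 : (2 : F) = 0) (Q : QuadraticForm F (ι → F))
    (hQ : (polarBilin Q).Nondegenerate) (hex : Fintype.card F ≠ 2 ∨ Fintype.card ι ≠ 4)
    (g : ↥(Cfsg.isometryGroup F ⇑Q)) :
    g ∈ Cfsg.Omega F (⇑Q) ↔ dicksonChar h2 Q hQ g = 1 := by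
  rw [Omega_eq_c2 h2 Q hQ hex, MonoidHom.mem_ker]

theorem exists_nonsing_top (Q : QuadraticForm F (ι → F)) (hQ : (polarBilin Q).Nondegenerate)
    (hn : 1 ≤ Fintype.card ι) : ∃ v : ι → F, Q v ≠ 0 := by
  have hne : (⊤ : Submodule F (ι → F)) ≠ ⊥ := by
    intro h
    have h1 : finrank F (⊤ : Submodule F (ι → F)) = 0 := by rw [h, finrank_bot]
    rw [finrank_top, Module.finrank_fintype_fun_eq_card] at h1
    omega
  obtain ⟨u, _, hu⟩ := exists_nonsing Q (nondeg_top hQ) hne
  exact ⟨u, hu⟩

/-- `Ω(Q)` has index two in characteristic two. -/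
theorem Omega_index_c2 [Fintype F] (h2 : (2 : F) = 0) (Q : QuadraticForm F (ι → F))
    (hQ : (polarBilin Q).Nondegenerate) (hex : Fintype.card F ≠ 2 ∨ Fintype.card ι ≠ 4)
    (hn : 1 ≤ Fintype.card ι) : (Cfsg.Omega F (⇑Q)).index = 2 := by
  obtain ⟨v, hv⟩ := exists_nonsing_top Q hQ hn
  rw [Omega_eq_c2 h2 Q hQ hex]
  exact index_ker_of_neg_one _ (refl Q v hv) (dicksonChar_refl h2 Q hQ v hv)

/-- The subgroup generated by the products of two reflections. -/
def Rset2 (Q : QuadraticForm F (ι → F)) : Set ↥(Cfsg.isometryGroup F ⇑Q) :=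
  {g | ∃ (u v : ι → F) (hu : Q u ≠ 0) (hv : Q v ≠ 0), g = refl Q u hu * refl Q v hv}

theorem Rset2_eq (Q : QuadraticForm F (ι → F)) :
    Rset2 Q = {g : ↥(Cfsg.isometryGroup F ⇑Q) | ∃ u v : ι → F, Q u ≠ 0 ∧ Q v ≠ 0 ∧
      ((g : Matrix.GeneralLinearGroup ι F) : Matrix ι ι F)
        = Cfsg.reflectionMatrix (⇑Q) u * Cfsg.reflectionMatrix (⇑Q) v} := by
  ext g
  constructor
  · rintro ⟨u, v, hu, hv, rfl⟩
    refine ⟨u, v, hu, hv, ?_⟩
    rw [Subgroup.coe_mul, Units.val_mul, refl_coe, refl_coe]
  · rintro ⟨u, v, hu, hv, h⟩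
    refine ⟨u, v, hu, hv, ?_⟩
    apply Subtype.ext
    apply Units.ext
    rw [h, Subgroup.coe_mul, Units.val_mul, refl_coe, refl_coe]

theorem Omega_eq_closure_Rset2 [Fintype F] (h2 : (2 : F) = 0) (Q : QuadraticForm F (ι → F))
    (hQ : (polarBilin Q).Nondegenerate) (hex : Fintype.card F ≠ 2 ∨ Fintype.card ι ≠ 4) :
    Cfsg.Omega F (⇑Q) = Subgroup.closure (Rset2 Q) := by
  apply le_antisymm
  · intro g hg
    rw [mem_Omega_iff_c2 h2 Q hQ hex] at hg
    have key : ∀ x : ↥(Cfsg.isometryGroup F ⇑Q),
        (dicksonChar h2 Q hQ x = 1 → x ∈ Subgroup.closure (Rset2 Q)) ∧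
        (dicksonChar h2 Q hQ x = -1 → ∀ r ∈ Rset Q, r * x ∈ Subgroup.closure (Rset2 Q)) := by
      intro x
      have hx : x ∈ Subgroup.closure (Rset Q) := by rw [closure_Rset_c2 h2 Q hQ hex]; trivial
      have step : ∀ r ∈ Rset Q, ∀ y : ↥(Cfsg.isometryGroup F ⇑Q),
          ((dicksonChar h2 Q hQ y = 1 → y ∈ Subgroup.closure (Rset2 Q)) ∧
          (dicksonChar h2 Q hQ y = -1 → ∀ r ∈ Rset Q, r * y ∈ Subgroup.closure (Rset2 Q))) →
          ((dicksonChar h2 Q hQ (r * y) = 1 → r * y ∈ Subgroup.closure (Rset2 Q)) ∧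
          (dicksonChar h2 Q hQ (r * y) = -1 →
            ∀ r' ∈ Rset Q, r' * (r * y) ∈ Subgroup.closure (Rset2 Q))) := by
        intro r hr y ih
        have hDr : dicksonChar h2 Q hQ r = -1 := by
          obtain ⟨v, hv, rfl⟩ := hr
          exact dicksonChar_refl h2 Q hQ v hv
        constructor
        · intro h
          rw [map_mul, hDr] at h
          have hy : dicksonChar h2 Q hQ y = -1 := by
            rcases Int.units_eq_one_or (dicksonChar h2 Q hQ y) with h' | h'
            · rw [h'] at h; exact absurd h (by decide)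
            · exact h'
          exact ih.2 hy r hr
        · intro h r' hr'
          rw [map_mul, hDr] at h
          have hy : dicksonChar h2 Q hQ y = 1 := by
            rcases Int.units_eq_one_or (dicksonChar h2 Q hQ y) with h' | h'
            · exact h'
            · rw [h'] at h; exact absurd h (by decide)
          rw [← mul_assoc]
          apply Subgroup.mul_mem _ _ (ih.1 hy)
          obtain ⟨v, hv, rfl⟩ := hr
          obtain ⟨v', hv', rfl⟩ := hr'
          exact Subgroup.subset_closure ⟨v', v, hv', hv, rfl⟩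
      induction hx using Subgroup.closure_induction_left with
      | one =>
        refine ⟨fun _ => Subgroup.one_mem _, fun h => ?_⟩
        rw [map_one] at h
        exact absurd h (by decide)
      | mul_left r hr y _ ih => exact step r hr y ih
      | inv_mul_cancel r hr y _ ih =>
        have hrinv : r⁻¹ = r := by
          obtain ⟨v, hv, rfl⟩ := hr
          exact refl_inv Q v hv
        rw [hrinv]
        exact step r hr y ih
    exact (key g).1 hg
  · rw [Subgroup.closure_le]
    rintro _ ⟨u, v, hu, hv, rfl⟩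
    show _ ∈ Cfsg.Omega F (⇑Q)
    rw [mem_Omega_iff_c2 h2 Q hQ hex, map_mul, dicksonChar_refl, dicksonChar_refl]
    rfl

end Cfsg.Agent.Lib.Helper19.OrthRefl
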