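-- The order of `PΩ(Q)` in terms of the order of the isometry group.
import Mathlib
import Cfsg.Prelude.Def_Classical
import Cfsg.Prelude.Def_ClassicalGeometry
import Cfsg.Agent.Lib.Helper19.OrthCenter2
import Cfsg.Agent.Lib.Helper19.OrthOmega2
import Cfsg.Agent.Lib.Helper19.OrthSpinor

set_option autoImplicit false

namespace Cfsg.Agent.Lib.Helper19.OrthRefl

open Matrix QuadraticMap Module Cfsg.Agent.Lib.Helper19.Parity

variable {ι : Type} [Fintype ι] [DecidableEq ι] {F : Type*} [Field F] [Fintype F]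

theorem refl_mul_refl_mem_Omega_c2 (h2 : (2 : F) = 0) (Q : QuadraticForm F (ι → F))
    (hQ : (polarBilin Q).Nondegenerate) (hex : Fintype.card F ≠ 2 ∨ Fintype.card ι ≠ 4)
    (a b : ι → F) (ha : Q a ≠ 0) (hb : Q b ≠ 0) :
    refl Q a ha * refl Q b hb ∈ Cfsg.Omega F (⇑Q) := by
  rw [mem_Omega_iff_c2 h2 Q hQ hex, map_mul, dicksonChar_refl, dicksonChar_refl]
  rfl

/-- The centre of `Ω` is trivial in characteristic two. -/
theorem center_Omega_c2 (h2 : (2 : F) = 0) (Q : QuadraticForm F (ι → F))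
    (hQ : (polarBilin Q).Nondegenerate) (hn : 5 ≤ Fintype.card ι) :
    Subgroup.center ↥(Cfsg.Omega F ⇑Q) = ⊥ := by
  have hex : Fintype.card F ≠ 2 ∨ Fintype.card ι ≠ 4 := Or.inr (by omega)
  rw [eq_bot_iff]
  intro z hz
  rw [Subgroup.mem_center_iff] at hz
  rw [Subgroup.mem_bot]
  apply Subtype.ext
  apply eq_one_of_comm_c2 h2 Q hQ (by omega) z.1
  intro a b ha hb _
  have := hz ⟨_, refl_mul_refl_mem_Omega_c2 h2 Q hQ hex a b ha hb⟩
  exact congrArg Subtype.val this

theorem two_mul_card_POmega_c2 (h2 : (2 : F) = 0) (Q : QuadraticForm F (ι → F))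
    (hQ : (polarBilin Q).Nondegenerate) (hn : 5 ≤ Fintype.card ι) :
    2 * Nat.card (Cfsg.POmega F ⇑Q) = Nat.card ↥(Cfsg.isometryGroup F ⇑Q) := by
  have hex : Fintype.card F ≠ 2 ∨ Fintype.card ι ≠ 4 := Or.inr (by omega)
  have hPO : Nat.card (Cfsg.POmega F ⇑Q) = Nat.card ↥(Cfsg.Omega F ⇑Q) := by
    have := Subgroup.card_eq_card_quotient_mul_card_subgroup (Subgroup.center ↥(Cfsg.Omega F ⇑Q))
    have h1 : Nat.card ↥(Subgroup.center ↥(Cfsg.Omega F ⇑Q)) = 1 := by
      rw [center_Omega_c2 h2 Q hQ hn]; exact Subgroup.card_bot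
    rw [h1, mul_one] at this
    exact this.symm
  have hidx := Omega_index_c2 h2 Q hQ hex (by omega)
  have hmul := Subgroup.card_mul_index (Cfsg.Omega F ⇑Q)
  rw [hidx] at hmul
  rw [hPO, ← hmul, mul_comm]

/-- Elements of the centre of `Ω` are `±1` in odd characteristic. -/
theorem center_Omega_odd (h2 : (2 : F) ≠ 0) (Q : QuadraticForm F (ι → F))
    (hQ : (polarBilin Q).Nondegenerate) (hn : 4 ≤ Fintype.card ι)
    (z : ↥(Cfsg.Omega F ⇑Q)) (hz : z ∈ Subgroup.center ↥(Cfsg.Omega F ⇑Q)) :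
    z.1 = 1 ∨ z.1 = negOne Q := by
  rw [Subgroup.mem_center_iff] at hz
  apply eq_one_or_negOne_of_comm h2 Q hQ hn z.1
  intro a b ha hb hab
  have := hz ⟨_, refl_mul_refl_mem_Omega h2 Q hQ (by omega) a b ha hb hab⟩
  exact congrArg Subtype.val this

theorem negOne_ne_one (h2 : (2 : F) ≠ 0) (Q : QuadraticForm F (ι → F))
    (hn : 1 ≤ Fintype.card ι) : negOne Q ≠ 1 := by
  intro h
  have hne : Nonempty ι := by
    rw [← Fintype.card_pos_iff]; omega
  obtain ⟨i⟩ := hne
  have h1 : act (negOne Q) (Pi.single i (1 : F)) = act (1 : ↥(Cfsg.isometryGroup F ⇑Q))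
      (Pi.single i (1 : F)) := by rw [h]
  rw [act_negOne, act_one] at h1
  have h3 := congrFun h1 i
  rw [Pi.neg_apply, Pi.single_eq_same] at h3
  apply h2
  linear_combination -h3

theorem negOne_comm (Q : QuadraticForm F (ι → F)) (g : ↥(Cfsg.isometryGroup F ⇑Q)) :
    g * negOne Q = negOne Q * g := by
  apply ext_act
  intro x
  rw [act_mul, act_mul, act_negOne, act_negOne, act_neg]

theorem eight_mul_card_POmega_odd (h2 : (2 : F) ≠ 0) (Q : QuadraticForm F (ι → F))
    (hQ : (polarBilin Q).Nondegenerate) (hn : 4 ≤ Fintype.card ι)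
    (hneg : negOne Q ∈ Cfsg.Omega F ⇑Q) :
    8 * Nat.card (Cfsg.POmega F ⇑Q) = Nat.card ↥(Cfsg.isometryGroup F ⇑Q) := by
  have hc : Nat.card ↥(Subgroup.center ↥(Cfsg.Omega F ⇑Q)) = 2 := by
    rw [Nat.card_eq_two_iff]
    have hmem : (⟨negOne Q, hneg⟩ : ↥(Cfsg.Omega F ⇑Q)) ∈ Subgroup.center ↥(Cfsg.Omega F ⇑Q) := by
      rw [Subgroup.mem_center_iff]
      intro g
      apply Subtype.ext
      exact negOne_comm Q g.1
    refine ⟨1, ⟨⟨negOne Q, hneg⟩, hmem⟩, ?_, ?_⟩
    · intro h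
      have h1 := congrArg (fun z : ↥(Subgroup.center ↥(Cfsg.Omega F ⇑Q)) => z.1.1) h
      exact negOne_ne_one h2 Q (by omega) h1.symm
    · ext z
      simp only [Set.mem_insert_iff, Set.mem_singleton_iff, Set.mem_univ, iff_true]
      rcases center_Omega_odd h2 Q hQ hn z.1 z.2 with h | h
      · left
        apply Subtype.ext
        apply Subtype.ext
        exact h
      · right
        apply Subtype.ext
        apply Subtype.ext
        exact h
  have hq := Subgroup.card_eq_card_quotient_mul_card_subgroup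
    (Subgroup.center ↥(Cfsg.Omega F ⇑Q))
  rw [hc] at hq
  have hidx := (Omega_structure h2 Q hQ (by omega)).1
  have hmul := Subgroup.card_mul_index (Cfsg.Omega F ⇑Q)
  rw [hidx, hq] at hmul
  rw [← hmul]
  ring

theorem four_mul_card_POmega_odd (h2 : (2 : F) ≠ 0) (Q : QuadraticForm F (ι → F))
    (hQ : (polarBilin Q).Nondegenerate) (hn : 4 ≤ Fintype.card ι)
    (hneg : negOne Q ∉ Cfsg.Omega F ⇑Q) :
    4 * Nat.card (Cfsg.POmega F ⇑Q) = Nat.card ↥(Cfsg.isometryGroup F ⇑Q) := by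
  have hc : Nat.card ↥(Subgroup.center ↥(Cfsg.Omega F ⇑Q)) = 1 := by
    have : Subgroup.center ↥(Cfsg.Omega F ⇑Q) = ⊥ := by
      rw [eq_bot_iff]
      intro z hz
      rw [Subgroup.mem_bot]
      rcases center_Omega_odd h2 Q hQ hn z hz with h | h
      · exact Subtype.ext h
      · exfalso
        apply hneg
        rw [← h]
        exact z.2
    rw [this]
    exact Subgroup.card_bot
  have hq := Subgroup.card_eq_card_quotient_mul_card_subgroup
    (Subgroup.center ↥(Cfsg.Omega F ⇑Q))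
  rw [hc, mul_one] at hq
  have hidx := (Omega_structure h2 Q hQ (by omega)).1
  have hmul := Subgroup.card_mul_index (Cfsg.Omega F ⇑Q)
  rw [hidx, hq] at hmul
  rw [← hmul]
  ring

end Cfsg.Agent.Lib.Helper19.OrthRefl
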