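-- The commutator subgroup of a group generated by a conjugation-invariant set of involutions is
-- contained in the subgroup generated by the squares `(r s)^2`; determinants of isometries.
import Mathlib
import Cfsg.Prelude.Def_Classical
import Cfsg.Prelude.Def_ClassicalGeometry
import Cfsg.Agent.Lib.Helper19.OrthRefl
import Cfsg.Agent.Lib.Helper19.OrthSpinor
import Cfsg.Agent.Lib.Helper19.OrthCD2e

set_option autoImplicit false

namespace Cfsg.Agent.Lib.Helper19.OrthRefl

open Matrix QuadraticMap Module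

/-- The squares `(r s)^2`. -/
def sqSet {G : Type*} [Group G] (R : Set G) : Set G :=
  {x | ∃ r ∈ R, ∃ s ∈ R, x = (r * s) * (r * s)}

theorem commutator_le_closure_squares {G : Type*} [Group G] (R : Set G)
    (hR : Subgroup.closure R = ⊤) (hinv : ∀ r ∈ R, r * r = 1)
    (hconj : ∀ g : G, ∀ r ∈ R, g * r * g⁻¹ ∈ R) :
    commutator G ≤ Subgroup.closure (sqSet R) := by
  set N := Subgroup.closure (sqSet R) with hN
  have hnormal : N.Normal := by
    constructor
    intro n hn g
    induction hn using Subgroup.closure_induction with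
    | mem x hx =>
      obtain ⟨r, hr, s, hs, rfl⟩ := hx
      apply Subgroup.subset_closure
      refine ⟨g * r * g⁻¹, hconj g r hr, g * s * g⁻¹, hconj g s hs, ?_⟩
      group
    | one => simp
    | mul a b _ _ ha hb =>
      have : g * (a * b) * g⁻¹ = (g * a * g⁻¹) * (g * b * g⁻¹) := by group
      rw [this]
      exact Subgroup.mul_mem _ ha hb
    | inv a _ ha =>
      have : g * a⁻¹ * g⁻¹ = (g * a * g⁻¹)⁻¹ := by group
      rw [this]
      exact Subgroup.inv_mem _ ha
  set π : G →* G ⧸ N := QuotientGroup.mk' N with hπ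
  have hπinv : ∀ r ∈ R, π r * π r = 1 := by
    intro r hr
    rw [← map_mul, hinv r hr, map_one]
  have hcomm : ∀ r ∈ R, ∀ s ∈ R, Commute (π r) (π s) := by
    intro r hr s hs
    have h1 : π ((r * s) * (r * s)) = 1 := by
      rw [hπ, QuotientGroup.mk'_apply, QuotientGroup.eq_one_iff]
      exact Subgroup.subset_closure ⟨r, hr, s, hs, rfl⟩
    rw [map_mul, map_mul] at h1
    show π r * π s = π s * π r
    have h3 : π r * π s = (π r * π s)⁻¹ := eq_inv_of_mul_eq_one_left h1
    rw [h3, _root_.mul_inv_rev, inv_eq_of_mul_eq_one_left (hπinv r hr),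
      inv_eq_of_mul_eq_one_left (hπinv s hs)]
  have hall : ∀ a b : G, Commute (π a) (π b) := by
    intro a b
    have ha : a ∈ Subgroup.closure R := by rw [hR]; trivial
    have hb : b ∈ Subgroup.closure R := by rw [hR]; trivial
    induction ha, hb using Subgroup.closure_induction₂ with
    | mem x y hx hy => exact hcomm x hx y hy
    | one_left x _ => rw [map_one]; exact Commute.one_left _
    | one_right x _ => rw [map_one]; exact Commute.one_right _
    | mul_left x y z _ _ _ h1 h3 => rw [map_mul]; exact Commute.mul_left h1 h3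
    | mul_right y z x _ _ _ h1 h3 => rw [map_mul]; exact Commute.mul_right h1 h3
    | inv_left x y _ _ h => rw [map_inv]; exact Commute.inv_left h
    | inv_right x y _ _ h => rw [map_inv]; exact Commute.inv_right h
  rw [commutator_def, Subgroup.commutator_le]
  intro a _ b _
  rw [← QuotientGroup.eq_one_iff, ← QuotientGroup.mk'_apply, ← hπ, commutatorElement_def, map_mul,
    map_mul, map_mul, map_inv, map_inv, (hall a b).eq, mul_assoc, mul_assoc, mul_inv_cancel_left,
    mul_inv_cancel]

variable {ι : Type} [Fintype ι] [DecidableEq ι] {F : Type*} [Field F]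

/-- The determinant of an isometry squares to one. -/
theorem detHom_mul_self (Q : QuadraticForm F (ι → F))
    (hgen : Subgroup.closure (Rset Q) = ⊤) (g : ↥(Cfsg.isometryGroup F ⇑Q)) :
    detHom (⇑Q) g * detHom (⇑Q) g = 1 := by
  have hd2 : detHom (⇑Q) * detHom (⇑Q) = 1 := by
    apply MonoidHom.eq_of_eqOn_dense hgen
    rintro _ ⟨v, hv, rfl⟩
    rw [MonoidHom.mul_apply, detHom_refl, MonoidHom.one_apply]
    simp
  exact congrArg (fun φ : ↥(Cfsg.isometryGroup F ⇑Q) →* Fˣ => φ g) hd2

theorem detHom_eq_one_or (Q : QuadraticForm F (ι → F))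
    (hgen : Subgroup.closure (Rset Q) = ⊤) (g : ↥(Cfsg.isometryGroup F ⇑Q)) :
    detHom (⇑Q) g = 1 ∨ detHom (⇑Q) g = -1 := by
  have h := detHom_mul_self Q hgen g
  have h' := congrArg Units.val h
  rw [Units.val_mul, Units.val_one] at h'
  have : ((detHom (⇑Q) g : Fˣ) : F) = 1 ∨ ((detHom (⇑Q) g : Fˣ) : F) = -1 :=
    mul_self_eq_one_iff.1 h'
  rcases this with h1 | h1
  · left; exact Units.ext h1
  · right; apply Units.ext; rw [h1]; simp

/-- The squares `(r s)^2` of products of two reflections lie in every subgroup of index two of the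
special orthogonal group. -/
theorem Omega_le_of_index_two (Q : QuadraticForm F (ι → F))
    (hgen : Subgroup.closure (Rset Q) = ⊤)
    (H : Subgroup ↥(Cfsg.specialIsometryGroup F ⇑Q)) (hH : H.index = 2) :
    (Cfsg.Omega F ⇑Q).subgroupOf (Cfsg.specialIsometryGroup F ⇑Q) ≤ H := by
  have hle := commutator_le_closure_squares (Rset Q) hgen
    (by rintro _ ⟨v, hv, rfl⟩; exact refl_mul_self Q v hv)
    (by
      rintro g _ ⟨v, hv, rfl⟩
      have hgv : Q (act g v) ≠ 0 := by rw [Q_act g v]; exact hv
      rw [conj_refl Q v hv g hgv]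
      exact ⟨_, hgv, rfl⟩)
  have key : ∀ y ∈ Subgroup.closure (sqSet (Rset Q)),
      ∃ hy : y ∈ Cfsg.specialIsometryGroup F ⇑Q, (⟨y, hy⟩ : ↥(Cfsg.specialIsometryGroup F ⇑Q)) ∈ H := by
    intro y hy
    induction hy using Subgroup.closure_induction with
    | mem x hx =>
      obtain ⟨r, ⟨v, hv, rfl⟩, s, ⟨w, hw, rfl⟩, rfl⟩ := hx
      have hrs : refl Q v hv * refl Q w hw ∈ Cfsg.specialIsometryGroup F ⇑Q := by
        rw [← detHom_ker, MonoidHom.mem_ker, map_mul, detHom_refl, detHom_refl]
        simp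
      refine ⟨Subgroup.mul_mem _ hrs hrs, ?_⟩
      have := Subgroup.mul_self_mem_of_index_two hH
        (⟨refl Q v hv * refl Q w hw, hrs⟩ : ↥(Cfsg.specialIsometryGroup F ⇑Q))
      exact this
    | one => exact ⟨Subgroup.one_mem _, Subgroup.one_mem _⟩
    | mul a b _ _ ha hb =>
      obtain ⟨ha1, ha2⟩ := ha
      obtain ⟨hb1, hb2⟩ := hb
      exact ⟨Subgroup.mul_mem _ ha1 hb1, Subgroup.mul_mem _ ha2 hb2⟩
    | inv a _ ha =>
      obtain ⟨ha1, ha2⟩ := ha
      exact ⟨Subgroup.inv_mem _ ha1, Subgroup.inv_mem _ ha2⟩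
  intro x hx
  rw [Subgroup.mem_subgroupOf] at hx
  obtain ⟨_, h⟩ := key x.1 (hle hx)
  exact h

end Cfsg.Agent.Lib.Helper19.OrthRefl
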