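-- Witt's lemma for quadratic forms with non-degenerate polar form, over any field.
import Mathlib
import Cfsg.Agent.Lib.Helper19.NondegSub

set_option autoImplicit false

namespace Cfsg.Agent.Lib.Helper19.WittQuad

open QuadraticMap Module Cfsg.Agent.Lib.Helper19.Parity

variable {F V : Type*} [Field F] [AddCommGroup V] [Module F V] (Q : QuadraticForm F V)

theorem Q_add_two (v p u : V) (a b : F) :
    Q (v + a • p + b • u) = Q v + a * a * Q p + b * b * Q u + a * b * polar (⇑Q) p u
      + a * polar (⇑Q) v p + b * polar (⇑Q) v u := by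
  have h1 : Q (v + a • p + b • u) = Q (v + a • p) + Q (b • u) + polar (⇑Q) (v + a • p) (b • u) :=
    QuadraticMap.map_add (⇑Q) (v + a • p) (b • u)
  have h3 : Q (v + a • p) = Q v + Q (a • p) + polar (⇑Q) v (a • p) :=
    QuadraticMap.map_add (⇑Q) v (a • p)
  rw [h1, h3, QuadraticMap.map_smul, QuadraticMap.map_smul, QuadraticMap.polar_smul_right,
    QuadraticMap.polar_smul_right, QuadraticMap.polar_add_left, QuadraticMap.polar_smul_left]
  simp only [smul_eq_mul]
  ring

theorem polar_of_isometry (g : V →ₗ[F] V) (hg : ∀ v, Q (g v) = Q v) (v w : V) :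
    polar (⇑Q) (g v) (g w) = polar (⇑Q) v w := by
  unfold QuadraticMap.polar
  rw [← map_add, hg, hg, hg]

theorem injective_of_isometry (hQ : (polarBilin Q).Nondegenerate) (g : V →ₗ[F] V)
    (hg : ∀ v, Q (g v) = Q v) : Function.Injective g := by
  rw [injective_iff_map_eq_zero]
  intro v hv
  apply hQ.1 v
  intro w
  show polar (⇑Q) v w = 0
  rw [← polar_of_isometry Q g hg, hv, QuadraticMap.polar_zero_left]

/-- The reflection in `u`, as a linear map. -/
noncomputable def reflMap (u : V) : V →ₗ[F] V :=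
  LinearMap.id - (Q u)⁻¹ • (polarBilin Q u).smulRight u

theorem reflMap_apply (u v : V) :
    reflMap Q u v = v - (Q u)⁻¹ • (polar (⇑Q) u v • u) := rfl

theorem Q_add_smul (v u : V) (a : F) :
    Q (v + a • u) = Q v + a * a * Q u + a * polar (⇑Q) v u := by
  have h1 : Q (v + a • u) = Q v + Q (a • u) + polar (⇑Q) v (a • u) :=
    QuadraticMap.map_add (⇑Q) v (a • u)
  rw [h1, QuadraticMap.map_smul, QuadraticMap.polar_smul_right]
  simp only [smul_eq_mul]

theorem Q_reflMap (u : V) (hu : Q u ≠ 0) (v : V) : Q (reflMap Q u v) = Q v := by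
  rw [reflMap_apply, smul_smul, sub_eq_add_neg, ← neg_smul, Q_add_smul,
    QuadraticMap.polar_comm (⇑Q) v u]
  field_simp
  ring

/-- The Siegel transformation attached to a singular `p` and `u ⊥ p`. -/
noncomputable def siegelMap (p u : V) : V →ₗ[F] V :=
  LinearMap.id + (polarBilin Q u).smulRight p - (polarBilin Q p).smulRight u
    - Q u • (polarBilin Q p).smulRight p

theorem siegelMap_apply (p u v : V) :
    siegelMap Q p u v = v + polar (⇑Q) u v • p - polar (⇑Q) p v • u
      - Q u • (polar (⇑Q) p v • p) := rfl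

theorem Q_siegelMap (p u : V) (hp : Q p = 0) (hpu : polar (⇑Q) p u = 0) (v : V) :
    Q (siegelMap Q p u v) = Q v := by
  have e : siegelMap Q p u v
      = v + (polar (⇑Q) u v - Q u * polar (⇑Q) p v) • p + (-polar (⇑Q) p v) • u := by
    rw [siegelMap_apply, sub_smul, neg_smul, mul_smul]
    abel
  rw [e, Q_add_two, hp, hpu, QuadraticMap.polar_comm (⇑Q) v p, QuadraticMap.polar_comm (⇑Q) v u]
  ring

/-- Scaling a hyperbolic pair `(p, p')` by `(l, l⁻¹)`. -/
noncomputable def hypMap (p p' : V) (l : F) : V →ₗ[F] V :=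
  LinearMap.id + (l - 1) • (polarBilin Q p').smulRight p + (l⁻¹ - 1) • (polarBilin Q p).smulRight p'

theorem hypMap_apply (p p' : V) (l : F) (v : V) :
    hypMap Q p p' l v = v + (l - 1) • (polar (⇑Q) p' v • p) + (l⁻¹ - 1) • (polar (⇑Q) p v • p') :=
  rfl

theorem Q_hypMap (p p' : V) (l : F) (hl : l ≠ 0) (hp : Q p = 0) (hp' : Q p' = 0)
    (hpp' : polar (⇑Q) p p' = 1) (v : V) : Q (hypMap Q p p' l v) = Q v := by
  rw [hypMap_apply, smul_smul, smul_smul, Q_add_two, hp, hp', hpp',
    QuadraticMap.polar_comm (⇑Q) v p, QuadraticMap.polar_comm (⇑Q) v p']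
  field_simp
  ring

variable [FiniteDimensional F V]

/-- Moving `x` to `y` by an isometry fixing `H` pointwise. -/
theorem exists_fix_map (hQ : (polarBilin Q).Nondegenerate) (H : Submodule F V) (x y : V)
    (hx : x ∉ H) (hy : y ∉ H) (hxy : Q x = Q y)
    (hperp : ∀ h ∈ H, polar (⇑Q) (y - x) h = 0) :
    ∃ g : V ≃ₗ[F] V, (∀ v, Q (g v) = Q v) ∧ (∀ h ∈ H, g h = h) ∧ g x = y := by
  set p := y - x with hp
  have hyp : y = x + p := by rw [hp]; abel
  have hQp : Q p + polar (⇑Q) x p = 0 := by
    have h1 : Q (x + p) = Q x + Q p + polar (⇑Q) x p := QuadraticMap.map_add (⇑Q) x p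
    rw [← hyp, ← hxy] at h1
    linear_combination -h1
  by_cases hQp0 : Q p ≠ 0
  · -- a reflection
    refine ⟨LinearEquiv.ofInjectiveEndo (reflMap Q p)
      (injective_of_isometry Q hQ _ (Q_reflMap Q p hQp0)), ?_, ?_, ?_⟩
    · intro v
      rw [LinearEquiv.coe_ofInjectiveEndo]
      exact Q_reflMap Q p hQp0 v
    · intro h hh
      rw [LinearEquiv.coe_ofInjectiveEndo, reflMap_apply, hperp h hh, zero_smul, smul_zero,
        sub_zero]
    · rw [LinearEquiv.coe_ofInjectiveEndo, reflMap_apply, QuadraticMap.polar_comm (⇑Q) p x,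
        smul_smul, hyp]
      have : (Q p)⁻¹ * polar (⇑Q) x p = -1 := by
        have : polar (⇑Q) x p = -Q p := by linear_combination hQp
        rw [this]
        field_simp
      rw [this, neg_one_smul, sub_neg_eq_add]
  push Not at hQp0
  have hxp : polar (⇑Q) x p = 0 := by rw [hQp0, zero_add] at hQp; exact hQp
  by_cases hp0 : p = 0
  · refine ⟨LinearEquiv.refl F V, fun v => rfl, fun h _ => rfl, ?_⟩
    rw [hyp, hp0, add_zero]
    rfl
  have hpH : ∀ h ∈ H, polar (⇑Q) h p = 0 := by
    intro h hh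
    rw [QuadraticMap.polar_comm]
    exact hperp h hh
  by_cases hxm : x ∈ H ⊔ Submodule.span F {p}
  · -- scaling a hyperbolic pair
    obtain ⟨h₀, hh₀, z, hz, hxz⟩ := Submodule.mem_sup.1 hxm
    obtain ⟨c, rfl⟩ := Submodule.mem_span_singleton.1 hz
    have hc0 : c ≠ 0 := by
      intro h
      apply hx
      rw [← hxz, h, zero_smul, add_zero]
      exact hh₀
    have hc1 : c + 1 ≠ 0 := by
      intro h
      apply hy
      have e : h₀ + c • p + p = h₀ + (c + 1) • p := by rw [add_smul, one_smul, add_assoc]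
      rw [hyp, ← hxz, e, h, zero_smul, add_zero]
      exact hh₀
    have hpnH : p ∉ H := by
      intro h
      apply hx
      rw [← hxz]
      exact H.add_mem hh₀ (H.smul_mem c h)
    obtain ⟨w, hwH, hpw⟩ : ∃ w ∈ orth Q H, polar (⇑Q) p w ≠ 0 := by
      by_contra hcon
      push Not at hcon
      apply hpnH
      rw [← orth_orth hQ H, mem_orth]
      intro w hw
      rw [QuadraticMap.polar_comm]
      exact hcon w hw
    obtain ⟨w', hw'⟩ : ∃ w' : V, w' = (polar (⇑Q) p w)⁻¹ • w := ⟨_, rfl⟩
    have hpw' : polar (⇑Q) p w' = 1 := by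
      rw [hw', QuadraticMap.polar_smul_right, smul_eq_mul, inv_mul_cancel₀ hpw]
    have hw'H : ∀ h ∈ H, polar (⇑Q) h w' = 0 := by
      intro h hh
      rw [hw', QuadraticMap.polar_smul_right, mem_orth.1 hwH h hh, smul_zero]
    obtain ⟨p', hp'⟩ : ∃ p' : V, p' = w' - Q w' • p := ⟨_, rfl⟩
    have hpp : polar (⇑Q) p p = 0 := by
      rw [QuadraticMap.polar_self, hQp0, smul_zero]
    have hQp' : Q p' = 0 := by
      rw [hp', sub_eq_add_neg, ← neg_smul, Q_add_smul, hQp0, QuadraticMap.polar_comm (⇑Q) w' p,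
        hpw']
      ring
    have hpp' : polar (⇑Q) p p' = 1 := by
      rw [hp', QuadraticMap.polar_sub_right, QuadraticMap.polar_smul_right, hpp, smul_zero,
        sub_zero, hpw']
    have hp'H : ∀ h ∈ H, polar (⇑Q) p' h = 0 := by
      intro h hh
      rw [QuadraticMap.polar_comm, hp', QuadraticMap.polar_sub_right,
        QuadraticMap.polar_smul_right, hw'H h hh, hpH h hh, smul_zero, sub_zero]
    obtain ⟨l, hl⟩ : ∃ l : F, l = (c + 1) / c := ⟨_, rfl⟩
    have hl0 : l ≠ 0 := by rw [hl]; exact div_ne_zero hc1 hc0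
    refine ⟨LinearEquiv.ofInjectiveEndo (hypMap Q p p' l)
      (injective_of_isometry Q hQ _ (Q_hypMap Q p p' l hl0 hQp0 hQp' hpp')), ?_, ?_, ?_⟩
    · intro v
      rw [LinearEquiv.coe_ofInjectiveEndo]
      exact Q_hypMap Q p p' l hl0 hQp0 hQp' hpp' v
    · intro h hh
      rw [LinearEquiv.coe_ofInjectiveEndo, hypMap_apply, hp'H h hh,
        QuadraticMap.polar_comm (⇑Q) p h, hpH h hh, zero_smul, zero_smul, smul_zero, smul_zero,
        add_zero, add_zero]
    · rw [LinearEquiv.coe_ofInjectiveEndo, hyp, ← hxz, map_add, map_smul]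
      have e1 : hypMap Q p p' l h₀ = h₀ := by
        rw [hypMap_apply, hp'H h₀ hh₀, QuadraticMap.polar_comm (⇑Q) p h₀, hpH h₀ hh₀, zero_smul,
          zero_smul, smul_zero, smul_zero, add_zero, add_zero]
      have e2 : hypMap Q p p' l p = l • p := by
        rw [hypMap_apply, hpp, QuadraticMap.polar_comm (⇑Q) p' p, hpp', zero_smul, smul_zero,
          add_zero, one_smul, sub_smul, one_smul]
        abel
      rw [e1, e2, smul_smul, add_assoc]
      congr 1
      have e3 : c • p + p = (c + 1) • p := by rw [add_smul, one_smul]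
      rw [e3]
      congr 1
      rw [hl]
      field_simp
  · -- a Siegel transformation
    obtain ⟨u, huH, hxu⟩ : ∃ u ∈ orth Q (H ⊔ Submodule.span F {p}), polar (⇑Q) x u ≠ 0 := by
      by_contra hcon
      push Not at hcon
      apply hxm
      rw [← orth_orth hQ (H ⊔ Submodule.span F {p}), mem_orth]
      intro w hw
      rw [QuadraticMap.polar_comm]
      exact hcon w hw
    obtain ⟨u', hu'⟩ : ∃ u' : V, u' = (polar (⇑Q) x u)⁻¹ • u := ⟨_, rfl⟩
    have hxu' : polar (⇑Q) u' x = 1 := by
      rw [QuadraticMap.polar_comm, hu', QuadraticMap.polar_smul_right, smul_eq_mul,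
        inv_mul_cancel₀ hxu]
    have hu'H : ∀ h ∈ H, polar (⇑Q) u' h = 0 := by
      intro h hh
      rw [QuadraticMap.polar_comm, hu', QuadraticMap.polar_smul_right,
        mem_orth.1 huH h (Submodule.mem_sup_left hh), smul_zero]
    have hpu' : polar (⇑Q) p u' = 0 := by
      rw [hu', QuadraticMap.polar_smul_right,
        mem_orth.1 huH p (Submodule.mem_sup_right (Submodule.mem_span_singleton_self p)),
        smul_zero]
    refine ⟨LinearEquiv.ofInjectiveEndo (siegelMap Q p u')
      (injective_of_isometry Q hQ _ (Q_siegelMap Q p u' hQp0 hpu')), ?_, ?_, ?_⟩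
    · intro v
      rw [LinearEquiv.coe_ofInjectiveEndo]
      exact Q_siegelMap Q p u' hQp0 hpu' v
    · intro h hh
      rw [LinearEquiv.coe_ofInjectiveEndo, siegelMap_apply, hu'H h hh,
        QuadraticMap.polar_comm (⇑Q) p h, hpH h hh, zero_smul, zero_smul, smul_zero, add_zero,
        sub_zero, sub_zero]
    · rw [LinearEquiv.coe_ofInjectiveEndo, siegelMap_apply, hxu',
        QuadraticMap.polar_comm (⇑Q) p x, hxp, zero_smul, zero_smul, smul_zero, one_smul,
        sub_zero, sub_zero, hyp]

theorem main (hQ : (polarBilin Q).Nondegenerate) (s : Finset V) :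
    ∀ f : V →ₗ[F] V,
      (∀ x ∈ Submodule.span F (s : Set V), Q (f x) = Q x) →
      (∀ x ∈ Submodule.span F (s : Set V), f x = 0 → x = 0) →
      ∃ g : V ≃ₗ[F] V, (∀ v, Q (g v) = Q v) ∧
        ∀ x ∈ Submodule.span F (s : Set V), g x = f x := by
  classical
  induction s using Finset.induction_on with
  | empty =>
    intro f _ _
    refine ⟨LinearEquiv.refl F V, fun v => rfl, ?_⟩
    intro x hx
    rw [Finset.coe_empty, Submodule.span_empty, Submodule.mem_bot] at hx
    rw [hx, map_zero, map_zero]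
  | insert a s _ ih =>
    intro f hf hinj
    set H := Submodule.span F (s : Set V) with hH
    have hle : H ≤ Submodule.span F ((insert a s : Finset V) : Set V) := by
      apply Submodule.span_mono
      rw [Finset.coe_insert]
      exact Set.subset_insert _ _
    have haX : a ∈ Submodule.span F ((insert a s : Finset V) : Set V) := by
      apply Submodule.subset_span
      rw [Finset.coe_insert]
      exact Set.mem_insert _ _
    obtain ⟨g₁, hg₁, hg₁H⟩ := ih f (fun x hx => hf x (hle hx)) (fun x hx => hinj x (hle hx))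
    have hdecomp : ∀ x ∈ Submodule.span F ((insert a s : Finset V) : Set V),
        ∃ c : F, ∃ h ∈ H, x = c • a + h := by
      intro x hx
      rw [Finset.coe_insert, Submodule.mem_span_insert] at hx
      exact hx
    by_cases haH : a ∈ H
    · refine ⟨g₁, hg₁, ?_⟩
      intro x hx
      obtain ⟨c, h, hh, rfl⟩ := hdecomp x hx
      exact hg₁H _ (H.add_mem (H.smul_mem c haH) hh)
    · set y := g₁.symm (f a) with hy
      have hg₁y : g₁ y = f a := by rw [hy, LinearEquiv.apply_symm_apply]
      have hyH : y ∉ H := by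
        intro hyH
        have h1 : f y = f a := by rw [← hg₁H y hyH, hg₁y]
        have h2 : f (y - a) = 0 := by rw [map_sub, h1, sub_self]
        have h3 := hinj (y - a) (Submodule.sub_mem _ (hle hyH) haX) h2
        apply haH
        rw [← sub_eq_zero.mp h3]
        exact hyH
      have hfpolar : ∀ h ∈ H, polar (⇑Q) (f a) (f h) = polar (⇑Q) a h := by
        intro h hh
        unfold QuadraticMap.polar
        rw [← map_add, hf _ (Submodule.add_mem _ haX (hle hh)), hf a haX, hf h (hle hh)]
      have hperp : ∀ h ∈ H, polar (⇑Q) (y - a) h = 0 := by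
        intro h hh
        rw [QuadraticMap.polar_sub_left, sub_eq_zero,
          ← polar_of_isometry Q g₁.toLinearMap hg₁ y h]
        show polar (⇑Q) (g₁ y) (g₁ h) = _
        rw [hg₁y, hg₁H h hh]
        exact hfpolar h hh
      have hxy : Q a = Q y := by
        rw [← hg₁ y, hg₁y]
        exact (hf a haX).symm
      obtain ⟨g₂, hg₂, hg₂H, hg₂a⟩ := exists_fix_map Q hQ H a y haH hyH hxy hperp
      refine ⟨g₂.trans g₁, fun v => ?_, ?_⟩
      · rw [LinearEquiv.trans_apply, hg₁, hg₂]
      · intro x hx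
        obtain ⟨c, h, hh, rfl⟩ := hdecomp x hx
        rw [LinearEquiv.trans_apply, map_add, map_smul, hg₂a, hg₂H h hh, map_add, map_smul,
          hg₁y, hg₁H h hh, map_add, map_smul]

/-- Witt's lemma. -/
theorem witt_extend (hQ : (polarBilin Q).Nondegenerate) (X Y : Submodule F V) (φ : X ≃ₗ[F] Y)
    (hφ : ∀ x : X, Q (φ x : V) = Q (x : V)) :
    ∃ g : V ≃ₗ[F] V, (∀ v : V, Q (g v) = Q v) ∧ ∀ x : X, g (x : V) = (φ x : V) := by
  obtain ⟨f, hf⟩ := LinearMap.exists_extend (Y.subtype.comp φ.toLinearMap)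
  have hfx : ∀ x : X, f (x : V) = (φ x : V) := by
    intro x
    have := LinearMap.congr_fun hf x
    exact this
  obtain ⟨s, hs⟩ := (IsNoetherian.noetherian X : X.FG)
  obtain ⟨g, hg, hgX⟩ := main Q hQ s f
    (by
      intro x hx
      rw [hs] at hx
      have h1 := hfx ⟨x, hx⟩
      simp only at h1
      rw [h1]
      exact hφ ⟨x, hx⟩)
    (by
      intro x hx h0
      rw [hs] at hx
      have h1 := hfx ⟨x, hx⟩
      simp only at h1
      rw [h0] at h1
      have h2 : φ ⟨x, hx⟩ = 0 := Subtype.ext h1.symm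
      have h3 : (⟨x, hx⟩ : X) = 0 := φ.map_eq_zero_iff.mp h2
      exact congrArg Subtype.val h3)
  refine ⟨g, hg, ?_⟩
  intro x
  rw [hgX x.1 (by rw [hs]; exact x.2)]
  exact hfx x

end Cfsg.Agent.Lib.Helper19.WittQuad
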