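-- Witt's lemma for the matrix isometry group, and adjusting an isometry into `Ω` by elements of
-- a stabiliser.
import Mathlib
import Cfsg.Prelude.Def_Classical
import Cfsg.Prelude.Def_ClassicalGeometry
import Cfsg.Agent.Lib.Helper19.OrthRefl
import Cfsg.Agent.Lib.Helper19.OrthSpinor
import Cfsg.Agent.Lib.Helper19.OrthSquares
import Cfsg.Agent.Lib.Helper19.OrthOmega2
import Cfsg.Agent.Lib.Helper19.WittQuad
import Cfsg.Agent.Lib.Helper19.OrthParity

set_option autoImplicit false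

namespace Cfsg.Agent.Lib.Helper19.OrthRefl

open Matrix QuadraticMap Module Cfsg.Agent.Lib.Helper19.Parity

variable {ι : Type} [Fintype ι] [DecidableEq ι] {F : Type*} [Field F]

/-- The isometry with a given action. -/
noncomputable def ofEquiv (Q : (ι → F) → F) (e : (ι → F) ≃ₗ[F] (ι → F))
    (he : ∀ v, Q (e v) = Q v) : ↥(Cfsg.isometryGroup F Q) :=
  ⟨⟨LinearMap.toMatrix' e.toLinearMap, LinearMap.toMatrix' e.symm.toLinearMap, by
      rw [← LinearMap.toMatrix'_comp]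
      have : e.toLinearMap.comp e.symm.toLinearMap = LinearMap.id := by
        apply LinearMap.ext; intro x; simp
      rw [this, LinearMap.toMatrix'_id], by
      rw [← LinearMap.toMatrix'_comp]
      have : e.symm.toLinearMap.comp e.toLinearMap = LinearMap.id := by
        apply LinearMap.ext; intro x; simp
      rw [this, LinearMap.toMatrix'_id]⟩, by
    rw [mem_iso]
    intro u
    show Q ((LinearMap.toMatrix' e.toLinearMap) *ᵥ u) = Q u
    rw [← Matrix.toLin'_apply, Matrix.toLin'_toMatrix']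
    exact he u⟩

theorem act_ofEquiv (Q : (ι → F) → F) (e : (ι → F) ≃ₗ[F] (ι → F))
    (he : ∀ v, Q (e v) = Q v) (x : ι → F) : act (ofEquiv Q e he) x = e x := by
  show (LinearMap.toMatrix' e.toLinearMap) *ᵥ x = e x
  rw [← Matrix.toLin'_apply, Matrix.toLin'_toMatrix']
  rfl

theorem mem_map_act {Q : (ι → F) → F} (g : ↥(Cfsg.isometryGroup F Q)) (U : Submodule F (ι → F))
    (y : ι → F) :
    y ∈ U.map (Matrix.mulVecLin ((g : Matrix.GeneralLinearGroup ι F) : Matrix ι ι F)) ↔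
      ∃ u ∈ U, act g u = y := by
  rw [Submodule.mem_map]
  rfl

/-- Witt's lemma: an isometry between subspaces is induced by an element of the isometry group. -/
theorem exists_isometry_map (Q : QuadraticForm F (ι → F)) (hQ : (polarBilin Q).Nondegenerate)
    (U W : Submodule F (ι → F)) (φ : U ≃ₗ[F] W) (hφ : ∀ u : U, Q (φ u : ι → F) = Q (u : ι → F)) :
    ∃ g : ↥(Cfsg.isometryGroup F ⇑Q), (∀ u : U, act g (u : ι → F) = (φ u : ι → F)) ∧
      U.map (Matrix.mulVecLin ((g : Matrix.GeneralLinearGroup ι F) : Matrix ι ι F)) = W := by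
  obtain ⟨e, he, heφ⟩ := Cfsg.Agent.Lib.Helper19.WittQuad.witt_extend Q hQ U W φ hφ
  refine ⟨ofEquiv (⇑Q) e he, ?_, ?_⟩
  · intro u
    rw [act_ofEquiv, heφ]
  · ext y
    rw [mem_map_act]
    constructor
    · rintro ⟨u, hu, rfl⟩
      rw [act_ofEquiv, heφ ⟨u, hu⟩]
      exact (φ ⟨u, hu⟩).2
    · intro hy
      refine ⟨(φ.symm ⟨y, hy⟩ : ι → F), (φ.symm ⟨y, hy⟩).2, ?_⟩
      rw [act_ofEquiv, heφ, LinearEquiv.apply_symm_apply]

/-- An isometry mapping `W` into itself maps it onto itself. -/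
theorem map_eq_of_act_mem {Q : (ι → F) → F} (s : ↥(Cfsg.isometryGroup F Q))
    (W : Submodule F (ι → F)) (h : ∀ w ∈ W, act s w ∈ W) :
    W.map (Matrix.mulVecLin ((s : Matrix.GeneralLinearGroup ι F) : Matrix ι ι F)) = W := by
  apply Submodule.eq_of_le_of_finrank_eq
  · intro y hy
    obtain ⟨w, hw, rfl⟩ := (mem_map_act s W y).1 hy
    exact h w hw
  · rw [← actEquiv_coe]
    exact LinearEquiv.finrank_map_eq (actEquiv Q s) W

theorem map_mul_act {Q : (ι → F) → F} (s g : ↥(Cfsg.isometryGroup F Q))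
    (U : Submodule F (ι → F)) :
    U.map (Matrix.mulVecLin (((s * g : ↥(Cfsg.isometryGroup F Q)) :
      Matrix.GeneralLinearGroup ι F) : Matrix ι ι F))
      = (U.map (Matrix.mulVecLin ((g : Matrix.GeneralLinearGroup ι F) : Matrix ι ι F))).map
        (Matrix.mulVecLin ((s : Matrix.GeneralLinearGroup ι F) : Matrix ι ι F)) := by
  ext y
  rw [mem_map_act, mem_map_act]
  constructor
  · rintro ⟨u, hu, rfl⟩
    exact ⟨act g u, (mem_map_act g U _).2 ⟨u, hu, rfl⟩, (act_mul s g u).symm⟩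
  · rintro ⟨w, hw, rfl⟩
    obtain ⟨u, hu, rfl⟩ := (mem_map_act g U w).1 hw
    exact ⟨u, hu, act_mul s g u⟩

/-- Adjusting into `Ω` in odd characteristic. -/
theorem exists_mem_Omega_of_stab_odd [Fintype F] (h2 : (2 : F) ≠ 0) (Q : QuadraticForm F (ι → F))
    (hQ : (polarBilin Q).Nondegenerate) (hn : 2 ≤ Fintype.card ι)
    (P : ↥(Cfsg.isometryGroup F ⇑Q) → Prop) (g₀ : ↥(Cfsg.isometryGroup F ⇑Q)) (hg₀ : P g₀)
    (s₁ s₂ : ↥(Cfsg.isometryGroup F ⇑Q)) (hs₁ : ∀ g, P g → P (s₁ * g))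
    (hs₂ : ∀ g, P g → P (s₂ * g)) (hd₁ : detHom (⇑Q) s₁ = -1) (hd₂ : detHom (⇑Q) s₂ = 1)
    (hc₂ : chi (⇑Q) 1 s₂ = -1) : ∃ g ∈ Cfsg.Omega F ⇑Q, P g := by
  have hgen := closure_Rset h2 Q hQ
  have key : ∀ g, P g → detHom (⇑Q) g = 1 → ∃ g' ∈ Cfsg.Omega F ⇑Q, P g' := by
    intro g hg hd
    rcases int_units_cases (chi (⇑Q) 1 g) with hc | hc
    · refine ⟨g, ?_, hg⟩
      rw [mem_Omega_iff h2 Q hQ hn 1 one_ne_zero, ← detHom_val, hd]
      exact ⟨rfl, hc⟩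
    · refine ⟨s₂ * g, ?_, hs₂ g hg⟩
      rw [mem_Omega_iff h2 Q hQ hn 1 one_ne_zero, ← detHom_val, map_mul, map_mul, hd, hd₂, hc, hc₂]
      exact ⟨by simp, by decide⟩
  rcases detHom_eq_one_or Q hgen g₀ with hd | hd
  · exact key g₀ hg₀ hd
  · apply key (s₁ * g₀) (hs₁ g₀ hg₀)
    rw [map_mul, hd, hd₁]
    simp

/-- Adjusting into `Ω` in characteristic two. -/
theorem exists_mem_Omega_of_stab_c2 [Fintype F] (h2 : (2 : F) = 0) (Q : QuadraticForm F (ι → F))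
    (hQ : (polarBilin Q).Nondegenerate) (hex : Fintype.card F ≠ 2 ∨ Fintype.card ι ≠ 4)
    (P : ↥(Cfsg.isometryGroup F ⇑Q) → Prop) (g₀ : ↥(Cfsg.isometryGroup F ⇑Q)) (hg₀ : P g₀)
    (s₁ : ↥(Cfsg.isometryGroup F ⇑Q)) (hs₁ : ∀ g, P g → P (s₁ * g))
    (hd₁ : dicksonChar h2 Q hQ s₁ = -1) : ∃ g ∈ Cfsg.Omega F ⇑Q, P g := by
  rcases int_units_cases (dicksonChar h2 Q hQ g₀) with hc | hc
  · refine ⟨g₀, ?_, hg₀⟩
    rw [mem_Omega_iff_c2 h2 Q hQ hex]
    exact hc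
  · refine ⟨s₁ * g₀, ?_, hs₁ g₀ hg₀⟩
    rw [mem_Omega_iff_c2 h2 Q hQ hex, map_mul, hc, hd₁]
    decide

end Cfsg.Agent.Lib.Helper19.OrthRefl
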