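-- Siegel transformations as elements of the isometry group.
import Mathlib
import Cfsg.Prelude.Def_Classical
import Cfsg.Prelude.Def_ClassicalGeometry
import Cfsg.Agent.Lib.Helper19.OrthWitt
import Cfsg.Agent.Lib.Helper19.OrthPOmegaCard

set_option autoImplicit false

namespace Cfsg.Agent.Lib.Helper19.OrthRefl

open Matrix QuadraticMap Module Cfsg.Agent.Lib.Helper19.Parity Cfsg.Agent.Lib.Helper19.WittQuad

variable {ι : Type} [Fintype ι] [DecidableEq ι] {F : Type*} [Field F]

/-- The Siegel transformation attached to a singular vector `p` and a vector `u` orthogonal to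
it. -/
noncomputable def siegel (Q : QuadraticForm F (ι → F)) (hQ : (polarBilin Q).Nondegenerate)
    (p u : ι → F) (hp : Q p = 0) (hpu : polar (⇑Q) p u = 0) : ↥(Cfsg.isometryGroup F ⇑Q) :=
  ofEquiv (⇑Q) (LinearEquiv.ofInjectiveEndo (siegelMap Q p u)
    (injective_of_isometry Q hQ _ (Q_siegelMap Q p u hp hpu)))
    (fun v => by rw [LinearEquiv.coe_ofInjectiveEndo]; exact Q_siegelMap Q p u hp hpu v)

theorem act_siegel (Q : QuadraticForm F (ι → F)) (hQ : (polarBilin Q).Nondegenerate)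
    (p u : ι → F) (hp : Q p = 0) (hpu : polar (⇑Q) p u = 0) (v : ι → F) :
    act (siegel Q hQ p u hp hpu) v
      = v + polar (⇑Q) u v • p - polar (⇑Q) p v • u - Q u • (polar (⇑Q) p v • p) := by
  unfold siegel
  rw [act_ofEquiv, LinearEquiv.coe_ofInjectiveEndo, siegelMap_apply]

theorem siegel_congr (Q : QuadraticForm F (ι → F)) (hQ : (polarBilin Q).Nondegenerate)
    {p u p' u' : ι → F} (hp : Q p = 0) (hpu : polar (⇑Q) p u = 0) (hp' : Q p' = 0)
    (hpu' : polar (⇑Q) p' u' = 0) (h1 : p = p') (h3 : u = u') :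
    siegel Q hQ p u hp hpu = siegel Q hQ p' u' hp' hpu' := by
  subst h1 h3
  rfl

theorem polar_self_of_singular (Q : QuadraticForm F (ι → F)) {p : ι → F} (hp : Q p = 0) :
    polar (⇑Q) p p = 0 := by
  rw [polar_self', hp, mul_zero]

theorem siegel_mul (Q : QuadraticForm F (ι → F)) (hQ : (polarBilin Q).Nondegenerate)
    (p u u' : ι → F) (hp : Q p = 0) (hpu : polar (⇑Q) p u = 0) (hpu' : polar (⇑Q) p u' = 0)
    (hpuu' : polar (⇑Q) p (u + u') = 0) :
    siegel Q hQ p u hp hpu * siegel Q hQ p u' hp hpu' = siegel Q hQ p (u + u') hp hpuu' := by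
  apply ext_act
  intro v
  have hpp := polar_self_of_singular Q hp
  have hup : polar (⇑Q) u p = 0 := by rw [QuadraticMap.polar_comm]; exact hpu
  rw [act_mul, act_siegel Q hQ p u' hp hpu' v, act_siegel, act_siegel]
  simp only [QuadraticMap.polar_add_right, QuadraticMap.polar_sub_right,
    QuadraticMap.polar_smul_right, QuadraticMap.polar_add_left, hpp, hpu', hup, smul_eq_mul,
    mul_zero, add_zero, sub_zero]
  have hQuu : Q (u + u') = Q u + Q u' + polar (⇑Q) u u' := QuadraticMap.map_add (⇑Q) u u'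
  rw [hQuu]
  module

theorem siegel_zero (Q : QuadraticForm F (ι → F)) (hQ : (polarBilin Q).Nondegenerate)
    (p : ι → F) (hp : Q p = 0) (h0 : polar (⇑Q) p 0 = 0) : siegel Q hQ p 0 hp h0 = 1 := by
  apply ext_act
  intro v
  rw [act_siegel, act_one, QuadraticMap.polar_zero_left, QuadraticMap.map_zero]
  simp

theorem siegel_inv (Q : QuadraticForm F (ι → F)) (hQ : (polarBilin Q).Nondegenerate)
    (p u : ι → F) (hp : Q p = 0) (hpu : polar (⇑Q) p u = 0) (hpu' : polar (⇑Q) p (-u) = 0) :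
    (siegel Q hQ p u hp hpu)⁻¹ = siegel Q hQ p (-u) hp hpu' := by
  rw [inv_eq_iff_mul_eq_one]
  have h0 : polar (⇑Q) p (u + -u) = 0 := by rw [add_neg_cancel]; exact QuadraticMap.polar_zero_right _ _
  rw [siegel_mul Q hQ p u (-u) hp hpu hpu' h0]
  rw [siegel_congr Q hQ hp h0 hp (QuadraticMap.polar_zero_right _ _) rfl (add_neg_cancel u)]
  exact siegel_zero Q hQ p hp _

theorem conj_siegel (Q : QuadraticForm F (ι → F)) (hQ : (polarBilin Q).Nondegenerate)
    (p u : ι → F) (hp : Q p = 0) (hpu : polar (⇑Q) p u = 0) (g : ↥(Cfsg.isometryGroup F ⇑Q))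
    (hp' : Q (act g p) = 0) (hpu' : polar (⇑Q) (act g p) (act g u) = 0) :
    g * siegel Q hQ p u hp hpu * g⁻¹ = siegel Q hQ (act g p) (act g u) hp' hpu' := by
  apply ext_act
  intro v
  rw [act_mul, act_mul, act_siegel, act_siegel, act_sub, act_sub, act_add, act_smul, act_smul,
    act_smul, act_smul, act_act_inv, Q_act g, polar_act_left, polar_act_left]

theorem siegel_smul_left (Q : QuadraticForm F (ι → F)) (hQ : (polarBilin Q).Nondegenerate)
    (p u : ι → F) (t : F) (hp : Q (t • p) = 0) (hpu : polar (⇑Q) (t • p) u = 0)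
    (hp' : Q p = 0) (hpu' : polar (⇑Q) p (t • u) = 0) :
    siegel Q hQ (t • p) u hp hpu = siegel Q hQ p (t • u) hp' hpu' := by
  apply ext_act
  intro v
  rw [act_siegel, act_siegel]
  simp only [QuadraticMap.polar_smul_left, QuadraticMap.map_smul, smul_eq_mul]
  module

/-- The product of the reflections in `a` and `a + p`, with `p` singular and orthogonal to `a`,
is a Siegel transformation. -/
theorem refl_mul_refl_eq_siegel (Q : QuadraticForm F (ι → F))
    (hQ : (polarBilin Q).Nondegenerate) (a p : ι → F) (ha : Q a ≠ 0) (hp : Q p = 0)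
    (hpa : polar (⇑Q) p a = 0) (hap : Q (a + p) ≠ 0)
    (hpu : polar (⇑Q) p (-(Q a)⁻¹ • a) = 0) :
    refl Q a ha * refl Q (a + p) hap = siegel Q hQ p (-(Q a)⁻¹ • a) hp hpu := by
  apply ext_act
  intro v
  have hQap : Q (a + p) = Q a := by
    have : Q (a + p) = Q a + Q p + polar (⇑Q) a p := QuadraticMap.map_add (⇑Q) a p
    rw [this, hp, QuadraticMap.polar_comm, hpa, add_zero, add_zero]
  have hpp := polar_self_of_singular Q hp
  have hap' : polar (⇑Q) a p = 0 := by rw [QuadraticMap.polar_comm]; exact hpa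
  rw [act_mul, act_refl Q (a + p) hap, act_refl, act_siegel, hQap]
  simp only [QuadraticMap.polar_add_right, QuadraticMap.polar_sub_right,
    QuadraticMap.polar_smul_right, QuadraticMap.polar_add_left, QuadraticMap.polar_smul_left,
    QuadraticMap.map_smul, polar_self', hp, hap', hpa, smul_eq_mul, mul_zero, add_zero]
  have hinv : (Q a)⁻¹ * Q a = 1 := inv_mul_cancel₀ ha
  have h1 : (Q a)⁻¹ * (polar (⇑Q) a v - (Q a)⁻¹ * (polar (⇑Q) a v + polar (⇑Q) p v) * (2 * Q a))
      = -(Q a)⁻¹ * polar (⇑Q) a v - 2 * (Q a)⁻¹ * polar (⇑Q) p v := by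
    field_simp
    ring
  have h3 : -(Q a)⁻¹ * -(Q a)⁻¹ * Q a = (Q a)⁻¹ := by
    field_simp
  rw [h1, h3]
  module

section mem

variable [Fintype F]

/-- A product of two reflections in vectors with the same value of `Q` lies in `Ω`
(any characteristic). -/
theorem refl_mul_refl_mem_Omega' (Q : QuadraticForm F (ι → F))
    (hQ : (polarBilin Q).Nondegenerate) (hn : 5 ≤ Fintype.card ι) (a b : ι → F)
    (ha : Q a ≠ 0) (hb : Q b ≠ 0) (hab : Q a = Q b) :
    refl Q a ha * refl Q b hb ∈ Cfsg.Omega F ⇑Q := by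
  by_cases h2 : (2 : F) = 0
  · exact refl_mul_refl_mem_Omega_c2 h2 Q hQ (Or.inr (by omega)) a b ha hb
  · exact refl_mul_refl_mem_Omega h2 Q hQ (by omega) a b ha hb hab

/-- A non-singular vector orthogonal to two given vectors. -/
theorem exists_nonsing_orth_pair (Q : QuadraticForm F (ι → F))
    (hQ : (polarBilin Q).Nondegenerate) (hn : 5 ≤ Fintype.card ι) (x y : ι → F) :
    ∃ w, Q w ≠ 0 ∧ polar (⇑Q) x w = 0 ∧ polar (⇑Q) y w = 0 := by
  have hfr : finrank F (ι → F) = Fintype.card ι := Module.finrank_fintype_fun_eq_card F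
  have hfp : finrank F (plane F x y) ≤ 2 := by
    have := finrank_range_le_card (R := F) ![x, y]
    rw [Fintype.card_fin] at this
    exact this
  obtain ⟨w, hw, hQw⟩ : ∃ w ∈ orth Q (plane F x y), Q w ≠ 0 := by
    by_contra hcon
    push Not at hcon
    have hTS : IsTS Q (orth Q (plane F x y)) := hcon
    have h1 := hTS.finrank_le hQ
    rw [finrank_orth hQ, hfr] at h1
    omega
  exact ⟨w, hQw, (mem_orth_plane.1 hw).1, (mem_orth_plane.1 hw).2⟩

theorem siegel_mem_Omega_of_nonsing (Q : QuadraticForm F (ι → F))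
    (hQ : (polarBilin Q).Nondegenerate) (hn : 5 ≤ Fintype.card ι)
    (p u : ι → F) (hp : Q p = 0) (hpu : polar (⇑Q) p u = 0) (hu : Q u ≠ 0) :
    siegel Q hQ p u hp hpu ∈ Cfsg.Omega F ⇑Q := by
  obtain ⟨a, ha'⟩ : ∃ a : ι → F, a = -(Q u)⁻¹ • u := ⟨_, rfl⟩
  have hQa : Q a = (Q u)⁻¹ := by
    rw [ha', QuadraticMap.map_smul, smul_eq_mul]
    field_simp
  have ha : Q a ≠ 0 := by rw [hQa]; exact inv_ne_zero hu
  have hpa : polar (⇑Q) p a = 0 := by
    rw [ha', QuadraticMap.polar_smul_right, hpu, smul_zero]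
  have hQap : Q (a + p) = Q a := by
    have : Q (a + p) = Q a + Q p + polar (⇑Q) a p := QuadraticMap.map_add (⇑Q) a p
    rw [this, hp, QuadraticMap.polar_comm, hpa, add_zero, add_zero]
  have hap : Q (a + p) ≠ 0 := by rw [hQap]; exact ha
  have hua : -(Q a)⁻¹ • a = u := by
    rw [hQa, ha', smul_smul, inv_inv]
    have : -Q u * -(Q u)⁻¹ = 1 := by field_simp
    rw [this, one_smul]
  have hpu' : polar (⇑Q) p (-(Q a)⁻¹ • a) = 0 := by rw [hua]; exact hpu
  have h := refl_mul_refl_eq_siegel Q hQ a p ha hp hpa hap hpu'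
  rw [siegel_congr Q hQ hp hpu' hp hpu rfl hua] at h
  rw [← h]
  exact refl_mul_refl_mem_Omega' Q hQ hn a (a + p) ha hap hQap.symm

theorem siegel_mem_Omega (Q : QuadraticForm F (ι → F))
    (hQ : (polarBilin Q).Nondegenerate) (hn : 5 ≤ Fintype.card ι)
    (p u : ι → F) (hp : Q p = 0) (hpu : polar (⇑Q) p u = 0) :
    siegel Q hQ p u hp hpu ∈ Cfsg.Omega F ⇑Q := by
  by_cases hu : Q u ≠ 0
  · exact siegel_mem_Omega_of_nonsing Q hQ hn p u hp hpu hu
  push Not at hu
  obtain ⟨w, hQw, hpw, huw⟩ := exists_nonsing_orth_pair Q hQ hn p u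
  have hpuw : polar (⇑Q) p (u - w) = 0 := by
    rw [QuadraticMap.polar_sub_right, hpu, hpw, sub_zero]
  have hQuw : Q (u - w) ≠ 0 := by
    rw [Q_sub', hu, huw, zero_add, sub_zero]
    exact hQw
  have hsum : polar (⇑Q) p (u - w + w) = 0 := by rw [sub_add_cancel]; exact hpu
  have h := siegel_mul Q hQ p (u - w) w hp hpuw hpw hsum
  rw [siegel_congr Q hQ hp hsum hp hpu rfl (sub_add_cancel u w)] at h
  rw [← h]
  exact Subgroup.mul_mem _ (siegel_mem_Omega_of_nonsing Q hQ hn p (u - w) hp hpuw hQuw)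
    (siegel_mem_Omega_of_nonsing Q hQ hn p w hp hpw hQw)

end mem

end Cfsg.Agent.Lib.Helper19.OrthRefl
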