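import Mathlib

/-!
# Sylow 2-subgroups meeting non-trivially in an extension of index two (helper19)
-/

set_option autoImplicit false

namespace Cfsg.Agent.Lib.Helper19.SylMeet

open scoped Pointwise

section basic

variable {G : Type*} [Group G]

lemma mem_conj_smul (g x : G) (S : Subgroup G) : x ∈ MulAut.conj g • S ↔ g⁻¹ * x * g ∈ S := by
  rw [Subgroup.mem_pointwise_smul_iff_inv_smul_mem, MulAut.smul_def, ← map_inv, MulAut.conj_apply,
    inv_inv]

lemma conj_smul_of_mem {g : G} {S : Subgroup G} (h : g ∈ S) : MulAut.conj g • S = S := by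
  ext x
  rw [mem_conj_smul]
  constructor
  · intro hx
    have : x = g * (g⁻¹ * x * g) * g⁻¹ := by group
    rw [this]
    exact S.mul_mem (S.mul_mem h hx) (S.inv_mem h)
  · intro hx
    exact S.mul_mem (S.mul_mem (S.inv_mem h) hx) h

lemma conj_smul_normal (g : G) (N : Subgroup G) [hN : N.Normal] : MulAut.conj g • N = N := by
  ext x
  rw [mem_conj_smul]
  constructor
  · intro hx
    have : x = g * (g⁻¹ * x * g) * g⁻¹ := by group
    rw [this]
    exact hN.conj_mem _ hx g
  · intro hx
    have := hN.conj_mem _ hx g⁻¹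
    rwa [inv_inv] at this

lemma conj_smul_inf (g : G) (A B : Subgroup G) :
    MulAut.conj g • (A ⊓ B) = MulAut.conj g • A ⊓ MulAut.conj g • B := by
  ext x
  rw [Subgroup.mem_inf, mem_conj_smul, mem_conj_smul, mem_conj_smul, Subgroup.mem_inf]

lemma conj_mul_smul (a b : G) (S : Subgroup G) :
    MulAut.conj (a * b) • S = MulAut.conj a • MulAut.conj b • S := by
  rw [map_mul, mul_smul]

lemma conj_smul_bot (g : G) : MulAut.conj g • (⊥ : Subgroup G) = ⊥ := by
  ext x
  rw [mem_conj_smul, Subgroup.mem_bot, Subgroup.mem_bot]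
  constructor
  · intro h
    have : x = g * (g⁻¹ * x * g) * g⁻¹ := by group
    rw [this, h]
    group
  · intro h
    rw [h]
    group

end basic

section main

variable {G : Type*} [Group G] [Finite G]

theorem sylow_meet (N : Subgroup G) [N.Normal] (hidx : N.index = 2) (H : Sylow 2 G) (x : G)
    (hb : ∀ g ∈ N, MulAut.conj g • ((H : Subgroup G) ⊓ N) = (H : Subgroup G) ⊓ N →
      g ∈ (H : Subgroup G))
    (hc : ∀ g ∈ N, ∀ g' ∈ N,
      ((H : Subgroup G) ⊓ N) ⊓ MulAut.conj g • ((H : Subgroup G) ⊓ N) = ⊥ →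
      ((H : Subgroup G) ⊓ N) ⊓ MulAut.conj g' • ((H : Subgroup G) ⊓ N) = ⊥ →
      ∃ u ∈ (H : Subgroup G) ⊓ N,
        MulAut.conj (u * g) • ((H : Subgroup G) ⊓ N) = MulAut.conj g' • ((H : Subgroup G) ⊓ N)) :
    (H : Subgroup G) ⊓ MulAut.conj x • (H : Subgroup G) ≠ ⊥ := by
  set U : Subgroup G := (H : Subgroup G) ⊓ N with hU
  -- an element of `H` outside `N`
  obtain ⟨t, htH, htN⟩ : ∃ t ∈ (H : Subgroup G), t ∉ N := by
    by_contra hcon
    push Not at hcon
    have hle : (H : Subgroup G) ≤ N := hcon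
    have h1 : N.index ∣ (H : Subgroup G).index := Subgroup.index_dvd_of_le hle
    rw [hidx] at h1
    exact H.not_dvd_index h1
  have htU : MulAut.conj t • U = U := by
    rw [hU, conj_smul_inf, conj_smul_of_mem htH, conj_smul_normal]
  have htU' : MulAut.conj t⁻¹ • U = U := by
    conv_lhs => rw [← htU]
    rw [← conj_mul_smul, inv_mul_cancel, map_one, one_smul]
  -- the normaliser of `U` is `H`
  have hnorm : ∀ y : G, MulAut.conj y • U = U → y ∈ (H : Subgroup G) := by
    intro y hy
    by_cases hyN : y ∈ N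
    · exact hb y hyN hy
    · have h1 : y * t⁻¹ ∈ N := by
        rw [Subgroup.mul_mem_iff_of_index_two hidx]
        constructor
        · intro h; exact absurd h hyN
        · intro h; exact absurd (by simpa using N.inv_mem h) htN
      have h2 : MulAut.conj (y * t⁻¹) • U = U := by
        rw [conj_mul_smul, htU', hy]
      have h3 := hb _ h1 h2
      have : y = (y * t⁻¹) * t := by group
      rw [this]
      exact (H : Subgroup G).mul_mem h3 htH
  -- the case of an element of `N`
  have key : ∀ n ∈ N, ∃ s, s ≠ 1 ∧ s ∈ (H : Subgroup G) ∧ s ∈ MulAut.conj n • (H : Subgroup G) := by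
    intro n hn
    by_cases hint : U ⊓ MulAut.conj n • U = ⊥
    · have hg1N : t * n * t⁻¹ ∈ N := (inferInstance : N.Normal).conj_mem n hn t
      have hint1 : U ⊓ MulAut.conj (t * n * t⁻¹) • U = ⊥ := by
        have h1 : MulAut.conj (t * n * t⁻¹) • U = MulAut.conj t • MulAut.conj n • U := by
          rw [conj_mul_smul, conj_mul_smul, htU']
        rw [h1]
        calc U ⊓ MulAut.conj t • MulAut.conj n • U
            = MulAut.conj t • U ⊓ MulAut.conj t • MulAut.conj n • U := by rw [htU]
          _ = MulAut.conj t • (U ⊓ MulAut.conj n • U) := (conj_smul_inf _ _ _).symm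
          _ = ⊥ := by rw [hint, conj_smul_bot]
      obtain ⟨u, huU, hu⟩ := hc _ hg1N n hn hint1 hint
      refine ⟨u * t, ?_, ?_, ?_⟩
      · intro h1
        apply htN
        have : t = u⁻¹ := eq_inv_of_mul_eq_one_right h1
        rw [this]
        exact N.inv_mem (Subgroup.mem_inf.mp huU).2
      · exact (H : Subgroup G).mul_mem (Subgroup.mem_inf.mp huU).1 htH
      · rw [mem_conj_smul]
        apply hnorm
        -- `n⁻¹ (u t) n` normalises `U`
        have h1 : MulAut.conj (u * t) • MulAut.conj n • U = MulAut.conj n • U := by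
          have e1 : u * t * n = u * (t * n * t⁻¹) * t := by group
          calc MulAut.conj (u * t) • MulAut.conj n • U
              = MulAut.conj (u * t * n) • U := (conj_mul_smul _ _ _).symm
            _ = MulAut.conj (u * (t * n * t⁻¹)) • MulAut.conj t • U := by
                rw [e1, conj_mul_smul _ t]
            _ = MulAut.conj n • U := by rw [htU, hu]
        have h2 : MulAut.conj (n⁻¹ * (u * t) * n) • U =
            MulAut.conj n⁻¹ • MulAut.conj (u * t) • MulAut.conj n • U := by
          rw [conj_mul_smul, conj_mul_smul]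
        rw [h2, h1, ← conj_mul_smul, inv_mul_cancel, map_one, one_smul]
    · rw [← Ne, Subgroup.ne_bot_iff_exists_ne_one] at hint
      obtain ⟨⟨s, hs⟩, hs1⟩ := hint
      obtain ⟨hsU, hsn⟩ := Subgroup.mem_inf.mp hs
      refine ⟨s, fun h => hs1 (Subtype.ext h), (Subgroup.mem_inf.mp hsU).1, ?_⟩
      rw [mem_conj_smul] at hsn ⊢
      exact (Subgroup.mem_inf.mp hsn).1
  -- the general case
  rw [Ne, Subgroup.eq_bot_iff_forall]
  intro hall
  by_cases hxN : x ∈ N
  · obtain ⟨s, hs1, hsH, hsx⟩ := key x hxN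
    exact hs1 (hall s (Subgroup.mem_inf.mpr ⟨hsH, hsx⟩))
  · have h1 : t⁻¹ * x ∈ N := by
      rw [Subgroup.mul_mem_iff_of_index_two hidx]
      constructor
      · intro h; exact absurd (by simpa using N.inv_mem h) htN
      · intro h; exact absurd h hxN
    obtain ⟨s, hs1, hsH, hsx⟩ := key _ h1
    have h2 : t * s * t⁻¹ ∈ (H : Subgroup G) ⊓ MulAut.conj x • (H : Subgroup G) := by
      refine Subgroup.mem_inf.mpr ⟨(H : Subgroup G).mul_mem ((H : Subgroup G).mul_mem htH hsH)
        ((H : Subgroup G).inv_mem htH), ?_⟩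
      rw [mem_conj_smul] at hsx ⊢
      have : x⁻¹ * (t * s * t⁻¹) * x = (t⁻¹ * x)⁻¹ * s * (t⁻¹ * x) := by group
      rw [this]
      exact hsx
    have h3 := hall _ h2
    apply hs1
    have : s = t⁻¹ * (t * s * t⁻¹) * t := by group
    rw [this, h3]
    group

end main

end Cfsg.Agent.Lib.Helper19.SylMeet
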