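import Mathlib
import Cfsg.Agent.Lib.Helper19.SylMeet
import Cfsg.Agent.Lib.Helper19.OrthSiegel
import Cfsg.Agent.Lib.Helper19.QuadStd

/-!
# Sylow 2-subgroups of `O⁺(2m,2)` pairwise meet, part 1 (helper19)

The pointwise stabiliser of a totally singular subspace of dimension `m - 1` is a 2-group.
-/

set_option autoImplicit false

namespace Cfsg.Agent.Lib.Helper19.OPlusTwo

open Matrix QuadraticMap Cfsg.Agent.Lib.Helper19.OrthRefl Cfsg.Agent.Lib.Helper19.QuadStd
  Cfsg.Agent.Lib.Helper19.SylMeet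
open scoped Pointwise

section abstract

variable {G : Type*} [Group G] [Finite G]

/-- if a `p`-subgroup meets each of its conjugates non-trivially then so does a Sylow
`p`-subgroup -/
theorem sylow_meet_of_pgroup (p : ℕ) [Fact p.Prime] (S : Subgroup G) (hS : IsPGroup p S)
    (hmeet : ∀ y : G, ∃ s : G, s ≠ 1 ∧ s ∈ S ∧ y⁻¹ * s * y ∈ S) (H : Sylow p G) (x : G) :
    (H : Subgroup G) ⊓ MulAut.conj x • (H : Subgroup G) ≠ ⊥ := by
  obtain ⟨H₀, hle⟩ := hS.exists_le_sylow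
  obtain ⟨z, hz⟩ := MulAction.exists_smul_eq G H₀ H
  have hz' : MulAut.conj z • (H₀ : Subgroup G) = H := by
    have := congrArg (fun P : Sylow p G => (P : Subgroup G)) hz
    simpa [Sylow.coe_subgroup_smul] using this
  have hSH : ∀ s ∈ S, z * s * z⁻¹ ∈ (H : Subgroup G) := by
    intro s hs
    rw [← hz', mem_conj_smul]
    have : z⁻¹ * (z * s * z⁻¹) * z = s := by group
    rw [this]
    exact hle hs
  obtain ⟨s, hs1, hsS, hsy⟩ := hmeet (z⁻¹ * x * z)
  intro hbot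
  have h1 : z * s * z⁻¹ ∈ (H : Subgroup G) ⊓ MulAut.conj x • (H : Subgroup G) := by
    refine Subgroup.mem_inf.mpr ⟨hSH s hsS, ?_⟩
    rw [mem_conj_smul]
    have := hSH _ hsy
    have e : x⁻¹ * (z * s * z⁻¹) * x =
        z * ((z⁻¹ * x * z)⁻¹ * s * (z⁻¹ * x * z)) * z⁻¹ := by group
    rw [e]
    exact this
  rw [hbot, Subgroup.mem_bot] at h1
  apply hs1
  have : s = z⁻¹ * (z * s * z⁻¹) * z := by group
  rw [this, h1]
  group

end abstract

section geom

variable {F : Type*} [Field F] {k : ℕ}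

/-- the perpendicular space of the standard totally singular subspace `W` -/
def InP (x : Fin (k + 1) ⊕ Fin (k + 1) → F) : Prop := ∀ j : Fin k, x (Sum.inr j.succ) = 0

/-- the standard totally singular subspace `W` of dimension `k` -/
def InW (x : Fin (k + 1) ⊕ Fin (k + 1) → F) : Prop :=
  InP x ∧ x (Sum.inl 0) = 0 ∧ x (Sum.inr 0) = 0

/-- basis vectors of `W` -/
def E (F : Type*) [Field F] {k : ℕ} (j : Fin k) : Fin (k + 1) ⊕ Fin (k + 1) → F :=
  Pi.single (Sum.inl j.succ) 1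

lemma inW_E (j : Fin k) : InW (E F j) := by
  refine ⟨fun i => ?_, ?_, ?_⟩ <;> simp [E, Pi.single_apply]

lemma polar_E (x : Fin (k + 1) ⊕ Fin (k + 1) → F) (j : Fin k) :
    polar ⇑(stdPlus (k + 1) F) x (E F j) = x (Sum.inr j.succ) := by
  rw [polar_stdPlus]
  simp [E, Pi.single_apply, Finset.sum_ite_eq]

lemma Q_of_inP {x : Fin (k + 1) ⊕ Fin (k + 1) → F} (hx : InP x) :
    stdPlus (k + 1) F x = x (Sum.inl 0) * x (Sum.inr 0) := by
  rw [stdPlus_apply, Cfsg.quadFormPlus, Fin.sum_univ_succ]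
  have : ∑ i : Fin k, x (Sum.inl i.succ) * x (Sum.inr i.succ) = 0 :=
    Finset.sum_eq_zero (fun i _ => by rw [hx i, mul_zero])
  rw [this, add_zero]

lemma polar_of_inP {x y : Fin (k + 1) ⊕ Fin (k + 1) → F} (hx : InP x) (hy : InP y) :
    polar ⇑(stdPlus (k + 1) F) x y =
      x (Sum.inl 0) * y (Sum.inr 0) + y (Sum.inl 0) * x (Sum.inr 0) := by
  rw [polar_stdPlus, Fin.sum_univ_succ]
  have : ∑ i : Fin k, (x (Sum.inl i.succ) * y (Sum.inr i.succ) +
      y (Sum.inl i.succ) * x (Sum.inr i.succ)) = 0 :=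
    Finset.sum_eq_zero (fun i _ => by rw [hx i, hy i, mul_zero, mul_zero, add_zero])
  rw [this, add_zero]

lemma polar_inP_inW {x y : Fin (k + 1) ⊕ Fin (k + 1) → F} (hx : InP x) (hy : InW y) :
    polar ⇑(stdPlus (k + 1) F) x y = 0 := by
  rw [polar_of_inP hx hy.1, hy.2.1, hy.2.2, mul_zero, zero_mul, add_zero]

/-- the pointwise stabiliser of `W` -/
def Sg (k : ℕ) (F : Type*) [Field F] :
    Subgroup ↥(Cfsg.isometryGroup F ⇑(stdPlus (k + 1) F)) where
  carrier := {g | ∀ x, InW x → act g x = x}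
  one_mem' := fun x _ => act_one x
  mul_mem' := fun {a b} ha hb x hx => by rw [act_mul, hb x hx, ha x hx]
  inv_mem' := fun {a} ha x hx => by
    conv_lhs => rw [← ha x hx]
    exact act_inv_act a x

lemma mem_Sg (g : ↥(Cfsg.isometryGroup F ⇑(stdPlus (k + 1) F))) :
    g ∈ Sg k F ↔ ∀ x, InW x → act g x = x := Iff.rfl

lemma act_inr {g : ↥(Cfsg.isometryGroup F ⇑(stdPlus (k + 1) F))} (hg : g ∈ Sg k F)
    (x : Fin (k + 1) ⊕ Fin (k + 1) → F) (j : Fin k) :
    act g x (Sum.inr j.succ) = x (Sum.inr j.succ) := by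
  rw [← polar_E (act g x) j, ← polar_E x j]
  conv_lhs => rw [← hg (E F j) (inW_E j)]
  exact polar_act g x (E F j)

lemma act_inP {g : ↥(Cfsg.isometryGroup F ⇑(stdPlus (k + 1) F))} (hg : g ∈ Sg k F)
    {x : Fin (k + 1) ⊕ Fin (k + 1) → F} (hx : InP x) : InP (act g x) := by
  intro j
  rw [act_inr hg, hx j]

/-- the two hyperbolic vectors outside `W` -/
def e0 (F : Type*) [Field F] (k : ℕ) : Fin (k + 1) ⊕ Fin (k + 1) → F := Pi.single (Sum.inl 0) 1

def f0 (F : Type*) [Field F] (k : ℕ) : Fin (k + 1) ⊕ Fin (k + 1) → F := Pi.single (Sum.inr 0) 1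

lemma inP_e0 : InP (e0 F k) := by
  intro j
  simp [e0, Pi.single_apply]

lemma inP_f0 : InP (f0 F k) := by
  intro j
  simp [f0, Pi.single_apply, Fin.succ_ne_zero]

lemma decomp {x : Fin (k + 1) ⊕ Fin (k + 1) → F} (hx : InP x) :
    InW (x - x (Sum.inl 0) • e0 F k - x (Sum.inr 0) • f0 F k) := by
  refine ⟨fun j => ?_, ?_, ?_⟩
  · simp [e0, f0, Pi.single_apply, hx j, Fin.succ_ne_zero]
  · simp [e0, f0, Pi.single_apply]
  · simp [e0, f0, Pi.single_apply]

lemma act_coords {g : ↥(Cfsg.isometryGroup F ⇑(stdPlus (k + 1) F))} (hg : g ∈ Sg k F)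
    {x : Fin (k + 1) ⊕ Fin (k + 1) → F} (hx : InP x) :
    act g x = (x - x (Sum.inl 0) • e0 F k - x (Sum.inr 0) • f0 F k) +
      x (Sum.inl 0) • act g (e0 F k) + x (Sum.inr 0) • act g (f0 F k) := by
  have h1 := hg _ (decomp hx)
  rw [act_sub, act_sub, act_smul, act_smul] at h1
  rw [← h1]
  abel

end geom

end Cfsg.Agent.Lib.Helper19.OPlusTwo
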