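import Mathlib
import Cfsg.Agent.Lib.Helper19.A6Facts
import Cfsg.Agent.Lib.Helper19.OPlusTwo1

/-!
# Sylow 2-subgroups of an extension of `A_6` of index four pairwise meet (helper19)
-/

set_option autoImplicit false

namespace Cfsg.Agent.Lib.Helper19.A6

open scoped Pointwise

section main

variable {G : Type*} [Group G] [Finite G]

/-- an involution inverting an element of odd order whose centraliser has even order has a
non-trivial fixed point on that centraliser -/
lemma exists_fixed (z a : G) (hz : z * z = 1) (hinv : z * a * z⁻¹ = a⁻¹)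
    (heven : 2 ∣ Nat.card ↥(Subgroup.centralizer ({a} : Set G))) :
    ∃ c : G, c ≠ 1 ∧ c * a = a * c ∧ z * c = c * z := by
  classical
  have hzinv : z⁻¹ = z := inv_eq_of_mul_eq_one_right hz
  have hmem : ∀ c : G, c ∈ Subgroup.centralizer ({a} : Set G) →
      z * c * z⁻¹ ∈ Subgroup.centralizer ({a} : Set G) := by
    intro c hc
    rw [Subgroup.mem_centralizer_iff] at hc ⊢
    intro h hh
    rw [Set.mem_singleton_iff] at hh
    subst hh
    have h1 : h * c = c * h := hc h rfl
    have h2 : z * h = h⁻¹ * z := by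
      have := congrArg (· * z) hinv
      simpa [mul_assoc] using this
    have h3 : h⁻¹ * c = c * h⁻¹ := by
      have : c = h * c * h⁻¹ := by rw [h1]; group
      calc h⁻¹ * c = h⁻¹ * (h * c * h⁻¹) := by rw [← this]
        _ = c * h⁻¹ := by group
    have h4 : h * z = z * h⁻¹ := by
      have : z * h * z⁻¹ = h⁻¹ := hinv
      have e : h = z⁻¹ * h⁻¹ * z := by rw [← this]; group
      calc h * z = (z⁻¹ * h⁻¹ * z) * z := by rw [← e]
        _ = z⁻¹ * h⁻¹ * (z * z) := by group
        _ = z * h⁻¹ := by rw [hz, hzinv, mul_one]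
    calc h * (z * c * z⁻¹) = (h * z) * c * z⁻¹ := by group
      _ = z * (h⁻¹ * c) * z⁻¹ := by rw [h4]; group
      _ = z * (c * h⁻¹) * z⁻¹ := by rw [h3]
      _ = z * c * (h⁻¹ * z⁻¹) := by group
      _ = z * c * (z⁻¹ * h) := by
          have : h⁻¹ * z⁻¹ = z⁻¹ * h := by
            rw [hzinv]
            have := h2
            calc h⁻¹ * z = z * h := h2.symm
              _ = z * h := rfl
          rw [this]
      _ = z * c * z⁻¹ * h := by group
  let σ : Equiv.Perm ↥(Subgroup.centralizer ({a} : Set G)) :=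
    { toFun := fun c => ⟨z * c.1 * z⁻¹, hmem c.1 c.2⟩
      invFun := fun c => ⟨z * c.1 * z⁻¹, hmem c.1 c.2⟩
      left_inv := fun c => by
        apply Subtype.ext
        show z * (z * c.1 * z⁻¹) * z⁻¹ = c.1
        calc z * (z * c.1 * z⁻¹) * z⁻¹ = (z * z) * c.1 * (z * z)⁻¹ := by group
          _ = c.1 := by rw [hz]; group
      right_inv := fun c => by
        apply Subtype.ext
        show z * (z * c.1 * z⁻¹) * z⁻¹ = c.1
        calc z * (z * c.1 * z⁻¹) * z⁻¹ = (z * z) * c.1 * (z * z)⁻¹ := by group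
          _ = c.1 := by rw [hz]; group }
  have hσ : σ ^ 2 ^ 1 = 1 := by
    apply Equiv.ext
    intro c
    apply Subtype.ext
    show z * (z * c.1 * z⁻¹) * z⁻¹ = c.1
    calc z * (z * c.1 * z⁻¹) * z⁻¹ = (z * z) * c.1 * (z * z)⁻¹ := by group
      _ = c.1 := by rw [hz]; group
  have h1 : σ 1 = 1 := by
    apply Subtype.ext
    show z * 1 * z⁻¹ = 1
    group
  haveI : Fintype ↥(Subgroup.centralizer ({a} : Set G)) := Fintype.ofFinite _
  have hcard : 2 ∣ Fintype.card ↥(Subgroup.centralizer ({a} : Set G)) := by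
    rw [← Nat.card_eq_fintype_card]
    exact heven
  obtain ⟨b, hb, hb1⟩ := Equiv.Perm.exists_fixed_point_of_prime' (p := 2) (n := 1) hcard hσ h1
  refine ⟨b.1, fun h => hb1 (Subtype.ext h), ?_, ?_⟩
  · have := (Subgroup.mem_centralizer_iff.mp b.2) a rfl
    exact this.symm
  · have h2 : z * b.1 * z⁻¹ = b.1 := congrArg Subtype.val hb
    calc z * b.1 = (z * b.1 * z⁻¹) * z := by group
      _ = b.1 * z := by rw [h2]

/-- **Sylow 2-subgroups of an extension of `A_6` of index four pairwise meet.** -/
theorem sylow_meet_A6 (N : Subgroup G) [N.Normal] (e : N ≃* alternatingGroup (Fin 6))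
    (hidx : N.index = 4) (H : Sylow 2 G) (x : G) :
    (H : Subgroup G) ⊓ MulAut.conj x • (H : Subgroup G) ≠ ⊥ := by
  classical
  -- the involution
  set zN : N := e.symm z0 with hzN
  set z : G := (zN : G) with hz
  have hzz : z * z = 1 := by
    have : zN * zN = 1 := by
      rw [hzN, ← map_mul, z0_mul_self, map_one]
    exact congrArg Subtype.val this
  have hz1 : z ≠ 1 := by
    intro h
    have h1 : zN = 1 := Subtype.ext h
    rw [hzN] at h1
    have h2 : z0 = 1 := by
      have := congrArg e h1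
      rwa [e.apply_symm_apply, map_one] at this
    exact z0_ne_one h2
  have hzinv : z⁻¹ = z := inv_eq_of_mul_eq_one_right hzz
  -- powers of four land in `N`
  have hpow4 : ∀ s : G, s ^ 4 ∈ N := by
    intro s
    rw [← QuotientGroup.eq_one_iff, QuotientGroup.mk_pow]
    have h1 : Nat.card (G ⧸ N) = 4 := by rw [← hidx]; rfl
    rw [← h1]
    exact pow_card_eq_one'
  -- the centraliser of `z` is a 2-group
  have hS : IsPGroup 2 ↥(Subgroup.centralizer ({z} : Set G)) := by
    rintro ⟨s, hs⟩
    refine ⟨6, ?_⟩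
    apply Subtype.ext
    rw [Subgroup.coe_pow, Subgroup.coe_one]
    show s ^ 2 ^ 6 = 1
    have hs4 : s ^ 4 ∈ N := hpow4 s
    have hcomm : z * s = s * z := (Subgroup.mem_centralizer_iff.mp hs) z rfl
    have hcomm4 : z * s ^ 4 = s ^ 4 * z := by
      have : Commute z s := hcomm
      exact (this.pow_right 4)
    -- `e (s^4)` centralises `z0`
    have h1 : e ⟨s ^ 4, hs4⟩ ∈ Subgroup.centralizer ({z0} : Set (alternatingGroup (Fin 6))) := by
      rw [Subgroup.mem_centralizer_iff]
      intro h hh
      rw [Set.mem_singleton_iff] at hh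
      subst hh
      have h2 : zN * ⟨s ^ 4, hs4⟩ = ⟨s ^ 4, hs4⟩ * zN := Subtype.ext hcomm4
      have h3 := congrArg e h2
      rw [map_mul, map_mul, hzN, e.apply_symm_apply] at h3
      exact h3
    have h2 : (⟨e ⟨s ^ 4, hs4⟩, h1⟩ :
        ↥(Subgroup.centralizer ({z0} : Set (alternatingGroup (Fin 6))))) ^ 16 = 1 := by
      obtain ⟨d, hd⟩ := card_centralizer_z0_dvd
      rw [hd, pow_mul, pow_card_eq_one', one_pow]
    have h3 : (e ⟨s ^ 4, hs4⟩) ^ 16 = 1 := by
      have := congrArg Subtype.val h2
      simpa using this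
    have h4 : (⟨s ^ 4, hs4⟩ : N) ^ 16 = 1 := by
      apply e.injective
      rw [map_pow, h3, map_one]
    have h5 : (s ^ 4) ^ 16 = 1 := by
      have := congrArg Subtype.val h4
      simpa using this
    rw [← pow_mul] at h5
    norm_num at h5 ⊢
    exact h5
  apply Cfsg.Agent.Lib.Helper19.OPlusTwo.sylow_meet_of_pgroup 2
    (Subgroup.centralizer ({z} : Set G)) hS _ H x
  intro y
  -- the second involution
  set z' : G := y * z * y⁻¹ with hz'
  have hz'z' : z' * z' = 1 := by
    rw [hz']
    calc y * z * y⁻¹ * (y * z * y⁻¹) = y * (z * z) * y⁻¹ := by group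
      _ = 1 := by rw [hzz]; group
  have hz'N : z' ∈ N := (inferInstance : N.Normal).conj_mem z zN.2 y
  have hz'inv : z'⁻¹ = z' := inv_eq_of_mul_eq_one_right hz'z'
  -- it suffices to find a common centralising element
  suffices hsuff : ∃ s : G, s ≠ 1 ∧ s * z = z * s ∧ s * z' = z' * s by
    obtain ⟨s, hs1, hsz, hsz'⟩ := hsuff
    refine ⟨s, hs1, ?_, ?_⟩
    · rw [Subgroup.mem_centralizer_iff]
      intro h hh
      rw [Set.mem_singleton_iff] at hh
      subst hh
      exact hsz.symm
    · rw [Subgroup.mem_centralizer_iff]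
      intro h hh
      rw [Set.mem_singleton_iff] at hh
      subst hh
      have e1 : s * (y * z * y⁻¹) = (y * z * y⁻¹) * s := hsz'
      calc z * (y⁻¹ * s * y) = y⁻¹ * ((y * z * y⁻¹) * s) * y := by group
        _ = y⁻¹ * (s * (y * z * y⁻¹)) * y := by rw [e1]
        _ = y⁻¹ * s * y * z := by group
  set a : G := z * z' with ha
  have haN : a ∈ N := N.mul_mem zN.2 hz'N
  have hinv : z * a * z⁻¹ = a⁻¹ := by
    rw [ha, hzinv, mul_inv_rev, hzinv, hz'inv]
    calc z * (z * z') * z = (z * z) * z' * z := by group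
      _ = z' * z := by rw [hzz, one_mul]
  have hz'a : z' = z * a := by
    rw [ha, ← mul_assoc, hzz, one_mul]
  -- an element commuting with `z` and `a` commutes with `z'`
  have hfin : ∀ s : G, s * z = z * s → s * a = a * s → s * z' = z' * s := by
    intro s h1 h2
    rw [hz'a]
    calc s * (z * a) = (s * z) * a := by group
      _ = z * (s * a) := by rw [h1]; group
      _ = z * a * s := by rw [h2]; group
  by_cases ha1 : a = 1
  · refine ⟨z, hz1, rfl, ?_⟩
    apply hfin z rfl
    rw [ha1, mul_one, one_mul]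
  by_cases hev : Even (orderOf a)
  · obtain ⟨r, hr⟩ := hev
    have hopos : 0 < orderOf a := orderOf_pos a
    have hr0 : 0 < r := by omega
    refine ⟨a ^ r, ?_, ?_, ?_⟩
    · intro h
      have := orderOf_dvd_of_pow_eq_one h
      have := Nat.le_of_dvd hr0 this
      omega
    · -- `z` inverts `a`, and `a ^ r` is an involution
      have h1 : z * a ^ r * z⁻¹ = (a ^ r)⁻¹ := by
        have : z * a ^ r * z⁻¹ = (z * a * z⁻¹) ^ r := by
          rw [conj_pow]
        rw [this, hinv, inv_pow]
      have h2 : (a ^ r)⁻¹ = a ^ r := by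
        apply inv_eq_of_mul_eq_one_right
        rw [← pow_add, ← hr, pow_orderOf_eq_one]
      rw [h2] at h1
      calc a ^ r * z = (z * a ^ r * z⁻¹) * z := by rw [h1]
        _ = z * a ^ r := by group
    · apply hfin
      · have h1 : z * a ^ r * z⁻¹ = (a ^ r)⁻¹ := by
          have : z * a ^ r * z⁻¹ = (z * a * z⁻¹) ^ r := by
            rw [conj_pow]
          rw [this, hinv, inv_pow]
        have h2 : (a ^ r)⁻¹ = a ^ r := by
          apply inv_eq_of_mul_eq_one_right
          rw [← pow_add, ← hr, pow_orderOf_eq_one]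
        rw [h2] at h1
        calc a ^ r * z = (z * a ^ r * z⁻¹) * z := by rw [h1]
          _ = z * a ^ r := by group
      · exact (Commute.pow_self a r).eq
  -- odd order
  have hodd : Odd (orderOf a) := Nat.not_even_iff_odd.mp hev
  have hk1 : 1 < orderOf a := by
    have h0 : 0 < orderOf a := orderOf_pos a
    have h1 : orderOf a ≠ 1 := fun h => ha1 (orderOf_eq_one_iff.mp h)
    omega
  -- an element outside `N` centralising `a`
  obtain ⟨g, hgN, hga⟩ : ∃ g : G, g ∉ N ∧ g * a = a * g := by
    have hcardQ : Nat.card (G ⧸ N) = 4 := by rw [← hidx]; rfl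
    haveI : Fintype (G ⧸ N) := Fintype.ofFinite _
    have hcardQ' : Fintype.card (G ⧸ N) = 4 := by rw [← Nat.card_eq_fintype_card]; exact hcardQ
    let f : Fin 4 ≃ G ⧸ N := (Fintype.equivFinOfCardEq hcardQ').symm
    let gs : Fin 4 → G := fun i => (f i).out
    have hgs : ∀ i, (QuotientGroup.mk (gs i) : G ⧸ N) = f i := fun i => QuotientGroup.out_eq' _
    let b : Fin 4 → N := fun i =>
      ⟨gs i * a * (gs i)⁻¹, (inferInstance : N.Normal).conj_mem a haN (gs i)⟩
    have hord : ∀ i, orderOf (e (b i)) = orderOf a := by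
      intro i
      rw [MulEquiv.orderOf_eq, ← Subgroup.orderOf_coe]
      show orderOf (gs i * a * (gs i)⁻¹) = orderOf a
      have := MulEquiv.orderOf_eq (MulAut.conj (gs i)) a
      rwa [MulAut.conj_apply] at this
    obtain ⟨i, j, hij, hconj⟩ := exists_conj_of_four (fun i => e (b i)) (orderOf a) hord hodd hk1
    obtain ⟨c, hc⟩ := isConj_iff.mp hconj
    have h1 : e.symm c * b i * (e.symm c)⁻¹ = b j := by
      apply e.injective
      rw [map_mul, map_mul, map_inv, e.apply_symm_apply]
      exact hc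
    have h2 : ((e.symm c : N) : G) * (gs i * a * (gs i)⁻¹) * ((e.symm c : N) : G)⁻¹ =
        gs j * a * (gs j)⁻¹ := by
      have := congrArg Subtype.val h1
      simpa using this
    refine ⟨(gs j)⁻¹ * ((e.symm c : N) : G) * gs i, ?_, ?_⟩
    · intro hmem
      apply hij
      apply f.injective
      rw [← hgs i, ← hgs j]
      rw [QuotientGroup.eq]
      -- `(gs i)⁻¹ * gs j ∈ N`
      have h3 : ((gs j)⁻¹ * ((e.symm c : N) : G) * gs i)⁻¹ ∈ N := N.inv_mem hmem
      have h4 : (gs i)⁻¹ * gs j =
          ((gs j)⁻¹ * ((e.symm c : N) : G) * gs i)⁻¹ *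
            ((gs j)⁻¹ * ((e.symm c : N) : G) * gs j) := by group
      rw [h4]
      exact N.mul_mem h3 ((inferInstance : N.Normal).conj_mem' _ (e.symm c).2 (gs j))
    · have h3 : (gs j)⁻¹ * ((e.symm c : N) : G) * gs i * a =
          (gs j)⁻¹ * (((e.symm c : N) : G) * (gs i * a * (gs i)⁻¹) * ((e.symm c : N) : G)⁻¹) *
            (((e.symm c : N) : G) * gs i) := by group
      rw [h3, h2]
      group
  -- the centraliser of `a` has even order
  have heven : 2 ∣ Nat.card ↥(Subgroup.centralizer ({a} : Set G)) := by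
    have h1 : N.relIndex (Subgroup.centralizer ({a} : Set G)) ∣ N.index :=
      Subgroup.relIndex_dvd_index_of_normal N _
    rw [hidx] at h1
    have h2 : N.relIndex (Subgroup.centralizer ({a} : Set G)) ≠ 1 := by
      intro h
      rw [Subgroup.relIndex_eq_one] at h
      apply hgN
      apply h
      rw [Subgroup.mem_centralizer_iff]
      intro h' hh
      rw [Set.mem_singleton_iff] at hh
      subst hh
      exact hga.symm
    have h3 : 2 ∣ N.relIndex (Subgroup.centralizer ({a} : Set G)) := by
      have h1' : N.relIndex (Subgroup.centralizer ({a} : Set G)) ∣ 2 ^ 2 := by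
        norm_num
        exact h1
      obtain ⟨j, _, hj⟩ := (Nat.dvd_prime_pow Nat.prime_two).1 h1'
      rw [hj]
      rcases Nat.eq_zero_or_pos j with h0 | h0
      · exfalso
        apply h2
        rw [hj, h0, pow_zero]
      · exact dvd_pow_self 2 (by omega)
    exact h3.trans (Subgroup.relIndex_dvd_card _ _)
  obtain ⟨c, hc1, hca, hzc⟩ := exists_fixed z a hzz hinv heven
  exact ⟨c, hc1, hzc.symm, hfin c hzc.symm hca⟩

end main

end Cfsg.Agent.Lib.Helper19.A6
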