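import Mathlib
import Cfsg.Agent.Lib.Helper27.SLTransv3
import Cfsg.Agent.S0263

/-!
# Automorphisms of `PSL_n(q)`, part 1: the unitriangular subgroup (helper19)
-/

set_option autoImplicit false

namespace Cfsg.Agent.Lib.Helper19.AutPSL

open Matrix Cfsg.Agent.Lib.Helper27.SLTransv

section uu

variable {k : Type*} [Field k] {N : ℕ}

/-- upper unitriangular matrices -/
def IsUU (M : Matrix (Fin N) (Fin N) k) : Prop := (∀ i j, j < i → M i j = 0) ∧ ∀ i, M i i = 1

lemma isUU_one : IsUU (1 : Matrix (Fin N) (Fin N) k) :=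
  ⟨fun _ _ h => Matrix.one_apply_ne (ne_of_gt h), fun i => Matrix.one_apply_eq i⟩

lemma IsUU.mul {A B : Matrix (Fin N) (Fin N) k} (hA : IsUU A) (hB : IsUU B) : IsUU (A * B) := by
  constructor
  · intro i j hji
    rw [Matrix.mul_apply]
    apply Finset.sum_eq_zero
    intro l _
    by_cases hl : l < i
    · rw [hA.1 i l hl, zero_mul]
    · rw [hB.1 l j (lt_of_lt_of_le hji (not_lt.mp hl)), mul_zero]
  · intro i
    rw [Matrix.mul_apply, Finset.sum_eq_single i]
    · rw [hA.2, hB.2, one_mul]
    · intro l _ hl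
      rcases lt_or_gt_of_ne hl with h | h
      · rw [hA.1 i l h, zero_mul]
      · rw [hB.1 l i h, mul_zero]
    · intro h; exact absurd (Finset.mem_univ i) h

instance finite_SL [Fintype k] : Finite (Matrix.SpecialLinearGroup (Fin N) k) := by
  unfold Matrix.SpecialLinearGroup
  infer_instance

/-- the upper unitriangular subgroup -/
noncomputable def UU (k : Type*) [Field k] [Fintype k] (N : ℕ) :
    Subgroup (Matrix.SpecialLinearGroup (Fin N) k) where
  carrier := {g | IsUU (g : Matrix (Fin N) (Fin N) k)}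
  mul_mem' := fun {a b} ha hb => by
    show IsUU ((a * b : Matrix.SpecialLinearGroup (Fin N) k) : Matrix (Fin N) (Fin N) k)
    rw [Matrix.SpecialLinearGroup.coe_mul]; exact IsUU.mul ha hb
  one_mem' := by
    show IsUU ((1 : Matrix.SpecialLinearGroup (Fin N) k) : Matrix (Fin N) (Fin N) k)
    rw [Matrix.SpecialLinearGroup.coe_one]; exact isUU_one
  inv_mem' := fun {a} ha => by
    have hpow : ∀ m : ℕ, IsUU ((a ^ m : Matrix.SpecialLinearGroup (Fin N) k) :
        Matrix (Fin N) (Fin N) k) := by
      intro m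
      induction m with
      | zero => rw [pow_zero, Matrix.SpecialLinearGroup.coe_one]; exact isUU_one
      | succ m ih => rw [pow_succ, Matrix.SpecialLinearGroup.coe_mul]; exact IsUU.mul ih ha
    have h1 : a⁻¹ = a ^ (orderOf a - 1) := by
      rw [inv_eq_iff_mul_eq_one, ← pow_succ', Nat.sub_add_cancel (orderOf_pos a),
        pow_orderOf_eq_one]
    show IsUU ((a⁻¹ : Matrix.SpecialLinearGroup (Fin N) k) : Matrix (Fin N) (Fin N) k)
    rw [h1]; exact hpow _

lemma mem_UU [Fintype k] (g : Matrix.SpecialLinearGroup (Fin N) k) :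
    g ∈ UU k N ↔ IsUU (g : Matrix (Fin N) (Fin N) k) := Iff.rfl

/-- strictly upper index pairs -/
abbrev UPair (N : ℕ) := {p : Fin N × Fin N // p.1 < p.2}

lemma card_UPair (N : ℕ) : Fintype.card (UPair N) = N * (N - 1) / 2 := by
  classical
  rw [Fintype.card_subtype]
  have h1 : (Finset.univ.filter (fun p : Fin N × Fin N => p.1 < p.2)).card =
      ∑ j : Fin N, (j : ℕ) := by
    rw [Finset.card_filter, ← Finset.univ_product_univ, Finset.sum_product_right]
    apply Finset.sum_congr rfl
    intro j _
    rw [← Finset.card_filter]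
    have : (Finset.univ.filter (fun i : Fin N => i < j)) = Finset.Iio j := by
      ext i; simp
    rw [this, Fin.card_Iio]
  rw [h1, Fin.sum_univ_eq_sum_range (fun i => i) N, Finset.sum_range_id]

/-- the matrix attached to a function on strictly upper pairs -/
def ofFun (f : UPair N → k) : Matrix (Fin N) (Fin N) k :=
  fun i j => if h : i < j then f ⟨(i, j), h⟩ else if i = j then 1 else 0

lemma isUU_ofFun (f : UPair N → k) : IsUU (ofFun f) := by
  constructor
  · intro i j hji
    unfold ofFun
    rw [dif_neg (not_lt.mpr hji.le), if_neg (ne_of_gt hji)]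
  · intro i
    unfold ofFun
    rw [dif_neg (lt_irrefl i), if_pos rfl]

lemma det_of_isUU {M : Matrix (Fin N) (Fin N) k} (hM : IsUU M) : M.det = 1 := by
  rw [Matrix.det_of_upperTriangular (fun i j hji => hM.1 i j hji)]
  simp [hM.2]

variable [Fintype k]

/-- the parametrisation of the unitriangular group -/
noncomputable def uuEquiv : ↥(UU k N) ≃ (UPair N → k) where
  toFun g := fun p => ((g : Matrix.SpecialLinearGroup (Fin N) k) : Matrix (Fin N) (Fin N) k) p.1.1 p.1.2
  invFun f := ⟨⟨ofFun f, det_of_isUU (isUU_ofFun f)⟩, isUU_ofFun f⟩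
  left_inv g := by
    apply Subtype.ext
    apply Subtype.ext
    ext i j
    have hg : IsUU ((g : Matrix.SpecialLinearGroup (Fin N) k) : Matrix (Fin N) (Fin N) k) := g.2
    show ofFun (fun p : UPair N => ((g : Matrix.SpecialLinearGroup (Fin N) k) :
      Matrix (Fin N) (Fin N) k) p.1.1 p.1.2) i j = _
    unfold ofFun
    by_cases h : i < j
    · rw [dif_pos h]
    · rw [dif_neg h]
      by_cases h2 : i = j
      · rw [if_pos h2, h2, hg.2]
      · rw [if_neg h2, hg.1 i j (lt_of_le_of_ne (not_lt.mp h) (Ne.symm h2))]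
  right_inv f := by
    funext p
    show ofFun f p.1.1 p.1.2 = _
    unfold ofFun
    rw [dif_pos p.2]

lemma card_UU : Nat.card ↥(UU k N) = Fintype.card k ^ (N * (N - 1) / 2) := by
  classical
  rw [Nat.card_congr uuEquiv, Nat.card_eq_fintype_card, Fintype.card_fun, card_UPair]

end uu

end Cfsg.Agent.Lib.Helper19.AutPSL
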