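import Mathlib
import Cfsg.Agent.Lib.Helper19.AutPSL1
import Cfsg.Agent.Lib.Helper19.PSLGraph

/-!
# Automorphisms of `PSL_n(q)`, part 2: the unitriangular group is Sylow (helper19)
-/

set_option autoImplicit false

namespace Cfsg.Agent.Lib.Helper19.AutPSL

open Matrix Cfsg.Agent.Lib.Helper27.SLTransv Cfsg.Agent.Lib.Helper19.PSLGraph
open scoped Pointwise

section syl

variable {k : Type*} [Field k] [Fintype k] {N : ℕ}

/-- the projection to `PSL` -/
def prj : Matrix.SpecialLinearGroup (Fin N) k →* Matrix.ProjectiveSpecialLinearGroup (Fin N) k :=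
  QuotientGroup.mk' (Subgroup.center _)

lemma prj_apply (g : Matrix.SpecialLinearGroup (Fin N) k) :
    prj g = (QuotientGroup.mk g : Matrix.ProjectiveSpecialLinearGroup (Fin N) k) := rfl

lemma prj_surjective : Function.Surjective (prj : Matrix.SpecialLinearGroup (Fin N) k →* _) :=
  QuotientGroup.mk'_surjective _

lemma eq_one_of_mem_UU_center (g : Matrix.SpecialLinearGroup (Fin N) k) (hg : g ∈ UU k N)
    (hc : g ∈ Subgroup.center (Matrix.SpecialLinearGroup (Fin N) k)) : g = 1 := by
  obtain ⟨r, _, hr⟩ := Matrix.SpecialLinearGroup.mem_center_iff.mp hc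
  apply Subtype.ext
  ext i j
  have h1 : (g : Matrix (Fin N) (Fin N) k) i i = 1 := hg.2 i
  rw [← hr, Matrix.scalar_apply, Matrix.diagonal_apply_eq] at h1
  rw [← hr, h1]
  simp

lemma prj_injOn_UU (g h : Matrix.SpecialLinearGroup (Fin N) k) (hg : g ∈ UU k N) (hh : h ∈ UU k N)
    (e : prj g = prj h) : g = h := by
  have h1 : g⁻¹ * h ∈ Subgroup.center (Matrix.SpecialLinearGroup (Fin N) k) := by
    rw [prj_apply, prj_apply, QuotientGroup.eq] at e
    exact e
  have h2 := eq_one_of_mem_UU_center _ ((UU k N).mul_mem ((UU k N).inv_mem hg) hh) h1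
  rw [inv_mul_eq_one] at h2
  exact h2

/-- the image of the unitriangular group in `PSL` -/
noncomputable def Ubar (k : Type*) [Field k] [Fintype k] (N : ℕ) :
    Subgroup (Matrix.ProjectiveSpecialLinearGroup (Fin N) k) := (UU k N).map prj

lemma card_Ubar : Nat.card ↥(Ubar k N) = Fintype.card k ^ (N * (N - 1) / 2) := by
  rw [← card_UU (k := k) (N := N)]
  have hinj : Function.Injective ((prj (k := k) (N := N)).comp (UU k N).subtype) := by
    intro a b hab
    exact Subtype.ext (prj_injOn_UU _ _ a.2 b.2 hab)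
  have hr : Ubar k N = ((prj (k := k) (N := N)).comp (UU k N).subtype).range := by
    unfold Ubar
    rw [MonoidHom.range_comp, Subgroup.range_subtype]
  rw [hr]
  exact (Nat.card_congr (MonoidHom.ofInjective hinj).toEquiv).symm

instance finite_PSL : Finite (Matrix.ProjectiveSpecialLinearGroup (Fin N) k) := by
  unfold Matrix.ProjectiveSpecialLinearGroup
  infer_instance

variable (p : ℕ) [Fact p.Prime] [CharP k p]

lemma card_Ubar_eq :
    Nat.card ↥(Ubar k N) =
      p ^ (Nat.card (Matrix.ProjectiveSpecialLinearGroup (Fin N) k)).factorization p := by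
  classical
  have hp : p.Prime := Fact.out
  obtain ⟨P⟩ : Nonempty (Sylow p (Matrix.GeneralLinearGroup (Fin N) k)) := inferInstance
  have h1 : Nat.card P = Fintype.card k ^ (N * (N - 1) / 2) :=
    Cfsg.Agent.S0263.result rfl p N P
  have h2 := Sylow.card_eq_multiplicity P
  set e := (Nat.card (Matrix.GeneralLinearGroup (Fin N) k)).factorization p with he
  have h3 : Nat.card ↥(Ubar k N) = p ^ e := by rw [card_Ubar, ← h1, h2]
  have hT0 : Nat.card (Matrix.ProjectiveSpecialLinearGroup (Fin N) k) ≠ 0 := Nat.card_pos.ne'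
  have hG0 : Nat.card (Matrix.GeneralLinearGroup (Fin N) k) ≠ 0 := Nat.card_pos.ne'
  have h4 : Nat.card (Matrix.ProjectiveSpecialLinearGroup (Fin N) k) ∣
      Nat.card (Matrix.GeneralLinearGroup (Fin N) k) := by
    have ha : Nat.card (Matrix.ProjectiveSpecialLinearGroup (Fin N) k) ∣
        Nat.card (Matrix.SpecialLinearGroup (Fin N) k) :=
      Subgroup.card_quotient_dvd_card _
    have hb : Nat.card (Matrix.SpecialLinearGroup (Fin N) k) ∣
        Nat.card (Matrix.GeneralLinearGroup (Fin N) k) :=
      Subgroup.card_dvd_of_injective (Matrix.SpecialLinearGroup.toGL)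
        (by
          intro a b hab
          apply Subtype.ext
          have := congrArg (fun g : Matrix.GeneralLinearGroup (Fin N) k =>
            (g : Matrix (Fin N) (Fin N) k)) hab
          exact this)
    exact ha.trans hb
  have h5 : p ^ e ∣ Nat.card (Matrix.ProjectiveSpecialLinearGroup (Fin N) k) := by
    rw [← h3]; exact Subgroup.card_subgroup_dvd_card _
  have h6 : e ≤ (Nat.card (Matrix.ProjectiveSpecialLinearGroup (Fin N) k)).factorization p :=
    (hp.pow_dvd_iff_le_factorization hT0).mp h5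
  have h7 : (Nat.card (Matrix.ProjectiveSpecialLinearGroup (Fin N) k)).factorization p ≤ e :=
    (Nat.factorization_le_iff_dvd hT0 hG0).mpr h4 p
  rw [h3, le_antisymm h6 h7]

include p in
/-- every automorphism maps `Ubar` to a conjugate -/
theorem exists_conj_Ubar (β : MulAut (Matrix.ProjectiveSpecialLinearGroup (Fin N) k)) :
    ∃ t : Matrix.ProjectiveSpecialLinearGroup (Fin N) k,
      ∀ x, x ∈ Ubar k N ↔ t⁻¹ * β x * t ∈ Ubar k N := by
  classical
  set P₁ : Sylow p (Matrix.ProjectiveSpecialLinearGroup (Fin N) k) :=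
    Sylow.ofCard (Ubar k N) (card_Ubar_eq p) with hP₁
  have hc : Nat.card ↥((Ubar k N).map β.toMonoidHom) =
      p ^ (Nat.card (Matrix.ProjectiveSpecialLinearGroup (Fin N) k)).factorization p := by
    rw [Subgroup.card_map_of_injective β.injective]; exact card_Ubar_eq p
  set P₂ : Sylow p (Matrix.ProjectiveSpecialLinearGroup (Fin N) k) :=
    Sylow.ofCard ((Ubar k N).map β.toMonoidHom) hc with hP₂
  obtain ⟨t, ht⟩ := MulAction.exists_smul_eq (Matrix.ProjectiveSpecialLinearGroup (Fin N) k) P₁ P₂
  have ht' : MulAut.conj t • (Ubar k N) = (Ubar k N).map β.toMonoidHom := by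
    have := congrArg (fun P : Sylow p (Matrix.ProjectiveSpecialLinearGroup (Fin N) k) =>
      (P : Subgroup (Matrix.ProjectiveSpecialLinearGroup (Fin N) k))) ht
    simpa [hP₁, hP₂, Sylow.coe_subgroup_smul] using this
  refine ⟨t, fun x => ?_⟩
  constructor
  · intro hx
    have h1 : β x ∈ (Ubar k N).map β.toMonoidHom := ⟨x, hx, rfl⟩
    rw [← ht', Subgroup.mem_smul_pointwise_iff_exists] at h1
    obtain ⟨s, hs, hs'⟩ := h1
    rw [← hs', MulAut.smul_def, MulAut.conj_apply]
    have : t⁻¹ * (t * s * t⁻¹) * t = s := by group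
    rw [this]; exact hs
  · intro hx
    have h1 : β x ∈ MulAut.conj t • (Ubar k N) := by
      rw [Subgroup.mem_smul_pointwise_iff_exists]
      refine ⟨_, hx, ?_⟩
      rw [MulAut.smul_def, MulAut.conj_apply]
      group
    rw [ht'] at h1
    obtain ⟨x', hx', e⟩ := h1
    have : x' = x := β.injective e
    rw [← this]; exact hx'

end syl

end Cfsg.Agent.Lib.Helper19.AutPSL
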