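import Mathlib
import Cfsg.Agent.Lib.Helper19.AutPSL2
import Cfsg.Agent.Lib.Helper24.Transv2

/-!
# Automorphisms of `PSL_n(q)`, part 3: root elements are preserved (helper19)
-/

set_option autoImplicit false

namespace Cfsg.Agent.Lib.Helper19.AutPSL

open Matrix Cfsg.Agent.Lib.Helper27.SLTransv Cfsg.Agent.Lib.Helper19.PSLGraph

section elem

variable {k : Type*} [Field k] {N : ℕ}

/-- elementary root elements -/
noncomputable def xe (i j : Fin N) (c : k) : Matrix.SpecialLinearGroup (Fin N) k :=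
  tvl (ev i) (ev j) c

lemma xe_coe {i j : Fin N} (hij : i ≠ j) (c : k) :
    (xe i j c : Matrix (Fin N) (Fin N) k) = 1 + Matrix.single i j c := by
  unfold xe
  rw [tvl_ev_coe hij, Matrix.transvection]

lemma xe_add (i j : Fin N) (c d : k) : xe i j (c + d) = xe i j c * xe i j d := by
  unfold xe; rw [tvl_mul]

lemma xe_zero (i j : Fin N) : xe i j (0 : k) = 1 := by unfold xe; rw [tvl_zero]

lemma isUU_xe {i j : Fin N} (hij : i < j) (c : k) :
    IsUU (xe i j c : Matrix (Fin N) (Fin N) k) := by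
  rw [xe_coe (ne_of_lt hij)]
  constructor
  · intro a b hba
    rw [Matrix.add_apply, Matrix.one_apply_ne (ne_of_gt hba), zero_add, Matrix.single_apply,
      if_neg]
    rintro ⟨rfl, rfl⟩
    exact absurd hij (not_lt.mpr hba.le)
  · intro a
    rw [Matrix.add_apply, Matrix.one_apply_eq, Matrix.single_apply, if_neg, add_zero]
    rintro ⟨rfl, h⟩
    exact (ne_of_lt hij) h.symm

end elem

section centre

variable {k : Type*} [Field k] [Fintype k] {m : ℕ}

lemma zero_ne_last : (0 : Fin (m + 3)) ≠ Fin.last (m + 2) := by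
  intro h
  have := congrArg Fin.val h
  simp at this

/-- elements of the unitriangular group commuting with all elementary upper root elements lie in
the highest root group -/
lemma centre_UU (g : Matrix.SpecialLinearGroup (Fin (m + 3)) k) (hg : g ∈ UU k (m + 3))
    (hc : ∀ i j : Fin (m + 3), i < j → g * xe i j (1 : k) = xe i j 1 * g) :
    ∃ s : k, g = xe 0 (Fin.last (m + 2)) s := by
  classical
  set G : Matrix (Fin (m + 3)) (Fin (m + 3)) k := (g : Matrix (Fin (m + 3)) (Fin (m + 3)) k) with hG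
  have hcm : ∀ i j : Fin (m + 3), i < j → G * Matrix.single i j (1 : k) = Matrix.single i j 1 * G := by
    intro i j hij
    have h1 := congrArg (fun x : Matrix.SpecialLinearGroup (Fin (m + 3)) k =>
      (x : Matrix (Fin (m + 3)) (Fin (m + 3)) k)) (hc i j hij)
    simp only [Matrix.SpecialLinearGroup.coe_mul] at h1
    rw [xe_coe (ne_of_lt hij), mul_add, add_mul, mul_one, one_mul] at h1
    exact add_left_cancel h1
  have hz : ∀ a b : Fin (m + 3), a ≠ b → ¬ (a = 0 ∧ b = Fin.last (m + 2)) → G a b = 0 := by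
    intro a b hab hnot
    rcases lt_or_gt_of_ne hab with hlt | hgt
    · by_cases ha : a = 0
      · have hb : b ≠ Fin.last (m + 2) := fun hb => hnot ⟨ha, hb⟩
        have hbl : b < Fin.last (m + 2) := Fin.lt_last_iff_ne_last.mpr hb
        have h1 := congrFun (congrFun (hcm b (Fin.last (m + 2)) hbl) a) (Fin.last (m + 2))
        rw [Matrix.mul_single_apply_same, mul_one,
          Matrix.single_mul_apply_of_ne (h := hab)] at h1
        exact h1
      · have ha0 : (0 : Fin (m + 3)) < a := Fin.pos_iff_ne_zero.mpr ha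
        have h1 := congrFun (congrFun (hcm 0 a ha0) 0) b
        rw [Matrix.mul_single_apply_of_ne (hbj := Ne.symm hab), Matrix.single_mul_apply_same,
          one_mul] at h1
        exact h1.symm
    · exact hg.1 a b hgt
  refine ⟨G 0 (Fin.last (m + 2)), ?_⟩
  apply Subtype.ext
  rw [xe_coe zero_ne_last]
  ext a b
  rw [Matrix.add_apply, Matrix.single_apply]
  by_cases hab : a = b
  · subst hab
    rw [Matrix.one_apply_eq, if_neg, add_zero]
    · exact hg.2 a
    · rintro ⟨h1, h2⟩
      exact zero_ne_last (h1.trans h2.symm)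
  · rw [Matrix.one_apply_ne hab, zero_add]
    by_cases h : (0 : Fin (m + 3)) = a ∧ Fin.last (m + 2) = b
    · rw [if_pos h, ← h.1, ← h.2]
    · rw [if_neg h]
      exact hz a b hab (fun h' => h ⟨h'.1.symm, h'.2.symm⟩)

end centre

section root

variable {k : Type*} [Field k] {N : ℕ}

/-- root elements of `PSL` -/
def rootSet (k : Type*) [Field k] (N : ℕ) : Set (Matrix.ProjectiveSpecialLinearGroup (Fin N) k) :=
  {x | ∃ a φ : Fin N → k, Inc a φ ∧
    x = (QuotientGroup.mk (tvl a φ 1) : Matrix.ProjectiveSpecialLinearGroup (Fin N) k)}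

lemma rootSet_conj {x : Matrix.ProjectiveSpecialLinearGroup (Fin N) k} (hx : x ∈ rootSet k N)
    (t : Matrix.ProjectiveSpecialLinearGroup (Fin N) k) : t * x * t⁻¹ ∈ rootSet k N := by
  obtain ⟨a, φ, hi, rfl⟩ := hx
  induction t using QuotientGroup.induction_on with
  | H g =>
    refine ⟨sact g a, ract φ g⁻¹, inc_conj g hi, ?_⟩
    rw [← conj_tvl g hi.2.2]
    rfl

lemma inc_smul_left {a φ : Fin N → k} (hi : Inc a φ) {c : k} (hc : c ≠ 0) : Inc (c • a) φ :=
  ⟨smul_ne_zero hc hi.1, hi.2.1, by rw [dotProduct_smul, hi.2.2, smul_zero]⟩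

lemma mk_tvl_mem_rootSet {a φ : Fin N → k} (hi : Inc a φ) {c : k} (hc : c ≠ 0) :
    (QuotientGroup.mk (tvl a φ c) : Matrix.ProjectiveSpecialLinearGroup (Fin N) k) ∈ rootSet k N := by
  refine ⟨c • a, φ, inc_smul_left hi hc, ?_⟩
  rw [tvl_smul_left hi.2.2, mul_one]

end root

section inv

variable {k : Type*} [Field k] [Fintype k] {m : ℕ}

omit [Fintype k] in
/-- every root element is conjugate to the highest root element -/
lemma rootSet_conj_std {x : Matrix.ProjectiveSpecialLinearGroup (Fin (m + 3)) k}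
    (hx : x ∈ rootSet k (m + 3)) :
    ∃ t : Matrix.ProjectiveSpecialLinearGroup (Fin (m + 3)) k,
      x = t * (QuotientGroup.mk (xe 0 (Fin.last (m + 2)) (1 : k))) * t⁻¹ := by
  obtain ⟨a, φ, hi, rfl⟩ := hx
  have ht1 : Cfsg.Agent.Lib.Helper24.Transv2.IsTv (tvl a φ (1 : k)) :=
    ⟨a, φ, hi.1, hi.2.1, hi.2.2, by rw [tvl_coe hi.2.2, one_smul]⟩
  have hi0 := inc_ev (k := k) (zero_ne_last (m := m))
  have ht0 : Cfsg.Agent.Lib.Helper24.Transv2.IsTv (xe 0 (Fin.last (m + 2)) (1 : k)) :=
    ⟨ev 0, ev (Fin.last (m + 2)), hi0.1, hi0.2.1, hi0.2.2, by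
      unfold xe; rw [tvl_coe hi0.2.2, one_smul]⟩
  have hc := Cfsg.Agent.Lib.Helper24.Transv2.IsTv.isConj ht0 ht1
  rw [isConj_iff] at hc
  obtain ⟨g, hg⟩ := hc
  refine ⟨QuotientGroup.mk g, ?_⟩
  rw [← hg]
  rfl

variable (p : ℕ) [Fact p.Prime] [CharP k p]

include p in
/-- automorphisms preserve the set of root elements -/
theorem aut_rootSet (β : MulAut (Matrix.ProjectiveSpecialLinearGroup (Fin (m + 3)) k))
    {x : Matrix.ProjectiveSpecialLinearGroup (Fin (m + 3)) k} (hx : x ∈ rootSet k (m + 3)) :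
    β x ∈ rootSet k (m + 3) := by
  obtain ⟨t₁, rfl⟩ := rootSet_conj_std hx
  obtain ⟨t, ht⟩ := exists_conj_Ubar p β
  set x₀ : Matrix.ProjectiveSpecialLinearGroup (Fin (m + 3)) k :=
    QuotientGroup.mk (xe 0 (Fin.last (m + 2)) (1 : k)) with hx₀
  have hx₀U : x₀ ∈ Ubar k (m + 3) :=
    ⟨_, isUU_xe (Fin.pos_iff_ne_zero.mpr zero_ne_last.symm |>.trans_le le_rfl) 1, rfl⟩
  -- `y = t⁻¹ β x₀ t` is central in `Ubar`
  set y := t⁻¹ * β x₀ * t with hy
  have hyU : y ∈ Ubar k (m + 3) := (ht x₀).mp hx₀U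
  obtain ⟨u, hu, huy⟩ := hyU
  have hcomm : ∀ i j : Fin (m + 3), i < j → u * xe i j (1 : k) = xe i j 1 * u := by
    intro i j hij
    -- the element `z` of `Ubar` with `t⁻¹ β z t = mk (xe i j 1)`
    set w : Matrix.ProjectiveSpecialLinearGroup (Fin (m + 3)) k :=
      QuotientGroup.mk (xe i j (1 : k)) with hw
    have hwU : w ∈ Ubar k (m + 3) := ⟨_, isUU_xe hij 1, rfl⟩
    set z := β.symm (t * w * t⁻¹) with hz
    have hzw : t⁻¹ * β z * t = w := by
      rw [hz, MulEquiv.apply_symm_apply]; group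
    have hzU : z ∈ Ubar k (m + 3) := (ht z).mpr (by rw [hzw]; exact hwU)
    -- `x₀` commutes with `z`
    obtain ⟨uz, huz, huzz⟩ := hzU
    have h1 : xe 0 (Fin.last (m + 2)) (1 : k) * uz = uz * xe 0 (Fin.last (m + 2)) 1 := by
      have hi0 := inc_ev (k := k) (zero_ne_last (m := m))
      apply sact_ext
      intro v
      have huzU : IsUU (uz : Matrix (Fin (m + 3)) (Fin (m + 3)) k) := huz
      unfold xe
      rw [sact_mul, sact_mul, sact_tvl hi0.2.2, sact_tvl hi0.2.2, sact_add, sact_smul]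
      have e1 : (ev (Fin.last (m + 2)) : Fin (m + 3) → k) ⬝ᵥ sact uz v
          = (ev (Fin.last (m + 2)) : Fin (m + 3) → k) ⬝ᵥ v := by
        unfold sact ev
        rw [single_one_dotProduct, single_one_dotProduct, Matrix.mulVec, dotProduct,
          Finset.sum_eq_single (Fin.last (m + 2))]
        · rw [huzU.2, one_mul]
        · intro b _ hb
          rw [huzU.1 _ _ (Fin.lt_last_iff_ne_last.mpr hb), zero_mul]
        · intro h; exact absurd (Finset.mem_univ _) h
      have e2 : sact uz (ev 0) = (ev 0 : Fin (m + 3) → k) := by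
        unfold sact ev
        rw [Matrix.mulVec_single_one]
        ext a
        rw [Matrix.col_apply, Pi.single_apply]
        by_cases ha : a = 0
        · rw [if_pos ha, ha, huzU.2]
        · rw [if_neg ha, huzU.1 _ _ (Fin.pos_iff_ne_zero.mpr ha)]
      rw [e1, e2]
    have h2 : x₀ * z = z * x₀ := by
      rw [hx₀, ← huzz]
      show prj _ * prj _ = prj _ * prj _
      rw [← map_mul, ← map_mul, h1]
    have h3 : y * w = w * y := by
      rw [hy, ← hzw]
      have : t⁻¹ * β x₀ * t * (t⁻¹ * β z * t) = t⁻¹ * β (x₀ * z) * t := by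
        rw [map_mul]; group
      rw [this, h2, map_mul]; group
    rw [← huy, hw] at h3
    have h4 : prj (u * xe i j (1 : k)) = prj (xe i j 1 * u) := by
      rw [map_mul, map_mul]; exact h3
    exact prj_injOn_UU _ _ ((UU k (m + 3)).mul_mem hu (isUU_xe hij 1))
      ((UU k (m + 3)).mul_mem (isUU_xe hij 1) hu) h4
  obtain ⟨s, hs⟩ := centre_UU u hu hcomm
  have hs0 : s ≠ 0 := by
    rintro rfl
    rw [xe_zero] at hs
    have : y = 1 := by rw [← huy, hs, map_one]
    have h5 : β x₀ = 1 := by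
      have : β x₀ = t * y * t⁻¹ := by rw [hy]; group
      rw [this, ‹y = 1›]; group
    have h6 : x₀ = 1 := by
      have := β.injective (h5.trans (map_one β).symm)
      exact this
    have h7 : xe 0 (Fin.last (m + 2)) (1 : k) ∈
        Subgroup.center (Matrix.SpecialLinearGroup (Fin (m + 3)) k) := by
      rw [hx₀] at h6
      exact (QuotientGroup.eq_one_iff _).mp h6
    have h8 := eq_one_of_mem_UU_center _
      (isUU_xe (Fin.pos_iff_ne_zero.mpr zero_ne_last.symm) (1 : k)) h7
    have hi0 := inc_ev (k := k) (zero_ne_last (m := m))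
    exact tvl_ne_one hi0.2.2 hi0.1 hi0.2.1 one_ne_zero h8
  have hyroot : y ∈ rootSet k (m + 3) := by
    rw [← huy, hs]
    exact mk_tvl_mem_rootSet (inc_ev zero_ne_last) hs0
  have hfin : β (t₁ * x₀ * t₁⁻¹) = (β t₁ * t) * y * (β t₁ * t)⁻¹ := by
    rw [map_mul, map_mul, map_inv, hy]; group
  rw [hfin]
  exact rootSet_conj hyroot _

end inv

end Cfsg.Agent.Lib.Helper19.AutPSL
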