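import Mathlib
import Cfsg.Agent.Lib.Helper19.AutPSL3

/-!
# Automorphisms of `PSL_n(q)`, part 4: products of two root elements (helper19)
-/

set_option autoImplicit false

namespace Cfsg.Agent.Lib.Helper19.AutPSL

open Matrix Cfsg.Agent.Lib.Helper27.SLTransv Cfsg.Agent.Lib.Helper19.PSLGraph

section par

variable {k : Type*} [Field k] {N : ℕ}

/-- proportional vectors -/
def Par (a b : Fin N → k) : Prop := ∃ c : k, c ≠ 0 ∧ b = c • a

lemma Par.symm {a b : Fin N → k} (h : Par a b) : Par b a := by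
  obtain ⟨c, hc, rfl⟩ := h
  exact ⟨c⁻¹, inv_ne_zero hc, by rw [smul_smul, inv_mul_cancel₀ hc, one_smul]⟩

lemma Par.refl (a : Fin N → k) : Par a a := ⟨1, one_ne_zero, (one_smul _ _).symm⟩

lemma Par.trans {a b c : Fin N → k} (h : Par a b) (h' : Par b c) : Par a c := by
  obtain ⟨x, hx, rfl⟩ := h
  obtain ⟨y, hy, rfl⟩ := h'
  exact ⟨y * x, mul_ne_zero hy hx, by rw [smul_smul]⟩

lemma exists_ne_zero_coord {a : Fin N → k} (ha : a ≠ 0) : ∃ i, a i ≠ 0 := by
  by_contra hne
  apply ha
  funext j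
  by_contra hj
  exact hne ⟨j, hj⟩

lemma par_of_minors {a b : Fin N → k} (ha : a ≠ 0) (hb : b ≠ 0)
    (h : ∀ i l, a i * b l = a l * b i) : Par a b := by
  obtain ⟨i, hi⟩ := exists_ne_zero_coord ha
  have hb' : b = (b i / a i) • a := by
    funext l
    rw [Pi.smul_apply, smul_eq_mul]
    field_simp
    rw [mul_comm, h i l, mul_comm]
  refine ⟨b i / a i, ?_, hb'⟩
  intro h0
  rw [h0, zero_smul] at hb'
  exact hb hb'

/-- the rank argument -/
lemma par_of_rank {a φ b ψ c χ : Fin N → k} (hi : Inc a φ) (hi' : Inc b ψ)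
    (h : ∀ v : Fin N → k,
      (χ ⬝ᵥ v) • c = (ψ ⬝ᵥ v) • b + (φ ⬝ᵥ v + (ψ ⬝ᵥ v) * (φ ⬝ᵥ b)) • a) :
    Par a b ∨ Par φ ψ := by
  classical
  by_cases hab : Par a b
  · exact Or.inl hab
  right
  have hex : ∃ i l, a i * b l ≠ a l * b i := by
    by_contra hne
    push Not at hne
    exact hab (par_of_minors hi.1 hi'.1 hne)
  obtain ⟨i, l, hil⟩ := hex
  set D := a i * b l - a l * b i with hD
  have hD0 : D ≠ 0 := sub_ne_zero.mpr hil
  set φ' : Fin N → k := fun j => φ j + ψ j * (φ ⬝ᵥ b) with hφ'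
  -- coordinates
  have hco : ∀ i' j, χ j * c i' = ψ j * b i' + φ' j * a i' := by
    intro i' j
    have := congrFun (h (Pi.single j 1)) i'
    simp only [dotProduct_single_one, Pi.add_apply, Pi.smul_apply, smul_eq_mul] at this
    rw [this]
  set A := c i * b l - c l * b i with hA
  set B := a i * c l - a l * c i with hB
  have h1 : ∀ j, D * φ' j = A * χ j := by
    intro j
    have e1 := hco i j
    have e2 := hco l j
    rw [hD, hA]
    linear_combination (-b l) * e1 + (b i) * e2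
  have h2 : ∀ j, D * ψ j = B * χ j := by
    intro j
    have e1 := hco i j
    have e2 := hco l j
    rw [hD, hB]
    linear_combination (a l) * e1 - (a i) * e2
  have hB0 : B ≠ 0 := by
    intro hB0
    apply hi'.2.1
    funext j
    have := h2 j
    rw [hB0, zero_mul] at this
    rcases mul_eq_zero.mp this with h | h
    · exact absurd h hD0
    · exact h
  -- `φ' = (A / B) ψ`
  have h3 : ∀ j, φ' j = (A / B) * ψ j := by
    intro j
    have e1 := h1 j
    have e2 := h2 j
    have : D * (B * φ' j) = D * (A * ψ j) := by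
      calc D * (B * φ' j) = B * (D * φ' j) := by ring
        _ = B * (A * χ j) := by rw [e1]
        _ = A * (B * χ j) := by ring
        _ = A * (D * ψ j) := by rw [e2]
        _ = D * (A * ψ j) := by ring
    have := mul_left_cancel₀ hD0 this
    field_simp
    rw [mul_comm (φ' j) B, this]
  -- `φ = μ ψ`
  set μ := A / B - φ ⬝ᵥ b with hμ
  have h4 : φ = μ • ψ := by
    funext j
    have := h3 j
    rw [hφ'] at this
    simp only at this
    rw [Pi.smul_apply, smul_eq_mul, hμ]
    linear_combination this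
  have hμ0 : μ ≠ 0 := by
    intro h0
    rw [h0, zero_smul] at h4
    exact hi.2.1 h4
  exact Par.symm ⟨μ, hμ0, h4⟩

end par

section prod

variable {k : Type*} [Field k] {m : ℕ}

/-- a common zero of two linear forms -/
lemma exists_common_kernel (φ ψ : Fin (m + 3) → k) :
    ∃ x : Fin (m + 3) → k, x ≠ 0 ∧ φ ⬝ᵥ x = 0 ∧ ψ ⬝ᵥ x = 0 := by
  classical
  set M : Matrix (Fin (m + 3)) (Fin (m + 3)) k :=
    Matrix.of (fun i => if i = 0 then φ else if i = 1 then ψ else 0) with hM
  have hdet : M.det = 0 := by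
    apply Matrix.det_eq_zero_of_row_eq_zero 2
    intro j
    rw [hM, Matrix.of_apply, if_neg (fin_zero_ne_two m).symm, if_neg (fin_one_ne_two m).symm]
    rfl
  obtain ⟨v, hv, hMv⟩ := Matrix.exists_mulVec_eq_zero_iff.mpr hdet
  refine ⟨v, hv, ?_, ?_⟩
  · have := congrFun hMv 0
    rw [Matrix.mulVec, hM] at this
    simpa using this
  · have := congrFun hMv 1
    rw [Matrix.mulVec, hM] at this
    simpa [(fin_zero_ne_one m).symm] using this

lemma sact_coe_smul {g h : Matrix.SpecialLinearGroup (Fin (m + 3)) k} {r : k}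
    (e : (g : Matrix (Fin (m + 3)) (Fin (m + 3)) k) = r • (h : Matrix (Fin (m + 3)) (Fin (m + 3)) k))
    (v : Fin (m + 3) → k) : sact g v = r • sact h v := by
  unfold sact
  rw [e, Matrix.smul_mulVec]

/-- products of two root elements which are root elements or trivial -/
lemma prod_root_aux {a φ b ψ : Fin (m + 3) → k} (hi : Inc a φ) (hi' : Inc b ψ)
    (h : ((QuotientGroup.mk (tvl a φ 1) : Matrix.ProjectiveSpecialLinearGroup (Fin (m + 3)) k) *
        QuotientGroup.mk (tvl b ψ 1)) ∈ rootSet k (m + 3) ∨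
      ((QuotientGroup.mk (tvl a φ 1) : Matrix.ProjectiveSpecialLinearGroup (Fin (m + 3)) k) *
        QuotientGroup.mk (tvl b ψ 1)) = 1) :
    ∃ c χ : Fin (m + 3) → k, ∀ v : Fin (m + 3) → k,
      (χ ⬝ᵥ v) • c = (ψ ⬝ᵥ v) • b + (φ ⬝ᵥ v + (ψ ⬝ᵥ v) * (φ ⬝ᵥ b)) • a := by
  obtain ⟨x, hx0, hφx, hψx⟩ := exists_common_kernel φ ψ
  set s := tvl a φ (1 : k) * tvl b ψ 1 with hs
  have hsv : ∀ v, sact s v = v + (ψ ⬝ᵥ v) • b + (φ ⬝ᵥ v + (ψ ⬝ᵥ v) * (φ ⬝ᵥ b)) • a := by
    intro v
    rw [hs, sact_tvl_tvl hi.2.2 hi'.2.2, one_mul, one_mul]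
  have hsx : sact s x = x := by
    rw [hsv, hφx, hψx, zero_mul, add_zero, zero_smul, zero_smul, add_zero, add_zero]
  rcases h with h | h
  · obtain ⟨c, χ, hic, hc⟩ := h
    have hc' : (QuotientGroup.mk s : Matrix.ProjectiveSpecialLinearGroup (Fin (m + 3)) k) =
        QuotientGroup.mk (tvl c χ 1) := hc
    obtain ⟨r, _, hr⟩ := (mk_eq_iff _ _).mp hc'
    have hrv := sact_coe_smul hr
    have hr1 : r = 1 := by
      have h1 := hrv x
      rw [hsx, sact_tvl hic.2.2, one_mul] at h1
      have h2 := congrArg (fun y => χ ⬝ᵥ y) h1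
      simp only [dotProduct_add, dotProduct_smul, smul_eq_mul, hic.2.2, mul_zero, add_zero] at h2
      by_cases hχx : χ ⬝ᵥ x = 0
      · rw [hχx, zero_smul, add_zero] at h1
        have h3 : (1 - r) • x = 0 := by rw [sub_smul, one_smul, ← h1, sub_self]
        rcases smul_eq_zero.mp h3 with h4 | h4
        · exact (sub_eq_zero.mp h4).symm
        · exact absurd h4 hx0
      · have h3 : (1 - r) * (χ ⬝ᵥ x) = 0 := by linear_combination h2
        rcases mul_eq_zero.mp h3 with h4 | h4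
        · exact (sub_eq_zero.mp h4).symm
        · exact absurd h4 hχx
    refine ⟨c, χ, fun v => ?_⟩
    have h1 := hrv v
    rw [hr1, one_smul, hsv, sact_tvl hic.2.2, one_mul, add_assoc] at h1
    exact add_left_cancel h1
  · have hc' : (QuotientGroup.mk s : Matrix.ProjectiveSpecialLinearGroup (Fin (m + 3)) k) =
        QuotientGroup.mk (1 : Matrix.SpecialLinearGroup (Fin (m + 3)) k) := h
    obtain ⟨r, _, hr⟩ := (mk_eq_iff _ _).mp hc'
    have hrv := sact_coe_smul hr
    have hr1 : r = 1 := by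
      have h1 := hrv x
      rw [hsx, sact_one] at h1
      have h3 : (1 - r) • x = 0 := by rw [sub_smul, one_smul, ← h1, sub_self]
      rcases smul_eq_zero.mp h3 with h4 | h4
      · exact (sub_eq_zero.mp h4).symm
      · exact absurd h4 hx0
    refine ⟨0, 0, fun v => ?_⟩
    have h1 := hrv v
    rw [hr1, one_smul, hsv, sact_one, add_assoc] at h1
    rw [smul_zero]
    have : v + 0 = v + ((ψ ⬝ᵥ v) • b + (φ ⬝ᵥ v + (ψ ⬝ᵥ v) * (φ ⬝ᵥ b)) • a) := by
      rw [add_zero]; exact h1
    exact add_left_cancel this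

/-- two root elements whose product is a root element or trivial share the centre or the axis -/
theorem par_of_prod {a φ b ψ : Fin (m + 3) → k} (hi : Inc a φ) (hi' : Inc b ψ)
    (h : ((QuotientGroup.mk (tvl a φ 1) : Matrix.ProjectiveSpecialLinearGroup (Fin (m + 3)) k) *
        QuotientGroup.mk (tvl b ψ 1)) ∈ rootSet k (m + 3) ∨
      ((QuotientGroup.mk (tvl a φ 1) : Matrix.ProjectiveSpecialLinearGroup (Fin (m + 3)) k) *
        QuotientGroup.mk (tvl b ψ 1)) = 1) :
    Par a b ∨ Par φ ψ := by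
  obtain ⟨c, χ, hc⟩ := prod_root_aux hi hi' h
  exact par_of_rank hi hi' hc

end prod

end Cfsg.Agent.Lib.Helper19.AutPSL
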