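import Mathlib
import Cfsg.Agent.Lib.Helper19.AutPSL4

/-!
# Automorphisms of `PSL_n(q)`, part 5: point and hyperplane subgroups (helper19)
-/

set_option autoImplicit false

namespace Cfsg.Agent.Lib.Helper19.AutPSL

open Matrix Cfsg.Agent.Lib.Helper27.SLTransv Cfsg.Agent.Lib.Helper19.PSLGraph

section sub

variable {k : Type*} [Field k] {N : ℕ}

lemma tvl_add_right {a φ φ' : Fin N → k} (h : φ ⬝ᵥ a = 0) (h' : φ' ⬝ᵥ a = 0) (c : k) :
    tvl a φ c * tvl a φ' c = tvl a (φ + φ') c := by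
  have h'' : (φ + φ') ⬝ᵥ a = 0 := by rw [add_dotProduct, h, h', add_zero]
  apply sact_ext
  intro x
  rw [sact_mul, sact_tvl h', sact_tvl h, sact_tvl h'', dotProduct_add, dotProduct_smul, h,
    smul_zero, add_zero, add_dotProduct]
  module

lemma tvl_add_left {a a' φ : Fin N → k} (h : φ ⬝ᵥ a = 0) (h' : φ ⬝ᵥ a' = 0) (c : k) :
    tvl a φ c * tvl a' φ c = tvl (a + a') φ c := by
  have h'' : φ ⬝ᵥ (a + a') = 0 := by rw [dotProduct_add, h, h', add_zero]
  apply sact_ext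
  intro x
  rw [sact_mul, sact_tvl h', sact_tvl h, sact_tvl h'', dotProduct_add, dotProduct_smul, h',
    smul_zero, add_zero]
  module

lemma tvl_zero_right (a : Fin N → k) (c : k) : tvl a (0 : Fin N → k) c = 1 := by
  apply sact_ext
  intro x
  rw [sact_tvl (zero_dotProduct a), zero_dotProduct, mul_zero, zero_smul, add_zero, sact_one]

lemma tvl_zero_left (φ : Fin N → k) (c : k) : tvl (0 : Fin N → k) φ c = 1 := by
  apply sact_ext
  intro x
  rw [sact_tvl (dotProduct_zero φ), smul_zero, add_zero, sact_one]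

lemma tvl_neg_right {a φ : Fin N → k} (h : φ ⬝ᵥ a = 0) : tvl a (-φ) 1 = (tvl a φ (1 : k))⁻¹ := by
  rw [tvl_inv, ← neg_one_smul k φ, tvl_smul_right h, mul_one]

lemma tvl_neg_left {a φ : Fin N → k} (h : φ ⬝ᵥ a = 0) : tvl (-a) φ 1 = (tvl a φ (1 : k))⁻¹ := by
  rw [tvl_inv, ← neg_one_smul k a, tvl_smul_left h, mul_one]

/-- the image of the group of transvections with centre `a` -/
noncomputable def Ept (a : Fin N → k) : Subgroup (Matrix.ProjectiveSpecialLinearGroup (Fin N) k) where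
  carrier := {x | ∃ φ : Fin N → k, φ ⬝ᵥ a = 0 ∧ x = QuotientGroup.mk (tvl a φ 1)}
  one_mem' := ⟨0, zero_dotProduct a, by rw [tvl_zero_right]; rfl⟩
  mul_mem' := by
    rintro _ _ ⟨φ, h, rfl⟩ ⟨φ', h', rfl⟩
    exact ⟨φ + φ', by rw [add_dotProduct, h, h', add_zero], by rw [← tvl_add_right h h']; rfl⟩
  inv_mem' := by
    rintro _ ⟨φ, h, rfl⟩
    exact ⟨-φ, by rw [neg_dotProduct, h, neg_zero], by rw [tvl_neg_right h]; rfl⟩

/-- the image of the group of transvections with axis `φ` -/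
noncomputable def Ehy (φ : Fin N → k) : Subgroup (Matrix.ProjectiveSpecialLinearGroup (Fin N) k) where
  carrier := {x | ∃ a : Fin N → k, φ ⬝ᵥ a = 0 ∧ x = QuotientGroup.mk (tvl a φ 1)}
  one_mem' := ⟨0, dotProduct_zero φ, by rw [tvl_zero_left]; rfl⟩
  mul_mem' := by
    rintro _ _ ⟨a, h, rfl⟩ ⟨a', h', rfl⟩
    exact ⟨a + a', by rw [dotProduct_add, h, h', add_zero], by rw [← tvl_add_left h h']; rfl⟩
  inv_mem' := by
    rintro _ ⟨a, h, rfl⟩
    exact ⟨-a, by rw [dotProduct_neg, h, neg_zero], by rw [tvl_neg_left h]; rfl⟩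

lemma mem_Ept_of_par {a c χ : Fin N → k} (hi : Inc c χ) (h : Par a c) :
    (QuotientGroup.mk (tvl c χ 1) : Matrix.ProjectiveSpecialLinearGroup (Fin N) k) ∈ Ept a := by
  obtain ⟨l, hl, rfl⟩ := h
  have h0 : χ ⬝ᵥ a = 0 := by
    have := hi.2.2
    rw [dotProduct_smul, smul_eq_mul] at this
    rcases mul_eq_zero.mp this with h | h
    · exact absurd h hl
    · exact h
  refine ⟨l • χ, by rw [smul_dotProduct, h0, smul_zero], ?_⟩
  rw [tvl_smul_left h0, tvl_smul_right h0]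

lemma mem_Ehy_of_par {φ c χ : Fin N → k} (hi : Inc c χ) (h : Par φ χ) :
    (QuotientGroup.mk (tvl c χ 1) : Matrix.ProjectiveSpecialLinearGroup (Fin N) k) ∈ Ehy φ := by
  obtain ⟨l, hl, rfl⟩ := h
  have h0 : φ ⬝ᵥ c = 0 := by
    have := hi.2.2
    rw [smul_dotProduct, smul_eq_mul] at this
    rcases mul_eq_zero.mp this with h | h
    · exact absurd h hl
    · exact h
  refine ⟨l • c, by rw [dotProduct_smul, h0, smul_zero], ?_⟩
  rw [tvl_smul_right h0, tvl_smul_left h0]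

lemma Ept_eq_of_par {a a' : Fin N → k} (h : Par a a') : Ept a' = Ept a := by
  obtain ⟨l, hl, rfl⟩ := h
  ext x
  constructor
  · rintro ⟨φ, h, rfl⟩
    have h0 : φ ⬝ᵥ a = 0 := by
      rw [dotProduct_smul, smul_eq_mul] at h
      rcases mul_eq_zero.mp h with h | h
      · exact absurd h hl
      · exact h
    exact ⟨l • φ, by rw [smul_dotProduct, h0, smul_zero], by
      rw [tvl_smul_left h0, tvl_smul_right h0]⟩
  · rintro ⟨φ, h, rfl⟩
    refine ⟨l⁻¹ • φ, by rw [smul_dotProduct, dotProduct_smul, h, smul_zero, smul_zero], ?_⟩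
    have h1 : (l⁻¹ • φ) ⬝ᵥ a = 0 := by rw [smul_dotProduct, h, smul_zero]
    rw [tvl_smul_left h1, tvl_smul_right h, mul_one, inv_mul_cancel₀ hl]

lemma Ehy_eq_of_par {φ φ' : Fin N → k} (h : Par φ φ') : Ehy φ' = Ehy φ := by
  obtain ⟨l, hl, rfl⟩ := h
  ext x
  constructor
  · rintro ⟨a, h, rfl⟩
    have h0 : φ ⬝ᵥ a = 0 := by
      rw [smul_dotProduct, smul_eq_mul] at h
      rcases mul_eq_zero.mp h with h | h
      · exact absurd h hl
      · exact h
    exact ⟨l • a, by rw [dotProduct_smul, h0, smul_zero], by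
      rw [tvl_smul_right h0, tvl_smul_left h0]⟩
  · rintro ⟨a, h, rfl⟩
    refine ⟨l⁻¹ • a, by rw [smul_dotProduct, dotProduct_smul, h, smul_zero, smul_zero], ?_⟩
    have h1 : φ ⬝ᵥ (l⁻¹ • a) = 0 := by rw [dotProduct_smul, h, smul_zero]
    rw [tvl_smul_right h1, tvl_smul_left h, mul_one, inv_mul_cancel₀ hl]

end sub

section wd

variable {k : Type*} [Field k] {m : ℕ}

/-- root elements are non-trivial in `PSL` -/
lemma mk_tvl_ne_one {a φ : Fin (m + 3) → k} (hi : Inc a φ) :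
    (QuotientGroup.mk (tvl a φ 1) : Matrix.ProjectiveSpecialLinearGroup (Fin (m + 3)) k) ≠ 1 := by
  intro h
  have hc' : (QuotientGroup.mk (tvl a φ 1) : Matrix.ProjectiveSpecialLinearGroup (Fin (m + 3)) k) =
      QuotientGroup.mk (1 : Matrix.SpecialLinearGroup (Fin (m + 3)) k) := h
  obtain ⟨r, _, hr⟩ := (mk_eq_iff _ _).mp hc'
  obtain ⟨x, hx0, hφx, _⟩ := exists_common_kernel φ φ
  have hrv := sact_coe_smul hr
  have h1 := hrv x
  rw [sact_one, sact_tvl hi.2.2, hφx, mul_zero, zero_smul, add_zero] at h1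
  have hr1 : r = 1 := by
    have h3 : (1 - r) • x = 0 := by rw [sub_smul, one_smul, ← h1, sub_self]
    rcases smul_eq_zero.mp h3 with h4 | h4
    · exact (sub_eq_zero.mp h4).symm
    · exact absurd h4 hx0
  rw [hr1, one_smul] at hr
  have : tvl a φ (1 : k) = 1 := Subtype.ext hr.symm
  exact tvl_ne_one hi.2.2 hi.1 hi.2.1 one_ne_zero this

/-- the centre and the axis of a root element of `PSL` are well defined -/
lemma par_of_mk_eq {a φ b ψ : Fin (m + 3) → k} (hi : Inc a φ) (hi' : Inc b ψ)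
    (h : (QuotientGroup.mk (tvl a φ 1) : Matrix.ProjectiveSpecialLinearGroup (Fin (m + 3)) k) =
      QuotientGroup.mk (tvl b ψ 1)) : Par a b ∧ Par φ ψ := by
  obtain ⟨r, _, hr⟩ := (mk_eq_iff _ _).mp h
  obtain ⟨x, hx0, hφx, hψx⟩ := exists_common_kernel φ ψ
  have hrv := sact_coe_smul hr
  have h1 := hrv x
  simp only [sact_tvl hi.2.2, sact_tvl hi'.2.2, hφx, hψx, mul_zero, zero_smul, add_zero] at h1
  have hr1 : r = 1 := by
    have h3 : (1 - r) • x = 0 := by rw [sub_smul, one_smul, ← h1, sub_self]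
    rcases smul_eq_zero.mp h3 with h4 | h4
    · exact (sub_eq_zero.mp h4).symm
    · exact absurd h4 hx0
  have hv : ∀ v : Fin (m + 3) → k, (ψ ⬝ᵥ v) • b = (φ ⬝ᵥ v) • a := by
    intro v
    have h2 := hrv v
    rw [hr1, one_smul, sact_tvl hi.2.2, sact_tvl hi'.2.2, one_mul, one_mul] at h2
    exact add_left_cancel h2
  obtain ⟨j, hj⟩ := exists_ne_zero_coord hi'.2.1
  obtain ⟨i, hbi⟩ := exists_ne_zero_coord hi'.1
  have hco : ∀ j' i', ψ j' * b i' = φ j' * a i' := by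
    intro j' i'
    have := congrFun (hv (Pi.single j' 1)) i'
    simpa [dotProduct_single_one] using this
  constructor
  · have hb : b = (φ j / ψ j) • a := by
      funext i'
      rw [Pi.smul_apply, smul_eq_mul]
      field_simp
      rw [mul_comm, hco j i']
    refine ⟨φ j / ψ j, ?_, hb⟩
    intro h0
    rw [h0, zero_smul] at hb
    exact hi'.1 hb
  · have hψ : ψ = (a i / b i) • φ := by
      funext j'
      rw [Pi.smul_apply, smul_eq_mul]
      field_simp
      rw [hco j' i, mul_comm]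
    refine ⟨a i / b i, ?_, hψ⟩
    intro h0
    rw [h0, zero_smul] at hψ
    exact hi'.2.1 hψ

lemma mem_Ept_iff {a b ψ : Fin (m + 3) → k} (ha : a ≠ 0) (hi' : Inc b ψ) :
    (QuotientGroup.mk (tvl b ψ 1) : Matrix.ProjectiveSpecialLinearGroup (Fin (m + 3)) k) ∈ Ept a ↔
      Par a b := by
  constructor
  · rintro ⟨φ, h, e⟩
    have hφ : φ ≠ 0 := by
      rintro rfl
      rw [tvl_zero_right] at e
      exact mk_tvl_ne_one hi' e
    exact (par_of_mk_eq ⟨ha, hφ, h⟩ hi' e.symm).1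
  · exact mem_Ept_of_par hi'

lemma mem_Ehy_iff {φ b ψ : Fin (m + 3) → k} (hφ : φ ≠ 0) (hi' : Inc b ψ) :
    (QuotientGroup.mk (tvl b ψ 1) : Matrix.ProjectiveSpecialLinearGroup (Fin (m + 3)) k) ∈ Ehy φ ↔
      Par φ ψ := by
  constructor
  · rintro ⟨a, h, e⟩
    have ha : a ≠ 0 := by
      rintro rfl
      rw [tvl_zero_left] at e
      exact mk_tvl_ne_one hi' e
    exact (par_of_mk_eq ⟨ha, hφ, h⟩ hi' e.symm).2
  · exact mem_Ehy_of_par hi'

/-- subgroups all of whose non-trivial elements are root elements -/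
def RootOnly (M : Subgroup (Matrix.ProjectiveSpecialLinearGroup (Fin (m + 3)) k)) : Prop :=
  ∀ x ∈ M, x ≠ 1 → x ∈ rootSet k (m + 3)

lemma rootOnly_Ept {a : Fin (m + 3) → k} (ha : a ≠ 0) : RootOnly (Ept a) := by
  rintro _ ⟨φ, h, rfl⟩ hne
  have hφ : φ ≠ 0 := by
    rintro rfl
    rw [tvl_zero_right] at hne
    exact hne rfl
  exact ⟨a, φ, ⟨ha, hφ, h⟩, rfl⟩

lemma rootOnly_Ehy {φ : Fin (m + 3) → k} (hφ : φ ≠ 0) : RootOnly (Ehy φ) := by
  rintro _ ⟨a, h, rfl⟩ hne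
  have ha : a ≠ 0 := by
    rintro rfl
    rw [tvl_zero_left] at hne
    exact hne rfl
  exact ⟨a, φ, ⟨ha, hφ, h⟩, rfl⟩

/-- a subgroup of root elements consists of transvections with a common centre or a common axis -/
theorem rootOnly_le (M : Subgroup (Matrix.ProjectiveSpecialLinearGroup (Fin (m + 3)) k))
    (hM : RootOnly M) :
    (∃ a : Fin (m + 3) → k, a ≠ 0 ∧ M ≤ Ept a) ∨ (∃ φ : Fin (m + 3) → k, φ ≠ 0 ∧ M ≤ Ehy φ) := by
  classical
  by_cases hbot : ∀ x ∈ M, x = 1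
  · left
    refine ⟨ev 0, ev_ne_zero 0, fun x hx => ?_⟩
    rw [hbot x hx]; exact Subgroup.one_mem _
  push Not at hbot
  obtain ⟨x₀, hx₀M, hx₀⟩ := hbot
  obtain ⟨a, φ, hi, rfl⟩ := hM x₀ hx₀M hx₀
  have hprod : ∀ {b ψ c χ : Fin (m + 3) → k}, Inc b ψ → Inc c χ →
      (QuotientGroup.mk (tvl b ψ 1) : Matrix.ProjectiveSpecialLinearGroup (Fin (m + 3)) k) ∈ M →
      (QuotientGroup.mk (tvl c χ 1) : Matrix.ProjectiveSpecialLinearGroup (Fin (m + 3)) k) ∈ M →
      Par b c ∨ Par ψ χ := by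
    intro b ψ c χ hb hc hbM hcM
    apply par_of_prod hb hc
    by_cases h1 : ((QuotientGroup.mk (tvl b ψ 1) :
        Matrix.ProjectiveSpecialLinearGroup (Fin (m + 3)) k) * QuotientGroup.mk (tvl c χ 1)) = 1
    · exact Or.inr h1
    · exact Or.inl (hM _ (M.mul_mem hbM hcM) h1)
  by_cases hcase : ∃ b ψ : Fin (m + 3) → k, Inc b ψ ∧
      (QuotientGroup.mk (tvl b ψ 1) : Matrix.ProjectiveSpecialLinearGroup (Fin (m + 3)) k) ∈ M ∧
      ¬ Par φ ψ
  · obtain ⟨b, ψ, hi', hyM, hnp⟩ := hcase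
    have hab : Par a b := by
      rcases hprod hi hi' hx₀M hyM with h | h
      · exact h
      · exact absurd h hnp
    left
    refine ⟨a, hi.1, fun z hz => ?_⟩
    by_cases hz1 : z = 1
    · rw [hz1]; exact Subgroup.one_mem _
    obtain ⟨c, χ, hic, rfl⟩ := hM z hz hz1
    rcases hprod hi hic hx₀M hz with h1 | h1
    · exact mem_Ept_of_par hic h1
    · rcases hprod hi' hic hyM hz with h2 | h2
      · exact mem_Ept_of_par hic (hab.trans h2)
      · exact absurd (h1.trans h2.symm) hnp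
  · push Not at hcase
    right
    refine ⟨φ, hi.2.1, fun z hz => ?_⟩
    by_cases hz1 : z = 1
    · rw [hz1]; exact Subgroup.one_mem _
    obtain ⟨c, χ, hic, rfl⟩ := hM z hz hz1
    exact mem_Ehy_of_par hic (hcase c χ hic hz)

end wd

end Cfsg.Agent.Lib.Helper19.AutPSL
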