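import Mathlib
import Cfsg.Agent.Lib.Helper19.AutPSL5

/-!
# Automorphisms of `PSL_n(q)`, part 6: maximal subgroups of root elements (helper19)
-/

set_option autoImplicit false

namespace Cfsg.Agent.Lib.Helper19.AutPSL

open Matrix Cfsg.Agent.Lib.Helper27.SLTransv Cfsg.Agent.Lib.Helper19.PSLGraph

section perp

variable {k : Type*} [Field k] {m : ℕ}

lemma exists_two_others (i : Fin (m + 3)) :
    ∃ j j' : Fin (m + 3), j ≠ i ∧ j' ≠ i ∧ j ≠ j' := by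
  by_cases h0 : i = 0
  · exact ⟨1, 2, by rw [h0]; exact (fin_zero_ne_one m).symm,
      by rw [h0]; exact (fin_zero_ne_two m).symm, fin_one_ne_two m⟩
  · by_cases h1 : i = 1
    · exact ⟨0, 2, Ne.symm h0, by rw [h1]; exact (fin_one_ne_two m).symm, fin_zero_ne_two m⟩
    · exact ⟨0, 1, Ne.symm h0, Ne.symm h1, fin_zero_ne_one m⟩

/-- a vector orthogonal to `a` -/
def perpVec (a : Fin (m + 3) → k) (i j : Fin (m + 3)) : Fin (m + 3) → k :=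
  fun l => a i * (if j = l then 1 else 0) - a j * (if i = l then 1 else 0)

lemma perpVec_dot (a : Fin (m + 3) → k) (i j : Fin (m + 3)) : perpVec a i j ⬝ᵥ a = 0 := by
  unfold perpVec dotProduct
  simp only [sub_mul, Finset.sum_sub_distrib, mul_assoc, ite_mul, one_mul, zero_mul, mul_ite,
    mul_zero, Finset.sum_ite_eq, Finset.mem_univ, if_true]
  ring

lemma perpVec_apply_self (a : Fin (m + 3) → k) {i j : Fin (m + 3)} (hij : i ≠ j) :
    perpVec a i j j = a i := by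
  unfold perpVec
  rw [if_pos rfl, if_neg hij, mul_one, mul_zero, sub_zero]

lemma perpVec_apply_other (a : Fin (m + 3) → k) {i j l : Fin (m + 3)} (hl : i ≠ l) (hl' : j ≠ l) :
    perpVec a i j l = 0 := by
  unfold perpVec
  rw [if_neg hl, if_neg hl', mul_zero, mul_zero, sub_zero]

/-- two non-proportional vectors orthogonal to `a` -/
lemma exists_two_perp {a : Fin (m + 3) → k} (ha : a ≠ 0) :
    ∃ φ₁ φ₂ : Fin (m + 3) → k, φ₁ ≠ 0 ∧ φ₂ ≠ 0 ∧ φ₁ ⬝ᵥ a = 0 ∧ φ₂ ⬝ᵥ a = 0 ∧ ¬ Par φ₁ φ₂ := by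
  obtain ⟨i, hi⟩ := exists_ne_zero_coord ha
  obtain ⟨j, j', hj, hj', hjj'⟩ := exists_two_others i
  refine ⟨perpVec a i j, perpVec a i j', ?_, ?_, perpVec_dot a i j, perpVec_dot a i j', ?_⟩
  · intro h
    have := congrFun h j
    rw [perpVec_apply_self a (Ne.symm hj)] at this
    exact hi this
  · intro h
    have := congrFun h j'
    rw [perpVec_apply_self a (Ne.symm hj')] at this
    exact hi this
  · rintro ⟨c, _, hc⟩
    have := congrFun hc j'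
    rw [perpVec_apply_self a (Ne.symm hj'), Pi.smul_apply,
      perpVec_apply_other a (Ne.symm hj') hjj', smul_zero] at this
    exact hi this

lemma exists_inc_right {a : Fin (m + 3) → k} (ha : a ≠ 0) : ∃ φ : Fin (m + 3) → k, Inc a φ := by
  obtain ⟨φ₁, _, h1, _, h3, _, _⟩ := exists_two_perp ha
  exact ⟨φ₁, ha, h1, h3⟩

lemma exists_inc_left {φ : Fin (m + 3) → k} (hφ : φ ≠ 0) : ∃ a : Fin (m + 3) → k, Inc a φ := by
  obtain ⟨a₁, _, h1, _, h3, _, _⟩ := exists_two_perp hφ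
  exact ⟨a₁, h1, hφ, by rw [dotProduct_comm]; exact h3⟩

end perp

section maxroot

variable {k : Type*} [Field k] {m : ℕ}

lemma par_of_Ept_le {a a' : Fin (m + 3) → k} (ha : a ≠ 0) (ha' : a' ≠ 0) (h : Ept a ≤ Ept a') :
    Par a' a := by
  obtain ⟨φ, hi⟩ := exists_inc_right ha
  exact (mem_Ept_iff ha' hi).mp (h ⟨φ, hi.2.2, rfl⟩)

lemma par_of_Ehy_le {φ φ' : Fin (m + 3) → k} (hφ : φ ≠ 0) (hφ' : φ' ≠ 0) (h : Ehy φ ≤ Ehy φ') :
    Par φ' φ := by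
  obtain ⟨a, hi⟩ := exists_inc_left hφ
  exact (mem_Ehy_iff hφ' hi).mp (h ⟨a, hi.2.2, rfl⟩)

lemma not_Ept_le_Ehy {a φ : Fin (m + 3) → k} (ha : a ≠ 0) (hφ : φ ≠ 0) : ¬ Ept a ≤ Ehy φ := by
  intro h
  obtain ⟨φ₁, φ₂, h1, h2, h3, h4, hnp⟩ := exists_two_perp ha
  have e1 := (mem_Ehy_iff hφ ⟨ha, h1, h3⟩).mp (h ⟨φ₁, h3, rfl⟩)
  have e2 := (mem_Ehy_iff hφ ⟨ha, h2, h4⟩).mp (h ⟨φ₂, h4, rfl⟩)
  exact hnp (e1.symm.trans e2)

lemma not_Ehy_le_Ept {a φ : Fin (m + 3) → k} (ha : a ≠ 0) (hφ : φ ≠ 0) : ¬ Ehy φ ≤ Ept a := by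
  intro h
  obtain ⟨a₁, a₂, h1, h2, h3, h4, hnp⟩ := exists_two_perp hφ
  have h3' : φ ⬝ᵥ a₁ = 0 := by rw [dotProduct_comm]; exact h3
  have h4' : φ ⬝ᵥ a₂ = 0 := by rw [dotProduct_comm]; exact h4
  have e1 := (mem_Ept_iff ha ⟨h1, hφ, h3'⟩).mp (h ⟨a₁, h3', rfl⟩)
  have e2 := (mem_Ept_iff ha ⟨h2, hφ, h4'⟩).mp (h ⟨a₂, h4', rfl⟩)
  exact hnp (e1.symm.trans e2)

/-- maximal subgroups of root elements -/
def IsMaxRoot (M : Subgroup (Matrix.ProjectiveSpecialLinearGroup (Fin (m + 3)) k)) : Prop :=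
  RootOnly M ∧ ∀ M' : Subgroup (Matrix.ProjectiveSpecialLinearGroup (Fin (m + 3)) k),
    RootOnly M' → M ≤ M' → M' ≤ M

lemma isMaxRoot_Ept {a : Fin (m + 3) → k} (ha : a ≠ 0) : IsMaxRoot (Ept a) := by
  refine ⟨rootOnly_Ept ha, fun M' hM' hle => ?_⟩
  rcases rootOnly_le M' hM' with ⟨a', ha', h⟩ | ⟨φ', hφ', h⟩
  · have := par_of_Ept_le ha ha' (hle.trans h)
    rw [Ept_eq_of_par this] at *
    exact h
  · exact absurd (hle.trans h) (not_Ept_le_Ehy ha hφ')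

lemma isMaxRoot_Ehy {φ : Fin (m + 3) → k} (hφ : φ ≠ 0) : IsMaxRoot (Ehy φ) := by
  refine ⟨rootOnly_Ehy hφ, fun M' hM' hle => ?_⟩
  rcases rootOnly_le M' hM' with ⟨a', ha', h⟩ | ⟨φ', hφ', h⟩
  · exact absurd (hle.trans h) (not_Ehy_le_Ept ha' hφ)
  · have := par_of_Ehy_le hφ hφ' (hle.trans h)
    rw [Ehy_eq_of_par this] at *
    exact h

lemma isMaxRoot_cases {M : Subgroup (Matrix.ProjectiveSpecialLinearGroup (Fin (m + 3)) k)}
    (hM : IsMaxRoot M) :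
    (∃ a : Fin (m + 3) → k, a ≠ 0 ∧ M = Ept a) ∨ (∃ φ : Fin (m + 3) → k, φ ≠ 0 ∧ M = Ehy φ) := by
  rcases rootOnly_le M hM.1 with ⟨a, ha, h⟩ | ⟨φ, hφ, h⟩
  · exact Or.inl ⟨a, ha, le_antisymm h (hM.2 _ (rootOnly_Ept ha) h)⟩
  · exact Or.inr ⟨φ, hφ, le_antisymm h (hM.2 _ (rootOnly_Ehy hφ) h)⟩

variable [Fintype k] (p : ℕ) [Fact p.Prime] [CharP k p]

include p in
lemma rootOnly_map (β : MulAut (Matrix.ProjectiveSpecialLinearGroup (Fin (m + 3)) k))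
    {M : Subgroup (Matrix.ProjectiveSpecialLinearGroup (Fin (m + 3)) k)} (hM : RootOnly M) :
    RootOnly (M.map β.toMonoidHom) := by
  rintro _ ⟨y, hy, rfl⟩ hne
  have hy1 : y ≠ 1 := by
    rintro rfl
    exact hne (map_one _)
  exact aut_rootSet p β (hM y hy hy1)

include p in
theorem isMaxRoot_map (β : MulAut (Matrix.ProjectiveSpecialLinearGroup (Fin (m + 3)) k))
    {M : Subgroup (Matrix.ProjectiveSpecialLinearGroup (Fin (m + 3)) k)} (hM : IsMaxRoot M) :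
    IsMaxRoot (M.map β.toMonoidHom) := by
  refine ⟨rootOnly_map p β hM.1, fun M' hM' hle => ?_⟩
  have h1 : RootOnly (M'.map (β⁻¹ : MulAut _).toMonoidHom) := rootOnly_map p β⁻¹ hM'
  have h2 : M ≤ M'.map (β⁻¹ : MulAut _).toMonoidHom := by
    intro y hy
    refine ⟨β y, hle ⟨y, hy, rfl⟩, ?_⟩
    show (β⁻¹ : MulAut _) (β y) = y
    rw [← MulAut.mul_apply, inv_mul_cancel, MulAut.one_apply]
  have h3 := hM.2 _ h1 h2
  intro x hx
  refine ⟨(β⁻¹ : MulAut _) x, h3 ⟨x, hx, rfl⟩, ?_⟩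
  show β ((β⁻¹ : MulAut _) x) = x
  rw [← MulAut.mul_apply, mul_inv_cancel, MulAut.one_apply]

end maxroot

end Cfsg.Agent.Lib.Helper19.AutPSL
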