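import Mathlib
import Cfsg.Agent.Lib.Helper19.AutPSL6

/-!
# Automorphisms of `PSL_n(q)`, part 7: automorphisms preserve or swap the two types (helper19)
-/

set_option autoImplicit false

namespace Cfsg.Agent.Lib.Helper19.AutPSL

open Matrix Cfsg.Agent.Lib.Helper27.SLTransv Cfsg.Agent.Lib.Helper19.PSLGraph

section inter

variable {k : Type*} [Field k] {m : ℕ}

lemma par_of_mem_Ept_Ept {a a' : Fin (m + 3) → k} (ha : a ≠ 0) (ha' : a' ≠ 0)
    {x : Matrix.ProjectiveSpecialLinearGroup (Fin (m + 3)) k} (hx : x ∈ Ept a) (hx' : x ∈ Ept a')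
    (hne : x ≠ 1) : Par a a' := by
  obtain ⟨φ, h, rfl⟩ := hx
  have hφ : φ ≠ 0 := by
    rintro rfl
    rw [tvl_zero_right] at hne
    exact hne rfl
  exact ((mem_Ept_iff ha' ⟨ha, hφ, h⟩).mp hx').symm

lemma par_of_mem_Ehy_Ehy {φ φ' : Fin (m + 3) → k} (hφ : φ ≠ 0) (hφ' : φ' ≠ 0)
    {x : Matrix.ProjectiveSpecialLinearGroup (Fin (m + 3)) k} (hx : x ∈ Ehy φ) (hx' : x ∈ Ehy φ')
    (hne : x ≠ 1) : Par φ φ' := by
  obtain ⟨a, h, rfl⟩ := hx
  have ha : a ≠ 0 := by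
    rintro rfl
    rw [tvl_zero_left] at hne
    exact hne rfl
  exact ((mem_Ehy_iff hφ' ⟨ha, hφ, h⟩).mp hx').symm

lemma dot_eq_zero_of_mem_Ept_Ehy {a φ : Fin (m + 3) → k} (ha : a ≠ 0) (hφ : φ ≠ 0)
    {x : Matrix.ProjectiveSpecialLinearGroup (Fin (m + 3)) k} (hx : x ∈ Ept a) (hx' : x ∈ Ehy φ)
    (hne : x ≠ 1) : φ ⬝ᵥ a = 0 := by
  obtain ⟨χ, h, rfl⟩ := hx
  have hχ : χ ≠ 0 := by
    rintro rfl
    rw [tvl_zero_right] at hne
    exact hne rfl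
  obtain ⟨l, hl, rfl⟩ := (mem_Ehy_iff hφ ⟨ha, hχ, h⟩).mp hx'
  rw [smul_dotProduct, smul_eq_mul] at h
  rcases mul_eq_zero.mp h with h | h
  · exact absurd h hl
  · exact h

lemma Ept_ne_Ehy {a φ : Fin (m + 3) → k} (ha : a ≠ 0) (hφ : φ ≠ 0) : Ept a ≠ Ehy φ := by
  intro h
  exact not_Ept_le_Ehy ha hφ (le_of_eq h)

end inter

section types

variable {k : Type*} [Field k] [Fintype k] {m : ℕ} (p : ℕ) [Fact p.Prime] [CharP k p]

/-- the automorphism maps point subgroups to point subgroups -/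
def PtToPt (β : MulAut (Matrix.ProjectiveSpecialLinearGroup (Fin (m + 3)) k)) : Prop :=
  ∀ a : Fin (m + 3) → k, a ≠ 0 → ∃ b : Fin (m + 3) → k, b ≠ 0 ∧ (Ept a).map β.toMonoidHom = Ept b

/-- the automorphism maps point subgroups to hyperplane subgroups -/
def PtToHy (β : MulAut (Matrix.ProjectiveSpecialLinearGroup (Fin (m + 3)) k)) : Prop :=
  ∀ a : Fin (m + 3) → k, a ≠ 0 → ∃ ψ : Fin (m + 3) → k, ψ ≠ 0 ∧ (Ept a).map β.toMonoidHom = Ehy ψ

/-- the automorphism maps hyperplane subgroups to hyperplane subgroups -/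
def HyToHy (β : MulAut (Matrix.ProjectiveSpecialLinearGroup (Fin (m + 3)) k)) : Prop :=
  ∀ φ : Fin (m + 3) → k, φ ≠ 0 → ∃ ψ : Fin (m + 3) → k, ψ ≠ 0 ∧ (Ehy φ).map β.toMonoidHom = Ehy ψ

/-- the automorphism maps hyperplane subgroups to point subgroups -/
def HyToPt (β : MulAut (Matrix.ProjectiveSpecialLinearGroup (Fin (m + 3)) k)) : Prop :=
  ∀ φ : Fin (m + 3) → k, φ ≠ 0 → ∃ b : Fin (m + 3) → k, b ≠ 0 ∧ (Ehy φ).map β.toMonoidHom = Ept b

omit [Fintype k] in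
lemma map_injective_aut (β : MulAut (Matrix.ProjectiveSpecialLinearGroup (Fin (m + 3)) k))
    {M M' : Subgroup (Matrix.ProjectiveSpecialLinearGroup (Fin (m + 3)) k)}
    (h : M.map β.toMonoidHom = M'.map β.toMonoidHom) : M = M' :=
  Subgroup.map_injective β.injective h

omit [Fintype k] in
lemma map_inv_eq (β : MulAut (Matrix.ProjectiveSpecialLinearGroup (Fin (m + 3)) k))
    {M M' : Subgroup (Matrix.ProjectiveSpecialLinearGroup (Fin (m + 3)) k)}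
    (h : M.map β.toMonoidHom = M') : M'.map (β⁻¹ : MulAut _).toMonoidHom = M := by
  rw [← h, Subgroup.map_map]
  ext x
  constructor
  · rintro ⟨y, hy, rfl⟩
    have : ((β⁻¹ : MulAut _).toMonoidHom.comp β.toMonoidHom) y = y := by
      show (β⁻¹ : MulAut _) (β y) = y
      rw [← MulAut.mul_apply, inv_mul_cancel, MulAut.one_apply]
    rw [this]; exact hy
  · intro hx
    refine ⟨x, hx, ?_⟩
    show (β⁻¹ : MulAut _) (β x) = x
    rw [← MulAut.mul_apply, inv_mul_cancel, MulAut.one_apply]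

include p in
/-- images of point subgroups -/
lemma map_Ept_cases (β : MulAut (Matrix.ProjectiveSpecialLinearGroup (Fin (m + 3)) k))
    {a : Fin (m + 3) → k} (ha : a ≠ 0) :
    (∃ b : Fin (m + 3) → k, b ≠ 0 ∧ (Ept a).map β.toMonoidHom = Ept b) ∨
      (∃ ψ : Fin (m + 3) → k, ψ ≠ 0 ∧ (Ept a).map β.toMonoidHom = Ehy ψ) :=
  isMaxRoot_cases (isMaxRoot_map p β (isMaxRoot_Ept ha))

include p in
lemma map_Ehy_cases (β : MulAut (Matrix.ProjectiveSpecialLinearGroup (Fin (m + 3)) k))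
    {φ : Fin (m + 3) → k} (hφ : φ ≠ 0) :
    (∃ b : Fin (m + 3) → k, b ≠ 0 ∧ (Ehy φ).map β.toMonoidHom = Ept b) ∨
      (∃ ψ : Fin (m + 3) → k, ψ ≠ 0 ∧ (Ehy φ).map β.toMonoidHom = Ehy ψ) :=
  isMaxRoot_cases (isMaxRoot_map p β (isMaxRoot_Ehy hφ))

omit [Fintype k] in
/-- a point subgroup and a hyperplane subgroup with incident data meet non-trivially -/
lemma exists_mem_Ept_Ehy {a φ : Fin (m + 3) → k} (hi : Inc a φ) :
    ∃ x : Matrix.ProjectiveSpecialLinearGroup (Fin (m + 3)) k, x ∈ Ept a ∧ x ∈ Ehy φ ∧ x ≠ 1 :=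
  ⟨QuotientGroup.mk (tvl a φ 1), ⟨φ, hi.2.2, rfl⟩, ⟨a, hi.2.2, rfl⟩, mk_tvl_ne_one hi⟩

omit [Fintype k] in
lemma map_ne_one (β : MulAut (Matrix.ProjectiveSpecialLinearGroup (Fin (m + 3)) k))
    {x : Matrix.ProjectiveSpecialLinearGroup (Fin (m + 3)) k} (hx : x ≠ 1) : β x ≠ 1 := by
  intro h
  exact hx (β.injective (h.trans (map_one β).symm))

include p in
/-- the type of the image of a point subgroup does not depend on the point -/
theorem ptToPt_or_ptToHy (β : MulAut (Matrix.ProjectiveSpecialLinearGroup (Fin (m + 3)) k)) :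
    PtToPt β ∨ PtToHy β := by
  classical
  by_cases hpp : PtToPt β
  · exact Or.inl hpp
  right
  unfold PtToPt at hpp
  push Not at hpp
  obtain ⟨a', ha', hna'⟩ := hpp
  obtain ⟨ψ', hψ', hmap'⟩ : ∃ ψ : Fin (m + 3) → k, ψ ≠ 0 ∧ (Ept a').map β.toMonoidHom = Ehy ψ := by
    rcases map_Ept_cases p β ha' with ⟨b, hb, h⟩ | h
    · exact absurd h (hna' b hb)
    · exact h
  intro a ha
  rcases map_Ept_cases p β ha with ⟨b, hb, hmap⟩ | h
  swap
  · exact h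
  exfalso
  obtain ⟨φ, hφ, h1, h2⟩ := exists_common_kernel a a'
  have hi : Inc a φ := ⟨ha, hφ, by rw [dotProduct_comm]; exact h1⟩
  have hi' : Inc a' φ := ⟨ha', hφ, by rw [dotProduct_comm]; exact h2⟩
  obtain ⟨x, hx1, hx2, hx3⟩ := exists_mem_Ept_Ehy hi
  obtain ⟨x', hx1', hx2', hx3'⟩ := exists_mem_Ept_Ehy hi'
  rcases map_Ehy_cases p β hφ with ⟨c, hc, hmapφ⟩ | ⟨χ, hχ, hmapφ⟩
  · have e1 : β x ∈ Ept b := by rw [← hmap]; exact ⟨x, hx1, rfl⟩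
    have e2 : β x ∈ Ept c := by rw [← hmapφ]; exact ⟨x, hx2, rfl⟩
    have hpar := par_of_mem_Ept_Ept hb hc e1 e2 (map_ne_one β hx3)
    rw [Ept_eq_of_par hpar, ← hmap] at hmapφ
    exact Ept_ne_Ehy ha hφ (map_injective_aut β hmapφ).symm
  · have e1 : β x' ∈ Ehy ψ' := by rw [← hmap']; exact ⟨x', hx1', rfl⟩
    have e2 : β x' ∈ Ehy χ := by rw [← hmapφ]; exact ⟨x', hx2', rfl⟩
    have hpar := par_of_mem_Ehy_Ehy hψ' hχ e1 e2 (map_ne_one β hx3')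
    rw [Ehy_eq_of_par hpar, ← hmap'] at hmapφ
    exact Ept_ne_Ehy ha' hφ (map_injective_aut β hmapφ).symm

include p in
lemma hyToHy_of_ptToPt {β : MulAut (Matrix.ProjectiveSpecialLinearGroup (Fin (m + 3)) k)}
    (h : PtToPt β) : HyToHy β := by
  intro φ hφ
  rcases map_Ehy_cases p β hφ with ⟨c, hc, hmapφ⟩ | h'
  swap
  · exact h'
  exfalso
  obtain ⟨a, hi⟩ := exists_inc_left hφ
  obtain ⟨b, hb, hmap⟩ := h a hi.1
  obtain ⟨x, hx1, hx2, hx3⟩ := exists_mem_Ept_Ehy hi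
  have e1 : β x ∈ Ept b := by rw [← hmap]; exact ⟨x, hx1, rfl⟩
  have e2 : β x ∈ Ept c := by rw [← hmapφ]; exact ⟨x, hx2, rfl⟩
  have hpar := par_of_mem_Ept_Ept hb hc e1 e2 (map_ne_one β hx3)
  rw [Ept_eq_of_par hpar, ← hmap] at hmapφ
  exact Ept_ne_Ehy hi.1 hφ (map_injective_aut β hmapφ).symm

include p in
lemma hyToPt_of_ptToHy {β : MulAut (Matrix.ProjectiveSpecialLinearGroup (Fin (m + 3)) k)}
    (h : PtToHy β) : HyToPt β := by
  intro φ hφ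
  rcases map_Ehy_cases p β hφ with h' | ⟨χ, hχ, hmapφ⟩
  · exact h'
  exfalso
  obtain ⟨a, hi⟩ := exists_inc_left hφ
  obtain ⟨ψ, hψ, hmap⟩ := h a hi.1
  obtain ⟨x, hx1, hx2, hx3⟩ := exists_mem_Ept_Ehy hi
  have e1 : β x ∈ Ehy ψ := by rw [← hmap]; exact ⟨x, hx1, rfl⟩
  have e2 : β x ∈ Ehy χ := by rw [← hmapφ]; exact ⟨x, hx2, rfl⟩
  have hpar := par_of_mem_Ehy_Ehy hψ hχ e1 e2 (map_ne_one β hx3)
  rw [Ehy_eq_of_par hpar, ← hmap] at hmapφ
  exact Ept_ne_Ehy hi.1 hφ (map_injective_aut β hmapφ).symm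

include p in
lemma ptToPt_inv {β : MulAut (Matrix.ProjectiveSpecialLinearGroup (Fin (m + 3)) k)}
    (h : PtToPt β) : PtToPt β⁻¹ := by
  rcases ptToPt_or_ptToHy p β⁻¹ with h' | h'
  · exact h'
  exfalso
  obtain ⟨b, hb, hmap⟩ := h (ev 0) (ev_ne_zero 0)
  obtain ⟨ψ, hψ, hmap'⟩ := h' b hb
  rw [map_inv_eq β hmap] at hmap'
  exact Ept_ne_Ehy (ev_ne_zero 0) hψ hmap'

end types

end Cfsg.Agent.Lib.Helper19.AutPSL
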