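import Mathlib
import Cfsg.Agent.Lib.Helper19.AutPSL7

/-!
# Automorphisms of `PSL_n(q)`, part 8: the standard automorphisms on point and hyperplane subgroups
(helper19)
-/

set_option autoImplicit false

namespace Cfsg.Agent.Lib.Helper19.AutPSL

open Matrix Cfsg.Agent.Lib.Helper27.SLTransv Cfsg.Agent.Lib.Helper19.PSLGraph

section std

variable {k : Type*} [Field k] {N : ℕ}

lemma conjFun_tvl (g : GL (Fin N) k) {a φ : Fin N → k} (h : φ ⬝ᵥ a = 0) (c : k) :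
    conjFun g (tvl a φ c) =
      tvl ((g : Matrix (Fin N) (Fin N) k) *ᵥ a)
        (φ ᵥ* ((g⁻¹ : GL (Fin N) k) : Matrix (Fin N) (Fin N) k)) c := by
  have h' : (φ ᵥ* ((g⁻¹ : GL (Fin N) k) : Matrix (Fin N) (Fin N) k)) ⬝ᵥ
      ((g : Matrix (Fin N) (Fin N) k) *ᵥ a) = 0 := by
    rw [← Matrix.dotProduct_mulVec, Matrix.mulVec_mulVec, Units.inv_mul, Matrix.one_mulVec, h]
  apply sact_ext
  intro x
  rw [sact_tvl h']
  unfold sact
  rw [conjFun_coe, ← Matrix.mulVec_mulVec, ← Matrix.mulVec_mulVec]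
  have e1 : (tvl a φ c : Matrix (Fin N) (Fin N) k) *ᵥ
      (((g⁻¹ : GL (Fin N) k) : Matrix (Fin N) (Fin N) k) *ᵥ x) =
      sact (tvl a φ c) (((g⁻¹ : GL (Fin N) k) : Matrix (Fin N) (Fin N) k) *ᵥ x) := rfl
  rw [e1, sact_tvl h, Matrix.mulVec_add, Matrix.mulVec_smul, Matrix.mulVec_mulVec, Units.mul_inv,
    Matrix.one_mulVec, Matrix.dotProduct_mulVec]

lemma map_Phi_Ept (g : GL (Fin N) k) (a : Fin N → k) :
    (Ept a).map (Phi g).toMonoidHom = Ept ((g : Matrix (Fin N) (Fin N) k) *ᵥ a) := by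
  have key : ∀ (g : GL (Fin N) k) (a : Fin N → k),
      (Ept a).map (Phi g).toMonoidHom ≤ Ept ((g : Matrix (Fin N) (Fin N) k) *ᵥ a) := by
    rintro g a _ ⟨_, ⟨φ, h, rfl⟩, rfl⟩
    refine ⟨φ ᵥ* ((g⁻¹ : GL (Fin N) k) : Matrix (Fin N) (Fin N) k), ?_, ?_⟩
    · rw [← Matrix.dotProduct_mulVec, Matrix.mulVec_mulVec, Units.inv_mul, Matrix.one_mulVec, h]
    · show Phi g (QuotientGroup.mk (tvl a φ 1)) = _
      rw [Phi_mk, conjFun_tvl g h]
  apply le_antisymm (key g a)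
  intro x hx
  have h1 := key g⁻¹ _ ⟨x, hx, rfl⟩
  rw [Matrix.mulVec_mulVec, Units.inv_mul, Matrix.one_mulVec] at h1
  refine ⟨_, h1, ?_⟩
  show Phi g (Phi g⁻¹ x) = x
  rw [← MulAut.mul_apply, ← map_mul, mul_inv_cancel, map_one, MulAut.one_apply]

lemma map_Phi_Ehy (g : GL (Fin N) k) (φ : Fin N → k) :
    (Ehy φ).map (Phi g).toMonoidHom =
      Ehy (φ ᵥ* ((g⁻¹ : GL (Fin N) k) : Matrix (Fin N) (Fin N) k)) := by
  have key : ∀ (g : GL (Fin N) k) (φ : Fin N → k),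
      (Ehy φ).map (Phi g).toMonoidHom ≤
        Ehy (φ ᵥ* ((g⁻¹ : GL (Fin N) k) : Matrix (Fin N) (Fin N) k)) := by
    rintro g φ _ ⟨_, ⟨a, h, rfl⟩, rfl⟩
    refine ⟨(g : Matrix (Fin N) (Fin N) k) *ᵥ a, ?_, ?_⟩
    · rw [← Matrix.dotProduct_mulVec, Matrix.mulVec_mulVec, Units.inv_mul, Matrix.one_mulVec, h]
    · show Phi g (QuotientGroup.mk (tvl a φ 1)) = _
      rw [Phi_mk, conjFun_tvl g h]
  apply le_antisymm (key g φ)
  intro x hx
  have h1 := key g⁻¹ _ ⟨x, hx, rfl⟩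
  rw [Matrix.vecMul_vecMul, inv_inv, Units.inv_mul, Matrix.vecMul_one] at h1
  refine ⟨_, h1, ?_⟩
  show Phi g (Phi g⁻¹ x) = x
  rw [← MulAut.mul_apply, ← map_mul, mul_inv_cancel, map_one, MulAut.one_apply]

lemma itSL_tvl {a φ : Fin N → k} (h : φ ⬝ᵥ a = 0) :
    tSL (tvl a φ (1 : k))⁻¹ = tvl φ (-a) 1 := by
  have h' : (-a) ⬝ᵥ φ = 0 := by rw [neg_dotProduct, dotProduct_comm, h, neg_zero]
  apply Subtype.ext
  rw [tvl_inv, tvl_coe h']
  show ((tvl a φ (-1) : Matrix.SpecialLinearGroup (Fin N) k) : Matrix (Fin N) (Fin N) k)ᵀ = _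
  rw [tvl_coe h, Matrix.transpose_add, Matrix.transpose_one, Matrix.transpose_vecMulVec, one_smul]
  congr 1
  ext i j
  simp [Matrix.vecMulVec_apply]

lemma iota0_iota0 (x : Matrix.ProjectiveSpecialLinearGroup (Fin N) k) :
    iota0 (iota0 x) = x := by
  rw [← MulAut.mul_apply, iota0_sq, MulAut.one_apply]

lemma map_iota0_Ept (a : Fin N → k) : (Ept a).map (iota0 (n := N) (F := k)).toMonoidHom = Ehy a := by
  apply le_antisymm
  · rintro _ ⟨_, ⟨φ, h, rfl⟩, rfl⟩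
    have h' : a ⬝ᵥ φ = 0 := by rw [dotProduct_comm]; exact h
    refine ⟨-φ, by rw [dotProduct_neg, h', neg_zero], ?_⟩
    show iota0 (QuotientGroup.mk (tvl a φ 1)) = _
    rw [iota0_mk, itSL_tvl h]
    congr 1
    rw [← neg_one_smul k a, tvl_smul_right h', ← neg_one_smul k φ, tvl_smul_left h']
  · rintro _ ⟨c, h, rfl⟩
    refine ⟨iota0 (QuotientGroup.mk (tvl c a 1)), ?_, iota0_iota0 _⟩
    rw [iota0_mk, itSL_tvl h]
    exact ⟨-c, by rw [neg_dotProduct, dotProduct_comm, h, neg_zero], rfl⟩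

lemma map_iota0_Ehy (a : Fin N → k) : (Ehy a).map (iota0 (n := N) (F := k)).toMonoidHom = Ept a := by
  rw [← map_iota0_Ept, Subgroup.map_map]
  ext x
  constructor
  · rintro ⟨y, hy, rfl⟩
    have : ((iota0 (n := N) (F := k)).toMonoidHom.comp (iota0 (n := N) (F := k)).toMonoidHom) y = y :=
      iota0_iota0 y
    rw [this]; exact hy
  · intro hx
    exact ⟨x, hx, iota0_iota0 x⟩

end std

end Cfsg.Agent.Lib.Helper19.AutPSL
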