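import Mathlib
import Cfsg.Agent.Lib.Helper19.AutPSL8
import Cfsg.Agent.Lib.Helper24.SLGen

/-!
# Automorphisms of `PSL_n(q)`, part 9: automorphisms fixing the root subgroups of a frame (helper19)
-/

set_option autoImplicit false

namespace Cfsg.Agent.Lib.Helper19.AutPSL

open Matrix Cfsg.Agent.Lib.Helper27.SLTransv Cfsg.Agent.Lib.Helper19.PSLGraph

section field

variable {k : Type*} [Field k] {N : ℕ}

lemma det_map_ringEquiv (τ : k ≃+* k) (s : Matrix.SpecialLinearGroup (Fin N) k) :
    ((s : Matrix (Fin N) (Fin N) k).map τ).det = 1 := by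
  have h := RingHom.map_det (τ : k →+* k) (s : Matrix (Fin N) (Fin N) k)
  rw [s.2, map_one] at h
  exact h.symm

/-- a field automorphism applied to the entries -/
def mapSL (τ : k ≃+* k) :
    Matrix.SpecialLinearGroup (Fin N) k ≃* Matrix.SpecialLinearGroup (Fin N) k where
  toFun s := ⟨(s : Matrix (Fin N) (Fin N) k).map τ, det_map_ringEquiv τ s⟩
  invFun s := ⟨(s : Matrix (Fin N) (Fin N) k).map τ.symm, det_map_ringEquiv τ.symm s⟩
  left_inv s := by
    apply Subtype.ext
    ext i j
    simp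
  right_inv s := by
    apply Subtype.ext
    ext i j
    simp
  map_mul' s t := by
    apply Subtype.ext
    show ((s : Matrix (Fin N) (Fin N) k) * (t : Matrix (Fin N) (Fin N) k)).map τ = _
    exact Matrix.map_mul (f := (τ : k →+* k))

lemma mapSL_coe (τ : k ≃+* k) (s : Matrix.SpecialLinearGroup (Fin N) k) :
    (mapSL τ s : Matrix (Fin N) (Fin N) k) = (s : Matrix (Fin N) (Fin N) k).map τ := rfl

/-- the standard field automorphism of `PSL` -/
def fieldAut (τ : k ≃+* k) : MulAut (Matrix.ProjectiveSpecialLinearGroup (Fin N) k) :=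
  autPSL (mapSL τ)

lemma fieldAut_mk (τ : k ≃+* k) (s : Matrix.SpecialLinearGroup (Fin N) k) :
    fieldAut τ (QuotientGroup.mk s) =
      (QuotientGroup.mk (mapSL τ s) : Matrix.ProjectiveSpecialLinearGroup (Fin N) k) := rfl

lemma isStd_fieldAut (τ : k ≃+* k) :
    Cfsg.IsStdFieldAutPSL τ (fieldAut (N := N) τ) := by
  intro s s' hs
  rw [fieldAut_mk]
  congr 1
  exact Subtype.ext hs.symm

lemma mapSL_xe (τ : k ≃+* k) {i j : Fin N} (hij : i ≠ j) (c : k) :
    mapSL τ (xe i j c) = xe i j (τ c) := by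
  apply Subtype.ext
  rw [mapSL_coe, xe_coe hij, xe_coe hij]
  ext a b
  simp only [Matrix.map_apply, Matrix.add_apply, Matrix.one_apply, Matrix.single_apply]
  split_ifs <;> simp

lemma fieldAut_xe (τ : k ≃+* k) {i j : Fin N} (hij : i ≠ j) (c : k) :
    fieldAut τ (QuotientGroup.mk (xe i j c)) =
      (QuotientGroup.mk (xe i j (τ c)) : Matrix.ProjectiveSpecialLinearGroup (Fin N) k) := by
  rw [fieldAut_mk, mapSL_xe τ hij]

end field

section gen

variable {k : Type*} [Field k] {m : ℕ}

/-- automorphisms agreeing on the elementary root elements are equal -/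
lemma aut_eq_of_xe (β β' : MulAut (Matrix.ProjectiveSpecialLinearGroup (Fin (m + 3)) k))
    (h : ∀ i j : Fin (m + 3), i ≠ j → ∀ s : k,
      β (QuotientGroup.mk (xe i j s)) = β' (QuotientGroup.mk (xe i j s))) : β = β' := by
  apply aut_ext
  let H : Subgroup (Matrix.SpecialLinearGroup (Fin (m + 3)) k) :=
    { carrier := {g | β (QuotientGroup.mk g) = β' (QuotientGroup.mk g)}
      one_mem' := by
        show β (QuotientGroup.mk 1) = β' (QuotientGroup.mk 1)
        rw [QuotientGroup.mk_one, map_one, map_one]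
      mul_mem' := by
        intro a b ha hb
        show β (QuotientGroup.mk (a * b)) = β' (QuotientGroup.mk (a * b))
        rw [QuotientGroup.mk_mul, map_mul, map_mul, ha, hb]
      inv_mem' := by
        intro a ha
        show β (QuotientGroup.mk a⁻¹) = β' (QuotientGroup.mk a⁻¹)
        rw [QuotientGroup.mk_inv, map_inv, map_inv, ha] }
  have hH : H = ⊤ := by
    apply Cfsg.Agent.Lib.Helper24.SLGen.eq_top_of_transvections
    intro i j hij a
    have : Matrix.SpecialLinearGroup.transvection hij a = xe i j a :=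
      Subtype.ext (by rw [xe_coe hij]; rfl)
    rw [this]
    exact h i j hij a
  intro s
  have : s ∈ H := by rw [hH]; exact Subgroup.mem_top s
  exact this

lemma xe_neg (i j : Fin (m + 3)) (s : k) : xe i j (-s) = (xe i j s)⁻¹ := by
  unfold xe; rw [tvl_inv]

lemma mk_xe_injective {i j : Fin (m + 3)} (hij : i ≠ j) {s t : k}
    (h : (QuotientGroup.mk (xe i j s) : Matrix.ProjectiveSpecialLinearGroup (Fin (m + 3)) k) =
      QuotientGroup.mk (xe i j t)) : s = t := by
  by_contra hst
  have h1 : (QuotientGroup.mk (xe i j (s - t)) :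
      Matrix.ProjectiveSpecialLinearGroup (Fin (m + 3)) k) = 1 := by
    rw [sub_eq_add_neg, xe_add, xe_neg, QuotientGroup.mk_mul, QuotientGroup.mk_inv, h,
      mul_inv_cancel]
  have h2 : xe i j (s - t) = tvl ((s - t) • ev i) (ev j) (1 : k) := by
    unfold xe
    rw [tvl_smul_left (inc_ev hij).2.2, mul_one]
  rw [h2] at h1
  exact mk_tvl_ne_one (inc_smul_left (inc_ev hij) (sub_ne_zero.mpr hst)) h1

lemma xe_comm {i j l : Fin (m + 3)} (hij : i ≠ j) (hjl : j ≠ l) (hil : i ≠ l) (s t : k) :
    xe i j s * xe j l t * (xe i j s)⁻¹ * (xe j l t)⁻¹ = xe i l (s * t) := by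
  unfold xe
  rw [tvl_commutator (inc_ev hij).2.2 (inc_ev hjl).2.2 (by rw [ev_dot, if_neg hil.symm]), ev_dot,
    if_pos rfl, mul_one]

/-- the automorphism acts on each root subgroup of the standard frame -/
def FixesRoot (β : MulAut (Matrix.ProjectiveSpecialLinearGroup (Fin (m + 3)) k))
    (σ : Fin (m + 3) → Fin (m + 3) → k → k) : Prop :=
  ∀ i j, i ≠ j → ∀ s, β (QuotientGroup.mk (xe i j s)) =
    (QuotientGroup.mk (xe i j (σ i j s)) : Matrix.ProjectiveSpecialLinearGroup (Fin (m + 3)) k)

variable {β : MulAut (Matrix.ProjectiveSpecialLinearGroup (Fin (m + 3)) k)}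
  {σ : Fin (m + 3) → Fin (m + 3) → k → k}

lemma FixesRoot.add (h : FixesRoot β σ) {i j : Fin (m + 3)} (hij : i ≠ j) (s t : k) :
    σ i j (s + t) = σ i j s + σ i j t := by
  apply mk_xe_injective hij
  rw [← h i j hij, xe_add, QuotientGroup.mk_mul, map_mul, h i j hij, h i j hij, xe_add,
    QuotientGroup.mk_mul]

lemma FixesRoot.injective (h : FixesRoot β σ) {i j : Fin (m + 3)} (hij : i ≠ j) :
    Function.Injective (σ i j) := by
  intro s t hst
  apply mk_xe_injective hij
  apply β.injective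
  rw [h i j hij, h i j hij, hst]

lemma FixesRoot.mul (h : FixesRoot β σ) {i j l : Fin (m + 3)} (hij : i ≠ j) (hjl : j ≠ l)
    (hil : i ≠ l) (s t : k) : σ i l (s * t) = σ i j s * σ j l t := by
  apply mk_xe_injective hil
  rw [← h i l hil, ← xe_comm hij hjl hil, ← xe_comm hij hjl hil]
  simp only [QuotientGroup.mk_mul, QuotientGroup.mk_inv, map_mul, map_inv, h i j hij, h j l hjl]

end gen

section lemmaC

variable {k : Type*} [Field k] [Finite k] {m : ℕ}
  {β : MulAut (Matrix.ProjectiveSpecialLinearGroup (Fin (m + 3)) k)}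
  {σ : Fin (m + 3) → Fin (m + 3) → k → k}

/-- an automorphism fixing the root subgroups of the frame, normalised on the first row, is a
standard field automorphism -/
theorem eq_fieldAut_of_fixesRoot (h : FixesRoot β σ)
    (h1 : ∀ j : Fin (m + 3), j ≠ 0 → σ 0 j 1 = 1) : ∃ τ : k ≃+* k, β = fieldAut τ := by
  have h01 := fin_zero_ne_one m
  have h02 := fin_zero_ne_two m
  have h12 := fin_one_ne_two m
  have s1 : ∀ j l : Fin (m + 3), j ≠ 0 → l ≠ 0 → j ≠ l → ∀ t, σ j l t = σ 0 l t := by
    intro j l hj hl hjl t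
    have := h.mul (Ne.symm hj) hjl (Ne.symm hl) 1 t
    rw [one_mul, h1 j hj, one_mul] at this
    exact this.symm
  have s2 : ∀ j l : Fin (m + 3), j ≠ 0 → l ≠ 0 → j ≠ l → ∀ s, σ 0 l s = σ 0 j s := by
    intro j l hj hl hjl s
    have := h.mul (Ne.symm hj) hjl (Ne.symm hl) s 1
    rw [mul_one, s1 j l hj hl hjl, h1 l hl, mul_one] at this
    exact this
  set f : k → k := σ 0 1 with hf
  have s3 : ∀ j : Fin (m + 3), j ≠ 0 → ∀ s, σ 0 j s = f s := by
    intro j hj s
    by_cases hj1 : j = 1
    · rw [hj1]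
    · exact s2 1 j h01.symm hj (Ne.symm hj1) s
  have s4 : ∀ j l : Fin (m + 3), j ≠ 0 → l ≠ 0 → j ≠ l → ∀ t, σ j l t = f t := by
    intro j l hj hl hjl t
    rw [s1 j l hj hl hjl, s3 l hl]
  have fmul : ∀ s t, f (s * t) = f s * f t := by
    intro s t
    have := h.mul h01 h12 h02 s t
    rw [s3 2 h02.symm, s4 1 2 h01.symm h02.symm h12] at this
    exact this
  have fadd : ∀ s t, f (s + t) = f s + f t := fun s t => h.add h01 s t
  have fone : f 1 = 1 := h1 1 h01.symm
  have fzero : f 0 = 0 := by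
    have := fadd 0 0
    rw [add_zero] at this
    exact left_eq_add.mp this
  have s5 : ∀ j : Fin (m + 3), j ≠ 0 → ∀ s, σ j 0 s = f s := by
    intro j hj s
    obtain ⟨l, hl0, hlj⟩ : ∃ l : Fin (m + 3), l ≠ 0 ∧ l ≠ j := by
      obtain ⟨j₁, j₂, hj₁, hj₂, hjj⟩ := exists_two_others j
      by_cases h0 : j₁ = 0
      · exact ⟨j₂, fun h => hjj (h0.trans h.symm), hj₂⟩
      · exact ⟨j₁, h0, hj₁⟩
    have := h.mul hj (Ne.symm hl0) (Ne.symm hlj) s 1
    rw [mul_one, s4 j l hj hl0 (Ne.symm hlj), h1 l hl0, mul_one] at this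
    exact this.symm
  have hall : ∀ i j : Fin (m + 3), i ≠ j → ∀ s, σ i j s = f s := by
    intro i j hij s
    by_cases hi : i = 0
    · rw [hi] at hij ⊢
      exact s3 j (Ne.symm hij) s
    · by_cases hj : j = 0
      · rw [hj]
        exact s5 i hi s
      · exact s4 i j hi hj hij s
  have finj : Function.Injective f := h.injective h01
  let fr : k →+* k :=
    { toFun := f
      map_one' := fone
      map_mul' := fmul
      map_zero' := fzero
      map_add' := fadd }
  have hbij : Function.Bijective fr := Finite.injective_iff_bijective.mp finj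
  let τ : k ≃+* k := RingEquiv.ofBijective fr hbij
  refine ⟨τ, aut_eq_of_xe _ _ (fun i j hij s => ?_)⟩
  rw [h i j hij, fieldAut_xe τ hij, hall i j hij]
  rfl

end lemmaC

end Cfsg.Agent.Lib.Helper19.AutPSL
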