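import Mathlib
import Cfsg.Agent.Lib.Helper19.AutPSL9

/-!
# Automorphisms of `PSL_n(q)`, part 10: the determination of the automorphisms for `n ≥ 3` (helper19)
-/

set_option autoImplicit false

namespace Cfsg.Agent.Lib.Helper19.AutPSL

open Matrix Cfsg.Agent.Lib.Helper27.SLTransv Cfsg.Agent.Lib.Helper19.PSLGraph

section diag

variable {k : Type*} [Field k] {N : ℕ}

/-- diagonal invertible matrices -/
noncomputable def diagGL (c : Fin N → k) (hc : ∀ i, c i ≠ 0) : GL (Fin N) k :=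
  Matrix.GeneralLinearGroup.mkOfDetNeZero (Matrix.diagonal c) (by
    rw [Matrix.det_diagonal]; exact Finset.prod_ne_zero_iff.mpr (fun i _ => hc i))

lemma diagGL_coe (c : Fin N → k) (hc : ∀ i, c i ≠ 0) :
    (diagGL c hc : Matrix (Fin N) (Fin N) k) = Matrix.diagonal c := rfl

lemma diagGL_inv (c : Fin N → k) (hc : ∀ i, c i ≠ 0) :
    (diagGL c hc)⁻¹ = diagGL (fun i => (c i)⁻¹) (fun i => inv_ne_zero (hc i)) := by
  apply inv_eq_of_mul_eq_one_right
  apply Units.ext
  show Matrix.diagonal c * Matrix.diagonal (fun i => (c i)⁻¹) = 1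
  rw [Matrix.diagonal_mul_diagonal, ← Matrix.diagonal_one]
  congr 1
  funext i
  exact mul_inv_cancel₀ (hc i)

lemma Phi_diag_xe (c : Fin N → k) (hc : ∀ i, c i ≠ 0) {i j : Fin N} (hij : i ≠ j) (s : k) :
    Phi (diagGL c hc) (QuotientGroup.mk (xe i j s)) =
      (QuotientGroup.mk (xe i j (c i * s * (c j)⁻¹)) :
        Matrix.ProjectiveSpecialLinearGroup (Fin N) k) := by
  have h0 := (inc_ev (k := k) hij).2.2
  rw [Phi_mk]
  congr 1
  unfold xe
  rw [conjFun_tvl _ h0, diagGL_inv, diagGL_coe, diagGL_coe]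
  have e1 : Matrix.diagonal c *ᵥ (ev i : Fin N → k) = c i • ev i := by
    funext a
    rw [Matrix.mulVec_diagonal, Pi.smul_apply, smul_eq_mul]
    unfold ev
    by_cases ha : a = i
    · rw [ha]
    · rw [Pi.single_apply, if_neg ha, mul_zero, mul_zero]
  have e2 : (ev j : Fin N → k) ᵥ* Matrix.diagonal (fun i => (c i)⁻¹) = (c j)⁻¹ • ev j := by
    funext a
    rw [Matrix.vecMul_diagonal, Pi.smul_apply, smul_eq_mul]
    unfold ev
    by_cases ha : a = j
    · rw [ha, mul_comm]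
    · rw [Pi.single_apply, if_neg ha, mul_zero, zero_mul]
  rw [e1, e2]
  have h1 : (ev j : Fin N → k) ⬝ᵥ (c i • ev i) = 0 := by rw [dotProduct_smul, h0, smul_zero]
  rw [tvl_smul_right h1, tvl_smul_left h0]
  congr 1
  ring

end diag

section comp

variable {k : Type*} [Field k] {m : ℕ}

lemma map_mul_aut (α β : MulAut (Matrix.ProjectiveSpecialLinearGroup (Fin (m + 3)) k))
    (M : Subgroup (Matrix.ProjectiveSpecialLinearGroup (Fin (m + 3)) k)) :
    M.map (α * β).toMonoidHom = (M.map β.toMonoidHom).map α.toMonoidHom := by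
  rw [Subgroup.map_map]
  rfl

lemma mulVec_ne_zero (g : GL (Fin (m + 3)) k) {a : Fin (m + 3) → k} (ha : a ≠ 0) :
    (g : Matrix (Fin (m + 3)) (Fin (m + 3)) k) *ᵥ a ≠ 0 := by
  intro h
  apply ha
  have := congrArg (fun v => ((g⁻¹ : GL (Fin (m + 3)) k) : Matrix (Fin (m + 3)) (Fin (m + 3)) k) *ᵥ v) h
  simpa [Matrix.mulVec_mulVec] using this

lemma ptToPt_Phi (g : GL (Fin (m + 3)) k) : PtToPt (Phi g) :=
  fun a ha => ⟨_, mulVec_ne_zero g ha, map_Phi_Ept g a⟩

lemma ptToPt_mul {α β : MulAut (Matrix.ProjectiveSpecialLinearGroup (Fin (m + 3)) k)}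
    (hα : PtToPt α) (hβ : PtToPt β) : PtToPt (α * β) := by
  intro a ha
  obtain ⟨b, hb, hmap⟩ := hβ a ha
  obtain ⟨c, hc, hmap'⟩ := hα b hb
  exact ⟨c, hc, by rw [map_mul_aut, hmap, hmap']⟩

end comp

section frame

variable {k : Type*} [Field k] [Fintype k] {m : ℕ} (p : ℕ) [Fact p.Prime] [CharP k p]

include p in
/-- an automorphism preserving types can be adjusted to fix the points of the standard frame -/
theorem exists_frame {β : MulAut (Matrix.ProjectiveSpecialLinearGroup (Fin (m + 3)) k)}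
    (hβ : PtToPt β) :
    ∃ g : GL (Fin (m + 3)) k, ∀ i : Fin (m + 3),
      (Ept (ev i : Fin (m + 3) → k)).map ((Phi g)⁻¹ * β).toMonoidHom = Ept (ev i) := by
  classical
  choose b hb hmap using (fun i : Fin (m + 3) => hβ (ev i) (ev_ne_zero i))
  set B : Matrix (Fin (m + 3)) (Fin (m + 3)) k := Matrix.of (fun r c => b c r) with hB
  have hdet : B.det ≠ 0 := by
    intro h0
    obtain ⟨ψ, hψ, hψB⟩ := Matrix.exists_vecMul_eq_zero_iff.mpr h0
    have hψb : ∀ c, ψ ⬝ᵥ b c = 0 := fun c => congrFun hψB c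
    have hinv : HyToHy β⁻¹ := hyToHy_of_ptToPt p (ptToPt_inv p hβ)
    obtain ⟨φ, hφ, hmapφ⟩ := hinv ψ hψ
    apply hφ
    funext c
    obtain ⟨x, hx1, hx2, hx3⟩ := exists_mem_Ept_Ehy (⟨hb c, hψ, hψb c⟩ : Inc (b c) ψ)
    have e1 : (β⁻¹ : MulAut _) x ∈ Ept (ev c : Fin (m + 3) → k) := by
      rw [← map_inv_eq β (hmap c)]; exact ⟨x, hx1, rfl⟩
    have e2 : (β⁻¹ : MulAut _) x ∈ Ehy φ := by
      rw [← hmapφ]; exact ⟨x, hx2, rfl⟩
    have := dot_eq_zero_of_mem_Ept_Ehy (ev_ne_zero c) hφ e1 e2 (map_ne_one _ hx3)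
    unfold ev at this
    rw [dotProduct_single_one] at this
    exact this
  set g : GL (Fin (m + 3)) k := Matrix.GeneralLinearGroup.mkOfDetNeZero B hdet with hg
  refine ⟨g, fun i => ?_⟩
  have e1 : (Ept (ev i : Fin (m + 3) → k)).map (Phi g).toMonoidHom = Ept (b i) := by
    rw [map_Phi_Ept]
    congr 1
    show B *ᵥ (ev i) = b i
    unfold ev
    rw [Matrix.mulVec_single_one]
    funext r
    rfl
  rw [map_mul_aut, hmap i]
  exact map_inv_eq (Phi g) e1

include p in
/-- an automorphism fixing the points of the standard frame fixes its hyperplanes -/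
lemma fix_Ehy {β : MulAut (Matrix.ProjectiveSpecialLinearGroup (Fin (m + 3)) k)}
    (hβ : PtToPt β)
    (hfix : ∀ i : Fin (m + 3), (Ept (ev i : Fin (m + 3) → k)).map β.toMonoidHom = Ept (ev i))
    (j : Fin (m + 3)) : (Ehy (ev j : Fin (m + 3) → k)).map β.toMonoidHom = Ehy (ev j) := by
  obtain ⟨ψ, hψ, hmap⟩ := hyToHy_of_ptToPt p hβ (ev j) (ev_ne_zero j)
  have hz : ∀ i, i ≠ j → ψ i = 0 := by
    intro i hij
    obtain ⟨x, hx1, hx2, hx3⟩ := exists_mem_Ept_Ehy (inc_ev (k := k) hij)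
    have e1 : β x ∈ Ept (ev i : Fin (m + 3) → k) := by rw [← hfix i]; exact ⟨x, hx1, rfl⟩
    have e2 : β x ∈ Ehy ψ := by rw [← hmap]; exact ⟨x, hx2, rfl⟩
    have := dot_eq_zero_of_mem_Ept_Ehy (ev_ne_zero i) hψ e1 e2 (map_ne_one _ hx3)
    unfold ev at this
    rw [dotProduct_single_one] at this
    exact this
  have hψeq : ψ = ψ j • (ev j : Fin (m + 3) → k) := by
    funext l
    rw [Pi.smul_apply, smul_eq_mul]
    unfold ev
    by_cases hl : l = j
    · rw [hl, Pi.single_eq_same, mul_one]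
    · rw [hz l hl, Pi.single_apply, if_neg hl, mul_zero]
  have hψj : ψ j ≠ 0 := by
    intro h0
    rw [h0, zero_smul] at hψeq
    exact hψ hψeq
  rw [hmap]
  exact Ehy_eq_of_par ⟨ψ j, hψj, hψeq⟩

include p in
/-- an automorphism fixing the points of the standard frame acts on its root subgroups -/
theorem exists_fixesRoot {β : MulAut (Matrix.ProjectiveSpecialLinearGroup (Fin (m + 3)) k)}
    (hβ : PtToPt β)
    (hfix : ∀ i : Fin (m + 3), (Ept (ev i : Fin (m + 3) → k)).map β.toMonoidHom = Ept (ev i)) :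
    ∃ σ : Fin (m + 3) → Fin (m + 3) → k → k, FixesRoot β σ := by
  classical
  have key : ∀ i j : Fin (m + 3), i ≠ j → ∀ s : k, ∃ s' : k,
      β (QuotientGroup.mk (xe i j s)) =
        (QuotientGroup.mk (xe i j s') : Matrix.ProjectiveSpecialLinearGroup (Fin (m + 3)) k) := by
    intro i j hij s
    have h0 := (inc_ev (k := k) hij).2.2
    have hx1 : (QuotientGroup.mk (xe i j s) :
        Matrix.ProjectiveSpecialLinearGroup (Fin (m + 3)) k) ∈ Ept (ev i : Fin (m + 3) → k) := by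
      refine ⟨s • ev j, by rw [smul_dotProduct, h0, smul_zero], ?_⟩
      unfold xe
      rw [tvl_smul_right h0, mul_one]
    have hx2 : (QuotientGroup.mk (xe i j s) :
        Matrix.ProjectiveSpecialLinearGroup (Fin (m + 3)) k) ∈ Ehy (ev j : Fin (m + 3) → k) := by
      refine ⟨s • ev i, by rw [dotProduct_smul, h0, smul_zero], ?_⟩
      unfold xe
      rw [tvl_smul_left h0, mul_one]
    have e1 : β (QuotientGroup.mk (xe i j s)) ∈ Ept (ev i : Fin (m + 3) → k) := by
      rw [← hfix i]; exact ⟨_, hx1, rfl⟩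
    have e2 : β (QuotientGroup.mk (xe i j s)) ∈ Ehy (ev j : Fin (m + 3) → k) := by
      rw [← fix_Ehy p hβ hfix j]; exact ⟨_, hx2, rfl⟩
    by_cases h1 : β (QuotientGroup.mk (xe i j s)) = 1
    · exact ⟨0, by rw [h1, xe_zero]; rfl⟩
    obtain ⟨χ, hχ, e⟩ := e1
    have hχ0 : χ ≠ 0 := by
      rintro rfl
      rw [tvl_zero_right] at e
      exact h1 e
    rw [e] at e2
    obtain ⟨l, _, rfl⟩ := (mem_Ehy_iff (ev_ne_zero j) ⟨ev_ne_zero i, hχ0, hχ⟩).mp e2
    refine ⟨l, ?_⟩
    rw [e]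
    unfold xe
    rw [tvl_smul_right h0, mul_one]
  refine ⟨fun i j s => if h : i ≠ j then Classical.choose (key i j h s) else 0, ?_⟩
  intro i j hij s
  simp only [dif_pos hij]
  exact Classical.choose_spec (key i j hij s)

include p in
/-- type-preserving automorphisms are products of inner-diagonal and field automorphisms -/
theorem main_ptToPt {β : MulAut (Matrix.ProjectiveSpecialLinearGroup (Fin (m + 3)) k)}
    (hβ : PtToPt β) : ∃ (g : GL (Fin (m + 3)) k) (τ : k ≃+* k), β = Phi g * fieldAut τ := by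
  classical
  obtain ⟨g₁, hfix⟩ := exists_frame p hβ
  set β₁ := (Phi g₁)⁻¹ * β with hβ₁
  have hβ₁pt : PtToPt β₁ := by
    rw [hβ₁, ← map_inv]
    exact ptToPt_mul (ptToPt_Phi _) hβ
  obtain ⟨σ, hσ⟩ := exists_fixesRoot p hβ₁pt hfix
  set c : Fin (m + 3) → k := fun j => if j = 0 then 1 else σ 0 j 1 with hc
  have hσ0 : ∀ j : Fin (m + 3), j ≠ 0 → σ 0 j 0 = 0 := by
    intro j hj
    have := hσ.add (Ne.symm hj) 0 0
    rw [add_zero] at this
    exact left_eq_add.mp this
  have hc0 : ∀ j, c j ≠ 0 := by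
    intro j
    rw [hc]
    by_cases hj : j = 0
    · simp only [if_pos hj]; exact one_ne_zero
    · simp only [if_neg hj]
      intro h
      exact one_ne_zero (hσ.injective (Ne.symm hj) (h.trans (hσ0 j hj).symm))
  set d := diagGL c hc0 with hd
  set β₂ := Phi d * β₁ with hβ₂
  have hσ₂ : FixesRoot β₂ (fun i j s => c i * σ i j s * (c j)⁻¹) := by
    intro i j hij s
    rw [hβ₂, MulAut.mul_apply, hσ i j hij, hd, Phi_diag_xe _ _ hij]
  obtain ⟨τ, hτ⟩ := eq_fieldAut_of_fixesRoot hσ₂ (by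
    intro j hj
    show c 0 * σ 0 j 1 * (c j)⁻¹ = 1
    have h1 : c 0 = 1 := by rw [hc]; simp
    have h2 : c j = σ 0 j 1 := by rw [hc]; simp only [if_neg hj]
    rw [h1, one_mul, ← h2, mul_inv_cancel₀ (hc0 j)])
  refine ⟨g₁ * d⁻¹, τ, ?_⟩
  rw [← hτ, hβ₂, hβ₁, map_mul, map_inv]
  group

include p in
/-- every automorphism of `PSL_n(q)`, `n ≥ 3`, is a product of an inner-diagonal automorphism, a
field automorphism and possibly the inverse-transpose automorphism -/
theorem main_aut (β : MulAut (Matrix.ProjectiveSpecialLinearGroup (Fin (m + 3)) k)) :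
    ∃ (g : GL (Fin (m + 3)) k) (τ : k ≃+* k),
      β = Phi g * fieldAut τ ∨ β = Phi g * fieldAut τ * iota0 := by
  rcases ptToPt_or_ptToHy p β with h | h
  · obtain ⟨g, τ, e⟩ := main_ptToPt p h
    exact ⟨g, τ, Or.inl e⟩
  · have h' : PtToPt (β * iota0) := by
      intro a ha
      obtain ⟨b, hb, hmap⟩ := hyToPt_of_ptToHy p h a ha
      exact ⟨b, hb, by rw [map_mul_aut, map_iota0_Ept, hmap]⟩
    obtain ⟨g, τ, e⟩ := main_ptToPt p h'
    refine ⟨g, τ, Or.inr ?_⟩
    rw [← e, mul_assoc, iota0_sq, mul_one]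

end frame

end Cfsg.Agent.Lib.Helper19.AutPSL
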