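import Mathlib
import Cfsg.Agent.Lib.Helper19.AutPSL10
import Cfsg.Agent.Lib.Helper14.OutL2e

/-!
# Automorphisms of `PSL_n(q)`, part 11: the case `n = 2` (via helper14's `OutL2`) (helper19)
-/

set_option autoImplicit false

namespace Cfsg.Agent.Lib.Helper19.AutPSL

open Matrix Cfsg.Agent.Lib.Helper19.PSLGraph
open Cfsg.Agent.Lib.Helper12 Cfsg.Agent.Lib.Helper12.SL2 Cfsg.Agent.S0805 Cfsg.Agent.S0807
open Cfsg.Agent.Lib.Helper1.DkOrders Cfsg.Agent.Lib.Helper14.DkSub Cfsg.Agent.Lib.Helper14.OutL2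

section two

variable {F : Type*} [Field F]

lemma Phi_toGL {N : ℕ} (s : Matrix.SpecialLinearGroup (Fin N) F) :
    Phi (Matrix.SpecialLinearGroup.toGL s) =
      MulAut.conj (QuotientGroup.mk s : Matrix.ProjectiveSpecialLinearGroup (Fin N) F) := by
  apply aut_ext
  intro t
  rw [Phi_mk, MulAut.conj_apply, ← QuotientGroup.mk_inv, ← QuotientGroup.mk_mul,
    ← QuotientGroup.mk_mul]
  congr 1

lemma dAut_eq_Phi (c : Fˣ) :
    dAut c = Phi (diagGL (![(c : F), 1] : Fin 2 → F) (by
      intro i; fin_cases i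
      · exact c.ne_zero
      · exact one_ne_zero)) := by
  apply aut_ext
  intro s
  rw [Phi_mk]
  show (QuotientGroup.mk (dconjFun c s) : Matrix.ProjectiveSpecialLinearGroup (Fin 2) F) = _
  congr 1
  apply Subtype.ext
  rw [conjFun_coe, diagGL_inv, diagGL_coe, diagGL_coe]
  ext i j
  fin_cases i <;> fin_cases j <;>
    simp [dconjFun, SL2.mk, Matrix.mul_apply, Matrix.diagonal, mul_comm]

variable [Fintype F]

lemma fAut_eq_fieldAut (τ : F ≃+* F) : fAut τ = fieldAut (N := 2) τ := by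
  apply aut_ext
  intro s
  rfl

variable (p : ℕ) [Fact p.Prime] [CharP F p]

include p in
/-- every automorphism of `PSL₂(q)` is a product of an inner-diagonal and a field automorphism -/
theorem main_aut2 (β : MulAut (Matrix.ProjectiveSpecialLinearGroup (Fin 2) F)) :
    ∃ (g : GL (Fin 2) F) (τ : F ≃+* F), β = Phi g * fieldAut τ := by
  set τ : F ≃+* F := sigHom p β with hτ
  set γ := β * (fAut τ)⁻¹ with hγ
  have h1 : sigHom p γ = 1 := by
    rw [hγ, map_mul, map_inv]
    have : sigHom p (fAut τ) = τ := sig_eq p (isSemi_fAut τ)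
    rw [this, ← hτ]
    exact mul_inv_cancel τ
  obtain ⟨y, c, hyc⟩ := exists_of_sigHom_eq_one p γ h1
  obtain ⟨s, rfl⟩ := QuotientGroup.mk_surjective y
  refine ⟨Matrix.SpecialLinearGroup.toGL s * diagGL (![(c : F), 1] : Fin 2 → F) (by
      intro i; fin_cases i
      · exact c.ne_zero
      · exact one_ne_zero), τ, ?_⟩
  rw [map_mul, Phi_toGL, ← dAut_eq_Phi, ← fAut_eq_fieldAut, ← hyc, hγ]
  group

end two

end Cfsg.Agent.Lib.Helper19.AutPSL
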