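import Mathlib
import Cfsg.Agent.Lib.Helper19.AutPSL11

/-!
# Automorphisms of `PSL_n(q)`, part 12: the general statement for `n ≥ 2` (helper19)
-/

set_option autoImplicit false

namespace Cfsg.Agent.Lib.Helper19.AutPSL

open Matrix Cfsg.Agent.Lib.Helper19.PSLGraph

/-- every automorphism of `PSL_n(q)`, `n ≥ 2`, is `δ φ` or `δ φ ι` -/
theorem aut_psl {F : Type*} [Field F] [Fintype F] (p : ℕ) [Fact p.Prime] [CharP F p] {n : ℕ}
    (hn : 2 ≤ n) (β : MulAut (Matrix.ProjectiveSpecialLinearGroup (Fin n) F)) :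
    ∃ (g : GL (Fin n) F) (τ : F ≃+* F),
      β = Phi g * fieldAut τ ∨ β = Phi g * fieldAut τ * iota0 := by
  by_cases h2 : n = 2
  · subst h2
    obtain ⟨g, τ, e⟩ := main_aut2 p β
    exact ⟨g, τ, Or.inl e⟩
  · obtain ⟨m, rfl⟩ : ∃ m, n = m + 3 := ⟨n - 3, by omega⟩
    exact main_aut p β

/-- `δ φ` is induced by a semilinear map -/
lemma isInduced_Phi_fieldAut {F : Type*} [Field F] {n : ℕ} (g : GL (Fin n) F) (τ : F ≃+* F) :
    Cfsg.IsInducedBySemilinearPSL g τ (Phi g * fieldAut τ) := by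
  intro s s' hs
  rw [MulAut.mul_apply, fieldAut_mk, Phi_mk]
  congr 1
  apply Subtype.ext
  rw [hs, conjFun_coe, mapSL_coe]

end Cfsg.Agent.Lib.Helper19.AutPSL
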