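import Mathlib
import Cfsg.Agent.Lib.Helper19.AutPSL12

/-!
# Automorphisms of `PSL_n(q)`, part 13: uniqueness of the decomposition and the order (helper19)
-/

set_option autoImplicit false

namespace Cfsg.Agent.Lib.Helper19.AutPSL

open Matrix Cfsg.Agent.Lib.Helper27.SLTransv Cfsg.Agent.Lib.Helper19.PSLGraph

section uniq

variable {F : Type*} [Field F] {n : ℕ}

lemma mapSL_mul (τ τ' : RingAut F) (s : Matrix.SpecialLinearGroup (Fin n) F) :
    mapSL (τ * τ') s = mapSL τ (mapSL τ' s) := by
  apply Subtype.ext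
  ext i j
  rfl

/-- the field automorphisms as a homomorphism -/
def fieldAutHom : RingAut F →* MulAut (Matrix.ProjectiveSpecialLinearGroup (Fin n) F) where
  toFun τ := fieldAut τ
  map_one' := by
    apply aut_ext
    intro s
    rw [fieldAut_mk, MulAut.one_apply]
    congr 1
  map_mul' τ τ' := by
    apply aut_ext
    intro s
    rw [MulAut.mul_apply, fieldAut_mk, fieldAut_mk, fieldAut_mk, mapSL_mul]

lemma fieldAutHom_apply (τ : RingAut F) :
    fieldAutHom (n := n) τ = fieldAut τ := rfl

lemma fieldAut_tv (ρ : F ≃+* F) (i j : Fin n) (hij : i ≠ j) :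
    fieldAut ρ (QuotientGroup.mk (tv i j hij)) =
      (QuotientGroup.mk (tv i j hij) : Matrix.ProjectiveSpecialLinearGroup (Fin n) F) := by
  rw [fieldAut_mk]
  congr 1
  apply Subtype.ext
  rw [mapSL_coe, tv_coe]
  ext a b
  simp only [Matrix.map_apply, Matrix.add_apply, Matrix.one_apply, Matrix.single_apply]
  split_ifs <;> simp

lemma mk_xe_inj {i j : Fin n} (hij : i ≠ j) {s t : F}
    (h : (QuotientGroup.mk (xe i j s) : Matrix.ProjectiveSpecialLinearGroup (Fin n) F) =
      QuotientGroup.mk (xe i j t)) : s = t := by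
  obtain ⟨r, _, hr⟩ := (mk_eq_iff _ _).mp h
  rw [xe_coe hij, xe_coe hij] at hr
  have h1 := congrFun (congrFun hr i) i
  have h2 := congrFun (congrFun hr i) j
  simp [Matrix.single_apply, hij, hij.symm] at h1 h2
  rw [← h1, one_mul] at h2
  exact h2.symm

/-- an inner-diagonal automorphism which is a field automorphism is trivial -/
theorem Phi_eq_fieldAut (hn : 2 ≤ n) {h : GL (Fin n) F} {ρ : F ≃+* F} (e : Phi h = fieldAut ρ) :
    Phi h = 1 ∧ ρ = RingEquiv.refl F := by
  have h1 : Phi h = 1 := by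
    rw [Phi_eq_one_iff, Cfsg.Geo.mem_scalars_iff]
    have hcomm : ∀ i j : Fin n, i ≠ j →
        Commute (single i j (1 : F)) (h : Matrix (Fin n) (Fin n) F) := by
      intro i j hij
      have h1 := congrFun (congrArg DFunLike.coe e) (QuotientGroup.mk (tv i j hij))
      rw [Phi_mk, fieldAut_tv] at h1
      exact (conj_tv_eq h i j hij h1.symm).symm
    obtain ⟨c, hc⟩ := mem_range_scalar_iff_commute_single.2 hcomm
    have hc' : (h : Matrix (Fin n) (Fin n) F) = c • 1 := by rw [← hc, scalar_eq_smul]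
    haveI : Nonempty (Fin n) := ⟨⟨0, by omega⟩⟩
    have hc0 : c ≠ 0 := by
      rintro rfl
      have hdet := (Matrix.isUnit_iff_isUnit_det _).1 h.isUnit
      rw [hc', zero_smul, det_zero] at hdet
      exact not_isUnit_zero hdet
    exact ⟨Units.mk0 c hc0, hc'⟩
  refine ⟨h1, ?_⟩
  rw [h1] at e
  ext s
  set i0 : Fin n := ⟨0, by omega⟩ with hi0
  set i1 : Fin n := ⟨1, by omega⟩ with hi1
  have hij : i0 ≠ i1 := by
    intro h'
    exact absurd (congrArg Fin.val h') (by simp [hi0, hi1])
  have := congrFun (congrArg DFunLike.coe e) (QuotientGroup.mk (xe i0 i1 s))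
  rw [MulAut.one_apply, fieldAut_xe ρ hij] at this
  exact (mk_xe_inj hij this).symm

lemma ker_Phi : (Phi (n := n) (F := F)).ker = Subgroup.center (GL (Fin n) F) := by
  ext g
  rw [MonoidHom.mem_ker, Phi_eq_one_iff, Matrix.GeneralLinearGroup.center_eq_range_scalar]
  rfl

end uniq

end Cfsg.Agent.Lib.Helper19.AutPSL
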