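import Mathlib
import Cfsg.Agent.Lib.Helper19.AutPSL13

/-!
# Automorphisms of `PSL_n(q)`, part 14: the order of the automorphism group (helper19)
-/

set_option autoImplicit false

namespace Cfsg.Agent.Lib.Helper19.AutPSL

open Matrix Cfsg.Agent.Lib.Helper27.SLTransv Cfsg.Agent.Lib.Helper19.PSLGraph

section types

variable {F : Type*} [Field F] {m : ℕ}

lemma not_ptToPt_and_ptToHy (β : MulAut (Matrix.ProjectiveSpecialLinearGroup (Fin (m + 3)) F)) :
    ¬ (PtToPt β ∧ PtToHy β) := by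
  rintro ⟨h1, h2⟩
  obtain ⟨b, hb, e1⟩ := h1 (ev 0) (ev_ne_zero 0)
  obtain ⟨ψ, hψ, e2⟩ := h2 (ev 0) (ev_ne_zero 0)
  exact Ept_ne_Ehy hb hψ (e1.symm.trans e2)

lemma ptToHy_mul_iota0 {β : MulAut (Matrix.ProjectiveSpecialLinearGroup (Fin (m + 3)) F)}
    (h : HyToHy β) : PtToHy (β * iota0) := by
  intro a ha
  obtain ⟨ψ, hψ, hmap⟩ := h a ha
  exact ⟨ψ, hψ, by rw [map_mul_aut, map_iota0_Ept, hmap]⟩

variable [Fintype F] (p : ℕ) [Fact p.Prime] [CharP F p]

include p in
lemma ptToPt_fieldAut (τ : F ≃+* F) :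
    PtToPt (fieldAut τ : MulAut (Matrix.ProjectiveSpecialLinearGroup (Fin (m + 3)) F)) := by
  rcases ptToPt_or_ptToHy p
    (fieldAut τ : MulAut (Matrix.ProjectiveSpecialLinearGroup (Fin (m + 3)) F)) with h | h
  · exact h
  exfalso
  have h01 := fin_zero_ne_one m
  have h02 := fin_zero_ne_two m
  have h12 := fin_one_ne_two m
  obtain ⟨ψ, hψ, hmap⟩ := h (ev 0) (ev_ne_zero 0)
  have hx : ∀ j : Fin (m + 3), j ≠ 0 →
      (QuotientGroup.mk (tvl (ev 0) (ev j) (1 : F)) :
        Matrix.ProjectiveSpecialLinearGroup (Fin (m + 3)) F) ∈ Ehy ψ := by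
    intro j hj
    rw [← hmap]
    refine ⟨QuotientGroup.mk (tvl (ev 0) (ev j) (1 : F)),
      ⟨ev j, (inc_ev (Ne.symm hj)).2.2, rfl⟩, ?_⟩
    have := fieldAut_xe (N := m + 3) τ (Ne.symm hj) (1 : F)
    rw [map_one] at this
    exact this
  have e1 := (mem_Ehy_iff hψ (inc_ev h01)).mp (hx 1 h01.symm)
  have e2 := (mem_Ehy_iff hψ (inc_ev h02)).mp (hx 2 h02.symm)
  obtain ⟨c, _, e⟩ := e1.symm.trans e2
  have := congrFun e 2
  unfold ev at this
  rw [Pi.smul_apply, Pi.single_eq_same, Pi.single_apply, if_neg h12.symm, smul_zero] at this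
  exact one_ne_zero this

include p in
lemma ptToPt_std (g : GL (Fin (m + 3)) F) (τ : F ≃+* F) : PtToPt (Phi g * fieldAut τ) :=
  ptToPt_mul (ptToPt_Phi g) (ptToPt_fieldAut p τ)

end types

section inj

variable {F : Type*} [Field F] {n : ℕ}

lemma core_inj (hn : 2 ≤ n) {g g' : GL (Fin n) F} {τ τ' : RingAut F}
    (e : Phi g * fieldAut τ = Phi g' * fieldAut τ') : Phi g = Phi g' ∧ τ = τ' := by
  have e' : (Phi g')⁻¹ * Phi g = fieldAut τ' * (fieldAut τ)⁻¹ := by
    rw [eq_mul_inv_iff_mul_eq, mul_assoc, e, ← mul_assoc, inv_mul_cancel, one_mul]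
  have e'' : Phi (g'⁻¹ * g) = fieldAut (τ' * τ⁻¹) := by
    rw [map_mul, map_inv, e', ← fieldAutHom_apply, ← fieldAutHom_apply, ← fieldAutHom_apply, map_mul,
      map_inv]
  obtain ⟨h1, h2⟩ := Phi_eq_fieldAut hn e''
  constructor
  · rw [map_mul, map_inv, inv_mul_eq_one] at h1
    exact h1.symm
  · have : τ' * τ⁻¹ = 1 := h2
    rw [mul_inv_eq_one] at this
    exact this.symm

end inj

section card

variable {F : Type*} [Field F] [Fintype F] (p : ℕ) [Fact p.Prime] [CharP F p]

lemma card_quot_ker_Phi (n : ℕ) :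
    Nat.card (GL (Fin n) F ⧸ (Phi (n := n) (F := F)).ker) =
      Nat.card (Matrix.ProjGenLinGroup (Fin n) F) := by
  unfold Matrix.ProjGenLinGroup
  rw [← Subgroup.index_eq_card, ← Subgroup.index_eq_card, ker_Phi]

include p in
theorem card_aut_two :
    Nat.card (MulAut (Matrix.ProjectiveSpecialLinearGroup (Fin 2) F)) =
      Nat.card (RingAut F) * Nat.card (Matrix.ProjGenLinGroup (Fin 2) F) := by
  classical
  set κ := QuotientGroup.kerLift (Phi (n := 2) (F := F)) with hκ
  have hκinj : Function.Injective κ := QuotientGroup.kerLift_injective _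
  let θ : (GL (Fin 2) F ⧸ (Phi (n := 2) (F := F)).ker) × RingAut F →
      MulAut (Matrix.ProjectiveSpecialLinearGroup (Fin 2) F) := fun x => κ x.1 * fieldAut x.2
  have hθ : Function.Bijective θ := by
    constructor
    · rintro ⟨q, τ⟩ ⟨q', τ'⟩ h
      obtain ⟨g, rfl⟩ := QuotientGroup.mk_surjective q
      obtain ⟨g', rfl⟩ := QuotientGroup.mk_surjective q'
      have h' : Phi g * fieldAut τ = Phi g' * fieldAut τ' := h
      obtain ⟨h1, h2⟩ := core_inj le_rfl h'
      have : κ (QuotientGroup.mk g) = κ (QuotientGroup.mk g') := h1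
      rw [hκinj this, h2]
    · intro β
      obtain ⟨g, τ, e⟩ := main_aut2 p β
      exact ⟨(QuotientGroup.mk g, τ), e.symm⟩
  rw [← Nat.card_congr (Equiv.ofBijective θ hθ), Nat.card_prod, card_quot_ker_Phi, mul_comm]

include p in
theorem card_aut_ge_three (m : ℕ) :
    Nat.card (MulAut (Matrix.ProjectiveSpecialLinearGroup (Fin (m + 3)) F)) =
      2 * Nat.card (RingAut F) * Nat.card (Matrix.ProjGenLinGroup (Fin (m + 3)) F) := by
  classical
  set κ := QuotientGroup.kerLift (Phi (n := m + 3) (F := F)) with hκ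
  have hκinj : Function.Injective κ := QuotientGroup.kerLift_injective _
  let θ : (GL (Fin (m + 3)) F ⧸ (Phi (n := m + 3) (F := F)).ker) × RingAut F × Bool →
      MulAut (Matrix.ProjectiveSpecialLinearGroup (Fin (m + 3)) F) :=
    fun x => κ x.1 * fieldAut x.2.1 * (if x.2.2 then iota0 else 1)
  have hne : ∀ (g g' : GL (Fin (m + 3)) F) (τ τ' : RingAut F),
      Phi g * fieldAut τ * 1 ≠ Phi g' * fieldAut τ' * iota0 := by
    intro g g' τ τ' h
    rw [mul_one] at h
    apply not_ptToPt_and_ptToHy (Phi g * fieldAut τ)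
    refine ⟨ptToPt_std p g τ, ?_⟩
    rw [h]
    exact ptToHy_mul_iota0 (hyToHy_of_ptToPt p (ptToPt_std p g' τ'))
  have hθ : Function.Bijective θ := by
    constructor
    · rintro ⟨q, τ, b⟩ ⟨q', τ', b'⟩ h
      obtain ⟨g, rfl⟩ := QuotientGroup.mk_surjective q
      obtain ⟨g', rfl⟩ := QuotientGroup.mk_surjective q'
      have h' : Phi g * fieldAut τ * (if b then iota0 else 1) =
          Phi g' * fieldAut τ' * (if b' then iota0 else 1) := h
      have hb : b = b' := by
        cases b <;> cases b'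
        · rfl
        · exact absurd h' (by simpa using hne g g' τ τ')
        · exact absurd h'.symm (by simpa using hne g' g τ' τ)
        · rfl
      subst hb
      have h'' : Phi g * fieldAut τ = Phi g' * fieldAut τ' := mul_right_cancel h'
      obtain ⟨h1, h2⟩ := core_inj (by omega) h''
      have : κ (QuotientGroup.mk g) = κ (QuotientGroup.mk g') := h1
      rw [hκinj this, h2]
    · intro β
      obtain ⟨g, τ, e | e⟩ := main_aut p β
      · exact ⟨(QuotientGroup.mk g, τ, false), by rw [e]; show _ * _ * 1 = _; rw [mul_one]; rfl⟩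
      · exact ⟨(QuotientGroup.mk g, τ, true), e.symm⟩
  rw [← Nat.card_congr (Equiv.ofBijective θ hθ), Nat.card_prod, Nat.card_prod, card_quot_ker_Phi,
    Nat.card_eq_fintype_card (α := Bool), Fintype.card_bool]
  ring

end card

end Cfsg.Agent.Lib.Helper19.AutPSL
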