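import Mathlib
import Cfsg.Prelude.Def_LieTypeDatum
import Cfsg.Agent.Lib.Helper19.PSLGraph
import Cfsg.Agent.Lib.Helper19.PSLGraph4

/-!
# Helper19: counting the classes into which an inner-diagonal class of a graph automorphism splits
-/

set_option autoImplicit false

namespace Cfsg.Agent.Lib.Helper19.PSLGraph

open Matrix Cfsg
open scoped MatrixGroups

section general

/-- The split class count through a parametrisation of the big group. -/
theorem splitClassCount_eq_card {X P Q' : Type*} [Group X] [Group P] (φ : P →* X)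
    (H K : Subgroup X) (hH : H = φ.range) (x : X) (f : P → Q') (hsurj : Function.Surjective f)
    (hiff : ∀ g₁ g₂ : P, Cfsg.IsConjUnder K (φ g₁ * x * (φ g₁)⁻¹) (φ g₂ * x * (φ g₂)⁻¹) ↔
      f g₁ = f g₂) :
    Cfsg.splitClassCount H K x = Nat.card Q' := by
  unfold Cfsg.splitClassCount
  have hex : ∀ y : {y : X // Cfsg.IsConjUnder H x y}, ∃ g : P, y.1 = φ g * x * (φ g)⁻¹ := by
    rintro ⟨y, h, hh, rfl⟩
    rw [hH] at hh
    obtain ⟨g, rfl⟩ := hh
    exact ⟨g, rfl⟩
  choose G hG using hex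
  let F : {y : X // Cfsg.IsConjUnder H x y} → Q' := fun y => f (G y)
  have hF : ∀ y z : {y : X // Cfsg.IsConjUnder H x y}, Cfsg.IsConjUnder K y.1 z.1 ↔ F y = F z := by
    intro y z
    rw [hG y, hG z]
    exact hiff (G y) (G z)
  let F' : Quot (fun y z : {y : X // Cfsg.IsConjUnder H x y} => Cfsg.IsConjUnder K y.1 z.1) → Q' :=
    Quot.lift F (fun y z h => (hF y z).1 h)
  have hinj : Function.Injective F' := by
    intro a b
    induction a using Quot.ind with
    | mk y =>
      induction b using Quot.ind with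
      | mk z =>
        intro h
        exact Quot.sound ((hF y z).2 h)
  have hsur : Function.Surjective F' := by
    intro q'
    obtain ⟨g, rfl⟩ := hsurj q'
    have hy : Cfsg.IsConjUnder H x (φ g * x * (φ g)⁻¹) := ⟨φ g, by rw [hH]; exact ⟨g, rfl⟩, rfl⟩
    refine ⟨Quot.mk _ ⟨_, hy⟩, ?_⟩
    show f (G ⟨_, hy⟩) = f g
    rw [← hiff]
    have := hG ⟨_, hy⟩
    rw [← this]
    exact ⟨1, K.one_mem, by simp⟩
  exact Nat.card_congr (Equiv.ofBijective F' ⟨hinj, hsur⟩)

end general

section psl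

variable {n : ℕ} {F : Type*} [Field F]

lemma conj_mk_eq_Phi (t : Matrix.SpecialLinearGroup (Fin n) F) :
    MulAut.conj (QuotientGroup.mk t : Matrix.ProjectiveSpecialLinearGroup (Fin n) F) =
      Phi (Matrix.SpecialLinearGroup.toGL t) := by
  apply aut_ext
  intro s
  rw [Phi_mk, MulAut.conj_apply]
  show (QuotientGroup.mk (t * s * t⁻¹) : Matrix.ProjectiveSpecialLinearGroup (Fin n) F) = _
  congr 1

/-- An invertible matrix of determinant one as an element of `SL`. -/
def toSL (s : GL (Fin n) F) (h : s.1.det = 1) : Matrix.SpecialLinearGroup (Fin n) F := ⟨s.1, h⟩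

lemma toGL_toSL (s : GL (Fin n) F) (h : s.1.det = 1) :
    Matrix.SpecialLinearGroup.toGL (toSL s h) = s := by
  apply Units.ext
  rfl

lemma mem_Inn_iff (k : MulAut (Matrix.ProjectiveSpecialLinearGroup (Fin n) F)) :
    k ∈ Cfsg.Inn (Matrix.ProjectiveSpecialLinearGroup (Fin n) F) ↔
      ∃ s : GL (Fin n) F, Matrix.GeneralLinearGroup.det s = 1 ∧ k = Phi s := by
  constructor
  · rintro ⟨x, rfl⟩
    induction x using QuotientGroup.induction_on with
    | H t =>
      refine ⟨Matrix.SpecialLinearGroup.toGL t, ?_, conj_mk_eq_Phi t⟩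
      apply Units.ext
      exact t.2
  · rintro ⟨s, hs, rfl⟩
    have hdet : s.1.det = 1 := by
      have := congrArg Units.val hs
      exact this
    refine ⟨QuotientGroup.mk (toSL s hdet), ?_⟩
    show MulAut.conj (QuotientGroup.mk (toSL s hdet) :
      Matrix.ProjectiveSpecialLinearGroup (Fin n) F) = Phi s
    rw [conj_mk_eq_Phi, toGL_toSL]

/-- The subgroup of determinants of the similitudes of `A`. -/
def detSim (A : GL (Fin n) F) : Subgroup Fˣ := (SimGL A).map Matrix.GeneralLinearGroup.det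

lemma det_surj (hn : 1 ≤ n) (d : Fˣ) : ∃ g : GL (Fin n) F, Matrix.GeneralLinearGroup.det g = d := by
  classical
  let i0 : Fin n := ⟨0, by omega⟩
  have hdet : (Matrix.diagonal (Function.update (fun _ => (1 : F)) i0 (d : F))).det = d := by
    rw [Matrix.det_diagonal, Finset.prod_update_of_mem (Finset.mem_univ i0)]
    simp
  refine ⟨Matrix.GeneralLinearGroup.mk'' _ (by rw [hdet]; exact d.isUnit), ?_⟩
  apply Units.ext
  exact hdet

/-- The number of `T`-classes in the `Inndiag`-class of `gam A`. -/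
theorem splitClassCount_gam (hn : 1 ≤ n) (A : GL (Fin n) F) :
    Cfsg.splitClassCount (Cfsg.inndiagPSL n F)
      (Cfsg.Inn (Matrix.ProjectiveSpecialLinearGroup (Fin n) F)) (gam A) =
      Nat.card (Fˣ ⧸ detSim A) := by
  apply splitClassCount_eq_card Phi _ _ inndiag_eq (gam A)
    (fun g => (QuotientGroup.mk (Matrix.GeneralLinearGroup.det g) : Fˣ ⧸ detSim A))
  · intro y
    induction y using QuotientGroup.induction_on with
    | H d =>
      obtain ⟨g, hg⟩ := det_surj hn d
      refine ⟨g, ?_⟩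
      show (QuotientGroup.mk (Matrix.GeneralLinearGroup.det g) : Fˣ ⧸ detSim A) = _
      rw [hg]
  · intro g₁ g₂
    rw [QuotientGroup.eq]
    have hcomm : ∀ h : GL (Fin n) F, h ∈ SimGL A ↔ Phi h * gam A = gam A * Phi h := by
      intro h
      unfold SimGL
      rw [Subgroup.mem_comap, Subgroup.mem_centralizer_iff]
      simp only [Set.mem_singleton_iff, forall_eq]
      exact eq_comm
    constructor
    · rintro ⟨k, hk, hk2⟩
      obtain ⟨s, hs, rfl⟩ := (mem_Inn_iff k).1 hk
      have hmem : g₂⁻¹ * s * g₁ ∈ SimGL A := by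
        rw [hcomm, map_mul, map_mul, map_inv]
        have e : gam A = (Phi g₂)⁻¹ * (Phi s * (Phi g₁ * gam A * (Phi g₁)⁻¹) * (Phi s)⁻¹) * Phi g₂ := by
          rw [← hk2]
          group
        conv_rhs => rw [e]
        group
      have : (Matrix.GeneralLinearGroup.det g₁)⁻¹ * Matrix.GeneralLinearGroup.det g₂ =
          Matrix.GeneralLinearGroup.det (g₂⁻¹ * s * g₁)⁻¹ := by
        rw [map_inv, map_mul, map_mul, map_inv, hs]
        simp [mul_comm]
      rw [this]
      exact ⟨_, inv_mem hmem, rfl⟩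
    · rintro ⟨h0, hh0, hdet0⟩
      obtain ⟨h, hh, hdet⟩ : ∃ h ∈ SimGL A, Matrix.GeneralLinearGroup.det h =
          Matrix.GeneralLinearGroup.det g₁ * (Matrix.GeneralLinearGroup.det g₂)⁻¹ := by
        refine ⟨h0⁻¹, inv_mem hh0, ?_⟩
        rw [map_inv, hdet0]
        simp [mul_comm]
      have hh' := (hcomm h).1 hh
      refine ⟨Phi (g₂ * h * g₁⁻¹), (mem_Inn_iff _).2 ⟨g₂ * h * g₁⁻¹, ?_, rfl⟩, ?_⟩
      · rw [map_mul, map_mul, map_inv, hdet]
        simp [mul_comm]
      · rw [map_mul, map_mul, map_inv]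
        have e : Phi g₂ * Phi h * (Phi g₁)⁻¹ * (Phi g₁ * gam A * (Phi g₁)⁻¹) *
            (Phi g₂ * Phi h * (Phi g₁)⁻¹)⁻¹ = Phi g₂ * (Phi h * gam A) * (Phi h)⁻¹ * (Phi g₂)⁻¹ := by
          group
        rw [e, hh']
        group

end psl

end Cfsg.Agent.Lib.Helper19.PSLGraph
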