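import Mathlib
import Cfsg.Agent.Lib.Helper19.AutPSL14
import Cfsg.Agent.Lib.Helper19.PSLSplit1

/-!
# Automorphisms of `PSL_n(q)`, part 15: centralisers in the inner-diagonal group, generically
(helper19)
-/

set_option autoImplicit false

namespace Cfsg.Agent.Lib.Helper19.AutPSL

open Matrix Cfsg.Agent.Lib.Helper19.PSLGraph

section generic

variable {n : ℕ} {F : Type*} [Field F]

/-- the matrices whose inner-diagonal automorphism commutes with `x` -/
def CentGL (x : MulAut (Matrix.ProjectiveSpecialLinearGroup (Fin n) F)) : Subgroup (GL (Fin n) F) :=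
  (Subgroup.centralizer {x}).comap Phi

lemma mem_CentGL_iff (x : MulAut (Matrix.ProjectiveSpecialLinearGroup (Fin n) F))
    (h : GL (Fin n) F) : h ∈ CentGL x ↔ Phi h * x = x * Phi h := by
  unfold CentGL
  rw [Subgroup.mem_comap, Subgroup.mem_centralizer_iff]
  simp only [Set.mem_singleton_iff, forall_eq]
  exact eq_comm

/-- the determinants of the matrices commuting with `x` -/
def detCent (x : MulAut (Matrix.ProjectiveSpecialLinearGroup (Fin n) F)) : Subgroup Fˣ :=
  (CentGL x).map Matrix.GeneralLinearGroup.det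

lemma scalars_le_CentGL (x : MulAut (Matrix.ProjectiveSpecialLinearGroup (Fin n) F)) :
    Cfsg.Geo.scalars (Fin n) F ≤ CentGL x := by
  intro h hh
  unfold CentGL
  rw [Subgroup.mem_comap, (Phi_eq_one_iff h).2 hh]
  exact one_mem _

/-- the centraliser of `x` in the inner-diagonal group -/
theorem centralizer_equiv' (x : MulAut (Matrix.ProjectiveSpecialLinearGroup (Fin n) F)) :
    Nonempty (↥(Cfsg.inndiagPSL n F ⊓ Subgroup.centralizer {x}) ≃* Cfsg.projQuot (CentGL x)) := by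
  have h1 : Cfsg.inndiagPSL n F ⊓ Subgroup.centralizer {x} =
      (Phi.domRestrict (CentGL x)).range := by
    rw [MonoidHom.domRestrict_range, inndiag_eq]
    unfold CentGL
    rw [Subgroup.map_comap_eq]
  have h2 : (Phi.domRestrict (CentGL x)).ker =
      (Cfsg.Geo.scalars (Fin n) F).subgroupOf (CentGL x) := by
    ext ⟨h, hh⟩
    rw [MonoidHom.mem_ker, Subgroup.mem_subgroupOf]
    show Phi h = 1 ↔ _
    rw [Phi_eq_one_iff]
  rw [h1]
  exact ⟨(QuotientGroup.quotientKerEquivRange (Phi.domRestrict (CentGL x))).symm.trans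
    (QuotientGroup.quotientMulEquivOfEq h2)⟩

/-- the number of `T`-classes in the `Inndiag`-class of `x` -/
theorem splitClassCount_eq (hn : 1 ≤ n)
    (x : MulAut (Matrix.ProjectiveSpecialLinearGroup (Fin n) F)) :
    Cfsg.splitClassCount (Cfsg.inndiagPSL n F)
      (Cfsg.Inn (Matrix.ProjectiveSpecialLinearGroup (Fin n) F)) x =
      Nat.card (Fˣ ⧸ detCent x) := by
  apply splitClassCount_eq_card Phi _ _ inndiag_eq x
    (fun g => (QuotientGroup.mk (Matrix.GeneralLinearGroup.det g) : Fˣ ⧸ detCent x))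
  · intro y
    induction y using QuotientGroup.induction_on with
    | H d =>
      obtain ⟨g, hg⟩ := det_surj hn d
      refine ⟨g, ?_⟩
      show (QuotientGroup.mk (Matrix.GeneralLinearGroup.det g) : Fˣ ⧸ detCent x) = _
      rw [hg]
  · intro g₁ g₂
    rw [QuotientGroup.eq]
    have hcomm := mem_CentGL_iff x
    constructor
    · rintro ⟨k, hk, hk2⟩
      obtain ⟨s, hs, rfl⟩ := (mem_Inn_iff k).1 hk
      have hmem : g₂⁻¹ * s * g₁ ∈ CentGL x := by
        rw [hcomm, map_mul, map_mul, map_inv]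
        have e : x = (Phi g₂)⁻¹ * (Phi s * (Phi g₁ * x * (Phi g₁)⁻¹) * (Phi s)⁻¹) * Phi g₂ := by
          rw [← hk2]
          group
        conv_rhs => rw [e]
        group
      have : (Matrix.GeneralLinearGroup.det g₁)⁻¹ * Matrix.GeneralLinearGroup.det g₂ =
          Matrix.GeneralLinearGroup.det (g₂⁻¹ * s * g₁)⁻¹ := by
        rw [map_inv, map_mul, map_mul, map_inv, hs]
        simp [mul_comm]
      rw [this]
      exact ⟨_, inv_mem hmem, rfl⟩
    · rintro ⟨h0, hh0, hdet0⟩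
      obtain ⟨h, hh, hdet⟩ : ∃ h ∈ CentGL x, Matrix.GeneralLinearGroup.det h =
          Matrix.GeneralLinearGroup.det g₁ * (Matrix.GeneralLinearGroup.det g₂)⁻¹ := by
        refine ⟨h0⁻¹, inv_mem hh0, ?_⟩
        rw [map_inv, hdet0]
        simp [mul_comm]
      have hh' := (hcomm h).1 hh
      refine ⟨Phi (g₂ * h * g₁⁻¹), (mem_Inn_iff _).2 ⟨g₂ * h * g₁⁻¹, ?_, rfl⟩, ?_⟩
      · rw [map_mul, map_mul, map_inv, hdet]
        simp [mul_comm]
      · rw [map_mul, map_mul, map_inv]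
        have e : Phi g₂ * Phi h * (Phi g₁)⁻¹ * (Phi g₁ * x * (Phi g₁)⁻¹) *
            (Phi g₂ * Phi h * (Phi g₁)⁻¹)⁻¹ = Phi g₂ * (Phi h * x) * (Phi h)⁻¹ * (Phi g₂)⁻¹ := by
          group
        rw [e, hh']
        group

/-- the matrices commuting with a conjugate -/
lemma mem_CentGL_conj (g : GL (Fin n) F)
    (x : MulAut (Matrix.ProjectiveSpecialLinearGroup (Fin n) F)) (h : GL (Fin n) F) :
    h ∈ CentGL (Phi g * x * (Phi g)⁻¹) ↔ g⁻¹ * h * g ∈ CentGL x := by
  rw [mem_CentGL_iff, mem_CentGL_iff, map_mul, map_mul, map_inv]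
  constructor
  · intro e
    have : (Phi g)⁻¹ * (Phi h * (Phi g * x * (Phi g)⁻¹)) * Phi g =
        (Phi g)⁻¹ * (Phi g * x * (Phi g)⁻¹ * Phi h) * Phi g := by rw [e]
    calc (Phi g)⁻¹ * Phi h * Phi g * x
        = (Phi g)⁻¹ * (Phi h * (Phi g * x * (Phi g)⁻¹)) * Phi g := by group
      _ = (Phi g)⁻¹ * (Phi g * x * (Phi g)⁻¹ * Phi h) * Phi g := this
      _ = x * ((Phi g)⁻¹ * Phi h * Phi g) := by group
  · intro e
    calc Phi h * (Phi g * x * (Phi g)⁻¹)
        = Phi g * ((Phi g)⁻¹ * Phi h * Phi g * x) * (Phi g)⁻¹ := by group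
      _ = Phi g * (x * ((Phi g)⁻¹ * Phi h * Phi g)) * (Phi g)⁻¹ := by rw [e]
      _ = Phi g * x * (Phi g)⁻¹ * Phi h := by group

lemma detCent_conj (g : GL (Fin n) F)
    (x : MulAut (Matrix.ProjectiveSpecialLinearGroup (Fin n) F)) :
    detCent (Phi g * x * (Phi g)⁻¹) = detCent x := by
  ext d
  constructor
  · rintro ⟨h, hh, rfl⟩
    refine ⟨g⁻¹ * h * g, (mem_CentGL_conj g x h).mp hh, ?_⟩
    rw [map_mul, map_mul, map_inv]
    simp [mul_comm]
  · rintro ⟨h, hh, rfl⟩
    refine ⟨g * h * g⁻¹, (mem_CentGL_conj g x _).mpr (by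
      have : g⁻¹ * (g * h * g⁻¹) * g = h := by group
      rw [this]; exact hh), ?_⟩
    rw [map_mul, map_mul, map_inv]
    simp [mul_comm]

end generic

section grp

/-- centralisers of conjugate elements -/
theorem centralizer_conj_equiv {X : Type*} [Group X] (H : Subgroup X) (γ : X) (hγ : γ ∈ H) (x : X) :
    Nonempty (↥(H ⊓ Subgroup.centralizer {γ * x * γ⁻¹}) ≃* ↥(H ⊓ Subgroup.centralizer {x})) := by
  refine ⟨{ toFun := fun y => ⟨γ⁻¹ * y.1 * γ, ?_⟩
            invFun := fun y => ⟨γ * y.1 * γ⁻¹, ?_⟩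
            left_inv := ?_
            right_inv := ?_
            map_mul' := ?_ }⟩
  · obtain ⟨hy1, hy2⟩ := Subgroup.mem_inf.mp y.2
    refine Subgroup.mem_inf.mpr ⟨H.mul_mem (H.mul_mem (H.inv_mem hγ) hy1) hγ, ?_⟩
    rw [Subgroup.mem_centralizer_iff] at hy2 ⊢
    intro z hz
    rw [Set.mem_singleton_iff] at hz
    subst hz
    have := hy2 _ rfl
    calc z * (γ⁻¹ * y.1 * γ) = γ⁻¹ * (γ * z * γ⁻¹ * y.1) * γ := by group
      _ = γ⁻¹ * (y.1 * (γ * z * γ⁻¹)) * γ := by rw [this]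
      _ = γ⁻¹ * y.1 * γ * z := by group
  · obtain ⟨hy1, hy2⟩ := Subgroup.mem_inf.mp y.2
    refine Subgroup.mem_inf.mpr ⟨H.mul_mem (H.mul_mem hγ hy1) (H.inv_mem hγ), ?_⟩
    rw [Subgroup.mem_centralizer_iff] at hy2 ⊢
    intro z hz
    rw [Set.mem_singleton_iff] at hz
    subst hz
    have := hy2 x rfl
    calc γ * x * γ⁻¹ * (γ * y.1 * γ⁻¹) = γ * (x * y.1) * γ⁻¹ := by group
      _ = γ * (y.1 * x) * γ⁻¹ := by rw [this]
      _ = γ * y.1 * γ⁻¹ * (γ * x * γ⁻¹) := by group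
  · intro y
    apply Subtype.ext
    show γ * (γ⁻¹ * y.1 * γ) * γ⁻¹ = y.1
    group
  · intro y
    apply Subtype.ext
    show γ⁻¹ * (γ * y.1 * γ⁻¹) * γ = y.1
    group
  · intro y y'
    apply Subtype.ext
    show γ⁻¹ * (y.1 * y'.1) * γ = γ⁻¹ * y.1 * γ * (γ⁻¹ * y'.1 * γ)
    group

end grp

section pq

variable {ι : Type} [Fintype ι] [DecidableEq ι] {F : Type*} [Field F]

/-- enlarging a matrix group by scalars does not change the projective quotient -/
theorem projQuot_scalar_ext (S₁ S₂ : Subgroup (GL ι F)) (hle : S₁ ≤ S₂)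
    (hex : ∀ y ∈ S₂, ∃ c ∈ Cfsg.Geo.scalars ι F, ∃ s ∈ S₁, y = c * s) :
    Nonempty (Cfsg.projQuot S₁ ≃* Cfsg.projQuot S₂) := by
  let f : ↥S₁ →* Cfsg.projQuot S₂ :=
    (QuotientGroup.mk' ((Cfsg.Geo.scalars ι F).subgroupOf S₂)).comp (Subgroup.inclusion hle)
  have hf : ∀ x : ↥S₁, f x = QuotientGroup.mk ⟨x.1, hle x.2⟩ := fun x => rfl
  have hsurj : Function.Surjective f := by
    intro y
    induction y using QuotientGroup.induction_on with
    | H y =>
      obtain ⟨y, hy⟩ := y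
      obtain ⟨c, hc, s, hs, rfl⟩ := hex y hy
      refine ⟨⟨s, hs⟩, ?_⟩
      rw [hf]
      show (QuotientGroup.mk _ : Cfsg.projQuot S₂) = QuotientGroup.mk _
      rw [QuotientGroup.eq, Subgroup.mem_subgroupOf]
      show s⁻¹ * (c * s) ∈ Cfsg.Geo.scalars ι F
      obtain ⟨d, rfl⟩ := hc
      have hcomm : ∀ t : GL ι F,
          t * Units.map (Matrix.scalar ι : F →+* Matrix ι ι F).toMonoidHom d =
            Units.map (Matrix.scalar ι : F →+* Matrix ι ι F).toMonoidHom d * t := by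
        intro t
        apply Units.ext
        show (t : Matrix ι ι F) * Matrix.scalar ι (d : F) = Matrix.scalar ι (d : F) * (t : Matrix ι ι F)
        exact ((Matrix.scalar_commute (d : F) (fun r' => mul_comm _ _) _).eq).symm
      rw [← mul_assoc, hcomm, mul_assoc, inv_mul_cancel, mul_one]
      exact ⟨d, rfl⟩
  have hker : f.ker = (Cfsg.Geo.scalars ι F).subgroupOf S₁ := by
    ext x
    rw [MonoidHom.mem_ker, hf, QuotientGroup.eq_one_iff, Subgroup.mem_subgroupOf,
      Subgroup.mem_subgroupOf]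
  exact ⟨(QuotientGroup.quotientMulEquivOfEq hker.symm).trans
    (QuotientGroup.quotientKerEquivOfSurjective f hsurj)⟩

end pq

end Cfsg.Agent.Lib.Helper19.AutPSL
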