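import Mathlib
import Cfsg.Agent.Lib.Helper19.AutPSL15

/-!
# Automorphisms of `PSL_n(q)`, part 16: relations between the standard automorphisms (helper19)
-/

set_option autoImplicit false

namespace Cfsg.Agent.Lib.Helper19.AutPSL

open Matrix Cfsg.Agent.Lib.Helper19.PSLGraph

section rel

variable {n : ℕ} {F : Type*} [Field F]

/-- a field automorphism applied to the entries of an invertible matrix -/
def mapGL (σ : F ≃+* F) : GL (Fin n) F →* GL (Fin n) F :=
  Matrix.GeneralLinearGroup.map (σ : F →+* F)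

lemma mapGL_coe (σ : F ≃+* F) (h : GL (Fin n) F) :
    (mapGL σ h : Matrix (Fin n) (Fin n) F) = (h : Matrix (Fin n) (Fin n) F).map σ := rfl

lemma fieldAut_Phi (σ : F ≃+* F) (h : GL (Fin n) F) :
    fieldAut σ * Phi h = Phi (mapGL σ h) * fieldAut σ := by
  apply aut_ext
  intro s
  rw [MulAut.mul_apply, MulAut.mul_apply, Phi_mk, fieldAut_mk, fieldAut_mk, Phi_mk]
  congr 1
  apply Subtype.ext
  rw [mapSL_coe, conjFun_coe, conjFun_coe, mapSL_coe, ← map_inv, mapGL_coe, mapGL_coe]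
  exact (Matrix.map_mul (f := (σ : F →+* F))).trans
    (congrArg (· * _) (Matrix.map_mul (f := (σ : F →+* F))))

lemma tSL_mapSL (σ : F ≃+* F) (t : Matrix.SpecialLinearGroup (Fin n) F) :
    tSL (mapSL σ t) = mapSL σ (tSL t) := by
  apply Subtype.ext
  rfl

lemma fieldAut_iota0 (σ : F ≃+* F) :
    fieldAut σ * iota0 = (iota0 : MulAut (Matrix.ProjectiveSpecialLinearGroup (Fin n) F)) *
      fieldAut σ := by
  apply aut_ext
  intro s
  rw [MulAut.mul_apply, MulAut.mul_apply, iota0_mk, fieldAut_mk, fieldAut_mk, iota0_mk]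
  congr 1
  rw [← map_inv (mapSL σ) s, tSL_mapSL]

lemma fieldAut_one :
    fieldAut (RingEquiv.refl F) = (1 : MulAut (Matrix.ProjectiveSpecialLinearGroup (Fin n) F)) :=
  map_one (fieldAutHom (n := n) (F := F))

lemma fieldAut_injective (hn : 2 ≤ n) {σ τ : F ≃+* F}
    (h : (fieldAut σ : MulAut (Matrix.ProjectiveSpecialLinearGroup (Fin n) F)) = fieldAut τ) :
    σ = τ := by
  have h1 : Phi (1 : GL (Fin n) F) = fieldAut ((τ : RingAut F)⁻¹ * σ) := by
    rw [map_one, ← fieldAutHom_apply, map_mul, map_inv, fieldAutHom_apply, fieldAutHom_apply, h,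
      inv_mul_cancel]
  have h2 := (Phi_eq_fieldAut hn h1).2
  have h3 : (τ : RingAut F)⁻¹ * σ = 1 := h2
  rw [inv_mul_eq_one] at h3
  exact h3.symm

end rel

section comm

variable {n : ℕ} {F : Type*} [Field F] [Fintype F] (p : ℕ) [Fact p.Prime] [CharP F p]

include p in
lemma ringAut_comm (σ τ : RingAut F) : σ * τ = τ * σ := by
  haveI := Cfsg.Agent.Lib.Helper14.OutL2.isCyclic_ringAut F p
  obtain ⟨g, hg⟩ := IsCyclic.exists_generator (α := RingAut F)
  obtain ⟨a, rfl⟩ := Subgroup.mem_zpowers_iff.mp (hg σ)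
  obtain ⟨b, rfl⟩ := Subgroup.mem_zpowers_iff.mp (hg τ)
  exact ((Commute.refl g).zpow_zpow a b).eq

include p in
lemma fieldAut_comm (σ τ : F ≃+* F) :
    (fieldAut σ : MulAut (Matrix.ProjectiveSpecialLinearGroup (Fin n) F)) * fieldAut τ =
      fieldAut τ * fieldAut σ := by
  rw [← fieldAutHom_apply, ← fieldAutHom_apply, ← map_mul, ← map_mul,
    ringAut_comm p (σ : RingAut F) τ]

include p in
/-- conjugates, under the full automorphism group, of an automorphism commuting with the field and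
graph automorphisms are conjugates under the inner-diagonal group -/
theorem conj_eq_Phi_conj (hn : 2 ≤ n) (z : MulAut (Matrix.ProjectiveSpecialLinearGroup (Fin n) F))
    (hzι : iota0 * z = z * iota0) (hzf : ∀ τ : F ≃+* F, fieldAut τ * z = z * fieldAut τ)
    (α : MulAut (Matrix.ProjectiveSpecialLinearGroup (Fin n) F)) :
    ∃ g : GL (Fin n) F, α * z * α⁻¹ = Phi g * z * (Phi g)⁻¹ := by
  obtain ⟨g, τ, e | e⟩ := aut_psl p hn α
  · refine ⟨g, ?_⟩
    rw [e]
    calc Phi g * fieldAut τ * z * (Phi g * fieldAut τ)⁻¹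
        = Phi g * (fieldAut τ * z) * (fieldAut τ)⁻¹ * (Phi g)⁻¹ := by group
      _ = Phi g * (z * fieldAut τ) * (fieldAut τ)⁻¹ * (Phi g)⁻¹ := by rw [hzf]
      _ = Phi g * z * (Phi g)⁻¹ := by group
  · refine ⟨g, ?_⟩
    rw [e]
    calc Phi g * fieldAut τ * iota0 * z * (Phi g * fieldAut τ * iota0)⁻¹
        = Phi g * fieldAut τ * (iota0 * z) * iota0⁻¹ * (fieldAut τ)⁻¹ * (Phi g)⁻¹ := by group
      _ = Phi g * fieldAut τ * (z * iota0) * iota0⁻¹ * (fieldAut τ)⁻¹ * (Phi g)⁻¹ := by rw [hzι]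
      _ = Phi g * (fieldAut τ * z) * (fieldAut τ)⁻¹ * (Phi g)⁻¹ := by group
      _ = Phi g * (z * fieldAut τ) * (fieldAut τ)⁻¹ * (Phi g)⁻¹ := by rw [hzf]
      _ = Phi g * z * (Phi g)⁻¹ := by group

end comm

end Cfsg.Agent.Lib.Helper19.AutPSL
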