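import Mathlib
import Cfsg.Prelude.Def_LieTypeDatum
import Cfsg.Agent.Lib.Helper19.PSLSplit1
import Cfsg.Agent.Lib.Helper19.PSLGraph5
import Cfsg.Agent.Lib.Helper19.PSLGraph6
import Cfsg.Agent.Lib.Helper19.PSLGraph8

/-!
# Helper19: determinants of similitudes
-/

set_option autoImplicit false

namespace Cfsg.Agent.Lib.Helper19.PSLGraph

open Matrix Cfsg
open scoped MatrixGroups

section dets

variable {n : ℕ} {F : Type*} [Field F]

lemma det_scalGL (y : Fˣ) :
    Matrix.GeneralLinearGroup.det (scalGL (Fin n) y) = y ^ n := by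
  apply Units.ext
  show (Matrix.scalar (Fin n) (y : F)).det = ((y ^ n : Fˣ) : F)
  rw [Matrix.scalar_apply, Matrix.det_diagonal, Finset.prod_const, Finset.card_univ, Fintype.card_fin,
    Units.val_pow_eq_pow_val]

lemma pow_le_detSim (A : GL (Fin n) F) : (powMonoidHom n : Fˣ →* Fˣ).range ≤ detSim A := by
  rintro x ⟨y, rfl⟩
  refine ⟨scalGL (Fin n) y, scalars_le_SimGL A (scalGL_mem y), ?_⟩
  rw [det_scalGL]
  rfl

lemma det_sq_of_sim (A h : GL (Fin n) F) (c : Fˣ)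
    (hc : h.1ᵀ * A.1 * h.1 = (c : F) • A.1) :
    Matrix.GeneralLinearGroup.det h ^ 2 = c ^ n := by
  apply Units.ext
  rw [Units.val_pow_eq_pow_val, Units.val_pow_eq_pow_val]
  show h.1.det ^ 2 = (c : F) ^ n
  have h1 := congrArg Matrix.det hc
  rw [Matrix.det_mul, Matrix.det_mul, Matrix.det_transpose, Matrix.det_smul, Fintype.card_fin] at h1
  have hA : A.1.det ≠ 0 := ((Matrix.isUnit_iff_isUnit_det _).1 A.isUnit).ne_zero
  apply mul_right_cancel₀ hA
  linear_combination h1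

theorem detSim_odd (m : ℕ) (A : GL (Fin (2 * m + 1)) F) :
    detSim A = (powMonoidHom (2 * m + 1) : Fˣ →* Fˣ).range := by
  apply le_antisymm _ (pow_le_detSim A)
  rintro x ⟨h, hh, rfl⟩
  obtain ⟨c, hc⟩ := (mem_SimGL_iff A h).1 hh
  have hd := det_sq_of_sim A h c hc
  set d := Matrix.GeneralLinearGroup.det h with hddef
  refine ⟨d * (c ^ m)⁻¹, ?_⟩
  show (d * (c ^ m)⁻¹) ^ (2 * m + 1) = d
  have hc2 : c = (d * (c ^ m)⁻¹) ^ 2 := by
    rw [mul_pow, hd, inv_pow, ← pow_mul, pow_succ, mul_comm m 2]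
    rw [mul_comm, ← mul_assoc, inv_mul_cancel, one_mul]
  have : (d * (c ^ m)⁻¹) ^ (2 * m + 1) = ((d * (c ^ m)⁻¹) ^ 2) ^ m * (d * (c ^ m)⁻¹) := by
    rw [← pow_mul, pow_succ]
  rw [this, ← hc2, mul_comm d, ← mul_assoc, mul_inv_cancel, one_mul]

theorem detSim_char2_even [Finite F] (h2 : (2 : F) = 0) (m : ℕ) (A : GL (Fin (2 * m)) F) :
    detSim A = (powMonoidHom (2 * m) : Fˣ →* Fˣ).range := by
  apply le_antisymm _ (pow_le_detSim A)
  rintro x ⟨h, hh, rfl⟩
  obtain ⟨c, hc⟩ := (mem_SimGL_iff A h).1 hh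
  have hd := det_sq_of_sim A h c hc
  obtain ⟨e, he⟩ : ∃ e : F, e * e = (c : F) := ⟨sqrt2 _, sqrt2_mul_self h2 _⟩
  have he0 : e ≠ 0 := by
    intro h0
    rw [h0, mul_zero] at he
    exact c.ne_zero he.symm
  refine ⟨Units.mk0 _ he0, ?_⟩
  apply Units.ext
  show ((Units.mk0 e he0 ^ (2 * m) : Fˣ) : F) = h.1.det
  rw [Units.val_pow_eq_pow_val, Units.val_mk0]
  apply sq_inj2 h2
  have hd' : h.1.det ^ 2 = (c : F) ^ (2 * m) := by
    have := congrArg Units.val hd
    rwa [Units.val_pow_eq_pow_val, Units.val_pow_eq_pow_val] at this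
  rw [← pow_two h.1.det, hd', ← he]
  ring

theorem detSim_eq_of_isConj (A B : GL (Fin n) F)
    (h : Cfsg.IsConjUnder (Cfsg.inndiagPSL n F) (gam A) (gam B)) : detSim A = detSim B := by
  obtain ⟨k, hk, hkB⟩ := h
  rw [inndiag_eq] at hk
  obtain ⟨g, rfl⟩ := hk
  have hcomm : ∀ (A : GL (Fin n) F) (h : GL (Fin n) F), h ∈ SimGL A ↔ Phi h * gam A = gam A * Phi h := by
    intro A h
    unfold SimGL
    rw [Subgroup.mem_comap, Subgroup.mem_centralizer_iff]
    simp only [Set.mem_singleton_iff, forall_eq]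
    exact eq_comm
  have hA : gam A = (Phi g)⁻¹ * gam B * Phi g := by
    rw [hkB]
    group
  apply le_antisymm
  · rintro x ⟨h, hh, rfl⟩
    refine ⟨g * h * g⁻¹, ?_, ?_⟩
    · rw [SetLike.mem_coe, hcomm, map_mul, map_mul, map_inv, hkB]
      have := (hcomm A h).1 hh
      calc Phi g * Phi h * (Phi g)⁻¹ * (Phi g * gam A * (Phi g)⁻¹)
          = Phi g * (Phi h * gam A) * (Phi g)⁻¹ := by group
        _ = Phi g * (gam A * Phi h) * (Phi g)⁻¹ := by rw [this]
        _ = _ := by group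
    · rw [map_mul, map_mul, map_inv, mul_comm, ← mul_assoc, inv_mul_cancel, one_mul]
  · rintro x ⟨h, hh, rfl⟩
    refine ⟨g⁻¹ * h * g, ?_, ?_⟩
    · rw [SetLike.mem_coe, hcomm, map_mul, map_mul, map_inv, hA]
      have := (hcomm B h).1 hh
      calc (Phi g)⁻¹ * Phi h * Phi g * ((Phi g)⁻¹ * gam B * Phi g)
          = (Phi g)⁻¹ * (Phi h * gam B) * Phi g := by group
        _ = (Phi g)⁻¹ * (gam B * Phi h) * Phi g := by rw [this]
        _ = _ := by group
    · rw [map_mul, map_mul, map_inv, mul_comm, ← mul_assoc, mul_inv_cancel, one_mul]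

end dets

section index

variable {F : Type*} [Field F] [Fintype F]

theorem card_quot_pow (D : Subgroup Fˣ) (k : ℕ) (hD : D = (powMonoidHom k : Fˣ →* Fˣ).range) :
    Nat.card (Fˣ ⧸ D) = Nat.gcd (Fintype.card F - 1) k := by
  classical
  rw [hD, ← Subgroup.index_eq_card, IsCyclic.index_powMonoidHom_range, Nat.card_eq_fintype_card,
    Fintype.card_units]

theorem card_quot_sq_pow (hodd : Odd (Fintype.card F)) (D : Subgroup Fˣ) (m : ℕ)
    (hD : D = ((powMonoidHom (2 * m) : Fˣ →* Fˣ).range).comap (powMonoidHom 2 : Fˣ →* Fˣ)) :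
    Nat.card (Fˣ ⧸ D) = Nat.gcd (2 * m) (Fintype.card F - 1) / 2 := by
  classical
  rw [hD, ← Subgroup.index_eq_card, Subgroup.index_comap]
  have hle : (powMonoidHom (2 * m) : Fˣ →* Fˣ).range ≤ (powMonoidHom 2 : Fˣ →* Fˣ).range := by
    rintro x ⟨y, rfl⟩
    exact ⟨y ^ m, by simp [← pow_mul, mul_comm]⟩
  have h1 := Subgroup.relIndex_mul_index hle
  rw [IsCyclic.index_powMonoidHom_range, IsCyclic.index_powMonoidHom_range, Nat.card_eq_fintype_card,
    Fintype.card_units] at h1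
  have h2 : Nat.gcd (Fintype.card F - 1) 2 = 2 := by
    obtain ⟨k, hk⟩ := hodd
    rw [hk, Nat.add_sub_cancel]
    exact Nat.gcd_eq_right (dvd_mul_right 2 k)
  rw [h2] at h1
  rw [Nat.gcd_comm (2 * m), ← h1, Nat.mul_div_cancel _ (by norm_num : 0 < 2)]

end index

end Cfsg.Agent.Lib.Helper19.PSLGraph
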