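import Mathlib
import Cfsg.Prelude.Def_LieTypeDatum
import Cfsg.Agent.Lib.Helper19.PSLGraph
import Cfsg.Agent.Lib.Helper19.PSLGraph2
import Cfsg.Agent.Lib.Helper19.PSLGraph3
import Cfsg.Agent.Lib.Helper19.PSLGraph4
import Cfsg.Agent.Lib.Helper19.PSLGraph5
import Cfsg.Agent.Lib.Helper19.PSLGraph6

/-!
# Helper19: the three classes of involutory graph automorphisms of `PSL_{2m}(q)`, `q` odd
-/

set_option autoImplicit false

namespace Cfsg.Agent.Lib.Helper19.PSLGraph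

open Matrix
open scoped MatrixGroups

section fin

variable {F : Type*} [Field F] [Fintype F]

lemma isSquare_mul_of_not {a b : F} (ha : ¬ IsSquare a) (hb : ¬ IsSquare b) : IsSquare (a * b) := by
  classical
  have ha0 : a ≠ 0 := fun h => ha (h ▸ IsSquare.zero)
  have hb0 : b ≠ 0 := fun h => hb (h ▸ IsSquare.zero)
  rw [← quadraticChar_one_iff_isSquare (mul_ne_zero ha0 hb0), map_mul,
    quadraticChar_neg_one_iff_not_isSquare.2 ha, quadraticChar_neg_one_iff_not_isSquare.2 hb]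
  norm_num

end fin

variable {F : Type*} [Field F]

/-- A diagonal matrix with one prescribed entry. -/
noncomputable def Dg (n : ℕ) (i0 : Fin n) (c : F) (hc : c ≠ 0) : GL (Fin n) F :=
  Matrix.GeneralLinearGroup.mk'' (Matrix.diagonal (Function.update (fun _ => (1 : F)) i0 c)) (by
    rw [Matrix.det_diagonal, Finset.prod_update_of_mem (Finset.mem_univ i0)]
    simp only [Finset.prod_const_one, mul_one]
    exact isUnit_iff_ne_zero.2 hc)

lemma Dg_coe (n : ℕ) (i0 : Fin n) (c : F) (hc : c ≠ 0) :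
    ((Dg n i0 c hc : GL (Fin n) F) : Matrix (Fin n) (Fin n) F) =
      Matrix.diagonal (Function.update (fun _ => (1 : F)) i0 c) := rfl

lemma Dg_det (n : ℕ) (i0 : Fin n) (c : F) (hc : c ≠ 0) :
    ((Dg n i0 c hc : GL (Fin n) F) : Matrix (Fin n) (Fin n) F).det = c := by
  rw [Dg_coe, Matrix.det_diagonal, Finset.prod_update_of_mem (Finset.mem_univ i0)]
  simp

lemma Dg_transpose (n : ℕ) (i0 : Fin n) (c : F) (hc : c ≠ 0) :
    ((Dg n i0 c hc : GL (Fin n) F) : Matrix (Fin n) (Fin n) F)ᵀ =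
      ((Dg n i0 c hc : GL (Fin n) F) : Matrix (Fin n) (Fin n) F) := by
  rw [Dg_coe, Matrix.diagonal_transpose]

lemma not_congr_alt_symm (h2 : (2 : F) ≠ 0) {n : ℕ} (hn : 1 ≤ n) (A B : GL (Fin n) F)
    (hA : (A : Matrix (Fin n) (Fin n) F)ᵀ = -(A : Matrix (Fin n) (Fin n) F))
    (hB : (B : Matrix (Fin n) (Fin n) F)ᵀ = (B : Matrix (Fin n) (Fin n) F)) :
    ¬ ∃ (g : GL (Fin n) F) (c : Fˣ), (g : Matrix (Fin n) (Fin n) F)ᵀ * (A : Matrix (Fin n) (Fin n) F) *
        (g : Matrix (Fin n) (Fin n) F) = (c : F) • (B : Matrix (Fin n) (Fin n) F) := by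
  rintro ⟨g, c, hc⟩
  have h1 := congrArg Matrix.transpose hc
  rw [transpose_mul, transpose_mul, transpose_transpose, hA, transpose_smul, hB, ← mul_assoc,
    Matrix.mul_neg, Matrix.neg_mul, hc] at h1
  have h3 : ((2 : F) * c) • (B : Matrix (Fin n) (Fin n) F) = 0 := by
    have : (c : F) • (B : Matrix (Fin n) (Fin n) F) + (c : F) • (B : Matrix (Fin n) (Fin n) F) = 0 := by
      nth_rewrite 1 [← h1]
      rw [neg_add_cancel]
    rw [mul_smul, two_smul]
    exact this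
  have hB0 : (B : Matrix (Fin n) (Fin n) F) = 0 := by
    rcases smul_eq_zero.1 h3 with h | h
    · exact absurd h (mul_ne_zero h2 c.ne_zero)
    · exact h
  have hdet := (Matrix.isUnit_iff_isUnit_det _).1 B.isUnit
  have hne : Nonempty (Fin n) := ⟨⟨0, by omega⟩⟩
  rw [hB0, det_zero] at hdet
  exact not_isUnit_zero hdet

lemma disc_of_congr (m : ℕ) (A B : GL (Fin (2 * m)) F) (g : GL (Fin (2 * m)) F) (c : Fˣ)
    (h : (g : Matrix (Fin (2 * m)) (Fin (2 * m)) F)ᵀ * (A : Matrix (Fin (2 * m)) (Fin (2 * m)) F) *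
        (g : Matrix (Fin (2 * m)) (Fin (2 * m)) F) = (c : F) • (B : Matrix (Fin (2 * m)) (Fin (2 * m)) F))
    (hs : IsSquare ((-1 : F) ^ m * (A : Matrix (Fin (2 * m)) (Fin (2 * m)) F).det)) :
    IsSquare ((-1 : F) ^ m * (B : Matrix (Fin (2 * m)) (Fin (2 * m)) F).det) := by
  have h1 := congrArg Matrix.det h
  rw [det_mul, det_mul, det_transpose, det_smul, Fintype.card_fin] at h1
  obtain ⟨r, hr⟩ := hs
  have hg : (g : Matrix (Fin (2 * m)) (Fin (2 * m)) F).det ≠ 0 :=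
    ((Matrix.isUnit_iff_isUnit_det _).1 g.isUnit).ne_zero
  have hcm : (c : F) ^ m ≠ 0 := pow_ne_zero _ c.ne_zero
  refine ⟨r * (g : Matrix (Fin (2 * m)) (Fin (2 * m)) F).det / (c : F) ^ m, ?_⟩
  rw [div_mul_div_comm, eq_div_iff (mul_ne_zero hcm hcm)]
  have hc2 : (c : F) ^ (2 * m) = (c : F) ^ m * (c : F) ^ m := by rw [two_mul, pow_add]
  rw [hc2] at h1
  linear_combination (-1 : F) ^ m * (-1 : F) * h1 +
    (g : Matrix (Fin (2 * m)) (Fin (2 * m)) F).det ^ 2 * hr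

end Cfsg.Agent.Lib.Helper19.PSLGraph

namespace Cfsg.Agent.Lib.Helper19.PSLGraph

open Matrix
open scoped MatrixGroups

variable {F : Type*} [Field F] {n : ℕ}

theorem centralizer_pgo (h2 : (2 : F) ≠ 0) (A : GL (Fin n) F)
    (hA : (A : Matrix (Fin n) (Fin n) F)ᵀ = (A : Matrix (Fin n) (Fin n) F)) :
    Nonempty (↥(Cfsg.inndiagPSL n F ⊓ Subgroup.centralizer {gam A}) ≃*
      Cfsg.PGO F (QA (A : Matrix (Fin n) (Fin n) F))) := by
  obtain ⟨e0⟩ := centralizer_equiv A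
  have hS := SimGL_eq_quadSim h2 A hA
  unfold Cfsg.PGO Cfsg.projQuot
  rw [← hS]
  exact ⟨e0⟩

theorem centralizer_bil (A : GL (Fin n) F) :
    Nonempty (↥(Cfsg.inndiagPSL n F ⊓ Subgroup.centralizer {gam A}) ≃*
      Cfsg.projQuot (Cfsg.Geo.similarityGroup (BA (A : Matrix (Fin n) (Fin n) F)))) := by
  obtain ⟨e0⟩ := centralizer_equiv A
  have hS := SimGL_eq_bilSim A
  unfold Cfsg.projQuot
  rw [← hS]
  exact ⟨e0⟩

end Cfsg.Agent.Lib.Helper19.PSLGraph
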