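import Mathlib
import Cfsg.Prelude.Def_LieTypeDatum
import Cfsg.Agent.Lib.Helper19.PSLGraph
import Cfsg.Agent.Lib.Helper19.PSLGraph10
import Cfsg.Agent.Lib.Helper19.PSUGraph1
import Cfsg.Agent.Lib.Helper27.UField
import Cfsg.Agent.Lib.Helper27.UForm
import Cfsg.Agent.Lib.Helper27.UGroup
import Cfsg.Agent.Lib.Helper27.UCenter2

/-!
# Helper19: kernel of the action of `GU_n` on `PSU_n`, the graph automorphisms `gamU A`
-/

set_option autoImplicit false

namespace Cfsg.Agent.Lib.Helper19.PSUGraph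

open Matrix Cfsg
open Cfsg.Agent.Lib.Helper27.Unitary
open Cfsg.Agent.Lib.Helper19.PSLGraph (conjFun conjFun_coe tGL tGL_coe tGL_inv_coe)
open scoped MatrixGroups

section unip

variable {n : ℕ} {F : Type*} [Field F]

/-- A conjugate of a unipotent `1 + N` (`N² = 0`) equal to a scalar multiple of a unipotent
`1 + N'` (`N'² = 0`): the scalar is one. -/
lemma unip_scalar2 (hn : 1 ≤ n) (g : GL (Fin n) F) (N N' : Matrix (Fin n) (Fin n) F)
    (hNN : N * N = 0) (hNN' : N' * N' = 0) (r : F)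
    (hr : (g : Matrix (Fin n) (Fin n) F) * (1 + N) * ((g⁻¹ : GL (Fin n) F) : Matrix (Fin n) (Fin n) F) =
      r • (1 + N')) : r = 1 := by
  have hginv : ((g⁻¹ : GL (Fin n) F) : Matrix (Fin n) (Fin n) F) * (g : Matrix (Fin n) (Fin n) F) = 1 :=
    Units.inv_mul g
  have hginv' : (g : Matrix (Fin n) (Fin n) F) * ((g⁻¹ : GL (Fin n) F) : Matrix (Fin n) (Fin n) F) = 1 :=
    Units.mul_inv g
  have hM : (g : Matrix (Fin n) (Fin n) F) * N * ((g⁻¹ : GL (Fin n) F) : Matrix (Fin n) (Fin n) F) =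
      r • (1 + N') - 1 := by
    rw [← hr, mul_add, add_mul, mul_one, hginv']
    abel
  have hMM : (r • (1 + N') - 1) * (r • (1 + N') - 1) = 0 := by
    rw [← hM]
    calc (g : Matrix (Fin n) (Fin n) F) * N * ((g⁻¹ : GL (Fin n) F) : Matrix (Fin n) (Fin n) F) *
          ((g : Matrix (Fin n) (Fin n) F) * N * ((g⁻¹ : GL (Fin n) F) : Matrix (Fin n) (Fin n) F))
        = (g : Matrix (Fin n) (Fin n) F) * N * (((g⁻¹ : GL (Fin n) F) : Matrix (Fin n) (Fin n) F) *
          (g : Matrix (Fin n) (Fin n) F)) * N * ((g⁻¹ : GL (Fin n) F) : Matrix (Fin n) (Fin n) F) := by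
          simp only [mul_assoc]
      _ = 0 := by
          rw [hginv, mul_one, mul_assoc (g : Matrix (Fin n) (Fin n) F), hNN, mul_zero, zero_mul]
  have hX : r • (1 + N') - 1 = (r - 1) • (1 : Matrix (Fin n) (Fin n) F) + r • N' := by
    rw [smul_add, sub_smul, one_smul]
    abel
  rw [hX] at hMM
  have h1 : ((r - 1) • (1 : Matrix (Fin n) (Fin n) F) + r • N') *
      ((r - 1) • (1 : Matrix (Fin n) (Fin n) F) + r • N') * N' = ((r - 1) * (r - 1)) • N' := by
    simp only [add_mul, mul_add, smul_mul_assoc, mul_smul_comm, one_mul, mul_one, hNN', smul_zero,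
      add_zero, smul_smul, mul_assoc, zero_add]
  rw [hMM, zero_mul] at h1
  have h2 : (r - 1) * (r - 1) = 0 ∨ N' = 0 := smul_eq_zero.1 h1.symm
  rcases h2 with h2 | h2
  · have := mul_self_eq_zero.1 h2
    linear_combination this
  · rw [h2, smul_zero, add_zero] at hMM
    have h3 := congrFun (congrFun hMM ⟨0, hn⟩) ⟨0, hn⟩
    simp only [smul_mul_assoc, mul_smul_comm, one_mul, smul_smul, Matrix.smul_apply, Matrix.one_apply_eq,
      smul_eq_mul, mul_one, Matrix.zero_apply] at h3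
    have := mul_self_eq_zero.1 h3
    linear_combination this

end unip

section kernel

variable {n : ℕ} {F : Type*} [Field F] [Fintype F] {q : ℕ}

/-- The unitary transvection as an element of `SL`. -/
noncomputable def tvSL (q : ℕ) (v : Fin n → F) (c : F) : Matrix.SpecialLinearGroup (Fin n) F :=
  ⟨(tv q v c).1, det_tv v c⟩

lemma toGL_tvSL (v : Fin n → F) (c : F) : Matrix.SpecialLinearGroup.toGL (tvSL q v c) = tv q v c := by
  apply Units.ext
  rfl

/-- The unitary transvection as an element of `SU`. -/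
noncomputable def tvSU (hF : Fintype.card F = q ^ 2) (v : Fin n → F) (c : F) (hc : c + c ^ q = 0) :
    ↥(SU n F q) :=
  ⟨tvSL q v c, by
    rw [mem_SU_iff_toGL, toGL_tvSL]
    exact tv_mem_GU hF v hc⟩

lemma tvSU_coe (hF : Fintype.card F = q ^ 2) (v : Fin n → F) (c : F) (hc : c + c ^ q = 0) :
    ((tvSU hF v c hc).1 : Matrix.SpecialLinearGroup (Fin n) F).1 = (tv q v c).1 := rfl

lemma tv_mat (v : Fin n → F) (hv : hermForm n F q v v = 0) (c : F) :
    (tv q v c).1 = 1 + c • Matrix.vecMulVec v (fun j => v j ^ q) := by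
  rw [tv_coe hv c]
  rfl

lemma tv_nil (v : Fin n → F) (hv : hermForm n F q v v = 0) (c : F) :
    (c • Matrix.vecMulVec v (fun j => v j ^ q)) * (c • Matrix.vecMulVec v (fun j => v j ^ q)) = 0 := by
  rw [smul_mul_assoc, mul_smul_comm, Matrix.vecMulVec_mul_vecMulVec, hf_dot, hv, zero_smul]
  ext i j
  simp [Matrix.vecMulVec_apply]

/-- An invertible matrix that is the matrix of the elements of a central element of `SU`. -/
lemma center_SU_scalar (hF : Fintype.card F = q ^ 2) (hn : 2 ≤ n) (z : ↥(SU n F q))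
    (hz : z ∈ Subgroup.center ↥(SU n F q)) : ∃ μ : F, z.1.1 = μ • (1 : Matrix (Fin n) (Fin n) F) := by
  have hcomm : ∀ (v : Fin n → F) (c : F), hermForm n F q v v = 0 → c + c ^ q = 0 →
      Matrix.SpecialLinearGroup.toGL z.1 * tv q v c = tv q v c * Matrix.SpecialLinearGroup.toGL z.1 := by
    intro v c _ hc
    have h1 := (Subgroup.mem_center_iff.1 hz) (tvSU hF v c hc)
    apply Units.ext
    have h2 := congrArg (fun x : ↥(SU n F q) => (x.1 : Matrix.SpecialLinearGroup (Fin n) F).1) h1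
    exact h2.symm
  obtain ⟨μ, hμ⟩ := scalar_of_fix_iso hF hn _ (fix_iso_of_commute hF _ hcomm)
  refine ⟨μ, ?_⟩
  rw [Matrix.ext_iff_mulVec]
  intro x
  rw [Matrix.smul_mulVec, Matrix.one_mulVec]
  exact hμ x

lemma PhiU_eq_one_iff (hF : Fintype.card F = q ^ 2) (hn : 2 ≤ n) (g : ↥(GU n F q)) :
    PhiU g = 1 ↔ g.1 ∈ Cfsg.Geo.scalars (Fin n) F := by
  rw [Cfsg.Geo.mem_scalars_iff]
  constructor
  · intro h
    have hcomm : ∀ (v : Fin n → F) (c : F), hermForm n F q v v = 0 → c + c ^ q = 0 →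
        g.1 * tv q v c = tv q v c * g.1 := by
      intro v c hv hc
      have h1 := congrFun (congrArg DFunLike.coe h) (QuotientGroup.mk (tvSU hF v c hc))
      rw [PhiU_mk, MulAut.one_apply, QuotientGroup.eq] at h1
      have h1' : (tvSU hF v c hc)⁻¹ * conjSU g (tvSU hF v c hc) ∈ Subgroup.center ↥(SU n F q) := by
        have := inv_mem h1
        rwa [_root_.mul_inv_rev, inv_inv] at this
      obtain ⟨μ, hμ⟩ := center_SU_scalar hF hn _ h1'
      have h2 : (conjSU g (tvSU hF v c hc)).1.1 =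
          (tvSU hF v c hc).1.1 * (μ • (1 : Matrix (Fin n) (Fin n) F)) := by
        rw [← hμ]
        have : conjSU g (tvSU hF v c hc) =
            tvSU hF v c hc * ((tvSU hF v c hc)⁻¹ * conjSU g (tvSU hF v c hc)) := by group
        conv_lhs => rw [this]
        rfl
      rw [conjSU_coe, conjFun_coe, tvSU_coe, tv_mat v hv c, Matrix.mul_smul, mul_one] at h2
      have hn1 : 1 ≤ n := by omega
      have hμ1 := unip_scalar2 hn1 g.1 _ _ (tv_nil v hv c) (tv_nil v hv c) μ h2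
      rw [hμ1, one_smul] at h2
      apply Units.ext
      rw [Units.val_mul, Units.val_mul, tv_mat v hv c]
      calc g.1.1 * (1 + c • Matrix.vecMulVec v (fun j => v j ^ q))
          = g.1.1 * (1 + c • Matrix.vecMulVec v (fun j => v j ^ q)) * ((g.1⁻¹).1 * g.1.1) := by
            rw [Units.inv_mul, mul_one]
        _ = (1 + c • Matrix.vecMulVec v (fun j => v j ^ q)) * g.1.1 := by
            rw [← mul_assoc, h2]
    obtain ⟨μ, hμ⟩ := scalar_of_fix_iso hF hn _ (fix_iso_of_commute hF _ hcomm)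
    have hg : g.1.1 = μ • (1 : Matrix (Fin n) (Fin n) F) := by
      rw [Matrix.ext_iff_mulVec]
      intro x
      rw [Matrix.smul_mulVec, Matrix.one_mulVec]
      exact hμ x
    have hne : Nonempty (Fin n) := ⟨⟨0, by omega⟩⟩
    have hμ0 : μ ≠ 0 := by
      rintro rfl
      have hdet := (Matrix.isUnit_iff_isUnit_det _).1 g.1.isUnit
      rw [hg, zero_smul, Matrix.det_zero] at hdet
      exact not_isUnit_zero hdet
    exact ⟨Units.mk0 μ hμ0, hg⟩
  · rintro ⟨c, hc⟩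
    apply autU_ext
    intro s
    rw [PhiU_mk, MulAut.one_apply]
    congr 1
    apply Subtype.ext
    apply Subtype.ext
    rw [conjSU_coe, conjFun_coe]
    have hcomm : g.1.1 * s.1.1 = s.1.1 * g.1.1 := by
      rw [hc, Matrix.smul_mul, Matrix.mul_smul, one_mul, mul_one]
    rw [hcomm, mul_assoc, Units.mul_inv, mul_one]

end kernel


section graph

variable {n : ℕ} {F : Type*} [Field F] [Fintype F] {q : ℕ}

/-- The `q`-th power map as a ring equivalence. -/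
def cjE (hF : Fintype.card F = q ^ 2) : F ≃+* F where
  toFun x := x ^ q
  invFun x := x ^ q
  left_inv := cj_cj hF
  right_inv := cj_cj hF
  map_mul' a b := mul_pow a b q
  map_add' a b := cj_add hF a b

lemma cjE_apply (hF : Fintype.card F = q ^ 2) (x : F) : cjE hF x = x ^ q := rfl

lemma cjE_mul_self (hF : Fintype.card F = q ^ 2) : cjE hF * cjE hF = 1 := by
  apply RingEquiv.ext
  intro x
  exact cj_cj hF x

/-- The standard graph automorphism of `PSU`: the field automorphism of the `q`-th power map. -/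
def iotaU (hF : Fintype.card F = q ^ 2) : MulAut (PSU n F q) := fieldPSU (cjE hF)

lemma iotaU_sq (hF : Fintype.card F = q ^ 2) :
    (iotaU hF : MulAut (PSU n F q)) * iotaU hF = 1 := by
  unfold iotaU
  rw [fieldPSU_mul, cjE_mul_self, fieldPSU_one]

/-- Transpose on `GU`. -/
def tGU (hF : Fintype.card F = q ^ 2) (g : ↥(GU n F q)) : ↥(GU n F q) :=
  ⟨tGL g.1, by
    rw [mat_mem_GU_iff hF, tGL_coe, Matrix.transpose_transpose, cjM_transpose, cjM_of_GU hF g.1 g.2,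
      Matrix.transpose_transpose, Units.mul_inv]⟩

lemma tGU_coe (hF : Fintype.card F = q ^ 2) (g : ↥(GU n F q)) : (tGU hF g).1 = tGL g.1 := rfl

lemma tGU_mul (hF : Fintype.card F = q ^ 2) (g h : ↥(GU n F q)) :
    tGU hF (g * h) = tGU hF h * tGU hF g := by
  apply Subtype.ext
  apply Units.ext
  show ((g.1 * h.1 : GL (Fin n) F)).1ᵀ = h.1.1ᵀ * g.1.1ᵀ
  rw [Units.val_mul, Matrix.transpose_mul]

lemma tGU_inv (hF : Fintype.card F = q ^ 2) (g : ↥(GU n F q)) : tGU hF g⁻¹ = (tGU hF g)⁻¹ := by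
  rw [eq_inv_iff_mul_eq_one, ← tGU_mul, mul_inv_cancel]
  apply Subtype.ext
  apply Units.ext
  show ((1 : GL (Fin n) F)).1ᵀ = 1
  rw [Units.val_one, Matrix.transpose_one]

lemma tGU_tGU (hF : Fintype.card F = q ^ 2) (g : ↥(GU n F q)) : tGU hF (tGU hF g) = g := by
  apply Subtype.ext
  apply Units.ext
  show (g.1.1ᵀ)ᵀ = g.1.1
  rw [Matrix.transpose_transpose]

lemma fieldGU_cjE (hF : Fintype.card F = q ^ 2) (g : ↥(GU n F q)) :
    fieldGU (cjE hF) g = (tGU hF g)⁻¹ := by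
  apply Subtype.ext
  apply Units.ext
  show g.1.1.map (cjE hF) = ((tGL g.1)⁻¹ : GL (Fin n) F).1
  rw [tGL_inv_coe, ← cjM_of_GU hF g.1 g.2]
  rfl

lemma iotaU_PhiU (hF : Fintype.card F = q ^ 2) (h : ↥(GU n F q)) :
    (iotaU hF : MulAut (PSU n F q)) * PhiU h = PhiU (tGU hF h)⁻¹ * iotaU hF := by
  unfold iotaU
  rw [fieldPSU_PhiU, fieldGU_cjE]

lemma iotaU_PhiU' (hF : Fintype.card F = q ^ 2) (h : ↥(GU n F q)) :
    (iotaU hF : MulAut (PSU n F q)) * PhiU h = PhiU (tGU hF h⁻¹) * iotaU hF := by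
  rw [iotaU_PhiU, tGU_inv]

/-- The graph-type automorphism attached to a unitary matrix. -/
def gamU (hF : Fintype.card F = q ^ 2) (A : ↥(GU n F q)) : MulAut (PSU n F q) :=
  PhiU A⁻¹ * iotaU hF

lemma gamU_one (hF : Fintype.card F = q ^ 2) : gamU hF (1 : ↥(GU n F q)) = iotaU hF := by
  unfold gamU
  rw [inv_one, map_one, one_mul]

lemma comm_gamU_iff (hF : Fintype.card F = q ^ 2) (hn : 2 ≤ n) (A h : ↥(GU n F q)) :
    PhiU h * gamU hF A = gamU hF A * PhiU h ↔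
      (tGU hF h * A * h * A⁻¹).1 ∈ Cfsg.Geo.scalars (Fin n) F := by
  have key : (iotaU hF : MulAut (PSU n F q)) * PhiU h = (PhiU (tGU hF h))⁻¹ * iotaU hF := by
    rw [iotaU_PhiU, map_inv]
  rw [← PhiU_eq_one_iff hF hn, map_mul, map_mul, map_mul, map_inv]
  unfold gamU
  rw [map_inv]
  constructor
  · intro h1
    have h2 : PhiU h * (PhiU A)⁻¹ = (PhiU A)⁻¹ * (PhiU (tGU hF h))⁻¹ := by
      have h3 : PhiU h * (PhiU A)⁻¹ * iotaU hF = (PhiU A)⁻¹ * (PhiU (tGU hF h))⁻¹ * iotaU hF := by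
        rw [mul_assoc, h1, mul_assoc, key, ← mul_assoc]
      exact mul_right_cancel h3
    calc PhiU (tGU hF h) * PhiU A * PhiU h * (PhiU A)⁻¹
        = PhiU (tGU hF h) * PhiU A * (PhiU h * (PhiU A)⁻¹) := by group
      _ = 1 := by rw [h2]; group
  · intro h1
    have h2 : PhiU h * (PhiU A)⁻¹ = (PhiU A)⁻¹ * (PhiU (tGU hF h))⁻¹ := by
      calc PhiU h * (PhiU A)⁻¹ = (PhiU A)⁻¹ * (PhiU (tGU hF h))⁻¹ *
            (PhiU (tGU hF h) * PhiU A * PhiU h * (PhiU A)⁻¹) := by group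
        _ = _ := by rw [h1, mul_one]
    rw [← mul_assoc, h2, mul_assoc, mul_assoc, key]

/-- The unitary matrices whose action commutes with `gamU A`. -/
def SimGU (hF : Fintype.card F = q ^ 2) (A : ↥(GU n F q)) : Subgroup ↥(GU n F q) :=
  (Subgroup.centralizer {gamU hF A}).comap PhiU

lemma mem_SimGU_iff (hF : Fintype.card F = q ^ 2) (hn : 2 ≤ n) (A h : ↥(GU n F q)) :
    h ∈ SimGU hF A ↔ ∃ c : Fˣ, h.1.1ᵀ * A.1.1 * h.1.1 = (c : F) • A.1.1 := by
  unfold SimGU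
  rw [Subgroup.mem_comap, Subgroup.mem_centralizer_iff]
  simp only [Set.mem_singleton_iff, forall_eq]
  rw [eq_comm, comm_gamU_iff hF hn, Cfsg.Geo.mem_scalars_iff]
  have hA : (A.1⁻¹).1 * A.1.1 = 1 := Units.inv_mul A.1
  have hA' : A.1.1 * (A.1⁻¹).1 = 1 := Units.mul_inv A.1
  have hval : ((tGU hF h * A * h * A⁻¹).1 : GL (Fin n) F).1 = h.1.1ᵀ * A.1.1 * h.1.1 * (A.1⁻¹).1 := rfl
  rw [hval]
  constructor
  · rintro ⟨c, hc⟩
    refine ⟨c, ?_⟩
    calc h.1.1ᵀ * A.1.1 * h.1.1 = h.1.1ᵀ * A.1.1 * h.1.1 * ((A.1⁻¹).1 * A.1.1) := by rw [hA, mul_one]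
      _ = (c : F) • A.1.1 := by rw [← mul_assoc, hc, Matrix.smul_mul, one_mul]
  · rintro ⟨c, hc⟩
    refine ⟨c, ?_⟩
    rw [hc, Matrix.smul_mul, hA']

lemma gamU_sq (hF : Fintype.card F = q ^ 2) (A : ↥(GU n F q)) :
    gamU hF A * gamU hF A = PhiU (A⁻¹ * tGU hF A) := by
  unfold gamU
  rw [mul_assoc, ← mul_assoc (iotaU hF), iotaU_PhiU', inv_inv, mul_assoc, iotaU_sq, mul_one, ← map_mul]

lemma conj_gamU (hF : Fintype.card F = q ^ 2) (h A : ↥(GU n F q)) :
    PhiU h * gamU hF A * (PhiU h)⁻¹ = gamU hF ((tGU hF h)⁻¹ * A * h⁻¹) := by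
  unfold gamU
  rw [← map_inv, mul_assoc, mul_assoc, iotaU_PhiU', inv_inv, ← mul_assoc, ← mul_assoc, ← map_mul,
    ← map_mul]
  congr 2
  rw [_root_.mul_inv_rev, _root_.mul_inv_rev, inv_inv, inv_inv, mul_assoc]

lemma gamU_eq_iff (hF : Fintype.card F = q ^ 2) (hn : 2 ≤ n) (A B : ↥(GU n F q)) :
    gamU hF A = gamU hF B ↔ (A * B⁻¹).1 ∈ Cfsg.Geo.scalars (Fin n) F := by
  unfold gamU
  rw [mul_left_inj, ← PhiU_eq_one_iff hF hn, map_mul, map_inv, map_inv]
  constructor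
  · intro h
    rw [← h]
    group
  · intro h
    have : (PhiU A)⁻¹ = (PhiU A)⁻¹ * (PhiU A * (PhiU B)⁻¹) := by rw [h, mul_one]
    rw [this]
    group

lemma isConjU_iff (hF : Fintype.card F = q ^ 2) (hn : 2 ≤ n) (A B : ↥(GU n F q)) :
    Cfsg.IsConjUnder (Cfsg.inndiagPSU n F q) (gamU hF A) (gamU hF B) ↔
      ∃ (g : ↥(GU n F q)) (c : Fˣ), g.1.1ᵀ * A.1.1 * g.1.1 = (c : F) • B.1.1 := by
  have hB : (B.1⁻¹).1 * B.1.1 = 1 := Units.inv_mul B.1
  have hB' : B.1.1 * (B.1⁻¹).1 = 1 := Units.mul_inv B.1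
  have hval : ∀ g : ↥(GU n F q), (((tGU hF g)⁻¹ * A * g⁻¹ * B⁻¹).1 : GL (Fin n) F).1 =
      (g.1⁻¹).1ᵀ * A.1.1 * (g.1⁻¹).1 * (B.1⁻¹).1 := fun g => rfl
  constructor
  · rintro ⟨x, hx, hxy⟩
    rw [inndiagU_eq] at hx
    obtain ⟨h, rfl⟩ := hx
    rw [conj_gamU, eq_comm, gamU_eq_iff hF hn, Cfsg.Geo.mem_scalars_iff] at hxy
    obtain ⟨c, hc⟩ := hxy
    refine ⟨h⁻¹, c, ?_⟩
    rw [hval] at hc
    calc ((h⁻¹).1.1)ᵀ * A.1.1 * (h⁻¹).1.1
        = (h.1⁻¹).1ᵀ * A.1.1 * (h.1⁻¹).1 * ((B.1⁻¹).1 * B.1.1) := by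
          rw [hB, mul_one]
          rfl
      _ = (c : F) • B.1.1 := by rw [← mul_assoc, hc, Matrix.smul_mul, one_mul]
  · rintro ⟨g, c, hc⟩
    refine ⟨PhiU g⁻¹, ?_, ?_⟩
    · rw [inndiagU_eq]
      exact ⟨g⁻¹, rfl⟩
    · rw [conj_gamU, eq_comm, gamU_eq_iff hF hn, Cfsg.Geo.mem_scalars_iff]
      refine ⟨c, ?_⟩
      rw [hval]
      have hgg : ((g⁻¹ : ↥(GU n F q)).1)⁻¹ = g.1 := by rw [Subgroup.coe_inv, inv_inv]
      rw [hgg]
      rw [hc, Matrix.smul_mul, hB']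

end graph

end Cfsg.Agent.Lib.Helper19.PSUGraph
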