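import Mathlib
import Cfsg.Prelude.Def_LieTypeDatum
import Cfsg.Agent.Lib.Helper19.PSUGraph2
import Cfsg.Agent.Lib.Helper19.PSLGraph8
import Cfsg.Agent.Lib.Helper24.USubfield

/-!
# Helper19: centralisers of graph-type automorphisms of `PSU_n`, projective transfer, the subfield
-/

set_option autoImplicit false

namespace Cfsg.Agent.Lib.Helper19.PSUGraph

open Matrix Cfsg
open Cfsg.Agent.Lib.Helper27.Unitary
open Cfsg.Agent.Lib.Helper19.PSLGraph (conjFun conjFun_coe tGL tGL_coe tGL_inv_coe scalGL scalGL_mem SimGL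
  mem_SimGL_iff)
open scoped MatrixGroups

section cent

variable {n : ℕ} {F : Type*} [Field F] [Fintype F] {q : ℕ}

/-- The inclusion of `SimGU A` into `GL`. -/
def simIncl (hF : Fintype.card F = q ^ 2) (A : ↥(GU n F q)) : ↥(SimGU hF A) →* GL (Fin n) F :=
  (GU n F q).subtype.comp (SimGU hF A).subtype

lemma simIncl_apply (hF : Fintype.card F = q ^ 2) (A : ↥(GU n F q)) (h : ↥(SimGU hF A)) :
    simIncl hF A h = h.1.1 := rfl

/-- The first isomorphism theorem for the centraliser of `gamU A`. -/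
theorem centralizerU_equiv (hF : Fintype.card F = q ^ 2) (hn : 2 ≤ n) (A : ↥(GU n F q)) :
    Nonempty (↥(Cfsg.inndiagPSU n F q ⊓ Subgroup.centralizer {gamU hF A}) ≃*
      ↥(SimGU hF A) ⧸ (Cfsg.Geo.scalars (Fin n) F).comap (simIncl hF A)) := by
  have h1 : Cfsg.inndiagPSU n F q ⊓ Subgroup.centralizer {gamU hF A} =
      (PhiU.domRestrict (SimGU hF A)).range := by
    rw [MonoidHom.domRestrict_range, inndiagU_eq]
    unfold SimGU
    rw [Subgroup.map_comap_eq]
  have h2 : (PhiU.domRestrict (SimGU hF A)).ker =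
      (Cfsg.Geo.scalars (Fin n) F).comap (simIncl hF A) := by
    ext ⟨h, hh⟩
    rw [MonoidHom.mem_ker, Subgroup.mem_comap]
    show PhiU h = 1 ↔ _
    rw [PhiU_eq_one_iff hF hn]
    rfl
  rw [h1]
  exact ⟨(QuotientGroup.quotientKerEquivRange (PhiU.domRestrict (SimGU hF A))).symm.trans
    (QuotientGroup.quotientMulEquivOfEq h2)⟩

end cent

section transfer

variable {ι : Type} [Fintype ι] [DecidableEq ι] {F : Type*} [Field F]

/-- Two groups mapping to `GL` with the same image modulo scalars have isomorphic quotients by the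
preimages of the scalars. -/
theorem quot_transfer {H T : Type*} [Group H] [Group T] (φ : H →* GL ι F) (ψ : T →* GL ι F)
    (h1 : ∀ h : H, ∃ (c : Fˣ) (t : T), φ h = scalGL ι c * ψ t)
    (h2 : ∀ t : T, ∃ (c : Fˣ) (h : H), ψ t = scalGL ι c * φ h) :
    Nonempty (H ⧸ (Cfsg.Geo.scalars ι F).comap φ ≃* T ⧸ (Cfsg.Geo.scalars ι F).comap ψ) := by
  let π := QuotientGroup.mk' (Cfsg.Geo.scalars ι F)
  have hπ : ∀ (c : Fˣ) (g : GL ι F), π (scalGL ι c * g) = π g := by
    intro c g
    rw [map_mul]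
    have : π (scalGL ι c) = 1 := (QuotientGroup.eq_one_iff _).2 (scalGL_mem c)
    rw [this, one_mul]
  let g₁ : H →* GL ι F ⧸ Cfsg.Geo.scalars ι F := π.comp φ
  let g₂ : T →* GL ι F ⧸ Cfsg.Geo.scalars ι F := π.comp ψ
  have hk1 : g₁.ker = (Cfsg.Geo.scalars ι F).comap φ := by
    ext x
    rw [MonoidHom.mem_ker, Subgroup.mem_comap]
    exact QuotientGroup.eq_one_iff _
  have hk2 : g₂.ker = (Cfsg.Geo.scalars ι F).comap ψ := by
    ext x
    rw [MonoidHom.mem_ker, Subgroup.mem_comap]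
    exact QuotientGroup.eq_one_iff _
  have hr : g₁.range = g₂.range := by
    ext y
    constructor
    · rintro ⟨h, rfl⟩
      obtain ⟨c, t, hct⟩ := h1 h
      refine ⟨t, ?_⟩
      show π (ψ t) = π (φ h)
      rw [hct, hπ]
    · rintro ⟨t, rfl⟩
      obtain ⟨c, h, hch⟩ := h2 t
      refine ⟨h, ?_⟩
      show π (φ h) = π (ψ t)
      rw [hch, hπ]
  exact ⟨(QuotientGroup.quotientMulEquivOfEq hk1.symm).trans
    ((QuotientGroup.quotientKerEquivRange g₁).trans
      ((MulEquiv.subgroupCongr hr).trans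
        ((QuotientGroup.quotientKerEquivRange g₂).symm.trans
          (QuotientGroup.quotientMulEquivOfEq hk2))))⟩

end transfer

section emb

variable {F : Type*} [Field F] [Fintype F] {q : ℕ}

/-- Hilbert's Theorem 90 for the quadratic extension. -/
lemma hilbert90_scalar (hF : Fintype.card F = q ^ 2) (c : F) (hc : c * c ^ q = 1) :
    ∃ ν : F, ν ≠ 0 ∧ ν ^ q = c * ν := by
  obtain ⟨ω, hω⟩ := exists_not_fixed hF
  by_cases h1 : (1 : F) + c ^ q = 0
  · refine ⟨ω + c ^ q * ω ^ q, ?_, ?_⟩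
    · have : c ^ q = -1 := by linear_combination h1
      rw [this]
      intro h
      apply hω
      linear_combination -h
    · rw [cj_add hF, mul_pow, cj_cj hF, cj_cj hF]
      linear_combination (-(ω ^ q)) * hc
  · refine ⟨1 + c ^ q, h1, ?_⟩
    rw [cj_add hF, cj_cj hF, one_pow]
    linear_combination (-1 : F) * hc

/-- A field with `q` elements embeds in a field with `q²` elements, onto the fixed field of the
`q`-th power map. -/
theorem exists_emb (hF : Fintype.card F = q ^ 2) (F₀ : Type*) [Field F₀] [Fintype F₀]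
    (hF₀ : Fintype.card F₀ = q) :
    ∃ j : F₀ →+* F, (∀ y, (j y) ^ q = j y) ∧ (∀ x : F, x ^ q = x → ∃ y, j y = x) := by
  classical
  obtain ⟨p, hp⟩ := CharP.exists F₀
  haveI := hp
  haveI hpp : Fact p.Prime := ⟨CharP.char_is_prime F₀ p⟩
  obtain ⟨p', hp'⟩ := CharP.exists F
  haveI := hp'
  haveI hpp' : Fact p'.Prime := ⟨CharP.char_is_prime F p'⟩
  obtain ⟨k, hk⟩ := FiniteField.card F₀ p
  obtain ⟨k', hk'⟩ := FiniteField.card F p'
  have hpeq : p' = p := by
    have h1 : p' ∣ p ^ (2 * (k : ℕ)) := by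
      have : p ^ (2 * (k : ℕ)) = Fintype.card F := by
        rw [hF, ← hF₀, hk.2, ← pow_mul, mul_comm]
      rw [this, hk'.2]
      exact dvd_pow_self _ k'.ne_zero
    exact (Nat.prime_dvd_prime_iff_eq hpp'.out hpp.out).1 (hpp'.out.dvd_of_dvd_pow h1)
  subst hpeq
  letI := ZMod.algebra F₀ p'
  letI := ZMod.algebra F p'
  have e0 := FiniteField.pow_finrank_eq_card p' F₀
  have e1 := FiniteField.pow_finrank_eq_card p' F
  have hdvd : Module.finrank (ZMod p') F₀ ∣ Module.finrank (ZMod p') F := by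
    refine ⟨2, ?_⟩
    apply Nat.pow_right_injective hpp'.out.two_le
    show p' ^ _ = p' ^ _
    rw [e1, pow_mul, e0, hF, hF₀]
  obtain ⟨φ⟩ := FiniteField.nonempty_algHom_of_finrank_dvd (F := ZMod p') (K := F₀) (L := F) hdvd
  let j : F₀ →+* F := φ.toRingHom
  have hfix : ∀ y, (j y) ^ q = j y := by
    intro y
    rw [← map_pow, ← hF₀, FiniteField.pow_card]
  refine ⟨j, hfix, ?_⟩
  intro x hx
  have hcard : Nat.card ↥j.fieldRange = q := by
    rw [← hF₀, ← Nat.card_eq_fintype_card]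
    exact (Nat.card_congr (Equiv.ofInjective j j.injective)).symm
  have hmem := Cfsg.Agent.Lib.Helper24.USubfield.mem_of_fix hF j.fieldRange
    (by rw [hcard, hF]) hx
  exact RingHom.mem_fieldRange.1 hmem

end emb

end Cfsg.Agent.Lib.Helper19.PSUGraph
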