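import Mathlib
import Cfsg.Prelude.Def_LieTypeDatum
import Cfsg.Agent.Lib.Helper19.PSUGraph3

/-!
# Helper19: descent of unitary graph-type data to the subfield
-/

set_option autoImplicit false

namespace Cfsg.Agent.Lib.Helper19.PSUGraph

open Matrix Cfsg
open Cfsg.Agent.Lib.Helper27.Unitary
open Cfsg.Agent.Lib.Helper19.PSLGraph (conjFun conjFun_coe tGL tGL_coe tGL_inv_coe scalGL scalGL_mem SimGL
  mem_SimGL_iff)
open scoped MatrixGroups

section calculus

variable {n : ℕ} {F : Type*} [Field F] [Fintype F] {q : ℕ}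

/-- Congruence. -/
def cg (X M : Matrix (Fin n) (Fin n) F) : Matrix (Fin n) (Fin n) F := Xᵀ * M * X

/-- Twisted congruence. -/
def hg (q : ℕ) (X M : Matrix (Fin n) (Fin n) F) : Matrix (Fin n) (Fin n) F := (cjM q X)ᵀ * M * X

lemma cg_mul (X Y M : Matrix (Fin n) (Fin n) F) : cg (X * Y) M = cg Y (cg X M) := by
  unfold cg
  rw [Matrix.transpose_mul]
  simp only [Matrix.mul_assoc]

lemma hg_mul (hF : Fintype.card F = q ^ 2) (X Y M : Matrix (Fin n) (Fin n) F) :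
    hg q (X * Y) M = hg q Y (hg q X M) := by
  unfold hg
  rw [cjM_mul hF, Matrix.transpose_mul]
  simp only [Matrix.mul_assoc]

lemma cg_smul_left (c : F) (X M : Matrix (Fin n) (Fin n) F) : cg (c • X) M = (c * c) • cg X M := by
  unfold cg
  rw [Matrix.transpose_smul, Matrix.smul_mul, Matrix.smul_mul, Matrix.mul_smul, smul_smul]

lemma hg_smul_left (c : F) (X M : Matrix (Fin n) (Fin n) F) :
    hg q (c • X) M = (c ^ q * c) • hg q X M := by
  unfold hg
  rw [cjM_smul, Matrix.transpose_smul, Matrix.smul_mul, Matrix.smul_mul, Matrix.mul_smul, smul_smul]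

lemma cg_smul_right (c : F) (X M : Matrix (Fin n) (Fin n) F) : cg X (c • M) = c • cg X M := by
  unfold cg
  rw [Matrix.mul_smul, Matrix.smul_mul]

lemma hg_smul_right (c : F) (X M : Matrix (Fin n) (Fin n) F) : hg q X (c • M) = c • hg q X M := by
  unfold hg
  rw [Matrix.mul_smul, Matrix.smul_mul]

lemma cg_cancel (a : GL (Fin n) F) {M N : Matrix (Fin n) (Fin n) F} (h : cg a.1 M = cg a.1 N) :
    M = N := by
  unfold cg at h
  have h1 : (a⁻¹).1ᵀ * a.1ᵀ = 1 := by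
    rw [← Matrix.transpose_mul, Units.mul_inv, Matrix.transpose_one]
  have h2 : a.1 * (a⁻¹).1 = 1 := Units.mul_inv a
  calc M = ((a⁻¹).1ᵀ * a.1ᵀ) * M * (a.1 * (a⁻¹).1) := by rw [h1, h2, one_mul, mul_one]
    _ = (a⁻¹).1ᵀ * (a.1ᵀ * M * a.1) * (a⁻¹).1 := by simp only [Matrix.mul_assoc]
    _ = (a⁻¹).1ᵀ * (a.1ᵀ * N * a.1) * (a⁻¹).1 := by rw [h]
    _ = ((a⁻¹).1ᵀ * a.1ᵀ) * N * (a.1 * (a⁻¹).1) := by simp only [Matrix.mul_assoc]
    _ = N := by rw [h1, h2, one_mul, mul_one]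

lemma hg_cancel (hF : Fintype.card F = q ^ 2) (a : GL (Fin n) F) {M N : Matrix (Fin n) (Fin n) F}
    (h : hg q a.1 M = hg q a.1 N) : M = N := by
  unfold hg at h
  have h1 : (cjM q (a⁻¹).1)ᵀ * (cjM q a.1)ᵀ = 1 := by
    rw [← Matrix.transpose_mul, ← cjM_mul hF, Units.mul_inv, cjM_one hF, Matrix.transpose_one]
  have h2 : a.1 * (a⁻¹).1 = 1 := Units.mul_inv a
  calc M = ((cjM q (a⁻¹).1)ᵀ * (cjM q a.1)ᵀ) * M * (a.1 * (a⁻¹).1) := by
        rw [h1, h2, one_mul, mul_one]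
    _ = (cjM q (a⁻¹).1)ᵀ * ((cjM q a.1)ᵀ * M * a.1) * (a⁻¹).1 := by simp only [Matrix.mul_assoc]
    _ = (cjM q (a⁻¹).1)ᵀ * ((cjM q a.1)ᵀ * N * a.1) * (a⁻¹).1 := by rw [h]
    _ = ((cjM q (a⁻¹).1)ᵀ * (cjM q a.1)ᵀ) * N * (a.1 * (a⁻¹).1) := by simp only [Matrix.mul_assoc]
    _ = N := by rw [h1, h2, one_mul, mul_one]

lemma mat_mem_GU_iff' (hF : Fintype.card F = q ^ 2) (g : GL (Fin n) F) :
    g ∈ GU n F q ↔ hg q g.1 1 = 1 := by
  rw [mat_mem_GU_iff hF]
  unfold hg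
  rw [mul_one]
  constructor
  · intro h
    have := congrArg (cjM q) h
    rwa [cjM_mul hF, cjM_cjM hF, cjM_one hF, cjM_transpose] at this
  · intro h
    have := congrArg (cjM q) h
    rwa [cjM_mul hF, cjM_transpose, cjM_cjM hF, cjM_one hF] at this

end calculus

section rational

variable {n : ℕ} {F : Type*} [Field F] [Fintype F] {q : ℕ} {F₀ : Type*} [Field F₀]

lemma cjM_map_of_fix (j : F₀ →+* F) (hfix : ∀ y, (j y) ^ q = j y)
    (M : Matrix (Fin n) (Fin n) F₀) : cjM q (M.map j) = M.map j := by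
  ext i k
  exact hfix (M i k)

lemma cg_map (j : F₀ →+* F) (X M : Matrix (Fin n) (Fin n) F₀) :
    cg (X.map j) (M.map j) = (Xᵀ * M * X).map j := by
  unfold cg
  rw [Matrix.map_mul, Matrix.map_mul, Matrix.transpose_map]

lemma hg_map (j : F₀ →+* F) (hfix : ∀ y, (j y) ^ q = j y) (X M : Matrix (Fin n) (Fin n) F₀) :
    hg q (X.map j) (M.map j) = (Xᵀ * M * X).map j := by
  unfold hg
  rw [cjM_map_of_fix j hfix, Matrix.map_mul, Matrix.map_mul, Matrix.transpose_map]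

lemma smul_map (j : F₀ →+* F) (d : F₀) (M : Matrix (Fin n) (Fin n) F₀) :
    (d • M).map j = j d • M.map j :=
  Matrix.map_smul' j d M (map_mul j)

/-- Descent data: in the frame `a`, both the bilinear form of `A` and the Hermitian form are multiples of
a matrix over the subfield. -/
structure Desc (j : F₀ →+* F) (q : ℕ) (A a : Matrix (Fin n) (Fin n) F) (S : Matrix (Fin n) (Fin n) F₀)
    (κ μ : F) : Prop where
  h1 : cg a A = μ • S.map j
  h2 : hg q a 1 = κ • S.map j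

/-- From a rational similarity to a unitary one. -/
theorem rational_to_unitary (hF : Fintype.card F = q ^ 2) (j : F₀ →+* F)
    (hfix : ∀ y, (j y) ^ q = j y) {A B : Matrix (Fin n) (Fin n) F} {a b : GL (Fin n) F}
    {SA SB : Matrix (Fin n) (Fin n) F₀} {κ μA μB : F} (hμA : μA ≠ 0) (hμB : μB ≠ 0)
    (dA : Desc j q A a.1 SA κ μA) (dB : Desc j q B b.1 SB κ μB)
    (t : GL (Fin n) F₀) (d : F₀) (hd : d ≠ 0) (ht : t.1ᵀ * SA * t.1 = d • SB) :
    ∃ (g : GL (Fin n) F) (ν : Fˣ), g ∈ GU n F q ∧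
      g = scalGL (Fin n) ν * a * Matrix.GeneralLinearGroup.map j t * b⁻¹ ∧
      ∃ c : Fˣ, cg g.1 A = (c : F) • B := by
  have hjd : j d ≠ 0 := (map_ne_zero j).2 hd
  obtain ⟨ν0, hν0⟩ := nm_surj hF (j d) (hfix d)
  have hν00 : ν0 ≠ 0 := by
    rintro rfl
    rw [zero_mul] at hν0
    exact hjd hν0.symm
  set ν : Fˣ := (Units.mk0 ν0 hν00)⁻¹ with hνdef
  have hνv : (ν : F) = ν0⁻¹ := by
    rw [hνdef, Units.val_inv_eq_inv_val, Units.val_mk0]
  set g : GL (Fin n) F := scalGL (Fin n) ν * a * Matrix.GeneralLinearGroup.map j t * b⁻¹ with hgdef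
  set K : Matrix (Fin n) (Fin n) F := t.1.map j with hK
  have hgb : g.1 * b.1 = (ν : F) • (a.1 * K) := by
    have e1 : g * b = scalGL (Fin n) ν * (a * Matrix.GeneralLinearGroup.map j t) := by
      rw [hgdef]
      group
    have e2 := congrArg (fun x : GL (Fin n) F => x.1) e1
    simp only [Units.val_mul] at e2
    rw [e2]
    show (Matrix.scalar (Fin n) (ν : F)) * (a.1 * K) = _
    rw [Matrix.scalar_apply, ← Matrix.smul_one_eq_diagonal, Matrix.smul_mul, one_mul]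
  have hKK : cg K (SA.map j) = j d • SB.map j := by
    rw [hK, cg_map, ht, smul_map]
  have hKK' : hg q K (SA.map j) = j d • SB.map j := by
    rw [hK, hg_map j hfix, ht, smul_map]
  have hN : ((ν : F) ^ q * (ν : F)) * j d = 1 := by
    rw [hνv, ← hν0, inv_pow]
    have : ν0 ^ q ≠ 0 := pow_ne_zero _ hν00
    field_simp
  refine ⟨g, ν, ?_, rfl, ?_⟩
  · rw [mat_mem_GU_iff' hF]
    apply hg_cancel hF b
    rw [← hg_mul hF, hgb, hg_smul_left, hg_mul hF, dA.h2, hg_smul_right, hKK', smul_smul, smul_smul]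
    have e : hg q b.1 (1 : Matrix (Fin n) (Fin n) F) = κ • SB.map j := dB.h2
    rw [e]
    congr 1
    linear_combination κ * hN
  · have hc0 : (ν : F) * (ν : F) * μA * j d * μB⁻¹ ≠ 0 :=
      mul_ne_zero (mul_ne_zero (mul_ne_zero (mul_ne_zero ν.ne_zero ν.ne_zero) hμA) hjd)
        (inv_ne_zero hμB)
    refine ⟨Units.mk0 _ hc0, ?_⟩
    rw [Units.val_mk0]
    apply cg_cancel b
    rw [← cg_mul, hgb, cg_smul_left, cg_mul, dA.h1, cg_smul_right, hKK, cg_smul_right, dB.h1,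
      smul_smul, smul_smul, smul_smul]
    congr 1
    field_simp


lemma scalGL_mul_coe (ν : Fˣ) (g : GL (Fin n) F) :
    (scalGL (Fin n) ν * g : GL (Fin n) F).1 = (ν : F) • g.1 := by
  rw [Units.val_mul]
  show (Matrix.scalar (Fin n) (ν : F)) * g.1 = _
  rw [Matrix.scalar_apply, ← Matrix.smul_one_eq_diagonal, Matrix.smul_mul, one_mul]

/-- From a unitary similarity to a rational one. -/
theorem unitary_to_rational (hF : Fintype.card F = q ^ 2) (hn : 1 ≤ n) (j : F₀ →+* F)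
    (hfix : ∀ y, (j y) ^ q = j y) (hsurj : ∀ x : F, x ^ q = x → ∃ y, j y = x)
    {A B : Matrix (Fin n) (Fin n) F} {a b : GL (Fin n) F}
    {SA SB : GL (Fin n) F₀} {κ μA μB : F} (hκ : κ ≠ 0) (hμA : μA ≠ 0) (hμB : μB ≠ 0)
    (dA : Desc j q A a.1 SA.1 κ μA) (dB : Desc j q B b.1 SB.1 κ μB)
    (g : GL (Fin n) F) (hgU : g ∈ GU n F q) (c : F) (hc : c ≠ 0) (hgc : cg g.1 A = c • B) :
    ∃ (t : GL (Fin n) F₀) (d : F₀) (ν : Fˣ), d ≠ 0 ∧ t.1ᵀ * SA.1 * t.1 = d • SB.1 ∧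
      a * Matrix.GeneralLinearGroup.map j t = scalGL (Fin n) ν * g * b := by
  classical
  set k₀ : GL (Fin n) F := a⁻¹ * g * b with hk₀
  have hak : a.1 * k₀.1 = g.1 * b.1 := by
    rw [← Units.val_mul, ← Units.val_mul]
    congr 1
    rw [hk₀]
    group
  set sA : Matrix (Fin n) (Fin n) F := SA.1.map j with hsA
  set sB : Matrix (Fin n) (Fin n) F := SB.1.map j with hsB
  set c₁ : F := μA⁻¹ * c * μB with hc₁
  have hc₁0 : c₁ ≠ 0 := mul_ne_zero (mul_ne_zero (inv_ne_zero hμA) hc) hμB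
  have h_i : cg k₀.1 sA = c₁ • sB := by
    have e : μA • cg k₀.1 sA = (c * μB) • sB := by
      rw [← cg_smul_right, ← dA.h1, ← cg_mul, hak, cg_mul, hgc, cg_smul_right, dB.h1, smul_smul]
    calc cg k₀.1 sA = μA⁻¹ • (μA • cg k₀.1 sA) := by rw [smul_smul, inv_mul_cancel₀ hμA, one_smul]
      _ = c₁ • sB := by rw [e, smul_smul, hc₁, mul_assoc]
  have h_ii : hg q k₀.1 sA = sB := by
    have e : κ • hg q k₀.1 sA = κ • sB := by
      rw [← hg_smul_right, ← dA.h2, ← hg_mul hF, hak, hg_mul hF, (mat_mem_GU_iff' hF g).1 hgU, dB.h2]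
    calc hg q k₀.1 sA = κ⁻¹ • (κ • hg q k₀.1 sA) := by rw [smul_smul, inv_mul_cancel₀ hκ, one_smul]
      _ = sB := by rw [e, smul_smul, inv_mul_cancel₀ hκ, one_smul]
  have hunit : IsUnit (sA * k₀.1) := by
    have : sA * k₀.1 = (Matrix.GeneralLinearGroup.map j SA * k₀ : GL (Fin n) F).1 := rfl
    rw [this]
    exact (Matrix.GeneralLinearGroup.map j SA * k₀).isUnit
  have h_iii : k₀.1ᵀ = c₁ • (cjM q k₀.1)ᵀ := by
    apply hunit.mul_left_inj.1
    rw [Matrix.smul_mul]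
    have e1 : k₀.1ᵀ * (sA * k₀.1) = cg k₀.1 sA := by
      unfold cg
      rw [Matrix.mul_assoc]
    have e2 : (cjM q k₀.1)ᵀ * (sA * k₀.1) = hg q k₀.1 sA := by
      unfold hg
      rw [Matrix.mul_assoc]
    rw [e1, e2, h_i, h_ii]
  have h_iii' : ∀ i k, k₀.1 i k = c₁ * (k₀.1 i k) ^ q := by
    intro i k
    have := congrFun (congrFun h_iii k) i
    exact this
  have hk0 : ∃ i k, k₀.1 i k ≠ 0 := by
    by_contra hcon
    push Not at hcon
    have h0 : k₀.1 = 0 := by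
      ext i k
      exact hcon i k
    have h1 : k₀.1 * (k₀⁻¹).1 = 1 := Units.mul_inv k₀
    rw [h0, Matrix.zero_mul] at h1
    have := congrFun (congrFun h1 ⟨0, by omega⟩) ⟨0, by omega⟩
    simp at this
  have h_iv : c₁ * c₁ ^ q = 1 := by
    obtain ⟨i, k, hx⟩ := hk0
    have e1 := h_iii' i k
    have e2 : (k₀.1 i k) ^ q = c₁ ^ q * k₀.1 i k := by
      conv_lhs => rw [e1]
      rw [mul_pow, cj_cj hF]
    rw [e2] at e1
    have : (c₁ * c₁ ^ q - 1) * k₀.1 i k = 0 := by linear_combination -e1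
    rcases mul_eq_zero.1 this with h | h
    · linear_combination h
    · exact absurd h hx
  obtain ⟨ν0, hν00, hν0⟩ := hilbert90_scalar hF c₁ h_iv
  set K : Matrix (Fin n) (Fin n) F := ν0 • k₀.1 with hK
  have hKfix : ∀ i k, (K i k) ^ q = K i k := by
    intro i k
    show (ν0 * k₀.1 i k) ^ q = ν0 * k₀.1 i k
    rw [mul_pow, hν0]
    conv_rhs => rw [h_iii' i k]
    ring
  choose t0 ht0 using fun i k => hsurj (K i k) (hKfix i k)
  have ht0K : (Matrix.of t0).map j = K := by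
    ext i k
    exact ht0 i k
  have hdet : (Matrix.of t0 : Matrix (Fin n) (Fin n) F₀).det ≠ 0 := by
    intro h0
    have h1 : (K.det) = 0 := by
      rw [← ht0K]
      have := RingHom.map_det j (Matrix.of t0 : Matrix (Fin n) (Fin n) F₀)
      rw [RingHom.mapMatrix_apply] at this
      rw [← this, h0, map_zero]
    rw [hK, Matrix.det_smul] at h1
    rcases mul_eq_zero.1 h1 with h | h
    · exact hν00 (pow_eq_zero_iff (by rw [Fintype.card_fin]; omega) |>.1 h)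
    · exact ((Matrix.isUnit_iff_isUnit_det _).1 k₀.isUnit).ne_zero h
  set t : GL (Fin n) F₀ := Matrix.GeneralLinearGroup.mkOfDetNeZero (Matrix.of t0) hdet with ht
  have htK : t.1.map j = K := ht0K
  have hdfix : (ν0 * ν0 * c₁) ^ q = ν0 * ν0 * c₁ := by
    rw [mul_pow, mul_pow, hν0]
    linear_combination (ν0 * ν0 * c₁) * h_iv
  obtain ⟨d, hd⟩ := hsurj _ hdfix
  have hd0 : d ≠ 0 := by
    rintro rfl
    rw [map_zero] at hd
    exact mul_ne_zero (mul_ne_zero hν00 hν00) hc₁0 hd.symm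
  refine ⟨t, d, Units.mk0 ν0 hν00, hd0, ?_, ?_⟩
  · apply Matrix.map_injective j.injective
    show (t.1ᵀ * SA.1 * t.1).map j = (d • SB.1).map j
    rw [← cg_map, htK, smul_map, hd, hK, cg_smul_left, h_i, smul_smul]
  · apply Units.ext
    rw [mul_assoc, scalGL_mul_coe, Units.val_mk0, Units.val_mul]
    show a.1 * t.1.map j = _
    rw [htK, hK, Matrix.mul_smul, hak]
    rfl

end rational

end Cfsg.Agent.Lib.Helper19.PSUGraph
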