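import Mathlib
import Cfsg.Prelude.Def_LieTypeDatum
import Cfsg.Agent.Lib.Helper19.PSUGraph4

/-!
# Helper19: the centraliser of a unitary graph-type automorphism as a projective similarity group over
the subfield, and conjugacy
-/

set_option autoImplicit false

namespace Cfsg.Agent.Lib.Helper19.PSUGraph

open Matrix Cfsg
open Cfsg.Agent.Lib.Helper27.Unitary
open Cfsg.Agent.Lib.Helper19.PSLGraph (conjFun conjFun_coe tGL tGL_coe tGL_inv_coe scalGL scalGL_mem SimGL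
  mem_SimGL_iff)
open scoped MatrixGroups

section scal

variable {n : ℕ} {F : Type*} [Field F] {F₀ : Type*} [Field F₀]

lemma scalGL_inv (ν : Fˣ) : (scalGL (Fin n) ν)⁻¹ = scalGL (Fin n) ν⁻¹ := by
  unfold scalGL
  rw [map_inv]

lemma scalGL_comm (ν : Fˣ) (g : GL (Fin n) F) : scalGL (Fin n) ν * g = g * scalGL (Fin n) ν := by
  apply Units.ext
  rw [Units.val_mul, Units.val_mul]
  show (Matrix.scalar (Fin n) (ν : F)) * g.1 = g.1 * (Matrix.scalar (Fin n) (ν : F))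
  exact (Matrix.scalar_commute (ν : F) (fun r' => mul_comm _ _) g.1).eq

lemma map_mem_scalars_iff (hn : 1 ≤ n) (j : F₀ →+* F) (t : GL (Fin n) F₀) :
    Matrix.GeneralLinearGroup.map j t ∈ Cfsg.Geo.scalars (Fin n) F ↔
      t ∈ Cfsg.Geo.scalars (Fin n) F₀ := by
  rw [Cfsg.Geo.mem_scalars_iff, Cfsg.Geo.mem_scalars_iff]
  constructor
  · rintro ⟨c, hc⟩
    have hent : ∀ i k, j (t.1 i k) = ((c : F) • (1 : Matrix (Fin n) (Fin n) F)) i k := by
      intro i k
      rw [← hc]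
      rfl
    let i0 : Fin n := ⟨0, by omega⟩
    have h0 : t.1 i0 i0 ≠ 0 := by
      intro h
      have := hent i0 i0
      rw [h, map_zero] at this
      simp at this
      exact c.ne_zero this.symm
    refine ⟨Units.mk0 _ h0, ?_⟩
    ext i k
    apply j.injective
    rw [hent i k, Units.val_mk0]
    by_cases hik : i = k
    · subst hik
      simp only [Matrix.smul_apply, Matrix.one_apply_eq, smul_eq_mul, mul_one]
      have := hent i0 i0
      simp only [Matrix.smul_apply, Matrix.one_apply_eq, smul_eq_mul, mul_one] at this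
      rw [this]
    · simp [Matrix.one_apply_ne hik]
  · rintro ⟨c, hc⟩
    refine ⟨Units.map j.toMonoidHom c, ?_⟩
    ext i k
    show j (t.1 i k) = _
    rw [hc]
    by_cases hik : i = k
    · subst hik
      simp
    · simp [Matrix.one_apply_ne hik]

end scal

section main

variable {n : ℕ} {F : Type*} [Field F] [Fintype F] {q : ℕ} {F₀ : Type*} [Field F₀]

/-- The centraliser of `gamU A` in `Inndiag` is the projective similarity group of the descended form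
over the subfield. -/
theorem descent_equiv (hF : Fintype.card F = q ^ 2) (hn : 2 ≤ n) (j : F₀ →+* F)
    (hfix : ∀ y, (j y) ^ q = j y) (hsurj : ∀ x : F, x ^ q = x → ∃ y, j y = x)
    (A : ↥(GU n F q)) (a : GL (Fin n) F) (S : GL (Fin n) F₀) {κ μ : F} (hκ : κ ≠ 0) (hμ : μ ≠ 0)
    (dA : Desc j q A.1.1 a.1 S.1 κ μ) :
    Nonempty (↥(Cfsg.inndiagPSU n F q ⊓ Subgroup.centralizer {gamU hF A}) ≃*
      Cfsg.projQuot (SimGL S)) := by
  obtain ⟨e0⟩ := centralizerU_equiv hF hn A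
  let ψ : ↥(SimGL S) →* GL (Fin n) F :=
    (MulAut.conj a).toMonoidHom.comp ((Matrix.GeneralLinearGroup.map j).comp (SimGL S).subtype)
  have hψ : ∀ t : ↥(SimGL S), ψ t = a * Matrix.GeneralLinearGroup.map j t.1 * a⁻¹ := fun t => rfl
  have h1 : ∀ h : ↥(SimGU hF A), ∃ (c : Fˣ) (t : ↥(SimGL S)),
      simIncl hF A h = scalGL (Fin n) c * ψ t := by
    intro h
    obtain ⟨c, hc⟩ := (mem_SimGU_iff hF hn A h.1).1 h.2
    obtain ⟨t, d, ν, hd0, htd, hat⟩ := unitary_to_rational hF (by omega) j hfix hsurj hκ hμ hμ dA dA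
      h.1.1 h.1.2 (c : F) c.ne_zero hc
    have htS : t ∈ SimGL S := (mem_SimGL_iff S t).2 ⟨Units.mk0 d hd0, htd⟩
    refine ⟨ν⁻¹, ⟨t, htS⟩, ?_⟩
    rw [hψ, simIncl_apply]
    show h.1.1 = scalGL (Fin n) ν⁻¹ * (a * Matrix.GeneralLinearGroup.map j t * a⁻¹)
    rw [hat, ← scalGL_inv]
    group
  have h2 : ∀ t : ↥(SimGL S), ∃ (c : Fˣ) (h : ↥(SimGU hF A)),
      ψ t = scalGL (Fin n) c * simIncl hF A h := by
    intro t
    obtain ⟨d, hd⟩ := (mem_SimGL_iff S t.1).1 t.2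
    obtain ⟨g, ν, hgU, hg, c, hc⟩ := rational_to_unitary hF j hfix hμ hμ dA dA t.1 (d : F₀) d.ne_zero hd
    have hgS : (⟨g, hgU⟩ : ↥(GU n F q)) ∈ SimGU hF A :=
      (mem_SimGU_iff hF hn A ⟨g, hgU⟩).2 ⟨c, hc⟩
    refine ⟨ν⁻¹, ⟨⟨g, hgU⟩, hgS⟩, ?_⟩
    rw [hψ, simIncl_apply]
    show a * Matrix.GeneralLinearGroup.map j t.1 * a⁻¹ = scalGL (Fin n) ν⁻¹ * g
    rw [hg, ← scalGL_inv]
    group
  obtain ⟨e1⟩ := quot_transfer (simIncl hF A) ψ h1 h2
  have hker : (Cfsg.Geo.scalars (Fin n) F).comap ψ =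
      (Cfsg.Geo.scalars (Fin n) F₀).subgroupOf (SimGL S) := by
    ext t
    rw [Subgroup.mem_comap, Subgroup.mem_subgroupOf, hψ]
    rw [← map_mem_scalars_iff (by omega) j t.1]
    constructor
    · intro h
      have := (Cfsg.Geo.scalars_normal (ι := Fin n) (F := F)).conj_mem _ h a⁻¹
      rw [inv_inv] at this
      have e : a⁻¹ * (a * Matrix.GeneralLinearGroup.map j t.1 * a⁻¹) * a =
          Matrix.GeneralLinearGroup.map j t.1 := by group
      rwa [e] at this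
    · intro h
      exact (Cfsg.Geo.scalars_normal (ι := Fin n) (F := F)).conj_mem _ h a
  exact ⟨e0.trans (e1.trans (QuotientGroup.quotientMulEquivOfEq hker))⟩

/-- Conjugacy of graph-type automorphisms in terms of the descended forms. -/
theorem isConjU_desc_iff (hF : Fintype.card F = q ^ 2) (hn : 2 ≤ n) (j : F₀ →+* F)
    (hfix : ∀ y, (j y) ^ q = j y) (hsurj : ∀ x : F, x ^ q = x → ∃ y, j y = x)
    (A B : ↥(GU n F q)) (a b : GL (Fin n) F) (SA SB : GL (Fin n) F₀) {κ μA μB : F}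
    (hκ : κ ≠ 0) (hμA : μA ≠ 0) (hμB : μB ≠ 0)
    (dA : Desc j q A.1.1 a.1 SA.1 κ μA) (dB : Desc j q B.1.1 b.1 SB.1 κ μB) :
    Cfsg.IsConjUnder (Cfsg.inndiagPSU n F q) (gamU hF A) (gamU hF B) ↔
      ∃ (t : GL (Fin n) F₀) (d : F₀ˣ), t.1ᵀ * SA.1 * t.1 = (d : F₀) • SB.1 := by
  rw [isConjU_iff hF hn]
  constructor
  · rintro ⟨g, c, hc⟩
    obtain ⟨t, d, ν, hd0, htd, -⟩ := unitary_to_rational hF (by omega) j hfix hsurj hκ hμA hμB dA dB
      g.1 g.2 (c : F) c.ne_zero hc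
    exact ⟨t, Units.mk0 d hd0, htd⟩
  · rintro ⟨t, d, htd⟩
    obtain ⟨g, ν, hgU, -, c, hc⟩ := rational_to_unitary hF j hfix hμA hμB dA dB t (d : F₀) d.ne_zero htd
    exact ⟨⟨g, hgU⟩, c, hc⟩

end main

end Cfsg.Agent.Lib.Helper19.PSUGraph
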