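import Mathlib
import Cfsg.Prelude.Def_LieTypeDatum
import Cfsg.Agent.Lib.Helper19.PSUGraph5

/-!
# Helper19: Hilbert's Theorem 90 for matrices over the quadratic extension, existence of descent data
-/

set_option autoImplicit false

namespace Cfsg.Agent.Lib.Helper19.PSUGraph

open Matrix Cfsg
open Cfsg.Agent.Lib.Helper27.Unitary
open Cfsg.Agent.Lib.Helper19.PSLGraph (conjFun conjFun_coe tGL tGL_coe tGL_inv_coe scalGL scalGL_mem SimGL
  mem_SimGL_iff)
open scoped MatrixGroups

section h90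

variable {n : ℕ} {F : Type*} [Field F] [Fintype F] {q : ℕ}

lemma cjM_add (hF : Fintype.card F = q ^ 2) (A B : Matrix (Fin n) (Fin n) F) :
    cjM q (A + B) = cjM q A + cjM q B := by
  ext i j
  exact cj_add hF _ _

lemma cjV_smul (t : F) (x : Fin n → F) : cjV q (t • x) = t ^ q • cjV q x := by
  funext i
  exact mul_pow _ _ _

/-- Hilbert's Theorem 90 for `GL_n` over the quadratic extension. -/
theorem hilbert90_matrix (hF : Fintype.card F = q ^ 2) (B : Matrix (Fin n) (Fin n) F)
    (hB : cjM q B * B = 1) : ∃ a : GL (Fin n) F, cjM q a.1 = B * a.1 := by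
  classical
  have hB' : B * cjM q B = 1 := _root_.mul_eq_one_comm.1 hB
  let ψ : (Fin n → F) → (Fin n → F) := fun x => x + cjM q B *ᵥ cjV q x
  have hψsmul : ∀ (t : F) (x : Fin n → F), ψ (t • x) = t • x + t ^ q • (cjM q B *ᵥ cjV q x) := by
    intro t x
    show t • x + cjM q B *ᵥ cjV q (t • x) = _
    rw [cjV_smul, Matrix.mulVec_smul]
  obtain ⟨ω, hω⟩ := exists_not_fixed hF
  have hspan : Submodule.span F (Set.range ψ) = ⊤ := by
    rw [eq_top_iff]
    intro x _
    have h1 : ψ x ∈ Submodule.span F (Set.range ψ) := Submodule.subset_span ⟨x, rfl⟩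
    have h2 : ψ (ω • x) ∈ Submodule.span F (Set.range ψ) := Submodule.subset_span ⟨ω • x, rfl⟩
    have h3 : (ω ^ q - ω) • x = ω ^ q • ψ x - ψ (ω • x) := by
      rw [hψsmul]
      show _ = ω ^ q • (x + cjM q B *ᵥ cjV q x) - _
      rw [smul_add, sub_smul]
      abel
    have h4 : (ω ^ q - ω) • x ∈ Submodule.span F (Set.range ψ) := by
      rw [h3]
      exact Submodule.sub_mem _ (Submodule.smul_mem _ _ h1) h2
    have hne : ω ^ q - ω ≠ 0 := sub_ne_zero.2 hω
    have := Submodule.smul_mem _ (ω ^ q - ω)⁻¹ h4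
    rwa [smul_smul, inv_mul_cancel₀ hne, one_smul] at this
  obtain ⟨b, hbsub, hbspan, hbli⟩ := exists_linearIndependent F (Set.range ψ)
  have hbtop : ⊤ ≤ Submodule.span F (Set.range ((↑) : b → (Fin n → F))) := by
    rw [Subtype.range_coe, hbspan, hspan]
  let bas : Module.Basis b F (Fin n → F) := Module.Basis.mk hbli hbtop
  haveI : Fintype b := FiniteDimensional.fintypeBasisIndex bas
  have hcard : Fintype.card b = n := by
    rw [← Module.finrank_eq_card_basis bas, Module.finrank_fin_fun]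
  let e : b ≃ Fin n := Fintype.equivFinOfCardEq hcard
  let bas' : Module.Basis (Fin n) F (Fin n → F) := bas.reindex e
  have hmem : ∀ i, bas' i ∈ Set.range ψ := by
    intro i
    have : bas' i = ((e.symm i : b) : Fin n → F) := by
      show bas.reindex e i = _
      rw [Module.Basis.reindex_apply]
      exact Module.Basis.mk_apply hbli hbtop _
    rw [this]
    exact hbsub (e.symm i).2
  choose x hx using hmem
  let X : Matrix (Fin n) (Fin n) F := Matrix.of (fun r i => x i r)
  let a0 : Matrix (Fin n) (Fin n) F := (Pi.basisFun F (Fin n)).toMatrix bas'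
  have ha0 : a0 = X + cjM q B * cjM q X := by
    ext r i
    show (Pi.basisFun F (Fin n)).toMatrix bas' r i = _
    rw [Module.Basis.toMatrix_apply, Pi.basisFun_repr, ← hx i]
    show x i r + (cjM q B *ᵥ cjV q (x i)) r = X r i + (cjM q B * cjM q X) r i
    rfl
  have hunit : IsUnit a0 := by
    haveI := Module.Basis.invertibleToMatrix (Pi.basisFun F (Fin n)) bas'
    exact isUnit_of_invertible a0
  obtain ⟨a, ha⟩ := hunit
  refine ⟨a, ?_⟩
  show cjM q a.1 = B * a.1
  have ha' : a.1 = a0 := ha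
  rw [ha', ha0, cjM_add hF, cjM_mul hF, cjM_cjM hF, cjM_cjM hF, Matrix.mul_add, ← Matrix.mul_assoc, hB',
    one_mul, add_comm]

end h90

section exist

variable {n : ℕ} {F : Type*} [Field F] [Fintype F] {q : ℕ} {F₀ : Type*} [Field F₀]

/-- A matrix fixed by the entrywise `q`-th power comes from the subfield. -/
lemma exists_rational (j : F₀ →+* F) (hsurj : ∀ x : F, x ^ q = x → ∃ y, j y = x)
    (s : Matrix (Fin n) (Fin n) F) (hs : cjM q s = s) :
    ∃ S : Matrix (Fin n) (Fin n) F₀, S.map j = s := by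
  have hfix : ∀ i k, (s i k) ^ q = s i k := fun i k => congrFun (congrFun hs i) k
  choose t ht using fun i k => hsurj (s i k) (hfix i k)
  exact ⟨Matrix.of t, by ext i k; exact ht i k⟩

/-- Existence of descent data for `A` with `Aᵀ = c A`. -/
theorem exists_desc (hF : Fintype.card F = q ^ 2) (j : F₀ →+* F)
    (hsurj : ∀ x : F, x ^ q = x → ∃ y, j y = x) (c t ρ : F) (hcc : c * c = 1)
    (ht : t * t ^ q = c) (hρ0 : ρ ≠ 0) (hρ : ρ ^ q * (t * t) = ρ) (A : ↥(GU n F q))
    (hA : A.1.1ᵀ = c • A.1.1) :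
    ∃ (a : GL (Fin n) F) (S : GL (Fin n) F₀), Desc j q A.1.1 a.1 S.1 (t * c * ρ⁻¹) ρ⁻¹ ∧
      (S.1.map j)ᵀ = c • S.1.map j := by
  classical
  have hU := (mat_mem_GU_iff hF A.1).1 A.2
  have hAc : A.1.1 * cjM q A.1.1 = c • (1 : Matrix (Fin n) (Fin n) F) := by
    rw [hA, Matrix.smul_mul] at hU
    calc A.1.1 * cjM q A.1.1 = (c * c) • (A.1.1 * cjM q A.1.1) := by rw [hcc, one_smul]
      _ = c • (c • (A.1.1 * cjM q A.1.1)) := by rw [smul_smul]
      _ = c • 1 := by rw [hU]
  have hc0 : c ≠ 0 := by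
    rintro rfl
    rw [zero_mul] at hcc
    exact zero_ne_one hcc
  have hcA : cjM q A.1.1 * A.1.1 = c • (1 : Matrix (Fin n) (Fin n) F) := by
    have h1 : A.1.1 * (c⁻¹ • cjM q A.1.1) = 1 := by
      rw [Matrix.mul_smul, hAc, smul_smul, inv_mul_cancel₀ hc0, one_smul]
    have h2 := _root_.mul_eq_one_comm.1 h1
    rw [Matrix.smul_mul] at h2
    calc cjM q A.1.1 * A.1.1 = c • (c⁻¹ • (cjM q A.1.1 * A.1.1)) := by
          rw [smul_smul, mul_inv_cancel₀ hc0, one_smul]
      _ = c • 1 := by rw [h2]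
  have hB : cjM q (t • A.1.1) * (t • A.1.1) = 1 := by
    rw [cjM_smul, Matrix.smul_mul, Matrix.mul_smul, smul_smul, hcA, smul_smul]
    have : t ^ q * t * c = 1 := by rw [mul_comm (t ^ q), ht, hcc]
    rw [this, one_smul]
  obtain ⟨a, ha⟩ := hilbert90_matrix hF (t • A.1.1) hB
  set s : Matrix (Fin n) (Fin n) F := cg a.1 A.1.1 with hs
  have hcjs : cjM q s = (t * t) • s := by
    rw [hs]
    unfold cg
    rw [cjM_mul hF, cjM_mul hF, cjM_transpose, ha, Matrix.transpose_mul, Matrix.transpose_smul]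
    simp only [Matrix.smul_mul, Matrix.mul_smul, Matrix.mul_assoc, smul_smul]
    congr 1
    rw [← Matrix.mul_assoc (cjM q A.1.1), ← Matrix.mul_assoc A.1.1ᵀ, ← Matrix.mul_assoc A.1.1ᵀ, hU,
      one_mul]
  have hρs : cjM q (ρ • s) = ρ • s := by
    rw [cjM_smul, hcjs, smul_smul, hρ]
  obtain ⟨S0, hS0⟩ := exists_rational j hsurj (ρ • s) hρs
  have hsdet : s.det ≠ 0 := by
    rw [hs]
    unfold cg
    rw [Matrix.det_mul, Matrix.det_mul, Matrix.det_transpose]
    have h1 := ((Matrix.isUnit_iff_isUnit_det _).1 a.isUnit).ne_zero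
    have h2 := ((Matrix.isUnit_iff_isUnit_det _).1 A.1.isUnit).ne_zero
    exact mul_ne_zero (mul_ne_zero h1 h2) h1
  have hdet : S0.det ≠ 0 := by
    intro h0
    have h1 : (ρ • s).det = 0 := by
      rw [← hS0]
      have := RingHom.map_det j S0
      rw [RingHom.mapMatrix_apply] at this
      rw [← this, h0, map_zero]
    rw [Matrix.det_smul] at h1
    rcases mul_eq_zero.1 h1 with h | h
    · exact hρ0 (eq_zero_of_pow_eq_zero h)
    · exact hsdet h
  set S : GL (Fin n) F₀ := Matrix.GeneralLinearGroup.mkOfDetNeZero S0 hdet with hS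
  have hSj : S.1.map j = ρ • s := hS0
  refine ⟨a, S, ⟨?_, ?_⟩, ?_⟩
  · rw [hSj, smul_smul, inv_mul_cancel₀ hρ0, one_smul]
  · rw [hSj, smul_smul, mul_assoc, mul_assoc, inv_mul_cancel₀ hρ0, mul_one]
    unfold hg
    rw [ha, Matrix.transpose_mul, Matrix.transpose_smul, hA, mul_one, hs]
    unfold cg
    rw [Matrix.mul_smul, Matrix.mul_smul, Matrix.smul_mul, Matrix.smul_mul, smul_smul]
  · rw [hSj, Matrix.transpose_smul, hs]
    unfold cg
    rw [Matrix.transpose_mul, Matrix.transpose_mul, Matrix.transpose_transpose, hA, ← Matrix.mul_assoc,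
      Matrix.mul_smul, Matrix.smul_mul, smul_smul, smul_smul, mul_comm]

end exist

end Cfsg.Agent.Lib.Helper19.PSUGraph
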