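import Mathlib
import Cfsg.Prelude.Def_LieTypeDatum
import Cfsg.Agent.Lib.Helper19.PSUGraph9
import Cfsg.Agent.Lib.Helper19.PSLGraph5
import Cfsg.Agent.Lib.Helper19.PSLGraph6
import Cfsg.Agent.Lib.Helper19.PSLGraph10
import Cfsg.Agent.S2701

/-!
# Helper19: symmetric forms in characteristic two over the subfield, the unitary alternating matrix
-/

set_option autoImplicit false

namespace Cfsg.Agent.Lib.Helper19.PSUGraph

open Matrix Cfsg
open Cfsg.Agent.Lib.Helper27.Unitary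
open Cfsg.Agent.Lib.Helper19.PSLGraph (SimGL mem_SimGL_iff BA SimGL_eq_bilSim sim_congr AJ AJmat AJ_coe
  AJmat_transpose EJ symp_EJ CC3 normal_form_char2_even projQuot_sim_char2 sympEquiv2 stabEquiv2
  sf_smul_smul CC3_smul_smul glOfEquiv glOfEquiv_mulVec eq_zero_of_bil_zero dot_mulVec_mulVec eJ)
open scoped MatrixGroups

section char2forms

variable {K : Type*} [Field K] [Fintype K] {m : ℕ}

theorem projQuot_SimGL_alt (h2 : (2 : K) = 0) (i₀ : Fin m) (S : GL (Fin (2 * m)) K)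
    (hS : S.1ᵀ = S.1) (halt : ∀ x, BA S.1 x x = 0) :
    Nonempty (Cfsg.projQuot (SimGL S) ≃* ↥(Matrix.symplecticGroup (Fin m) K)) := by
  obtain ⟨E, hE⟩ := (normal_form_char2_even h2 m S hS).1 halt
  have hSim := SimGL_eq_bilSim S
  obtain ⟨e2⟩ := sim_congr E (BA S.1) (Cfsg.sympForm m K) hE
  obtain ⟨e3'⟩ := projQuot_sim_char2 h2 (Cfsg.sympForm m K) sf_smul_smul
    (Pi.single (Sum.inr i₀) 1) (Cfsg.Agent.S2701.e3 i₀) (by
      unfold Cfsg.Agent.S2701.e3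
      rw [Cfsg.Agent.Lib.Helper27.SympTransv.sf_single_inl]
      simp)
  have e1 : Cfsg.projQuot (SimGL S) ≃* Cfsg.projQuot (Cfsg.Geo.similarityGroup (BA S.1)) := by
    rw [hSim]
  exact ⟨e1.trans (e2.trans (e3'.symm.trans sympEquiv2))⟩

theorem projQuot_SimGL_nonalt (h2 : (2 : K) = 0) (i₀ : Fin m) (S : GL (Fin (2 * m)) K)
    (hS : S.1ᵀ = S.1) (hnalt : ¬ ∀ x, BA S.1 x x = 0) :
    Nonempty (Cfsg.projQuot (SimGL S) ≃*
      ↥(Subgroup.centralizer ({Cfsg.Agent.Lib.Helper27.SympTransv.tv (Cfsg.Agent.S2701.e3 i₀) 1} :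
        Set (Matrix.symplecticGroup (Fin m) K)))) := by
  have he := Cfsg.Agent.S2701.e3_ne (F := K) i₀
  obtain ⟨E, hE⟩ := (normal_form_char2_even h2 m S hS).2 hnalt (Cfsg.Agent.S2701.e3 i₀) he
  have hSim := SimGL_eq_bilSim S
  obtain ⟨e2⟩ := sim_congr E (BA S.1) (CC3 (Cfsg.Agent.S2701.e3 i₀)) hE
  obtain ⟨e3'⟩ := projQuot_sim_char2 h2 (CC3 (Cfsg.Agent.S2701.e3 i₀))
    (CC3_smul_smul (Cfsg.Agent.S2701.e3 i₀))
    (Pi.single (Sum.inr i₀) 1) (Pi.single (Sum.inr i₀) 1) (by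
      unfold CC3 Cfsg.Agent.S2701.e3
      rw [Cfsg.Agent.Lib.Helper27.SympTransv.sf_self, Cfsg.Agent.Lib.Helper27.SympTransv.sf_single_inl]
      simp)
  have e1 : Cfsg.projQuot (SimGL S) ≃* Cfsg.projQuot (Cfsg.Geo.similarityGroup (BA S.1)) := by
    rw [hSim]
  exact ⟨e1.trans (e2.trans (e3'.symm.trans (stabEquiv2 h2 (Cfsg.Agent.S2701.e3 i₀) he)))⟩

omit [Fintype K] in
theorem congr_of_forms {n : ℕ} {ι : Type} [Fintype ι] [DecidableEq ι] (S S' : GL (Fin n) K)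
    (E E' : (Fin n → K) ≃ₗ[K] (ι → K)) (f : (ι → K) → (ι → K) → K)
    (hE : ∀ u v, f (E u) (E v) = BA S.1 u v) (hE' : ∀ u v, f (E' u) (E' v) = BA S'.1 u v) :
    ∃ (g : GL (Fin n) K) (c : Kˣ), g.1ᵀ * S.1 * g.1 = (c : K) • S'.1 := by
  refine ⟨glOfEquiv (E'.trans E.symm), 1, ?_⟩
  rw [Units.val_one, one_smul]
  apply sub_eq_zero.1
  apply eq_zero_of_bil_zero
  intro u v
  rw [Matrix.sub_mulVec, dotProduct_sub, ← dot_mulVec_mulVec, glOfEquiv_mulVec, glOfEquiv_mulVec]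
  have h1 := hE ((E'.trans E.symm) u) ((E'.trans E.symm) v)
  rw [LinearEquiv.trans_apply, LinearEquiv.trans_apply, LinearEquiv.apply_symm_apply,
    LinearEquiv.apply_symm_apply, hE'] at h1
  unfold BA at h1
  rw [LinearEquiv.trans_apply, LinearEquiv.trans_apply, ← h1, sub_self]

theorem congr_char2 (h2 : (2 : K) = 0) (i₀ : Fin m) (S S' : GL (Fin (2 * m)) K) (hS : S.1ᵀ = S.1)
    (hS' : S'.1ᵀ = S'.1) (h : (∀ x, BA S.1 x x = 0) ↔ (∀ x, BA S'.1 x x = 0)) :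
    ∃ (g : GL (Fin (2 * m)) K) (c : Kˣ), g.1ᵀ * S.1 * g.1 = (c : K) • S'.1 := by
  by_cases halt : ∀ x, BA S.1 x x = 0
  · obtain ⟨E, hE⟩ := (normal_form_char2_even h2 m S hS).1 halt
    obtain ⟨E', hE'⟩ := (normal_form_char2_even h2 m S' hS').1 (h.1 halt)
    exact congr_of_forms S S' E E' _ hE hE'
  · have he := Cfsg.Agent.S2701.e3_ne (F := K) i₀
    obtain ⟨E, hE⟩ := (normal_form_char2_even h2 m S hS).2 halt _ he
    obtain ⟨E', hE'⟩ := (normal_form_char2_even h2 m S' hS').2 (fun h' => halt (h.2 h')) _ he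
    exact congr_of_forms S S' E E' _ hE hE'

omit [Fintype K] in
theorem alt_of_congr {n : ℕ} (S S' : GL (Fin n) K) (g : GL (Fin n) K) (c : Kˣ)
    (hg : g.1ᵀ * S.1 * g.1 = (c : K) • S'.1) (halt : ∀ x, BA S.1 x x = 0) :
    ∀ x, BA S'.1 x x = 0 := by
  intro x
  have h1 : BA (g.1ᵀ * S.1 * g.1) x x = BA ((c : K) • S'.1) x x := by rw [hg]
  have h3 : BA (g.1ᵀ * S.1 * g.1) x x = 0 := by
    unfold BA
    rw [← dot_mulVec_mulVec]
    exact halt _
  rw [h3] at h1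
  unfold BA at h1 ⊢
  rw [Matrix.smul_mulVec, dotProduct_smul, smul_eq_mul] at h1
  rcases mul_eq_zero.1 h1.symm with h | h
  · exact absurd h c.ne_zero
  · exact h

end char2forms

section AJU

variable {F : Type*} [Field F] [Fintype F] {q : ℕ} {m : ℕ}

lemma AJmat_entry (i j : Fin (2 * m)) :
    AJmat m F i j = 0 ∨ AJmat m F i j = 1 ∨ AJmat m F i j = -1 := by
  unfold AJmat Matrix.J
  rw [Matrix.submatrix_apply]
  rcases (eJ m).symm i with a | a <;> rcases (eJ m).symm j with b | b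
  · left; rfl
  · by_cases hab : a = b
    · right; right
      simp [hab]
    · left
      simp [hab]
  · by_cases hab : a = b
    · right; left
      simp [hab]
    · left
      simp [hab]
  · left; rfl

lemma cjM_AJmat (hF : Fintype.card F = q ^ 2) : cjM q (AJmat m F) = AJmat m F := by
  ext i j
  rw [cjM_apply]
  rcases AJmat_entry (F := F) i j with h | h | h
  · rw [h, cj_zero hF]
  · rw [h, one_pow]
  · rw [h, cj_neg hF, one_pow]

lemma AJmat_sq : AJmat m F * AJmat m F = -1 := by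
  unfold AJmat
  rw [Matrix.submatrix_mul_equiv, Matrix.J_squared]
  ext i j
  simp [Matrix.submatrix_apply, Matrix.one_apply]

/-- The standard alternating matrix as a unitary matrix. -/
noncomputable def AJU (hF : Fintype.card F = q ^ 2) (m : ℕ) : ↥(GU (2 * m) F q) :=
  ⟨AJ m F, by
    rw [mat_mem_GU_iff hF, AJ_coe, cjM_AJmat hF, AJmat_transpose, Matrix.neg_mul, AJmat_sq, neg_neg]⟩

lemma AJU_coe (hF : Fintype.card F = q ^ 2) (m : ℕ) : (AJU hF m).1.1 = AJmat m F := rfl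

end AJU

end Cfsg.Agent.Lib.Helper19.PSUGraph
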