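import Mathlib
import Cfsg.Prelude.Def_LieTypeDatum
import Cfsg.Agent.Lib.Helper19.PSUGraph10
import Cfsg.Agent.Lib.Helper19.PSLGraph7

/-!
# Helper19: representatives and forms for the unitary graph automorphisms in odd characteristic
-/

set_option autoImplicit false

namespace Cfsg.Agent.Lib.Helper19.PSUGraph

open Matrix Cfsg
open Cfsg.Agent.Lib.Helper27.Unitary
open Cfsg.Agent.Lib.Helper19.PSLGraph (SimGL mem_SimGL_iff BA SimGL_eq_bilSim sim_congr AJ AJmat AJ_coe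
  AJmat_transpose EJ symp_EJ glOfEquiv glOfEquiv_mulVec eq_zero_of_bil_zero dot_mulVec_mulVec eJ
  Dg Dg_coe Dg_det Dg_transpose exists_congr_alt projQuot_congr theta theta_mulVec)
open scoped MatrixGroups

section diag

variable {n : ℕ} {F : Type*} [Field F]

/-- The diagonal matrix with one prescribed entry. -/
def Dm (i0 : Fin n) (x : F) : Matrix (Fin n) (Fin n) F :=
  Matrix.diagonal (Function.update (fun _ => (1 : F)) i0 x)

lemma Dm_mul (i0 : Fin n) (x y : F) : Dm i0 x * Dm i0 y = Dm i0 (x * y) := by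
  unfold Dm
  rw [Matrix.diagonal_mul_diagonal]
  congr 1
  funext i
  by_cases hi : i = i0
  · subst hi
    simp
  · simp [Function.update_of_ne hi]

lemma Dm_transpose (i0 : Fin n) (x : F) : (Dm i0 x)ᵀ = Dm i0 x := by
  unfold Dm
  rw [Matrix.diagonal_transpose]

lemma Dm_one (i0 : Fin n) : Dm i0 (1 : F) = 1 := by
  unfold Dm
  rw [Function.update_eq_self_iff.2 rfl]
  exact Matrix.diagonal_one

lemma Dm_map {F₀ : Type*} [Field F₀] (j : F₀ →+* F) (i0 : Fin n) (x : F₀) :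
    (Dm i0 x).map j = Dm i0 (j x) := by
  unfold Dm
  rw [Matrix.diagonal_map (map_zero j)]
  congr 1
  funext i
  by_cases hi : i = i0
  · subst hi
    simp
  · simp [Function.update_of_ne hi]

lemma cjM_Dm [Fintype F] {q : ℕ} (hF : Fintype.card F = q ^ 2) (i0 : Fin n) (x : F) :
    cjM q (Dm i0 x) = Dm i0 (x ^ q) := by
  rw [cjM_eq hF]
  unfold Dm
  rw [Matrix.diagonal_map (map_zero _)]
  congr 1
  funext i
  by_cases hi : i = i0
  · subst hi
    simp [conjHom_apply]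
  · simp [Function.update_of_ne hi, conjHom_apply]

end diag

section rep

variable {n : ℕ} {F : Type*} [Field F] [Fintype F] {q : ℕ} {F₀ : Type*} [Field F₀]

/-- A symmetric unitary representative with prescribed descended form `diag(1, …, d, …, 1)`. -/
theorem exists_sym_rep (hF : Fintype.card F = q ^ 2) (j : F₀ →+* F) (hfix : ∀ y, (j y) ^ q = j y)
    (i0 : Fin n) (d : F₀) (hd : d ≠ 0) :
    ∃ (A : ↥(GU n F q)) (a : GL (Fin n) F), A.1.1ᵀ = (1 : F) • A.1.1 ∧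
      Desc j q A.1.1 a.1 (Dg n i0 d hd).1 ((1 : F) * 1 * 1⁻¹) ((1 : F)⁻¹) := by
  obtain ⟨α, hα⟩ := nm_surj hF (j d) (hfix d)
  have hjd : j d ≠ 0 := (map_ne_zero j).2 hd
  have hα0 : α ≠ 0 := by
    rintro rfl
    rw [zero_mul] at hα
    exact hjd hα.symm
  have hαq : α ^ q ≠ 0 := pow_ne_zero _ hα0
  have hδ0 : α ^ q / α ≠ 0 := div_ne_zero hαq hα0
  have hU : Dg n i0 (α ^ q / α) hδ0 ∈ GU n F q := by
    rw [mat_mem_GU_iff hF, Dg_coe]
    show (Dm i0 (α ^ q / α))ᵀ * cjM q (Dm i0 (α ^ q / α)) = 1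
    rw [Dm_transpose, cjM_Dm hF, Dm_mul, div_pow, cj_cj hF]
    have : α ^ q / α * (α / α ^ q) = 1 := by field_simp
    rw [this, Dm_one]
  refine ⟨⟨Dg n i0 (α ^ q / α) hδ0, hU⟩, Dg n i0 α hα0, ?_, ?_⟩
  · rw [one_smul]
    exact Dg_transpose n i0 _ hδ0
  · have e : ((1 : F) * 1 * 1⁻¹) = 1 := by simp
    rw [e, inv_one]
    constructor
    · show cg (Dm i0 α) (Dm i0 (α ^ q / α)) = (1 : F) • (Dm i0 d).map j
      unfold cg
      rw [one_smul, Dm_transpose, Dm_mul, Dm_mul, Dm_map]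
      congr 1
      rw [← hα]
      field_simp
    · show hg q (Dm i0 α) 1 = (1 : F) • (Dm i0 d).map j
      unfold hg
      rw [one_smul, cjM_Dm hF, Dm_transpose, mul_one, Dm_mul, Dm_map, ← hα, mul_comm]

end rep

section altforms

variable {K : Type*} [Field K] [Fintype K] {m : ℕ}

theorem sim_congr_scal {ι₁ ι₂ : Type} [Fintype ι₁] [DecidableEq ι₁] [Fintype ι₂] [DecidableEq ι₂]
    (E : (ι₁ → K) ≃ₗ[K] (ι₂ → K)) (f₁ : (ι₁ → K) → (ι₁ → K) → K)
    (f₂ : (ι₂ → K) → (ι₂ → K) → K) (c : K) (hc : c ≠ 0)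
    (hf : ∀ u v, f₂ (E u) (E v) = c * f₁ u v) :
    Nonempty (Cfsg.projQuot (Cfsg.Geo.similarityGroup f₁) ≃*
      Cfsg.projQuot (Cfsg.Geo.similarityGroup f₂)) := by
  apply projQuot_congr E
  intro h
  constructor
  · rintro ⟨d, hd⟩
    refine ⟨d, fun w w' => ?_⟩
    obtain ⟨u, rfl⟩ := E.surjective w
    obtain ⟨v, rfl⟩ := E.surjective w'
    rw [theta_mulVec, theta_mulVec, hf, hf, hd]
    ring
  · rintro ⟨d, hd⟩
    refine ⟨d, fun u v => ?_⟩
    have := hd (E u) (E v)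
    rw [theta_mulVec, theta_mulVec, hf, hf] at this
    apply mul_left_cancel₀ hc
    linear_combination this

theorem congr_alt_alt (h2 : (2 : K) ≠ 0) (S S' : GL (Fin (2 * m)) K) (hS : S.1ᵀ = -S.1)
    (hS' : S'.1ᵀ = -S'.1) :
    ∃ (t : GL (Fin (2 * m)) K) (d : Kˣ), t.1ᵀ * S.1 * t.1 = (d : K) • S'.1 := by
  obtain ⟨g₁, hg₁⟩ := exists_congr_alt h2 m S hS
  obtain ⟨g₂, hg₂⟩ := exists_congr_alt h2 m S' hS'
  refine ⟨g₁⁻¹ * g₂, 1, ?_⟩
  rw [Units.val_one, one_smul]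
  have h1 : cg (g₁⁻¹).1 S.1 = -AJmat m K := by
    apply cg_cancel g₁
    rw [← cg_mul, ← Units.val_mul, inv_mul_cancel, Units.val_one]
    have e1 : cg (1 : Matrix (Fin (2 * m)) (Fin (2 * m)) K) S.1 = S.1 := by
      unfold cg
      rw [Matrix.transpose_one, one_mul, mul_one]
    have e2 : cg g₁.1 (-AJmat m K) = S.1 := by
      unfold cg
      rw [Matrix.mul_neg, Matrix.neg_mul, hg₁, neg_smul, one_smul, neg_neg]
    rw [e1, e2]
  show cg ((g₁⁻¹ * g₂ : GL (Fin (2 * m)) K).1) S.1 = S'.1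
  rw [Units.val_mul, cg_mul, h1]
  unfold cg
  rw [Matrix.mul_neg, Matrix.neg_mul, hg₂, neg_smul, one_smul, neg_neg]

theorem projQuot_SimGL_alt_odd (h2 : (2 : K) ≠ 0) (S : GL (Fin (2 * m)) K) (hS : S.1ᵀ = -S.1) :
    Nonempty (Cfsg.projQuot (SimGL S) ≃* Cfsg.PGSp m K) := by
  obtain ⟨g, hg⟩ := exists_congr_alt h2 m S hS
  have hSim := SimGL_eq_bilSim S
  have e1 : Cfsg.projQuot (SimGL S) ≃* Cfsg.projQuot (Cfsg.Geo.similarityGroup (BA S.1)) := by
    rw [hSim]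
  let E : (Fin (2 * m) → K) ≃ₗ[K] (Fin m ⊕ Fin m → K) := (gactL g).trans (EJ m K)
  have hE : ∀ u v, Cfsg.sympForm m K (E u) (E v) = (-1 : K) * BA S.1 u v := by
    intro u v
    have hEu : ∀ u, E u = EJ m K (gact g u) := fun u => rfl
    rw [hEu, hEu, symp_EJ]
    unfold BA gact
    rw [dot_mulVec_mulVec, hg, Matrix.smul_mulVec, dotProduct_smul, smul_eq_mul]
  obtain ⟨e2⟩ := sim_congr_scal E (BA S.1) (Cfsg.sympForm m K) (-1) (by norm_num) hE
  exact ⟨e1.trans e2⟩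

end altforms

end Cfsg.Agent.Lib.Helper19.PSUGraph
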