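import Mathlib
import Cfsg.Prelude.Def_LieTypeDatum
import Cfsg.Agent.Lib.Helper19.PSUGraph11
import Cfsg.Agent.Lib.Helper19.PSLSplit1

/-!
# Helper19: counting the `PSU`-classes in an `Inndiag`-class of graph automorphisms
-/

set_option autoImplicit false

namespace Cfsg.Agent.Lib.Helper19.PSUGraph

open Matrix Cfsg
open Cfsg.Agent.Lib.Helper27.Unitary
open Cfsg.Agent.Lib.Helper19.PSLGraph (Dg Dg_coe Dg_det Dg_transpose toSL toGL_toSL conjFun conjFun_coe
  splitClassCount_eq_card)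
open scoped MatrixGroups

section normone

variable {n : ℕ} {F : Type*} [Field F] [Fintype F] {q : ℕ}

/-- The norm-one group. -/
def U1 (F : Type*) [Field F] (q : ℕ) : Subgroup Fˣ := (powMonoidHom (q + 1) : Fˣ →* Fˣ).ker

omit [Fintype F] in
lemma mem_U1_iff (x : Fˣ) : x ∈ U1 F q ↔ x ^ (q + 1) = 1 := MonoidHom.mem_ker

lemma card_U1 (hF : Fintype.card F = q ^ 2) : Nat.card ↥(U1 F q) = q + 1 := by
  classical
  have hq : 1 ≤ q := by
    rcases Nat.eq_zero_or_pos q with h | h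
    · subst h
      have := Fintype.one_lt_card (α := F)
      omega
    · exact h
  unfold U1
  rw [IsCyclic.card_powMonoidHom_ker, Nat.card_eq_fintype_card, Fintype.card_units, hF]
  apply Nat.gcd_eq_right
  refine ⟨q - 1, ?_⟩
  obtain ⟨k, rfl⟩ : ∃ k, q = k + 1 := ⟨q - 1, by omega⟩
  have : (k + 1) ^ 2 = (k + 1 + 1) * k + 1 := by ring
  rw [this]
  simp

lemma det_mem_U1 (hF : Fintype.card F = q ^ 2) (g : GL (Fin n) F) (hg : g ∈ GU n F q) :
    Matrix.GeneralLinearGroup.det g ∈ U1 F q := by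
  rw [mem_U1_iff]
  apply Units.ext
  have h := congrArg Matrix.det ((mat_mem_GU_iff hF g).1 hg)
  rw [Matrix.det_mul, Matrix.det_transpose, det_cjM hF, Matrix.det_one] at h
  rw [Units.val_pow_eq_pow_val, Units.val_one, pow_succ']
  exact h

/-- The determinant on the unitary group. -/
def detU (hF : Fintype.card F = q ^ 2) : ↥(GU n F q) →* ↥(U1 F q) :=
  (Matrix.GeneralLinearGroup.det.comp (GU n F q).subtype).codRestrict (U1 F q)
    (fun g => det_mem_U1 hF g.1 g.2)

lemma detU_coe (hF : Fintype.card F = q ^ 2) (g : ↥(GU n F q)) :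
    ((detU hF g : ↥(U1 F q)) : Fˣ) = Matrix.GeneralLinearGroup.det g.1 := rfl

lemma Dg_mem_GU (hF : Fintype.card F = q ^ 2) (i0 : Fin n) (x : F) (hx0 : x ≠ 0)
    (hx : x * x ^ q = 1) : Dg n i0 x hx0 ∈ GU n F q := by
  rw [mat_mem_GU_iff hF, Dg_coe]
  show (Dm i0 x)ᵀ * cjM q (Dm i0 x) = 1
  rw [Dm_transpose, cjM_Dm hF, Dm_mul, hx, Dm_one]

lemma detU_surj (hF : Fintype.card F = q ^ 2) (hn : 1 ≤ n) : Function.Surjective (detU (n := n) hF) := by
  rintro ⟨x, hx⟩
  rw [mem_U1_iff] at hx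
  have hx' : (x : F) * (x : F) ^ q = 1 := by
    have := congrArg Units.val hx
    rw [Units.val_pow_eq_pow_val, Units.val_one, pow_succ'] at this
    exact this
  refine ⟨⟨Dg n ⟨0, by omega⟩ (x : F) x.ne_zero, Dg_mem_GU hF _ _ _ hx'⟩, ?_⟩
  apply Subtype.ext
  apply Units.ext
  rw [detU_coe]
  exact Dg_det n ⟨0, by omega⟩ (x : F) x.ne_zero

end normone

section inn

variable {n : ℕ} {F : Type*} [Field F] {q : ℕ}

/-- An element of `SU` as an element of `GU`. -/
def suToGU (t : ↥(SU n F q)) : ↥(GU n F q) :=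
  ⟨Matrix.SpecialLinearGroup.toGL t.1, (mem_SU_iff_toGL t.1).1 t.2⟩

lemma conj_mk_eq_PhiU (t : ↥(SU n F q)) :
    MulAut.conj (QuotientGroup.mk t : PSU n F q) = PhiU (suToGU t) := by
  apply autU_ext
  intro s
  rw [PhiU_mk, MulAut.conj_apply]
  show (QuotientGroup.mk (t * s * t⁻¹) : PSU n F q) = _
  congr 1

lemma mem_InnU_iff (k : MulAut (PSU n F q)) :
    k ∈ Cfsg.Inn (PSU n F q) ↔
      ∃ s : ↥(GU n F q), Matrix.GeneralLinearGroup.det s.1 = 1 ∧ k = PhiU s := by
  constructor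
  · rintro ⟨x, rfl⟩
    induction x using QuotientGroup.induction_on with
    | H t =>
      refine ⟨suToGU t, ?_, conj_mk_eq_PhiU t⟩
      apply Units.ext
      exact t.1.2
  · rintro ⟨s, hs, rfl⟩
    have hdet : s.1.1.det = 1 := by
      have := congrArg Units.val hs
      exact this
    have hmem : toSL s.1 hdet ∈ SU n F q := by
      rw [mem_SU_iff_toGL, toGL_toSL]
      exact s.2
    refine ⟨QuotientGroup.mk (⟨toSL s.1 hdet, hmem⟩ : ↥(SU n F q)), ?_⟩
    show MulAut.conj (QuotientGroup.mk (⟨toSL s.1 hdet, hmem⟩ : ↥(SU n F q)) : PSU n F q) = PhiU s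
    rw [conj_mk_eq_PhiU]
    congr 1
    apply Subtype.ext
    exact toGL_toSL s.1 hdet

end inn

section count

variable {n : ℕ} {F : Type*} [Field F] [Fintype F] {q : ℕ}

/-- The subgroup of determinants of the unitary similitudes of `A`. -/
def detSimU (hF : Fintype.card F = q ^ 2) (A : ↥(GU n F q)) : Subgroup ↥(U1 F q) :=
  (SimGU hF A).map (detU hF)

/-- The number of `T`-classes in the `Inndiag`-class of `gamU A`. -/
theorem splitClassCountU_gam (hF : Fintype.card F = q ^ 2) (hn : 1 ≤ n) (A : ↥(GU n F q)) :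
    Cfsg.splitClassCount (Cfsg.inndiagPSU n F q) (Cfsg.Inn (PSU n F q)) (gamU hF A) =
      Nat.card (↥(U1 F q) ⧸ detSimU hF A) := by
  apply splitClassCount_eq_card PhiU _ _ inndiagU_eq (gamU hF A)
    (fun g => (QuotientGroup.mk (detU hF g) : ↥(U1 F q) ⧸ detSimU hF A))
  · intro y
    induction y using QuotientGroup.induction_on with
    | H d =>
      obtain ⟨g, hg⟩ := detU_surj hF hn d
      refine ⟨g, ?_⟩
      show (QuotientGroup.mk (detU hF g) : ↥(U1 F q) ⧸ detSimU hF A) = _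
      rw [hg]
  · intro g₁ g₂
    rw [QuotientGroup.eq]
    have hcomm : ∀ h : ↥(GU n F q), h ∈ SimGU hF A ↔ PhiU h * gamU hF A = gamU hF A * PhiU h := by
      intro h
      unfold SimGU
      rw [Subgroup.mem_comap, Subgroup.mem_centralizer_iff]
      simp only [Set.mem_singleton_iff, forall_eq]
      exact eq_comm
    have hdet1 : ∀ s : ↥(GU n F q), Matrix.GeneralLinearGroup.det s.1 = 1 ↔ detU hF s = 1 := by
      intro s
      constructor
      · intro h
        apply Subtype.ext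
        rw [detU_coe, h]
        rfl
      · intro h
        rw [← detU_coe hF, h]
        rfl
    constructor
    · rintro ⟨k, hk, hk2⟩
      obtain ⟨s, hs, rfl⟩ := (mem_InnU_iff k).1 hk
      rw [hdet1] at hs
      have hmem : g₂⁻¹ * s * g₁ ∈ SimGU hF A := by
        rw [hcomm, map_mul, map_mul, map_inv]
        have e : gamU hF A = (PhiU g₂)⁻¹ * (PhiU s * (PhiU g₁ * gamU hF A * (PhiU g₁)⁻¹) * (PhiU s)⁻¹) *
            PhiU g₂ := by
          rw [← hk2]
          group
        conv_rhs => rw [e]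
        group
      have : (detU hF g₁)⁻¹ * detU hF g₂ = detU hF (g₂⁻¹ * s * g₁)⁻¹ := by
        rw [map_inv, map_mul, map_mul, map_inv, hs]
        simp [mul_comm]
      rw [this]
      exact ⟨_, inv_mem hmem, rfl⟩
    · rintro ⟨h0, hh0, hdet0⟩
      obtain ⟨h, hh, hdet⟩ : ∃ h ∈ SimGU hF A, detU hF h = detU hF g₁ * (detU hF g₂)⁻¹ := by
        refine ⟨h0⁻¹, inv_mem hh0, ?_⟩
        rw [map_inv, hdet0]
        simp [mul_comm]
      have hh' := (hcomm h).1 hh
      refine ⟨PhiU (g₂ * h * g₁⁻¹), (mem_InnU_iff _).2 ⟨g₂ * h * g₁⁻¹, ?_, rfl⟩, ?_⟩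
      · rw [hdet1, map_mul, map_mul, map_inv, hdet]
        simp [mul_comm]
      · rw [map_mul, map_mul, map_inv]
        have e : PhiU g₂ * PhiU h * (PhiU g₁)⁻¹ * (PhiU g₁ * gamU hF A * (PhiU g₁)⁻¹) *
            (PhiU g₂ * PhiU h * (PhiU g₁)⁻¹)⁻¹ =
            PhiU g₂ * (PhiU h * gamU hF A) * (PhiU h)⁻¹ * (PhiU g₂)⁻¹ := by
          group
        rw [e, hh']
        group

end count

end Cfsg.Agent.Lib.Helper19.PSUGraph
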