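import Mathlib
import Cfsg.Prelude.Def_LieTypeDatum
import Cfsg.Agent.Lib.Helper19.PSUSplit1
import Cfsg.Agent.Lib.Helper19.PSLSplit2

/-!
# Helper19: determinants of unitary similitudes, the easy cases
-/

set_option autoImplicit false

namespace Cfsg.Agent.Lib.Helper19.PSUGraph

open Matrix Cfsg
open Cfsg.Agent.Lib.Helper27.Unitary
open Cfsg.Agent.Lib.Helper19.PSLGraph (scalGL scalGL_mem det_scalGL det_sq_of_sim tGL tGL_coe sq_inj2)
open scoped MatrixGroups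

section basics

variable {n : ℕ} {F : Type*} [Field F] [Fintype F] {q : ℕ}

omit [Fintype F] in
lemma scalGL_coe (x : Fˣ) : (scalGL (Fin n) x).1 = (x : F) • (1 : Matrix (Fin n) (Fin n) F) := by
  show (Matrix.scalar (Fin n) (x : F)) = _
  rw [Matrix.scalar_apply, ← Matrix.smul_one_eq_diagonal]

omit [Fintype F] in
lemma smul_one_eq_one (hn : 1 ≤ n) (c : F) (h : c • (1 : Matrix (Fin n) (Fin n) F) = 1) : c = 1 := by
  have := congrFun (congrFun h ⟨0, by omega⟩) ⟨0, by omega⟩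
  simpa using this

lemma val_mem_U1 (x : Fˣ) : x ∈ U1 F q ↔ (x : F) * (x : F) ^ q = 1 := by
  rw [mem_U1_iff]
  constructor
  · intro h
    have := congrArg Units.val h
    rw [Units.val_pow_eq_pow_val, Units.val_one, pow_succ'] at this
    exact this
  · intro h
    apply Units.ext
    rw [Units.val_pow_eq_pow_val, Units.val_one, pow_succ']
    exact h

lemma scal_mem_GU (hF : Fintype.card F = q ^ 2) (x : Fˣ) (hx : x ∈ U1 F q) :
    scalGL (Fin n) x ∈ GU n F q := by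
  rw [mat_mem_GU_iff hF, scalGL_coe, Matrix.transpose_smul, Matrix.transpose_one, cjM_smul, cjM_one hF,
    Matrix.smul_mul, Matrix.mul_smul, one_mul, smul_smul, (val_mem_U1 x).1 hx, one_smul]

/-- The multiplier of a unitary similitude has norm one. -/
lemma mult_mem_U1 (hF : Fintype.card F = q ^ 2) (hn : 1 ≤ n) (A h : ↥(GU n F q)) (c : Fˣ)
    (hc : h.1.1ᵀ * A.1.1 * h.1.1 = (c : F) • A.1.1) : c ∈ U1 F q := by
  rw [val_mem_U1]
  have hM : (tGU hF h * A * h).1 ∈ GU n F q := (tGU hF h * A * h).2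
  rw [mat_mem_GU_iff hF] at hM
  have e : ((tGU hF h * A * h).1 : GL (Fin n) F).1 = h.1.1ᵀ * A.1.1 * h.1.1 := rfl
  rw [e, hc, Matrix.transpose_smul, cjM_smul, Matrix.smul_mul, Matrix.mul_smul, smul_smul,
    (mat_mem_GU_iff hF A.1).1 A.2] at hM
  exact smul_one_eq_one hn _ hM

lemma mem_detSimU_iff (hF : Fintype.card F = q ^ 2) (A : ↥(GU n F q)) (x : ↥(U1 F q)) :
    x ∈ detSimU hF A ↔ ∃ h ∈ SimGU hF A, Matrix.GeneralLinearGroup.det h.1 = (x : Fˣ) := by
  constructor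
  · rintro ⟨h, hh, rfl⟩
    exact ⟨h, hh, rfl⟩
  · rintro ⟨h, hh, hx⟩
    exact ⟨h, hh, Subtype.ext hx⟩

lemma pow_le_detSimU (hF : Fintype.card F = q ^ 2) (hn : 2 ≤ n) (A : ↥(GU n F q)) :
    (powMonoidHom n : ↥(U1 F q) →* ↥(U1 F q)).range ≤ detSimU hF A := by
  rintro x ⟨y, rfl⟩
  rw [mem_detSimU_iff]
  refine ⟨⟨scalGL (Fin n) y.1, scal_mem_GU hF y.1 y.2⟩, ?_, ?_⟩
  · rw [mem_SimGU_iff hF hn]
    refine ⟨y.1 * y.1, ?_⟩
    show (scalGL (Fin n) y.1).1ᵀ * A.1.1 * (scalGL (Fin n) y.1).1 = _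
    rw [scalGL_coe, Matrix.transpose_smul, Matrix.transpose_one, Matrix.smul_mul, one_mul,
      Matrix.mul_smul, mul_one, smul_smul, Units.val_mul]
  · show Matrix.GeneralLinearGroup.det (scalGL (Fin n) y.1) = _
    rw [det_scalGL]
    rfl

/-- Odd dimension. -/
theorem detSimU_odd (hF : Fintype.card F = q ^ 2) (m : ℕ) (hm : 1 ≤ m) (A : ↥(GU (2 * m + 1) F q)) :
    detSimU hF A = (powMonoidHom (2 * m + 1) : ↥(U1 F q) →* ↥(U1 F q)).range := by
  apply le_antisymm _ (pow_le_detSimU hF (by omega) A)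
  intro x hx
  rw [mem_detSimU_iff] at hx
  obtain ⟨h, hh, hdet⟩ := hx
  obtain ⟨c, hc⟩ := (mem_SimGU_iff hF (by omega) A h).1 hh
  have hcU := mult_mem_U1 hF (by omega) A h c hc
  have hd := det_sq_of_sim A.1 h.1 c hc
  rw [hdet] at hd
  refine ⟨x * (⟨c, hcU⟩ ^ m)⁻¹, ?_⟩
  apply Subtype.ext
  show ((x : Fˣ) * (c ^ m)⁻¹) ^ (2 * m + 1) = (x : Fˣ)
  set d : Fˣ := (x : Fˣ) with hddef
  have hc2 : c = (d * (c ^ m)⁻¹) ^ 2 := by
    rw [mul_pow, hd, inv_pow, ← pow_mul, pow_succ, mul_comm m 2]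
    rw [mul_comm, ← mul_assoc, inv_mul_cancel, one_mul]
  have : (d * (c ^ m)⁻¹) ^ (2 * m + 1) = ((d * (c ^ m)⁻¹) ^ 2) ^ m * (d * (c ^ m)⁻¹) := by
    rw [← pow_mul, pow_succ]
  rw [this, ← hc2, mul_comm d, ← mul_assoc, mul_inv_cancel, one_mul]

/-- Even dimension, characteristic two. -/
theorem detSimU_char2_even (hF : Fintype.card F = q ^ 2) (h2 : (2 : F) = 0) (hq : Even q) (m : ℕ)
    (hm : 1 ≤ m) (A : ↥(GU (2 * m) F q)) :
    detSimU hF A = (powMonoidHom (2 * m) : ↥(U1 F q) →* ↥(U1 F q)).range := by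
  apply le_antisymm _ (pow_le_detSimU hF (by omega) A)
  intro x hx
  rw [mem_detSimU_iff] at hx
  obtain ⟨h, hh, hdet⟩ := hx
  obtain ⟨c, hc⟩ := (mem_SimGU_iff hF (by omega) A h).1 hh
  have hcU := mult_mem_U1 hF (by omega) A h c hc
  have hd := det_sq_of_sim A.1 h.1 c hc
  rw [hdet] at hd
  obtain ⟨k, hk⟩ := hq
  -- a square root of the multiplier in the norm-one group
  have hc1 : c ^ (q + 1) = 1 := (mem_U1_iff c).1 hcU
  have hy2 : (c ^ (k + 1)) ^ 2 = c := by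
    rw [← pow_mul]
    have : (k + 1) * 2 = (q + 1) + 1 := by omega
    rw [this, pow_succ, hc1, one_mul]
  refine ⟨⟨c, hcU⟩ ^ (k + 1), ?_⟩
  apply Subtype.ext
  show (c ^ (k + 1)) ^ (2 * m) = (x : Fˣ)
  rw [pow_mul, hy2]
  apply Units.ext
  apply sq_inj2 h2
  have := congrArg Units.val hd
  rw [Units.val_pow_eq_pow_val, Units.val_pow_eq_pow_val] at this
  rw [Units.val_pow_eq_pow_val, ← pow_two, ← pow_two, this, ← pow_mul, mul_comm]

end basics

section index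

variable {G : Type*} [CommGroup G] [IsCyclic G] [Finite G]

theorem card_quot_pow_cyclic (D : Subgroup G) (k : ℕ) (hD : D = (powMonoidHom k : G →* G).range) :
    Nat.card (G ⧸ D) = Nat.gcd (Nat.card G) k := by
  rw [hD, ← Subgroup.index_eq_card, IsCyclic.index_powMonoidHom_range]

theorem card_quot_sq_pow_cyclic (heven : Even (Nat.card G)) (D : Subgroup G) (m : ℕ)
    (hD : D = ((powMonoidHom (2 * m) : G →* G).range).comap (powMonoidHom 2 : G →* G)) :
    Nat.card (G ⧸ D) = Nat.gcd (2 * m) (Nat.card G) / 2 := by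
  rw [hD, ← Subgroup.index_eq_card, Subgroup.index_comap]
  have hle : (powMonoidHom (2 * m) : G →* G).range ≤ (powMonoidHom 2 : G →* G).range := by
    rintro x ⟨y, rfl⟩
    exact ⟨y ^ m, by simp [← pow_mul, mul_comm]⟩
  have h1 := Subgroup.relIndex_mul_index hle
  rw [IsCyclic.index_powMonoidHom_range, IsCyclic.index_powMonoidHom_range] at h1
  have h2 : Nat.gcd (Nat.card G) 2 = 2 := by
    obtain ⟨k, hk⟩ := heven
    rw [hk, ← two_mul]
    exact Nat.gcd_eq_right (dvd_mul_right 2 k)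
  rw [h2] at h1
  rw [Nat.gcd_comm (2 * m), ← h1, Nat.mul_div_cancel _ (by norm_num : 0 < 2)]

end index

end Cfsg.Agent.Lib.Helper19.PSUGraph
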