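import Mathlib
import Cfsg.Agent.Lib.Helper19.AutPSL16
import Cfsg.Agent.Lib.Helper19.PSUSplit2
import Cfsg.Agent.Lib.Helper19.PSLSplit2
import Cfsg.Agent.Lib.Helper27.UField

/-!
# Automorphisms of `PSL_n(q)`, part 17: the standard graph-field involution (helper19)
-/

set_option autoImplicit false

namespace Cfsg.Agent.Lib.Helper19.AutPSL

open Matrix Cfsg.Agent.Lib.Helper19.PSLGraph Cfsg.Agent.Lib.Helper19.PSUGraph

section cyc

variable {G : Type*} [CommGroup G] [IsCyclic G] [Finite G]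

/-- index of the subgroup generated by the `a`-th powers and the elements of order dividing `b` -/
theorem card_quot_pow_sup_ker (a b : ℕ) (hb : b ∣ Nat.card G) (hb0 : 0 < b) :
    Nat.card (G ⧸ ((powMonoidHom a : G →* G).range ⊔ (powMonoidHom b : G →* G).ker)) =
      Nat.gcd a (Nat.card G / b) := by
  set f : G →* G := powMonoidHom b with hf
  have h1 : (powMonoidHom a : G →* G).range ⊔ f.ker =
      ((powMonoidHom a : G →* G).range.map f).comap f := (Subgroup.comap_map_eq _ _).symm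
  have h2 : (powMonoidHom a : G →* G).range.map f = (powMonoidHom (a * b) : G →* G).range := by
    rw [← MonoidHom.range_comp]
    congr 1
    ext x
    show (x ^ a) ^ b = x ^ (a * b)
    rw [pow_mul]
  rw [← Subgroup.index_eq_card, h1, h2, Subgroup.index_comap]
  have hle : (powMonoidHom (a * b) : G →* G).range ≤ f.range := by
    rintro _ ⟨x, rfl⟩
    exact ⟨x ^ a, by show (x ^ a) ^ b = x ^ (a * b); rw [pow_mul]⟩
  have h3 := Subgroup.relIndex_mul_index hle
  rw [IsCyclic.index_powMonoidHom_range, IsCyclic.index_powMonoidHom_range] at h3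
  obtain ⟨M', hM'⟩ := hb
  rw [hM'] at h3 ⊢
  rw [Nat.mul_div_cancel_left _ hb0]
  have e1 : (b * M').gcd b = b := Nat.gcd_eq_right (Dvd.intro _ rfl)
  have e2 : (b * M').gcd (a * b) = b * M'.gcd a := by
    rw [mul_comm a b, Nat.gcd_mul_left]
  rw [e1, e2] at h3
  have h4 : (powMonoidHom (a * b) : G →* G).range.relIndex f.range = M'.gcd a :=
    Nat.eq_of_mul_eq_mul_right hb0 (by rw [h3, mul_comm])
  rw [h4, Nat.gcd_comm]

end cyc

section gf

variable {n : ℕ} {F : Type*} [Field F] [Fintype F] {q : ℕ}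

/-- the standard graph-field automorphism -/
def zgf (σ : F ≃+* F) : MulAut (Matrix.ProjectiveSpecialLinearGroup (Fin n) F) :=
  fieldAut σ * iota0

omit [Fintype F] in
lemma zgf_mul_Phi (σ : F ≃+* F) (h : GL (Fin n) F) :
    zgf σ * Phi h = Phi (mapGL σ (tGL h))⁻¹ * zgf σ := by
  unfold zgf
  rw [mul_assoc, iota0_Phi, ← mul_assoc, fieldAut_Phi, map_inv, mul_assoc]

omit [Fintype F] in
lemma mem_CentGL_zgf_iff' (σ : F ≃+* F) (h : GL (Fin n) F) :
    h ∈ CentGL (zgf (n := n) σ) ↔ mapGL σ (tGL h) * h ∈ Cfsg.Geo.scalars (Fin n) F := by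
  rw [mem_CentGL_iff, zgf_mul_Phi, ← Phi_eq_one_iff, map_mul]
  constructor
  · intro e
    have e' : Phi h = (Phi (mapGL σ (tGL h)))⁻¹ := mul_right_cancel e
    rw [e', mul_inv_cancel]
  · intro e
    have : Phi h = (Phi (mapGL σ (tGL h)))⁻¹ := eq_inv_of_mul_eq_one_right e
    rw [this, map_inv]

end gf

end Cfsg.Agent.Lib.Helper19.AutPSL
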