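import Mathlib
import Cfsg.Agent.Lib.Helper19.AutPSL17

/-!
# Automorphisms of `PSL_n(q)`, part 18: the centraliser of the standard graph-field involution
(helper19)
-/

set_option autoImplicit false

namespace Cfsg.Agent.Lib.Helper19.AutPSL

open Matrix Cfsg Cfsg.Agent.Lib.Helper19.PSLGraph Cfsg.Agent.Lib.Helper19.PSUGraph
open Cfsg.Agent.Lib.Helper27.Unitary

section gf

variable {n : ℕ} {F : Type*} [Field F] [Fintype F] {q : ℕ}

omit [Fintype F] in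
lemma mapGL_tGL_coe (σ : F ≃+* F) (hσ : ∀ x, σ x = x ^ q) (h : GL (Fin n) F) :
    (mapGL σ (tGL h)).1 = (cjM q h.1)ᵀ := by
  ext i j
  rw [mapGL_coe, tGL_coe]
  simp [cjM, hσ]

lemma mem_CentGL_zgf (hF : Fintype.card F = q ^ 2) (σ : F ≃+* F) (hσ : ∀ x, σ x = x ^ q)
    (h : GL (Fin n) F) :
    h ∈ CentGL (zgf (n := n) σ) ↔
      ∃ c : Fˣ, h.1ᵀ * cjM q h.1 = (c : F) • (1 : Matrix (Fin n) (Fin n) F) := by
  rw [mem_CentGL_zgf_iff', Cfsg.Geo.mem_scalars_iff, Units.val_mul, mapGL_tGL_coe σ hσ]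
  constructor
  · rintro ⟨c, hc⟩
    refine ⟨c ^ q, ?_⟩
    have := congrArg (cjM q) hc
    rw [cjM_mul hF, cjM_transpose, cjM_cjM hF, cjM_smul, cjM_one hF] at this
    rw [this, Units.val_pow_eq_pow_val]
  · rintro ⟨c, hc⟩
    refine ⟨c, ?_⟩
    have := congrArg Matrix.transpose hc
    rw [Matrix.transpose_mul, Matrix.transpose_transpose, Matrix.transpose_smul,
      Matrix.transpose_one] at this
    exact this

lemma mult_fixed (hF : Fintype.card F = q ^ 2) (hn : 1 ≤ n) (h : GL (Fin n) F) (c : F)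
    (hc : h.1ᵀ * cjM q h.1 = c • (1 : Matrix (Fin n) (Fin n) F)) : c ^ q = c := by
  have h1 := congrArg Matrix.transpose hc
  rw [Matrix.transpose_mul, Matrix.transpose_transpose, Matrix.transpose_smul,
    Matrix.transpose_one] at h1
  have h2 := congrArg (cjM q) h1
  rw [cjM_mul hF, cjM_transpose, cjM_cjM hF, cjM_smul, cjM_one hF, hc] at h2
  have := congrFun (congrFun h2 ⟨0, by omega⟩) ⟨0, by omega⟩
  simpa using this.symm

lemma GU_le_CentGL_zgf (hF : Fintype.card F = q ^ 2) (σ : F ≃+* F) (hσ : ∀ x, σ x = x ^ q) :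
    GU n F q ≤ CentGL (zgf (n := n) σ) := by
  intro h hh
  rw [mem_CentGL_zgf hF σ hσ]
  exact ⟨1, by rw [(mat_mem_GU_iff hF h).1 hh, Units.val_one, one_smul]⟩

lemma CentGL_zgf_decomp (hF : Fintype.card F = q ^ 2) (hn : 1 ≤ n) (σ : F ≃+* F)
    (hσ : ∀ x, σ x = x ^ q) (h : GL (Fin n) F) (hh : h ∈ CentGL (zgf (n := n) σ)) :
    ∃ μ : Fˣ, ∃ s ∈ GU n F q, h = scalGL (Fin n) μ * s := by
  obtain ⟨c, hc⟩ := (mem_CentGL_zgf hF σ hσ h).1 hh
  have hcq := mult_fixed hF hn h c hc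
  obtain ⟨m, hm⟩ := nm_surj hF (c : F) hcq
  have hm0 : m ≠ 0 := by
    rintro rfl
    rw [zero_mul] at hm
    exact c.ne_zero hm.symm
  let μ : Fˣ := Units.mk0 m hm0
  refine ⟨μ, (scalGL (Fin n) μ)⁻¹ * h, ?_, by rw [mul_inv_cancel_left]⟩
  rw [mat_mem_GU_iff hF]
  have e1 : ((scalGL (Fin n) μ)⁻¹ * h).1 = m⁻¹ • h.1 := by
    have : (scalGL (Fin n) μ)⁻¹ = scalGL (Fin n) μ⁻¹ := by
      unfold scalGL
      rw [map_inv]
    rw [this, Units.val_mul, scalGL_coe, Matrix.smul_mul, one_mul]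
    simp [μ]
  rw [e1, Matrix.transpose_smul, cjM_smul, Matrix.smul_mul, Matrix.mul_smul, smul_smul, hc, smul_smul]
  have : m⁻¹ * m⁻¹ ^ q * (c : F) = 1 := by
    rw [← hm, inv_pow]
    have hmq : m ^ q ≠ 0 := pow_ne_zero _ hm0
    field_simp
  rw [this, one_smul]

theorem projQuot_CentGL_zgf (hF : Fintype.card F = q ^ 2) (hn : 1 ≤ n) (σ : F ≃+* F)
    (hσ : ∀ x, σ x = x ^ q) :
    Nonempty (Cfsg.projQuot (CentGL (zgf (n := n) σ)) ≃* Cfsg.PGU n F q) := by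
  obtain ⟨e⟩ := projQuot_scalar_ext (GU n F q) (CentGL (zgf (n := n) σ))
    (GU_le_CentGL_zgf hF σ hσ) (by
      intro y hy
      obtain ⟨μ, s, hs, rfl⟩ := CentGL_zgf_decomp hF hn σ hσ y hy
      exact ⟨scalGL (Fin n) μ, scalGL_mem μ, s, hs, rfl⟩)
  exact ⟨e.symm⟩

theorem detCent_zgf (hF : Fintype.card F = q ^ 2) (hn : 1 ≤ n) (σ : F ≃+* F)
    (hσ : ∀ x, σ x = x ^ q) :
    detCent (zgf (n := n) σ) = (powMonoidHom n : Fˣ →* Fˣ).range ⊔ U1 F q := by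
  apply le_antisymm
  · rintro d ⟨h, hh, rfl⟩
    obtain ⟨μ, s, hs, rfl⟩ := CentGL_zgf_decomp hF hn σ hσ h hh
    rw [map_mul, det_scalGL]
    exact Subgroup.mul_mem_sup ⟨μ, rfl⟩ (det_mem_U1 hF s hs)
  · apply sup_le
    · rintro _ ⟨μ, rfl⟩
      refine ⟨scalGL (Fin n) μ, scalars_le_CentGL _ (scalGL_mem μ), ?_⟩
      rw [det_scalGL]
      rfl
    · intro u hu
      obtain ⟨g, hg⟩ := detU_surj (n := n) hF hn ⟨u, hu⟩
      refine ⟨g.1, GU_le_CentGL_zgf hF σ hσ g.2, ?_⟩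
      have := congrArg Subtype.val hg
      rw [detU_coe] at this
      exact this

theorem card_quot_detCent_zgf (hF : Fintype.card F = q ^ 2) (hn : 1 ≤ n) (σ : F ≃+* F)
    (hσ : ∀ x, σ x = x ^ q) :
    Nat.card (Fˣ ⧸ detCent (zgf (n := n) σ)) = Nat.gcd n (q - 1) := by
  classical
  rw [detCent_zgf hF hn σ hσ]
  have hq : 1 ≤ q := by
    rcases Nat.eq_zero_or_pos q with h | h
    · subst h
      have := Fintype.one_lt_card (α := F)
      omega
    · exact h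
  have hcard : Nat.card Fˣ = (q + 1) * (q - 1) := by
    rw [Nat.card_eq_fintype_card, Fintype.card_units, hF]
    obtain ⟨k, rfl⟩ : ∃ k, q = k + 1 := ⟨q - 1, by omega⟩
    have : (k + 1) ^ 2 = (k + 1 + 1) * k + 1 := by ring
    rw [this]
    simp
  unfold U1
  rw [card_quot_pow_sup_ker n (q + 1) (by rw [hcard]; exact Dvd.intro _ rfl) (by omega), hcard,
    Nat.mul_div_cancel_left _ (by omega)]

end gf

end Cfsg.Agent.Lib.Helper19.AutPSL
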