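import Mathlib
import Cfsg.Agent.Lib.Helper19.AutPSL18
import Cfsg.Agent.Lib.Helper24.USim2

/-!
# Automorphisms of `PSL_n(q)`, part 19: involutory graph-field automorphisms (helper19)
-/

set_option autoImplicit false

namespace Cfsg.Agent.Lib.Helper19.AutPSL

open Matrix Cfsg Cfsg.Agent.Lib.Helper19.PSLGraph Cfsg.Agent.Lib.Helper19.PSUGraph

section gf

variable {n : ℕ} {F : Type*} [Field F]

lemma std_eq_fieldAut (σ : F ≃+* F) (φ : MulAut (Matrix.ProjectiveSpecialLinearGroup (Fin n) F))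
    (hφ : Cfsg.IsStdFieldAutPSL σ φ) : φ = fieldAut σ := by
  apply aut_ext
  intro s
  rw [fieldAut_mk]
  exact hφ s (mapSL σ s) rfl

lemma zgf_sq (σ : F ≃+* F) :
    zgf (n := n) σ * zgf σ = fieldAut ((σ : RingAut F) * σ) := by
  unfold zgf
  rw [mul_assoc, ← mul_assoc iota0, ← fieldAut_iota0, mul_assoc, iota0_sq, mul_one,
    ← fieldAutHom_apply, ← fieldAutHom_apply, ← map_mul]

lemma Phi_mem_inndiag (g : GL (Fin n) F) : Phi g ∈ Cfsg.inndiagPSL n F := by
  rw [inndiag_eq]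
  exact ⟨g, rfl⟩

end gf

section main

variable {n : ℕ} {F : Type*} [Field F] [Fintype F] (p : ℕ) [Fact p.Prime] [CharP F p]

include p in
/-- the normal form of an involutory graph-field automorphism -/
theorem gf_normal_form (hn : 3 ≤ n) (x : MulAut (Matrix.ProjectiveSpecialLinearGroup (Fin n) F))
    (hx : Cfsg.IsGraphFieldAutClassPSL x) (hx2 : orderOf x = 2) :
    ∃ (q : ℕ) (σ : F ≃+* F) (g : GL (Fin n) F), Fintype.card F = q ^ 2 ∧ (∀ a, σ a = a ^ q) ∧
      x = Phi g * zgf σ * (Phi g)⁻¹ := by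
  obtain ⟨_, α, φ, γ, σ, hσ, hφ, hγ, e⟩ := hx
  rw [std_eq_fieldAut σ φ hφ, iota_eq γ hγ] at e
  have hzι : iota0 * zgf (n := n) σ = zgf σ * iota0 := by
    unfold zgf
    rw [← mul_assoc, ← fieldAut_iota0]
  have hzf : ∀ τ : F ≃+* F, fieldAut τ * zgf (n := n) σ = zgf σ * fieldAut τ := by
    intro τ
    unfold zgf
    rw [← mul_assoc, fieldAut_comm p τ σ, mul_assoc, fieldAut_iota0, mul_assoc]
  have ex : x = α⁻¹ * zgf σ * α⁻¹⁻¹ := by
    unfold zgf
    rw [← e, inv_inv]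
    group
  obtain ⟨g, hg⟩ := conj_eq_Phi_conj p (by omega) (zgf σ) hzι hzf α⁻¹
  rw [hg] at ex
  -- the involution property
  have hxx : x * x = 1 := by
    rw [← pow_two, ← hx2, pow_orderOf_eq_one]
  have hzz : zgf (n := n) σ * zgf σ = 1 := by
    have : zgf (n := n) σ = (Phi g)⁻¹ * x * Phi g := by
      rw [ex]; group
    rw [this]
    calc (Phi g)⁻¹ * x * Phi g * ((Phi g)⁻¹ * x * Phi g) = (Phi g)⁻¹ * (x * x) * Phi g := by group
      _ = 1 := by rw [hxx]; group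
  rw [zgf_sq, ← fieldAut_one] at hzz
  have hσσ : ((σ : RingAut F) * σ : F ≃+* F) = RingEquiv.refl F := fieldAut_injective (by omega) hzz
  have hinv : ∀ a, σ (σ a) = a := by
    intro a
    have := congrArg (fun τ : F ≃+* F => τ a) hσσ
    exact this
  obtain ⟨q, hq, hfrob⟩ := Cfsg.Agent.Lib.Helper24.USim.sigma_frob σ hσ hinv
  exact ⟨q, σ, g, hq, hfrob, ex⟩

end main

end Cfsg.Agent.Lib.Helper19.AutPSL
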