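import Mathlib
import Cfsg.Prelude.Def_LieTypeDatum
import Cfsg.Agent.Lib.Helper19.PSLSplit2
import Cfsg.Agent.Lib.Helper19.PSLGraph9
import Cfsg.Agent.Lib.Helper19.PSLGraph10

/-!
# Helper19: determinants of symplectic and orthogonal similitudes
-/

set_option autoImplicit false

namespace Cfsg.Agent.Lib.Helper19.PSLGraph

open Matrix Cfsg
open scoped MatrixGroups

section symp

variable {m : ℕ} {F : Type*} [Field F]

/-- The diagonal similitude of the standard alternating form. -/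
def DJ (m : ℕ) (y : F) : Matrix (Fin m ⊕ Fin m) (Fin m ⊕ Fin m) F :=
  Matrix.fromBlocks 1 0 0 (y • (1 : Matrix (Fin m) (Fin m) F))

lemma DJ_congr (y : F) : (DJ m y)ᵀ * Matrix.J (Fin m) F * DJ m y = y • Matrix.J (Fin m) F := by
  unfold DJ Matrix.J
  rw [Matrix.fromBlocks_transpose, Matrix.fromBlocks_multiply, Matrix.fromBlocks_multiply,
    Matrix.fromBlocks_smul]
  simp

lemma DJ_det (y : F) : (DJ m y).det = y ^ m := by
  unfold DJ
  rw [Matrix.det_fromBlocks_zero₂₁, Matrix.det_one, one_mul, Matrix.det_smul, Matrix.det_one, mul_one,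
    Fintype.card_fin]

lemma AJmat_eq : AJmat m F = (Matrix.J (Fin m) F).submatrix (eJ m).symm (eJ m).symm := rfl

lemma J_eq : Matrix.J (Fin m) F = (AJmat m F).submatrix (eJ m) (eJ m) := by
  rw [AJmat_eq, Matrix.submatrix_submatrix]
  simp

/-- Determinant of a symplectic similitude. -/
lemma det_symp_sim (H : Matrix (Fin m ⊕ Fin m) (Fin m ⊕ Fin m) F) (c : F) (hc0 : c ≠ 0)
    (hH : Hᵀ * Matrix.J (Fin m) F * H = c • Matrix.J (Fin m) F) : H.det = c ^ m := by
  have hs : H * DJ m c⁻¹ ∈ Matrix.symplecticGroup (Fin m) F := by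
    rw [_root_.SymplecticGroup.mem_iff', Matrix.transpose_mul]
    calc (DJ m c⁻¹)ᵀ * Hᵀ * Matrix.J (Fin m) F * (H * DJ m c⁻¹)
        = (DJ m c⁻¹)ᵀ * (Hᵀ * Matrix.J (Fin m) F * H) * DJ m c⁻¹ := by simp only [Matrix.mul_assoc]
      _ = Matrix.J (Fin m) F := by
          rw [hH, Matrix.mul_smul, Matrix.smul_mul, DJ_congr, smul_smul, mul_inv_cancel₀ hc0, one_smul]
  have hdet := _root_.SymplecticGroup.det_eq_one hs
  rw [Matrix.det_mul, DJ_det, inv_pow] at hdet
  have hcm : c ^ m ≠ 0 := pow_ne_zero _ hc0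
  field_simp at hdet
  exact hdet

theorem detSim_AJ (m : ℕ) : detSim (AJ m F) = (powMonoidHom m : Fˣ →* Fˣ).range := by
  apply le_antisymm
  · rintro x ⟨h, hh, rfl⟩
    obtain ⟨c, hc⟩ := (mem_SimGL_iff (AJ m F) h).1 hh
    rw [AJ_coe] at hc
    refine ⟨c, ?_⟩
    apply Units.ext
    show ((c ^ m : Fˣ) : F) = h.1.det
    rw [Units.val_pow_eq_pow_val]
    have hH : (h.1.submatrix (eJ m) (eJ m))ᵀ * Matrix.J (Fin m) F * h.1.submatrix (eJ m) (eJ m) =
        (c : F) • Matrix.J (Fin m) F := by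
      rw [J_eq, Matrix.transpose_submatrix, Matrix.submatrix_mul_equiv, Matrix.submatrix_mul_equiv, hc]
      rfl
    have := det_symp_sim _ (c : F) c.ne_zero hH
    rw [Matrix.det_submatrix_equiv_self] at this
    exact this.symm
  · rintro x ⟨y, rfl⟩
    have hdet : ((DJ m (y : F)).submatrix (eJ m).symm (eJ m).symm).det = (y : F) ^ m := by
      rw [Matrix.det_submatrix_equiv_self, DJ_det]
    let D : GL (Fin (2 * m)) F := Matrix.GeneralLinearGroup.mk'' _ (by
      rw [hdet]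
      exact isUnit_iff_ne_zero.2 (pow_ne_zero _ y.ne_zero))
    have hD : D.1 = (DJ m (y : F)).submatrix (eJ m).symm (eJ m).symm := rfl
    refine ⟨D, ?_, ?_⟩
    · rw [SetLike.mem_coe, mem_SimGL_iff]
      refine ⟨y, ?_⟩
      rw [AJ_coe, hD, AJmat_eq, Matrix.transpose_submatrix, Matrix.submatrix_mul_equiv,
        Matrix.submatrix_mul_equiv, DJ_congr]
      rfl
    · apply Units.ext
      show D.1.det = ((y ^ m : Fˣ) : F)
      rw [hD, hdet, Units.val_pow_eq_pow_val]

end symp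

section orth

variable {n : ℕ} {F : Type*} [Field F]

/-- A reflection among the similitudes of a symmetric matrix. -/
lemma exists_refl (h2 : (2 : F) ≠ 0) (hn : 1 ≤ n) (A : GL (Fin n) F) (hA : A.1ᵀ = A.1) :
    ∃ ρ : GL (Fin n) F, ρ.1ᵀ * A.1 * ρ.1 = A.1 ∧ Matrix.GeneralLinearGroup.det ρ = -1 := by
  classical
  have hex : ∃ v : Fin n → F, BA A.1 v v ≠ 0 := by
    by_contra hcon
    push Not at hcon
    have h0 := eq_zero_of_quad_zero h2 A.1 hA hcon
    have hdet := (Matrix.isUnit_iff_isUnit_det _).1 A.isUnit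
    have hne : Nonempty (Fin n) := ⟨⟨0, by omega⟩⟩
    rw [h0, Matrix.det_zero] at hdet
    exact not_isUnit_zero hdet
  obtain ⟨v, hv⟩ := hex
  set Q : F := BA A.1 v v with hQ
  set w : Fin n → F := A.1 *ᵥ v with hw
  set R : Matrix (Fin n) (Fin n) F := 1 + Matrix.vecMulVec (-(2 / Q) • v) w with hR
  have hwv : ∀ u, w ⬝ᵥ u = BA A.1 v u := by
    intro u
    rw [hw, BA_symm A.1 hA v u]
    unfold BA
    rw [dotProduct_comm]
  have hdet : R.det = -1 := by
    rw [hR, Matrix.vecMulVec_eq Unit, Matrix.det_one_add_replicateCol_mul_replicateRow, dotProduct_smul,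
      hwv, smul_eq_mul]
    field_simp
    ring
  have hRu : ∀ u, R *ᵥ u = u + (-(2 / Q) * BA A.1 v u) • v := by
    intro u
    rw [hR, Matrix.add_mulVec, Matrix.one_mulVec, Matrix.vecMulVec_mulVec, hwv, op_smul_eq_smul,
      smul_smul, mul_comm]
  let ρ : GL (Fin n) F := Matrix.GeneralLinearGroup.mk'' R (by rw [hdet]; exact isUnit_one.neg)
  have hρ : ρ.1 = R := rfl
  refine ⟨ρ, ?_, ?_⟩
  · rw [hρ]
    apply eq_of_bil_eq
    intro u u'
    rw [← dot_mulVec_mulVec']
    show BA A.1 (R *ᵥ u) (R *ᵥ u') = BA A.1 u u'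
    rw [hRu, hRu, BA_add_left, BA_add_right, BA_add_right, BA_smul_left, BA_smul_left, BA_smul_right,
      BA_smul_right, BA_symm A.1 hA u v, ← hQ]
    field_simp
    ring
  · apply Units.ext
    show ρ.1.det = ((-1 : Fˣ) : F)
    rw [hρ, hdet]
    simp

/-- The determinants of the similitudes of a symmetric matrix in even dimension, odd characteristic. -/
theorem mem_detSim_symm_iff [Fintype F] (h2 : (2 : F) ≠ 0) (m : ℕ) (hm : 1 ≤ m)
    (A : GL (Fin (2 * m)) F) (hA : A.1ᵀ = A.1) (x : Fˣ) :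
    x ∈ detSim A ↔ x ^ 2 ∈ (powMonoidHom (2 * m) : Fˣ →* Fˣ).range := by
  constructor
  · rintro ⟨h, hh, rfl⟩
    obtain ⟨c, hc⟩ := (mem_SimGL_iff A h).1 hh
    exact ⟨c, (det_sq_of_sim A h c hc).symm⟩
  · rintro ⟨y, hy⟩
    have hy' : y ^ (2 * m) = x ^ 2 := hy
    -- a similitude with multiplier `y`
    have hAy : (scalGL (Fin (2 * m)) y * A).1 = (y : F) • A.1 := by
      rw [Units.val_mul]
      show (Matrix.scalar (Fin (2 * m)) (y : F)) * A.1 = _
      rw [Matrix.scalar_apply, ← Matrix.smul_one_eq_diagonal, Matrix.smul_mul, one_mul]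
    obtain ⟨g, hg⟩ := exists_congr_symm h2 (by omega) (scalGL (Fin (2 * m)) y * A) A
      (by rw [hAy, Matrix.transpose_smul, hA]) hA (by
        rw [hAy, Matrix.det_smul, Fintype.card_fin]
        exact ⟨(y : F) ^ m * A.1.det, by ring⟩)
    rw [hAy] at hg
    have hgS : g ∈ SimGL A := (mem_SimGL_iff A g).2 ⟨y, hg⟩
    have hgd := det_sq_of_sim A g y hg
    obtain ⟨ρ, hρA, hρd⟩ := exists_refl h2 (by omega) A hA
    have hρS : ρ ∈ SimGL A := (mem_SimGL_iff A ρ).2 ⟨1, by rw [Units.val_one, one_smul, hρA]⟩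
    have hx : x = Matrix.GeneralLinearGroup.det g ∨ x = -Matrix.GeneralLinearGroup.det g := by
      have e : (x : F) ^ 2 = (Matrix.GeneralLinearGroup.det g : F) ^ 2 := by
        rw [← Units.val_pow_eq_pow_val, ← Units.val_pow_eq_pow_val, hgd, ← hy']
      have e2 : ((x : F) - (Matrix.GeneralLinearGroup.det g : F)) *
          ((x : F) + (Matrix.GeneralLinearGroup.det g : F)) = 0 := by linear_combination e
      rcases mul_eq_zero.1 e2 with h | h
      · left
        apply Units.ext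
        linear_combination h
      · right
        apply Units.ext
        rw [Units.val_neg]
        linear_combination h
    rcases hx with rfl | rfl
    · exact ⟨g, hgS, rfl⟩
    · refine ⟨ρ * g, mul_mem hρS hgS, ?_⟩
      rw [map_mul, hρd, neg_mul, one_mul]

theorem detSim_symm [Fintype F] (h2 : (2 : F) ≠ 0) (m : ℕ) (hm : 1 ≤ m)
    (A : GL (Fin (2 * m)) F) (hA : A.1ᵀ = A.1) :
    detSim A = ((powMonoidHom (2 * m) : Fˣ →* Fˣ).range).comap (powMonoidHom 2 : Fˣ →* Fˣ) := by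
  ext x
  rw [mem_detSim_symm_iff h2 m hm A hA, Subgroup.mem_comap]
  rfl

end orth

end Cfsg.Agent.Lib.Helper19.PSLGraph
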