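import Mathlib
import Cfsg.Prelude.Def_LieTypeDatum
import Cfsg.Agent.Lib.Helper19.PSUSplit2
import Cfsg.Agent.Lib.Helper19.PSLSplit3

/-!
# Helper19: similitudes with prescribed multiplier and determinant over the fixed field
-/

set_option autoImplicit false

namespace Cfsg.Agent.Lib.Helper19.PSUGraph

open Matrix Cfsg
open Cfsg.Agent.Lib.Helper19.PSLGraph (scalGL scalGL_mem det_scalGL det_sq_of_sim AJ AJmat AJ_coe
  AJmat_transpose exists_congr_alt exists_congr_symm exists_refl J_eq eJ det_symp_sim)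
open scoped MatrixGroups

section rational

variable {K : Type*} [Field K] [Fintype K] {m : ℕ}

lemma cg_one (M : Matrix (Fin (2 * m)) (Fin (2 * m)) K) :
    cg (1 : Matrix (Fin (2 * m)) (Fin (2 * m)) K) M = M := by
  unfold cg
  rw [Matrix.transpose_one, one_mul, mul_one]

/-- Two alternating matrices are congruent. -/
theorem congr_alt_alt' (h2 : (2 : K) ≠ 0) (S S' : GL (Fin (2 * m)) K) (hS : S.1ᵀ = -S.1)
    (hS' : S'.1ᵀ = -S'.1) :
    ∃ t : GL (Fin (2 * m)) K, cg t.1 S.1 = S'.1 := by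
  obtain ⟨g₁, hg₁⟩ := exists_congr_alt h2 m S hS
  obtain ⟨g₂, hg₂⟩ := exists_congr_alt h2 m S' hS'
  refine ⟨g₁⁻¹ * g₂, ?_⟩
  have h1 : cg (g₁⁻¹).1 S.1 = -AJmat m K := by
    apply cg_cancel g₁
    rw [← cg_mul, ← Units.val_mul, inv_mul_cancel, Units.val_one, cg_one]
    unfold cg
    rw [Matrix.mul_neg, Matrix.neg_mul, hg₁, neg_smul, one_smul, neg_neg]
  rw [Units.val_mul, cg_mul, h1]
  unfold cg
  rw [Matrix.mul_neg, Matrix.neg_mul, hg₂, neg_smul, one_smul, neg_neg]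

lemma smulGL_coe (d : Kˣ) (S : GL (Fin (2 * m)) K) :
    (scalGL (Fin (2 * m)) d * S : GL (Fin (2 * m)) K).1 = (d : K) • S.1 := scalGL_mul_coe d S

/-- An alternating matrix has similitudes with every multiplier. -/
theorem exists_sim_alt (h2 : (2 : K) ≠ 0) (S : GL (Fin (2 * m)) K) (hS : S.1ᵀ = -S.1) (d : Kˣ) :
    ∃ t : GL (Fin (2 * m)) K, t.1ᵀ * S.1 * t.1 = (d : K) • S.1 := by
  obtain ⟨t, ht⟩ := congr_alt_alt' h2 S (scalGL (Fin (2 * m)) d * S) hS (by
    rw [smulGL_coe, Matrix.transpose_smul, hS, smul_neg])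
  rw [smulGL_coe] at ht
  exact ⟨t, ht⟩

lemma det_of_sim_AJ (h : Matrix (Fin (2 * m)) (Fin (2 * m)) K) (c : K) (hc0 : c ≠ 0)
    (hc : hᵀ * AJmat m K * h = c • AJmat m K) : h.det = c ^ m := by
  have hH : (h.submatrix (eJ m) (eJ m))ᵀ * Matrix.J (Fin m) K * h.submatrix (eJ m) (eJ m) =
      c • Matrix.J (Fin m) K := by
    rw [J_eq, Matrix.transpose_submatrix, Matrix.submatrix_mul_equiv, Matrix.submatrix_mul_equiv, hc]
    rfl
  have := det_symp_sim _ c hc0 hH
  rw [Matrix.det_submatrix_equiv_self] at this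
  exact this

/-- The determinant of a similitude of an alternating matrix. -/
theorem det_sim_alt (h2 : (2 : K) ≠ 0) (S : GL (Fin (2 * m)) K) (hS : S.1ᵀ = -S.1)
    (t : GL (Fin (2 * m)) K) (d : K) (hd : d ≠ 0) (ht : t.1ᵀ * S.1 * t.1 = d • S.1) :
    t.1.det = d ^ m := by
  obtain ⟨t₀, ht₀⟩ := congr_alt_alt' h2 S (AJ m K) hS (by rw [AJ_coe, AJmat_transpose])
  rw [AJ_coe] at ht₀
  have h1 : cg (t₀⁻¹).1 (AJmat m K) = S.1 := by
    apply cg_cancel t₀
    rw [← cg_mul, ← Units.val_mul, inv_mul_cancel, Units.val_one, cg_one, ht₀]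
  have h3 : cg (t₀⁻¹ * t * t₀ : GL (Fin (2 * m)) K).1 (AJmat m K) = d • AJmat m K := by
    rw [Units.val_mul, Units.val_mul, cg_mul, cg_mul, h1]
    have : cg t.1 S.1 = d • S.1 := ht
    rw [this, cg_smul_right, ht₀]
  have h4 := det_of_sim_AJ _ d hd h3
  rw [Units.val_mul, Units.val_mul, Matrix.det_mul, Matrix.det_mul] at h4
  have h5 : (t₀⁻¹).1.det * t₀.1.det = 1 := by
    rw [← Matrix.det_mul, ← Units.val_mul, inv_mul_cancel, Units.val_one, Matrix.det_one]
  calc t.1.det = (t₀⁻¹).1.det * t.1.det * t₀.1.det := by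
        rw [mul_comm (t₀⁻¹).1.det, mul_assoc, h5, mul_one]
    _ = d ^ m := h4

/-- Similitudes of a symmetric matrix with prescribed multiplier and determinant. -/
theorem exists_sim_symm_det (h2 : (2 : K) ≠ 0) (hm : 1 ≤ m) (S : GL (Fin (2 * m)) K)
    (hS : S.1ᵀ = S.1) (d : Kˣ) (z : K) (hz : z ^ 2 = (d : K) ^ (2 * m)) :
    ∃ t : GL (Fin (2 * m)) K, t.1ᵀ * S.1 * t.1 = (d : K) • S.1 ∧ t.1.det = z := by
  obtain ⟨g, hg⟩ := exists_congr_symm h2 (by omega) (scalGL (Fin (2 * m)) d * S) S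
    (by rw [smulGL_coe, Matrix.transpose_smul, hS]) hS (by
      rw [smulGL_coe, Matrix.det_smul, Fintype.card_fin]
      exact ⟨(d : K) ^ m * S.1.det, by ring⟩)
  rw [smulGL_coe] at hg
  have hgd := det_sq_of_sim S g d hg
  have hgd' : g.1.det ^ 2 = (d : K) ^ (2 * m) := by
    have := congrArg Units.val hgd
    rwa [Units.val_pow_eq_pow_val, Units.val_pow_eq_pow_val] at this
  obtain ⟨ρ, hρS, hρd⟩ := exists_refl h2 (by omega : 1 ≤ 2 * m) S hS
  have hρd' : ρ.1.det = -1 := by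
    have := congrArg Units.val hρd
    rwa [Units.val_neg, Units.val_one] at this
  have e2 : (z - g.1.det) * (z + g.1.det) = 0 := by linear_combination hz - hgd'
  rcases mul_eq_zero.1 e2 with h | h
  · exact ⟨g, hg, by linear_combination -h⟩
  · refine ⟨ρ * g, ?_, ?_⟩
    · rw [Units.val_mul, Matrix.transpose_mul]
      calc g.1ᵀ * ρ.1ᵀ * S.1 * (ρ.1 * g.1) = g.1ᵀ * (ρ.1ᵀ * S.1 * ρ.1) * g.1 := by
            simp only [Matrix.mul_assoc]
        _ = _ := by rw [hρS, hg]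
    · rw [Units.val_mul, Matrix.det_mul, hρd']
      linear_combination -h

end rational

end Cfsg.Agent.Lib.Helper19.PSUGraph
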