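import Mathlib
import Cfsg.Prelude.Def_LieTypeDatum
import Cfsg.Agent.Lib.Helper19.PSUSplit3

/-!
# Helper19: determinants of unitary similitudes through descent
-/

set_option autoImplicit false

namespace Cfsg.Agent.Lib.Helper19.PSUGraph

open Matrix Cfsg
open Cfsg.Agent.Lib.Helper27.Unitary
open Cfsg.Agent.Lib.Helper19.PSLGraph (scalGL scalGL_mem det_scalGL det_sq_of_sim)
open scoped MatrixGroups

section descent

variable {n : ℕ} {F : Type*} [Field F] [Fintype F] {q : ℕ} {F₀ : Type*} [Field F₀]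

/-- From a rational similitude to a unitary one, with explicit scalar. -/
theorem rational_to_unitary' (hF : Fintype.card F = q ^ 2) (j : F₀ →+* F)
    (hfix : ∀ y, (j y) ^ q = j y) {A : Matrix (Fin n) (Fin n) F} {a : GL (Fin n) F}
    {S : Matrix (Fin n) (Fin n) F₀} {κ μ : F}
    (dA : Desc j q A a.1 S κ μ)
    (t : GL (Fin n) F₀) (d : F₀) (ht : t.1ᵀ * S * t.1 = d • S) (ν : Fˣ)
    (hN : ((ν : F) ^ q * (ν : F)) * j d = 1) :
    scalGL (Fin n) ν * a * Matrix.GeneralLinearGroup.map j t * a⁻¹ ∈ GU n F q ∧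
      cg (scalGL (Fin n) ν * a * Matrix.GeneralLinearGroup.map j t * a⁻¹ : GL (Fin n) F).1 A =
        ((ν : F) * (ν : F) * j d) • A := by
  set g : GL (Fin n) F := scalGL (Fin n) ν * a * Matrix.GeneralLinearGroup.map j t * a⁻¹ with hgdef
  set K : Matrix (Fin n) (Fin n) F := t.1.map j with hK
  have hgb : g.1 * a.1 = (ν : F) • (a.1 * K) := by
    have e1 : g * a = scalGL (Fin n) ν * (a * Matrix.GeneralLinearGroup.map j t) := by
      rw [hgdef]
      group
    have e2 := congrArg (fun x : GL (Fin n) F => x.1) e1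
    simp only [Units.val_mul] at e2
    rw [e2]
    show (Matrix.scalar (Fin n) (ν : F)) * (a.1 * K) = _
    rw [Matrix.scalar_apply, ← Matrix.smul_one_eq_diagonal, Matrix.smul_mul, one_mul]
  have hKK : cg K (S.map j) = j d • S.map j := by
    rw [hK, cg_map, ht, smul_map]
  have hKK' : hg q K (S.map j) = j d • S.map j := by
    rw [hK, hg_map j hfix, ht, smul_map]
  refine ⟨?_, ?_⟩
  · rw [mat_mem_GU_iff' hF]
    apply hg_cancel hF a
    rw [← hg_mul hF, hgb, hg_smul_left, hg_mul hF, dA.h2, hg_smul_right, hKK', smul_smul, smul_smul]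
    congr 1
    linear_combination κ * hN
  · apply cg_cancel a
    rw [← cg_mul, hgb, cg_smul_left, cg_mul, dA.h1, cg_smul_right, hKK, cg_smul_right, dA.h1,
      smul_smul, smul_smul, smul_smul]
    congr 1
    ring

omit [Fintype F] in
lemma det_map_GL (j : F₀ →+* F) (t : GL (Fin n) F₀) :
    (Matrix.GeneralLinearGroup.map j t : GL (Fin n) F).1.det = j t.1.det := by
  show (t.1.map j).det = _
  have := RingHom.map_det j t.1
  rw [RingHom.mapMatrix_apply] at this
  exact this.symm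

omit [Fintype F] in
lemma smul_cancel_unit (hn : 1 ≤ n) (M : GL (Fin n) F) {c c' : F} (h : c • M.1 = c' • M.1) : c = c' := by
  by_contra hne
  have h1 : (c - c') • M.1 = 0 := by rw [sub_smul, h, sub_self]
  rcases smul_eq_zero.1 h1 with h2 | h2
  · exact hne (sub_eq_zero.1 h2)
  · have hdet := (Matrix.isUnit_iff_isUnit_det _).1 M.isUnit
    have hne' : Nonempty (Fin n) := ⟨⟨0, by omega⟩⟩
    rw [h2, Matrix.det_zero] at hdet
    exact not_isUnit_zero hdet

/-- The determinants of the unitary similitudes through descent data. -/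
theorem detSimU_desc_iff (hF : Fintype.card F = q ^ 2) (hn : 2 ≤ n) (j : F₀ →+* F)
    (hfix : ∀ y, (j y) ^ q = j y) (hsurj : ∀ x : F, x ^ q = x → ∃ y, j y = x)
    (A : ↥(GU n F q)) (a : GL (Fin n) F) (S : GL (Fin n) F₀) {κ μ : F} (hκ : κ ≠ 0) (hμ : μ ≠ 0)
    (dA : Desc j q A.1.1 a.1 S.1 κ μ) (x : ↥(U1 F q)) :
    x ∈ detSimU hF A ↔ ∃ (t : GL (Fin n) F₀) (d : F₀) (ν : Fˣ), d ≠ 0 ∧
      t.1ᵀ * S.1 * t.1 = d • S.1 ∧ ((ν : F) ^ q * (ν : F)) * j d = 1 ∧
      ((x : Fˣ) : F) = (ν : F) ^ n * j t.1.det := by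
  rw [mem_detSimU_iff]
  constructor
  · rintro ⟨h, hh, hdet⟩
    obtain ⟨c, hc⟩ := (mem_SimGU_iff hF hn A h).1 hh
    obtain ⟨t, d, ν₁, hd0, ht, hat⟩ := unitary_to_rational hF (by omega) j hfix hsurj hκ hμ hμ dA dA
      h.1 h.2 (c : F) c.ne_zero hc
    have hjd : j d ≠ 0 := (map_ne_zero j).2 hd0
    -- the norm relation
    have hP : a.1 * t.1.map j = (ν₁ : F) • (h.1.1 * a.1) := by
      have e2 := congrArg (fun x : GL (Fin n) F => x.1) hat
      simp only [Units.val_mul] at e2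
      have e3 : (Matrix.GeneralLinearGroup.map j t : GL (Fin n) F).1 = t.1.map j := rfl
      rw [e3] at e2
      rw [e2, mul_assoc]
      show (Matrix.scalar (Fin n) (ν₁ : F)) * (h.1.1 * a.1) = _
      rw [Matrix.scalar_apply, ← Matrix.smul_one_eq_diagonal, Matrix.smul_mul, one_mul]
    have hL : hg q (a.1 * t.1.map j) 1 = (κ * j d) • S.1.map j := by
      rw [hg_mul hF, dA.h2, hg_smul_right, hg_map j hfix, ht, smul_map, smul_smul]
    have hR : hg q ((ν₁ : F) • (h.1.1 * a.1)) 1 = ((ν₁ : F) ^ q * ν₁ * κ) • S.1.map j := by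
      rw [hg_smul_left, hg_mul hF, (mat_mem_GU_iff' hF h.1).1 h.2, dA.h2, smul_smul]
    rw [hP, hR] at hL
    have hnorm : (ν₁ : F) ^ q * ν₁ * κ = κ * j d :=
      smul_cancel_unit (by omega) (Matrix.GeneralLinearGroup.map j S) hL
    have hnorm' : (ν₁ : F) ^ q * ν₁ = j d := by
      apply mul_right_cancel₀ hκ
      rw [hnorm, mul_comm]
    refine ⟨t, d, ν₁⁻¹, hd0, ht, ?_, ?_⟩
    · rw [Units.val_inv_eq_inv_val, inv_pow, ← hnorm']
      have := ν₁.ne_zero
      have h3 : (ν₁ : F) ^ q ≠ 0 := pow_ne_zero _ this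
      field_simp
    · have hdets := congrArg (fun x : GL (Fin n) F => x.1.det) hat
      simp only [Units.val_mul, Matrix.det_mul] at hdets
      rw [det_map_GL, PSUGraph.scalGL_coe, Matrix.det_smul, Matrix.det_one, mul_one,
        Fintype.card_fin] at hdets
      have hda : a.1.det ≠ 0 := ((Matrix.isUnit_iff_isUnit_det _).1 a.isUnit).ne_zero
      have hx : ((x : Fˣ) : F) = h.1.1.det := by
        rw [← hdet]
        rfl
      rw [hx, Units.val_inv_eq_inv_val, inv_pow]
      have h3 : (ν₁ : F) ^ n ≠ 0 := pow_ne_zero _ ν₁.ne_zero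
      field_simp
      apply mul_right_cancel₀ hda
      linear_combination -hdets
  · rintro ⟨t, d, ν, hd0, ht, hN, hx⟩
    obtain ⟨hgU, hgc⟩ := rational_to_unitary' hF j hfix dA t d ht ν hN
    have hjd : j d ≠ 0 := (map_ne_zero j).2 hd0
    refine ⟨⟨_, hgU⟩, ?_, ?_⟩
    · rw [mem_SimGU_iff hF hn]
      exact ⟨Units.mk0 _ (mul_ne_zero (mul_ne_zero ν.ne_zero ν.ne_zero) hjd), hgc⟩
    · apply Units.ext
      show (scalGL (Fin n) ν * a * Matrix.GeneralLinearGroup.map j t * a⁻¹ : GL (Fin n) F).1.det = _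
      rw [Units.val_mul, Units.val_mul, Units.val_mul, Matrix.det_mul, Matrix.det_mul, Matrix.det_mul,
        det_map_GL, PSUGraph.scalGL_coe, Matrix.det_smul, Matrix.det_one, mul_one, Fintype.card_fin, hx]
      have hda : a.1.det * (a⁻¹).1.det = 1 := by
        rw [← Matrix.det_mul, ← Units.val_mul, mul_inv_cancel, Units.val_one, Matrix.det_one]
      linear_combination ((ν : F) ^ n * j t.1.det) * hda

end descent

end Cfsg.Agent.Lib.Helper19.PSUGraph
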