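import Mathlib
import Cfsg.Prelude.Def_LieTypeDatum
import Cfsg.Agent.Lib.Helper19.PSUSplit4
import Cfsg.Agent.Lib.Helper27.UOrder

/-!
# Helper19: the fixed field of a field automorphism and the unitary group over it
-/

set_option autoImplicit false

namespace Cfsg.Agent.Lib.Helper19.GUField

open Matrix Cfsg
open Cfsg.Agent.Lib.Helper27.Unitary
open Cfsg.Agent.Lib.Helper19.PSUGraph (U1 mem_U1_iff card_U1 val_mem_U1 scal_mem_GU mat_mem_GU_iff cjM
  cjM_smul cjM_one cjM_apply smul_cancel_unit scalGL_coe)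
open Cfsg.Agent.Lib.Helper19.PSLGraph (scalGL)
open scoped MatrixGroups

section fixedfield

variable {K : Type*} [Field K] [Fintype K]

/-- The subfield fixed by an automorphism. -/
def fixSub (σ : K ≃+* K) : Subfield K := FixedPoints.subfield ↥(Subgroup.zpowers σ) K

omit [Fintype K] in
lemma mem_fixSub (σ : K ≃+* K) (x : K) : x ∈ fixSub σ ↔ σ x = x := by
  unfold fixSub
  constructor
  · intro h
    exact h ⟨σ, Subgroup.mem_zpowers σ⟩
  · intro h g
    obtain ⟨g, hg⟩ := g
    obtain ⟨k, rfl⟩ := Subgroup.mem_zpowers_iff.1 hg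
    show (σ ^ k) x = x
    have hfix : ∀ τ : K ≃+* K, τ x = x → τ⁻¹ x = x := by
      intro τ hτ
      conv_lhs => rw [← hτ]
      exact τ.symm_apply_apply x
    have hpow : ∀ m : ℕ, (σ ^ m) x = x := by
      intro m
      induction m with
      | zero => rfl
      | succ m ih =>
        rw [pow_succ]
        show (σ ^ m) (σ x) = x
        rw [h, ih]
    cases k with
    | ofNat m =>
      rw [Int.ofNat_eq_natCast, zpow_natCast]
      exact hpow m
    | negSucc m =>
      rw [zpow_negSucc]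
      exact hfix _ (hpow _)

noncomputable instance fixSubFintype (σ : K ≃+* K) : Fintype ↥(fixSub σ) := Fintype.ofFinite _

theorem card_fixSub (σ : K ≃+* K) {r Q : ℕ} (hr : orderOf σ = r) (hr0 : 0 < r)
    (hK : Fintype.card K = Q ^ r) : Fintype.card ↥(fixSub σ) = Q := by
  classical
  haveI : Finite (K ≃+* K) :=
    Finite.of_injective (fun τ : K ≃+* K => (τ : K → K)) DFunLike.coe_injective
  haveI : Fintype ↥(Subgroup.zpowers σ) := Fintype.ofFinite _
  have h1 := FixedPoints.finrank_eq_card ↥(Subgroup.zpowers σ) K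
  have h2 : Fintype.card ↥(Subgroup.zpowers σ) = r := by
    rw [← Nat.card_eq_fintype_card, Nat.card_zpowers, hr]
  rw [h2] at h1
  have h3 : Fintype.card K = Fintype.card ↥(fixSub σ) ^ Module.finrank ↥(fixSub σ) K :=
    Module.card_eq_pow_finrank
  have h1' : Module.finrank ↥(fixSub σ) K = r := h1
  rw [h1', hK] at h3
  exact (Nat.pow_left_injective (Nat.pos_iff_ne_zero.1 hr0) h3).symm

/-- The data of the statement. -/
structure Setup (σ : K ≃+* K) (q₀ q r : ℕ) : Prop where
  hr : orderOf σ = r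
  hodd : Odd r
  hq : q = q₀ ^ r
  hK : Fintype.card K = q ^ 2

variable {σ : K ≃+* K} {q₀ q r : ℕ}

lemma Setup.card_fix (S : Setup σ q₀ q r) : Fintype.card ↥(fixSub σ) = q₀ ^ 2 := by
  apply card_fixSub σ S.hr S.hodd.pos
  rw [S.hK, S.hq, ← pow_mul, ← pow_mul, mul_comm]

lemma Setup.pow_sq (S : Setup σ q₀ q r) (x : K) (hx : σ x = x) : x ^ (q₀ ^ 2) = x := by
  have h := FiniteField.pow_card (⟨x, (mem_fixSub σ x).2 hx⟩ : ↥(fixSub σ))
  rw [S.card_fix] at h
  have := congrArg Subtype.val h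
  simpa using this

lemma Setup.pow_q (S : Setup σ q₀ q r) (x : K) (hx : σ x = x) : x ^ q = x ^ q₀ := by
  obtain ⟨k, hk⟩ := S.hodd
  have hpow : ∀ m : ℕ, x ^ ((q₀ ^ 2) ^ m) = x := by
    intro m
    induction m with
    | zero => simp
    | succ m ih => rw [pow_succ, pow_mul, ih, S.pow_sq x hx]
  have : q = (q₀ ^ 2) ^ k * q₀ := by
    rw [S.hq, hk, ← pow_mul, pow_succ]
  rw [this, pow_mul, hpow]

end fixedfield

end Cfsg.Agent.Lib.Helper19.GUField
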