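import Mathlib
import Cfsg.Prelude.Def_LieTypeDatum
import Cfsg.Agent.Lib.Helper19.GUField1

/-!
# Helper19: the unitary group over the fixed field inside the unitary group
-/

set_option autoImplicit false

namespace Cfsg.Agent.Lib.Helper19.GUField

open Matrix Cfsg
open Cfsg.Agent.Lib.Helper27.Unitary
open Cfsg.Agent.Lib.Helper19.PSUGraph (U1 mem_U1_iff card_U1 val_mem_U1 scal_mem_GU mat_mem_GU_iff cjM
  cjM_smul cjM_one cjM_apply smul_cancel_unit scalGL_coe)
open Cfsg.Agent.Lib.Helper19.PSLGraph (scalGL)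
open scoped MatrixGroups

section sub

variable {n : ℕ} {K : Type*} [Field K] [Fintype K] {σ : K ≃+* K} {q₀ q r : ℕ}

/-- The inclusion of the fixed field. -/
def jS (σ : K ≃+* K) : ↥(fixSub σ) →+* K := (fixSub σ).subtype

omit [Fintype K] in
lemma jS_fixed (y : ↥(fixSub σ)) : σ (jS σ y) = jS σ y := (mem_fixSub σ _).1 y.2

lemma cjM_map_jS (S : Setup σ q₀ q r) (M : Matrix (Fin n) (Fin n) ↥(fixSub σ)) :
    cjM q (M.map (jS σ)) = (cjM q₀ M).map (jS σ) := by
  ext i k
  show (jS σ (M i k)) ^ q = jS σ ((M i k) ^ q₀)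
  rw [S.pow_q _ (jS_fixed _), map_pow]

lemma map_mem_GU_of_sub (S : Setup σ q₀ q r) (g : GL (Fin n) ↥(fixSub σ))
    (hg : g ∈ GU n ↥(fixSub σ) q₀) : Matrix.GeneralLinearGroup.map (jS σ) g ∈ GU n K q := by
  rw [mat_mem_GU_iff S.hK]
  have h := (mat_mem_GU_iff S.card_fix g).1 hg
  show (g.1.map (jS σ))ᵀ * cjM q (g.1.map (jS σ)) = 1
  rw [cjM_map_jS S, ← Matrix.transpose_map, ← Matrix.map_mul, h,
    Matrix.map_one _ (map_zero _) (map_one _)]

/-- The unitary group over the fixed field inside the unitary group. -/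
def psiGU (S : Setup σ q₀ q r) : ↥(GU n ↥(fixSub σ) q₀) →* ↥(GU n K q) where
  toFun g := ⟨Matrix.GeneralLinearGroup.map (jS σ) g.1, map_mem_GU_of_sub S g.1 g.2⟩
  map_one' := by
    apply Subtype.ext
    exact map_one _
  map_mul' g h := by
    apply Subtype.ext
    exact map_mul _ g.1 h.1

lemma psiGU_coe (S : Setup σ q₀ q r) (g : ↥(GU n ↥(fixSub σ) q₀)) :
    ((psiGU S g).1 : GL (Fin n) K).1 = g.1.1.map (jS σ) := rfl

lemma psiGU_injective (S : Setup σ q₀ q r) : Function.Injective (psiGU (n := n) S) := by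
  intro g h hgh
  apply Subtype.ext
  apply Units.ext
  apply Matrix.map_injective (jS σ).injective
  have := congrArg (fun x : ↥(GU n K q) => (x.1 : GL (Fin n) K).1) hgh
  exact this

/-- The subgroup of unitary matrices with entries in the fixed field. -/
def fixGU (n : ℕ) (q : ℕ) (σ : K ≃+* K) : Subgroup ↥(GU n K q) where
  carrier := {g | g.1.1.map σ = g.1.1}
  one_mem' := by
    show (1 : Matrix (Fin n) (Fin n) K).map σ = 1
    exact Matrix.map_one _ (map_zero _) (map_one _)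
  mul_mem' := by
    intro a b ha hb
    show (a.1.1 * b.1.1).map σ = a.1.1 * b.1.1
    rw [Matrix.map_mul, ha, hb]
  inv_mem' := by
    intro a ha
    show ((a.1⁻¹ : GL (Fin n) K).1).map σ = (a.1⁻¹ : GL (Fin n) K).1
    have h1 : a.1.1 * (a.1⁻¹ : GL (Fin n) K).1 = 1 := Units.mul_inv a.1
    have h2 : (a.1⁻¹ : GL (Fin n) K).1 * a.1.1 = 1 := Units.inv_mul a.1
    have h3 : a.1.1 * ((a.1⁻¹ : GL (Fin n) K).1).map σ = 1 := by
      have := congrArg (fun M : Matrix (Fin n) (Fin n) K => M.map σ) h1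
      simp only [Matrix.map_mul] at this
      rw [ha, Matrix.map_one _ (map_zero _) (map_one _)] at this
      exact this
    calc ((a.1⁻¹ : GL (Fin n) K).1).map σ
        = ((a.1⁻¹ : GL (Fin n) K).1 * a.1.1) * ((a.1⁻¹ : GL (Fin n) K).1).map σ := by
          rw [h2, one_mul]
      _ = (a.1⁻¹ : GL (Fin n) K).1 := by rw [mul_assoc, h3, mul_one]

lemma mem_fixGU (g : ↥(GU n K q)) : g ∈ fixGU n q σ ↔ g.1.1.map σ = g.1.1 := Iff.rfl

theorem psiGU_range (S : Setup σ q₀ q r) : (psiGU (n := n) S).range = fixGU n q σ := by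
  classical
  ext g
  rw [mem_fixGU]
  constructor
  · rintro ⟨g₀, rfl⟩
    rw [psiGU_coe]
    ext i k
    exact jS_fixed _
  · intro hg
    have hent : ∀ i k, g.1.1 i k ∈ fixSub σ := by
      intro i k
      rw [mem_fixSub]
      exact congrFun (congrFun hg i) k
    obtain ⟨M, hM⟩ : ∃ M : Matrix (Fin n) (Fin n) ↥(fixSub σ), M.map (jS σ) = g.1.1 :=
      ⟨Matrix.of fun i k => ⟨g.1.1 i k, hent i k⟩, by ext i k; rfl⟩
    have hdet : M.det ≠ 0 := by
      intro h0
      have h1 := RingHom.map_det (jS σ) M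
      rw [RingHom.mapMatrix_apply, hM, h0, map_zero] at h1
      exact ((Matrix.isUnit_iff_isUnit_det _).1 g.1.isUnit).ne_zero h1.symm
    obtain ⟨g₀, hg₀⟩ : ∃ g₀ : GL (Fin n) ↥(fixSub σ), g₀.1 = M :=
      ⟨Matrix.GeneralLinearGroup.mkOfDetNeZero M hdet, rfl⟩
    have hU : g₀ ∈ GU n ↥(fixSub σ) q₀ := by
      rw [mat_mem_GU_iff S.card_fix, hg₀]
      apply Matrix.map_injective (jS σ).injective
      show (Mᵀ * cjM q₀ M).map (jS σ) = (1 : Matrix (Fin n) (Fin n) ↥(fixSub σ)).map (jS σ)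
      rw [Matrix.map_mul, ← cjM_map_jS S, Matrix.transpose_map, hM,
        (mat_mem_GU_iff S.hK g.1).1 g.2, Matrix.map_one _ (map_zero _) (map_one _)]
    refine ⟨⟨g₀, hU⟩, ?_⟩
    apply Subtype.ext
    apply Units.ext
    show g₀.1.map (jS σ) = g.1.1
    rw [hg₀, hM]

theorem card_fixGU (S : Setup σ q₀ q r) :
    Nat.card ↥(fixGU n q σ) = q₀ ^ (n * (n - 1) / 2) *
      ∏ i ∈ Finset.range n, (if Even i then q₀ ^ (i + 1) + 1 else q₀ ^ (i + 1) - 1) := by
  rw [← psiGU_range S, ← card_GU S.card_fix n]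
  exact (Nat.card_congr (MonoidHom.ofInjective (psiGU_injective S)).toEquiv).symm

end sub

end Cfsg.Agent.Lib.Helper19.GUField
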