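import Mathlib
import Cfsg.Prelude.Def_LieTypeDatum
import Cfsg.Agent.Lib.Helper19.GUField2

/-!
# Helper19: counting the unitary matrices mapped to a scalar multiple by a field automorphism
-/

set_option autoImplicit false

namespace Cfsg.Agent.Lib.Helper19.GUField

open Matrix Cfsg
open Cfsg.Agent.Lib.Helper27.Unitary
open Cfsg.Agent.Lib.Helper19.PSUGraph (U1 mem_U1_iff card_U1 val_mem_U1 scal_mem_GU mat_mem_GU_iff cjM
  cjM_smul cjM_one cjM_apply smul_cancel_unit scalGL_coe map_mem_GU smul_one_eq_one)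
open Cfsg.Agent.Lib.Helper19.PSLGraph (scalGL)
open scoped MatrixGroups

section count

variable {n : ℕ} {K : Type*} [Field K] [Fintype K] {σ : K ≃+* K} {q₀ q r : ℕ}

omit [Fintype K] in
lemma map_smul_sigma (c : K) (M : Matrix (Fin n) (Fin n) K) :
    (c • M).map σ = σ c • M.map σ :=
  Matrix.map_smul' (σ : K →+* K) c M (map_mul σ)

/-- The subgroup of unitary matrices mapped to a scalar multiple of themselves. -/
def Xs (n : ℕ) (q : ℕ) (σ : K ≃+* K) : Subgroup ↥(GU n K q) where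
  carrier := {g | ∃ c : K, c ≠ 0 ∧ g.1.1.map σ = c • g.1.1}
  one_mem' := by
    refine ⟨1, one_ne_zero, ?_⟩
    show (1 : Matrix (Fin n) (Fin n) K).map σ = (1 : K) • (1 : Matrix (Fin n) (Fin n) K)
    rw [one_smul]
    exact Matrix.map_one _ (map_zero _) (map_one _)
  mul_mem' := by
    rintro a b ⟨c, hc0, hc⟩ ⟨d, hd0, hd⟩
    refine ⟨c * d, mul_ne_zero hc0 hd0, ?_⟩
    show (a.1.1 * b.1.1).map σ = (c * d) • (a.1.1 * b.1.1)
    rw [Matrix.map_mul, hc, hd, Matrix.smul_mul, Matrix.mul_smul, smul_smul]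
  inv_mem' := by
    rintro a ⟨c, hc0, hc⟩
    refine ⟨c⁻¹, inv_ne_zero hc0, ?_⟩
    show ((a.1⁻¹ : GL (Fin n) K).1).map σ = c⁻¹ • (a.1⁻¹ : GL (Fin n) K).1
    have h1 : a.1.1 * (a.1⁻¹ : GL (Fin n) K).1 = 1 := Units.mul_inv a.1
    have h2 : (a.1⁻¹ : GL (Fin n) K).1 * a.1.1 = 1 := Units.inv_mul a.1
    have h3 : a.1.1 * ((a.1⁻¹ : GL (Fin n) K).1).map σ = c⁻¹ • 1 := by
      have := congrArg (fun M : Matrix (Fin n) (Fin n) K => M.map σ) h1
      simp only [Matrix.map_mul] at this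
      rw [hc, Matrix.map_one _ (map_zero _) (map_one _), Matrix.smul_mul] at this
      rw [← this, smul_smul, inv_mul_cancel₀ hc0, one_smul]
    calc ((a.1⁻¹ : GL (Fin n) K).1).map σ
        = ((a.1⁻¹ : GL (Fin n) K).1 * a.1.1) * ((a.1⁻¹ : GL (Fin n) K).1).map σ := by
          rw [h2, one_mul]
      _ = c⁻¹ • (a.1⁻¹ : GL (Fin n) K).1 := by rw [mul_assoc, h3, Matrix.mul_smul, mul_one]

/-- The multiplier. -/
noncomputable def cX (g : ↥(Xs n q σ)) : K := Classical.choose g.2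

lemma cX_ne_zero (g : ↥(Xs n q σ)) : cX g ≠ 0 := (Classical.choose_spec g.2).1

lemma cX_spec (g : ↥(Xs n q σ)) : g.1.1.1.map σ = cX g • g.1.1.1 := (Classical.choose_spec g.2).2

lemma cX_unique (hn : 1 ≤ n) (g : ↥(Xs n q σ)) (c : K) (hc : g.1.1.1.map σ = c • g.1.1.1) :
    cX g = c := by
  apply smul_cancel_unit hn g.1.1
  rw [← hc, cX_spec]

/-- The multiplier homomorphism. -/
noncomputable def cHom (hn : 1 ≤ n) : ↥(Xs n q σ) →* Kˣ :=
  MonoidHom.mk' (fun g => Units.mk0 (cX g) (cX_ne_zero g)) (by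
    intro a b
    apply Units.ext
    rw [Units.val_mul, Units.val_mk0, Units.val_mk0, Units.val_mk0]
    apply cX_unique hn
    show (a.1.1.1 * b.1.1.1).map σ = (cX a * cX b) • (a.1.1.1 * b.1.1.1)
    rw [Matrix.map_mul, cX_spec, cX_spec, Matrix.smul_mul, Matrix.mul_smul, smul_smul])

lemma cHom_apply (hn : 1 ≤ n) (g : ↥(Xs n q σ)) : ((cHom hn g : Kˣ) : K) = cX g := rfl

lemma fixGU_le_Xs : fixGU n q σ ≤ Xs n q σ := by
  intro g hg
  exact ⟨1, one_ne_zero, by rw [one_smul]; exact hg⟩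

lemma cHom_ker (hn : 1 ≤ n) : (cHom (σ := σ) (q := q) hn).ker = (fixGU n q σ).subgroupOf (Xs n q σ) := by
  ext g
  rw [MonoidHom.mem_ker, Subgroup.mem_subgroupOf, mem_fixGU]
  constructor
  · intro h
    have h1 : cX g = 1 := by
      rw [← cHom_apply hn, h, Units.val_one]
    have := cX_spec g
    rw [h1, one_smul] at this
    exact this
  · intro h
    apply Units.ext
    rw [cHom_apply, Units.val_one]
    apply cX_unique hn
    rw [one_smul]
    exact h

/-- The map `λ ↦ σ(λ)/λ` on the norm-one group. -/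
def tauHom (σ : K ≃+* K) (q : ℕ) : ↥(U1 K q) →* Kˣ where
  toFun l := Units.map (σ : K →* K) l.1 * l.1⁻¹
  map_one' := by simp
  map_mul' a b := by
    simp only [Subgroup.coe_mul, map_mul]
    rw [mul_inv, mul_mul_mul_comm]

lemma tauHom_val (l : ↥(U1 K q)) : ((tauHom σ q l : Kˣ) : K) = σ (l.1 : K) * ((l.1 : Kˣ) : K)⁻¹ := by
  show ((Units.map (σ : K →* K) l.1 * l.1⁻¹ : Kˣ) : K) = _
  rw [Units.val_mul, Units.val_inv_eq_inv_val]
  rfl

/-- The norm-one group of the fixed field inside the norm-one group. -/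
def iotaU1 (S : Setup σ q₀ q r) : ↥(U1 ↥(fixSub σ) q₀) →* ↥(U1 K q) where
  toFun l := ⟨Units.map (jS σ : ↥(fixSub σ) →* K) l.1, by
    rw [val_mem_U1]
    have h := (val_mem_U1 l.1).1 l.2
    show jS σ (l.1 : ↥(fixSub σ)) * (jS σ (l.1 : ↥(fixSub σ))) ^ q = 1
    rw [S.pow_q _ (jS_fixed _), ← map_pow, ← map_mul, h, map_one]⟩
  map_one' := by
    apply Subtype.ext
    simp
  map_mul' a b := by
    apply Subtype.ext
    simp

lemma iotaU1_val (S : Setup σ q₀ q r) (l : ↥(U1 ↥(fixSub σ) q₀)) :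
    (((iotaU1 S l : ↥(U1 K q)) : Kˣ) : K) = jS σ (l.1 : ↥(fixSub σ)) := rfl

lemma iotaU1_injective (S : Setup σ q₀ q r) : Function.Injective (iotaU1 S) := by
  intro a b hab
  apply Subtype.ext
  apply Units.ext
  apply (jS σ).injective
  have := congrArg (fun x : ↥(U1 K q) => ((x : Kˣ) : K)) hab
  exact this

lemma iotaU1_range (S : Setup σ q₀ q r) : (iotaU1 S).range = (tauHom σ q).ker := by
  ext l
  rw [MonoidHom.mem_ker]
  have hl0 : ((l : Kˣ) : K) ≠ 0 := (l : Kˣ).ne_zero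
  have hker : tauHom σ q l = 1 ↔ σ ((l : Kˣ) : K) = ((l : Kˣ) : K) := by
    constructor
    · intro h
      have := congrArg Units.val h
      rw [tauHom_val, Units.val_one] at this
      field_simp at this
      exact this
    · intro h
      apply Units.ext
      rw [tauHom_val, Units.val_one, h, mul_inv_cancel₀ hl0]
  rw [hker]
  constructor
  · rintro ⟨l₀, rfl⟩
    rw [iotaU1_val]
    exact jS_fixed _
  · intro h
    have hmem : ((l : Kˣ) : K) ∈ fixSub σ := (mem_fixSub σ _).2 h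
    have hmem' : (((l : Kˣ) : K))⁻¹ ∈ fixSub σ := inv_mem hmem
    let u : (↥(fixSub σ))ˣ := ⟨⟨_, hmem⟩, ⟨_, hmem'⟩, by
      apply Subtype.ext
      exact mul_inv_cancel₀ hl0, by
      apply Subtype.ext
      exact inv_mul_cancel₀ hl0⟩
    have hu : u ∈ U1 ↥(fixSub σ) q₀ := by
      rw [val_mem_U1]
      apply (jS σ).injective
      rw [map_mul, map_pow, map_one, ← S.pow_q _ (jS_fixed _)]
      exact (val_mem_U1 (l : Kˣ)).1 l.2
    refine ⟨⟨u, hu⟩, ?_⟩
    apply Subtype.ext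
    apply Units.ext
    rfl

lemma card_tauHom_ker (S : Setup σ q₀ q r) : Nat.card ↥(tauHom σ q).ker = q₀ + 1 := by
  rw [← iotaU1_range S, ← card_U1 S.card_fix]
  exact (Nat.card_congr (MonoidHom.ofInjective (iotaU1_injective S)).toEquiv).symm

lemma card_tauHom_range (S : Setup σ q₀ q r) : Nat.card ↥(tauHom σ q).range = (q + 1) / (q₀ + 1) := by
  have h1 := (tauHom σ q).ker.card_mul_index
  rw [Subgroup.index_ker, card_tauHom_ker S, card_U1 S.hK] at h1
  exact (Nat.div_eq_of_eq_mul_right (by omega) h1.symm).symm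

end count

end Cfsg.Agent.Lib.Helper19.GUField
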