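import Mathlib
import Cfsg.Prelude.Def_LieTypeDatum
import Cfsg.Agent.Lib.Helper19.GUField3

/-!
# Helper19: the range of the multiplier and the final count
-/

set_option autoImplicit false

namespace Cfsg.Agent.Lib.Helper19.GUField

open Matrix Cfsg
open Cfsg.Agent.Lib.Helper27.Unitary
open Cfsg.Agent.Lib.Helper19.PSUGraph (U1 mem_U1_iff card_U1 val_mem_U1 scal_mem_GU mat_mem_GU_iff cjM
  cjM_smul cjM_one cjM_apply smul_cancel_unit scalGL_coe map_mem_GU smul_one_eq_one)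
open Cfsg.Agent.Lib.Helper19.PSLGraph (scalGL)
open scoped MatrixGroups

section range

variable {n : ℕ} {K : Type*} [Field K] [Fintype K] {σ : K ≃+* K} {q₀ q r : ℕ}

/-- The multiplier of an element of `Xs` has norm one. -/
lemma cX_norm (S : Setup σ q₀ q r) (hn : 1 ≤ n) (g : ↥(Xs n q σ)) : cX g * cX g ^ q = 1 := by
  have h1 := map_mem_GU σ g.1.1 g.1.2
  rw [mat_mem_GU_iff S.hK] at h1
  have e : (Matrix.GeneralLinearGroup.map (σ : K →+* K) g.1.1 : GL (Fin n) K).1 = g.1.1.1.map σ := rfl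
  rw [e, cX_spec, Matrix.transpose_smul, cjM_smul, Matrix.smul_mul, Matrix.mul_smul, smul_smul,
    (mat_mem_GU_iff S.hK g.1.1).1 g.1.2] at h1
  exact smul_one_eq_one hn _ h1

lemma exists_entry_ne_zero (hn : 1 ≤ n) (g : GL (Fin n) K) : ∃ i k, g.1 i k ≠ 0 := by
  by_contra hcon
  push Not at hcon
  have h0 : g.1 = 0 := by
    ext i k
    exact hcon i k
  have h1 : g.1 * (g⁻¹).1 = 1 := Units.mul_inv g
  rw [h0, Matrix.zero_mul] at h1
  have := congrFun (congrFun h1 ⟨0, by omega⟩) ⟨0, by omega⟩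
  simp at this

theorem cHom_range (S : Setup σ q₀ q r) (hn : 1 ≤ n) :
    (cHom (n := n) (σ := σ) (q := q) hn).range = (tauHom σ q).range := by
  ext x
  constructor
  · rintro ⟨g, rfl⟩
    have hc := cX_norm S hn g
    obtain ⟨i, k, he⟩ := exists_entry_ne_zero hn g.1.1
    set e := g.1.1.1 i k with hedef
    have hσe : σ e = cX g * e := by
      have := congrFun (congrFun (cX_spec g) i) k
      exact this
    have hc0 := cX_ne_zero g
    -- the norm of the entry lies in the fixed field of both automorphisms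
    have hν0 : e * e ^ q ≠ 0 := mul_ne_zero he (pow_ne_zero _ he)
    have hσν : σ (e * e ^ q) = e * e ^ q := by
      rw [map_mul, map_pow, hσe, mul_pow]
      linear_combination (e * e ^ q) * hc
    have hνq : (e * e ^ q) ^ q = e * e ^ q := by
      rw [mul_pow, cj_cj S.hK, mul_comm]
    obtain ⟨ν₀, hν₀⟩ : ∃ ν₀ : ↥(fixSub σ), jS σ ν₀ = e * e ^ q :=
      ⟨⟨_, (mem_fixSub σ _).2 hσν⟩, rfl⟩
    have hν₀q : ν₀ ^ q₀ = ν₀ := by
      apply (jS σ).injective
      rw [map_pow, ← S.pow_q _ (jS_fixed _), hν₀, hνq]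
    obtain ⟨μ₀, hμ₀⟩ := nm_surj S.card_fix ν₀ hν₀q
    have hμ : jS σ μ₀ * (jS σ μ₀) ^ q = e * e ^ q := by
      rw [S.pow_q _ (jS_fixed _), ← map_pow, ← map_mul, hμ₀, hν₀]
    have hμ0 : jS σ μ₀ ≠ 0 := by
      intro h0
      rw [h0, zero_mul] at hμ
      exact hν0 hμ.symm
    have hμq0 : (jS σ μ₀) ^ q ≠ 0 := pow_ne_zero _ hμ0
    have hl0 : e / jS σ μ₀ ≠ 0 := div_ne_zero he hμ0
    have hlU : Units.mk0 _ hl0 ∈ U1 K q := by
      rw [val_mem_U1, Units.val_mk0, div_pow]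
      field_simp
      linear_combination -hμ
    refine ⟨⟨Units.mk0 _ hl0, hlU⟩, ?_⟩
    apply Units.ext
    rw [tauHom_val, cHom_apply]
    show σ (e / jS σ μ₀) * (e / jS σ μ₀)⁻¹ = cX g
    rw [map_div₀, jS_fixed, hσe]
    field_simp
  · rintro ⟨l, rfl⟩
    have hl0 : ((l : Kˣ) : K) ≠ 0 := (l : Kˣ).ne_zero
    have hgX : (⟨scalGL (Fin n) (l : Kˣ), scal_mem_GU S.hK (l : Kˣ) l.2⟩ : ↥(GU n K q)) ∈ Xs n q σ := by
      refine ⟨σ ((l : Kˣ) : K) * (((l : Kˣ) : K))⁻¹, mul_ne_zero ((map_ne_zero σ).2 hl0) (inv_ne_zero hl0), ?_⟩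
      show (scalGL (Fin n) (l : Kˣ)).1.map σ = _ • (scalGL (Fin n) (l : Kˣ)).1
      rw [scalGL_coe, map_smul_sigma, Matrix.map_one _ (map_zero _) (map_one _), smul_smul,
        mul_assoc, inv_mul_cancel₀ hl0, mul_one]
    refine ⟨⟨_, hgX⟩, ?_⟩
    apply Units.ext
    rw [cHom_apply, tauHom_val]
    apply cX_unique hn
    show (scalGL (Fin n) (l : Kˣ)).1.map σ = _ • (scalGL (Fin n) (l : Kˣ)).1
    rw [scalGL_coe, map_smul_sigma, Matrix.map_one _ (map_zero _) (map_one _), smul_smul,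
      mul_assoc, inv_mul_cancel₀ hl0, mul_one]

theorem card_Xs (S : Setup σ q₀ q r) (hn : 1 ≤ n) :
    Nat.card ↥(Xs n q σ) = (q + 1) / (q₀ + 1) * (q₀ ^ (n * (n - 1) / 2) *
      ∏ i ∈ Finset.range n, (if Even i then q₀ ^ (i + 1) + 1 else q₀ ^ (i + 1) - 1)) := by
  have h1 := (cHom (n := n) (σ := σ) (q := q) hn).ker.card_mul_index
  rw [Subgroup.index_ker, cHom_range S hn, card_tauHom_range S, cHom_ker hn,
    Nat.card_congr (Subgroup.subgroupOfEquivOfLe fixGU_le_Xs).toEquiv, card_fixGU S] at h1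
  rw [← h1, mul_comm]

end range

end Cfsg.Agent.Lib.Helper19.GUField
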