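import Mathlib
import Cfsg.Agent.Lib.Helper19.AutPSL19
import Cfsg.Agent.Lib.Helper19.GUField4

/-!
# Automorphisms of `PSL_n(q)`, part 20: the centraliser of a standard field automorphism (helper19)
-/

set_option autoImplicit false

namespace Cfsg.Agent.Lib.Helper19.AutPSL

open Matrix Cfsg Cfsg.Agent.Lib.Helper19.PSLGraph Cfsg.Agent.Lib.Helper19.PSUGraph

section fa

variable {n : ℕ} {F : Type*} [Field F] {F₀ : Type*} [Field F₀]

lemma mem_CentGL_fieldAut (σ : F ≃+* F) (h : GL (Fin n) F) :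
    h ∈ CentGL (fieldAut (N := n) σ) ↔ ∃ c : Fˣ, h.1.map σ = (c : F) • h.1 := by
  rw [mem_CentGL_iff, fieldAut_Phi]
  constructor
  · intro e
    have e' : Phi h = Phi (mapGL σ h) := mul_right_cancel e
    have h1 : Phi (mapGL σ h * h⁻¹) = 1 := by
      rw [map_mul, map_inv, ← e', mul_inv_cancel]
    rw [Phi_eq_one_iff, Cfsg.Geo.mem_scalars_iff] at h1
    obtain ⟨c, hc⟩ := h1
    refine ⟨c, ?_⟩
    have h2 : (mapGL σ h).1 = (mapGL σ h * h⁻¹).1 * h.1 := by
      rw [← Units.val_mul, inv_mul_cancel_right]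
    rw [← mapGL_coe, h2, hc, Matrix.smul_mul, one_mul]
  · rintro ⟨c, hc⟩
    have h1 : Phi (mapGL σ h * h⁻¹) = 1 := by
      rw [Phi_eq_one_iff, Cfsg.Geo.mem_scalars_iff]
      refine ⟨c, ?_⟩
      rw [Units.val_mul, mapGL_coe, hc, Matrix.smul_mul, ← Units.val_mul, mul_inv_cancel,
        Units.val_one]
    rw [map_mul, map_inv, mul_inv_eq_one] at h1
    rw [h1]

lemma exists_entry_ne_zero' (hn : 1 ≤ n) (g : GL (Fin n) F) : ∃ i k, g.1 i k ≠ 0 := by
  by_contra hcon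
  push Not at hcon
  have h0 : g.1 = 0 := by
    ext i k
    exact hcon i k
  have h1 : g.1 * (g⁻¹).1 = 1 := Units.mul_inv g
  rw [h0, Matrix.zero_mul] at h1
  have := congrFun (congrFun h1 ⟨0, by omega⟩) ⟨0, by omega⟩
  simp at this

/-- the matrices with entries in a subfield -/
def subGL (j : F₀ →+* F) : GL (Fin n) F₀ →* GL (Fin n) F := Matrix.GeneralLinearGroup.map j

lemma subGL_coe (j : F₀ →+* F) (g : GL (Fin n) F₀) : (subGL j g).1 = g.1.map j := rfl

lemma subGL_mem_CentGL (σ : F ≃+* F) (j : F₀ →+* F) (hj : ∀ b, σ (j b) = j b)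
    (g : GL (Fin n) F₀) : subGL j g ∈ CentGL (fieldAut (N := n) σ) := by
  rw [mem_CentGL_fieldAut]
  refine ⟨1, ?_⟩
  rw [Units.val_one, one_smul, subGL_coe]
  ext i k
  exact hj _

lemma CentGL_fieldAut_decomp (hn : 1 ≤ n) (σ : F ≃+* F) (j : F₀ →+* F)
    (hj : ∀ a : F, σ a = a → ∃ b, j b = a)
    (h : GL (Fin n) F) (hh : h ∈ CentGL (fieldAut (N := n) σ)) :
    ∃ a : Fˣ, ∃ g₀ : GL (Fin n) F₀, h = scalGL (Fin n) a * subGL j g₀ := by
  classical
  obtain ⟨c, hc⟩ := (mem_CentGL_fieldAut σ h).1 hh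
  obtain ⟨i, k, he⟩ := exists_entry_ne_zero' hn h
  set e := h.1 i k with hedef
  have hσe : σ e = c * e := congrFun (congrFun hc i) k
  have hent : ∀ i' k', σ (e⁻¹ * h.1 i' k') = e⁻¹ * h.1 i' k' := by
    intro i' k'
    have h1 : σ (h.1 i' k') = c * h.1 i' k' := congrFun (congrFun hc i') k'
    rw [map_mul, map_inv₀, hσe, h1]
    have hc0 : (c : F) ≠ 0 := c.ne_zero
    field_simp
  choose m hm using fun i' k' => hj _ (hent i' k')
  let M : Matrix (Fin n) (Fin n) F₀ := Matrix.of m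
  have hM : M.map j = e⁻¹ • h.1 := by
    ext i' k'
    exact hm i' k'
  have hdet : M.det ≠ 0 := by
    intro h0
    have h1 := RingHom.map_det j M
    rw [RingHom.mapMatrix_apply, hM, h0, map_zero, Matrix.det_smul] at h1
    have hdh : h.1.det ≠ 0 := ((Matrix.isUnit_iff_isUnit_det _).1 h.isUnit).ne_zero
    exact mul_ne_zero (pow_ne_zero _ (inv_ne_zero he)) hdh h1.symm
  refine ⟨Units.mk0 e he, Matrix.GeneralLinearGroup.mkOfDetNeZero M hdet, ?_⟩
  apply Units.ext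
  rw [Units.val_mul, scalGL_coe, subGL_coe]
  show h.1 = ((Units.mk0 e he : Fˣ) : F) • (1 : Matrix (Fin n) (Fin n) F) * M.map j
  rw [hM, Units.val_mk0, Matrix.smul_mul, one_mul, smul_smul, mul_inv_cancel₀ he, one_smul]

/-- the map from `GL_n` of the subfield to the projective centraliser -/
def psiPGL (σ : F ≃+* F) (j : F₀ →+* F) (hj : ∀ b, σ (j b) = j b) :
    GL (Fin n) F₀ →* Cfsg.projQuot (CentGL (fieldAut (N := n) σ)) :=
  (QuotientGroup.mk' ((Cfsg.Geo.scalars (Fin n) F).subgroupOf (CentGL (fieldAut (N := n) σ)))).comp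
    ((subGL j).codRestrict _ (subGL_mem_CentGL σ j hj))

lemma psiPGL_surj (hn : 1 ≤ n) (σ : F ≃+* F) (j : F₀ →+* F) (hj : ∀ b, σ (j b) = j b)
    (hj' : ∀ a : F, σ a = a → ∃ b, j b = a) : Function.Surjective (psiPGL (n := n) σ j hj) := by
  intro y
  induction y using QuotientGroup.induction_on with
  | H y =>
    obtain ⟨y, hy⟩ := y
    obtain ⟨a, g₀, rfl⟩ := CentGL_fieldAut_decomp hn σ j hj' y hy
    refine ⟨g₀, ?_⟩
    unfold psiPGL
    rw [MonoidHom.comp_apply, QuotientGroup.mk'_apply, QuotientGroup.eq, Subgroup.mem_subgroupOf]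
    show ((subGL j g₀)⁻¹ * (scalGL (Fin n) a * subGL j g₀)) ∈ Cfsg.Geo.scalars (Fin n) F
    have hcomm : scalGL (Fin n) a * subGL j g₀ = subGL j g₀ * scalGL (Fin n) a := by
      apply Units.ext
      rw [Units.val_mul, Units.val_mul, scalGL_coe, Matrix.smul_mul, Matrix.mul_smul, one_mul,
        mul_one]
    rw [hcomm, inv_mul_cancel_left]
    exact scalGL_mem a

lemma psiPGL_ker (hn : 1 ≤ n) (σ : F ≃+* F) (j : F₀ →+* F) (hj : ∀ b, σ (j b) = j b) :
    (psiPGL (n := n) σ j hj).ker = Subgroup.center (GL (Fin n) F₀) := by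
  ext g
  rw [MonoidHom.mem_ker]
  unfold psiPGL
  rw [MonoidHom.comp_apply, QuotientGroup.mk'_apply, QuotientGroup.eq_one_iff,
    Subgroup.mem_subgroupOf]
  show subGL j g ∈ Cfsg.Geo.scalars (Fin n) F ↔ _
  rw [Cfsg.Geo.mem_scalars_iff, Matrix.GeneralLinearGroup.mem_center_iff_val_mem_range_scalar]
  constructor
  · rintro ⟨c, hc⟩
    rw [subGL_coe] at hc
    refine ⟨g.1 ⟨0, by omega⟩ ⟨0, by omega⟩, ?_⟩
    apply Matrix.map_injective j.injective
    show (Matrix.scalar (Fin n) (g.1 ⟨0, by omega⟩ ⟨0, by omega⟩)).map j = g.1.map j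
    rw [hc]
    ext i k
    have h1 := congrFun (congrFun hc i) k
    have h0 := congrFun (congrFun hc ⟨0, by omega⟩) ⟨0, by omega⟩
    simp only [Matrix.map_apply, Matrix.smul_apply, Matrix.one_apply_eq, smul_eq_mul, mul_one] at h0
    rw [Matrix.map_apply, Matrix.scalar_apply, Matrix.diagonal_apply, Matrix.smul_apply,
      Matrix.one_apply, ← h0]
    by_cases hik : i = k
    · simp [hik]
    · simp [hik]
  · rintro ⟨c, hc⟩
    have hc0 : c ≠ 0 := by
      rintro rfl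
      rw [map_zero] at hc
      have h1 : g.1 * (g⁻¹).1 = 1 := Units.mul_inv g
      rw [← hc, Matrix.zero_mul] at h1
      have := congrFun (congrFun h1 ⟨0, by omega⟩) ⟨0, by omega⟩
      simp at this
    refine ⟨Units.mk0 (j c) ((map_ne_zero j).2 hc0), ?_⟩
    rw [subGL_coe, ← hc, Units.val_mk0]
    ext i k
    rw [Matrix.map_apply, Matrix.scalar_apply, Matrix.diagonal_apply, Matrix.smul_apply,
      Matrix.one_apply]
    by_cases hik : i = k
    · simp [hik]
    · simp [hik]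

theorem projQuot_CentGL_fieldAut (hn : 1 ≤ n) (σ : F ≃+* F) (j : F₀ →+* F)
    (hj : ∀ b, σ (j b) = j b) (hj' : ∀ a : F, σ a = a → ∃ b, j b = a) :
    Nonempty (Cfsg.projQuot (CentGL (fieldAut (N := n) σ)) ≃* Matrix.ProjGenLinGroup (Fin n) F₀) := by
  have e1 := QuotientGroup.quotientKerEquivOfSurjective (psiPGL (n := n) σ j hj)
    (psiPGL_surj hn σ j hj hj')
  have e2 := QuotientGroup.quotientMulEquivOfEq (psiPGL_ker hn σ j hj)
  exact ⟨(e2.symm.trans e1).symm⟩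

theorem detCent_fieldAut (hn : 1 ≤ n) (σ : F ≃+* F) (j : F₀ →+* F)
    (hj : ∀ b, σ (j b) = j b) (hj' : ∀ a : F, σ a = a → ∃ b, j b = a) :
    detCent (fieldAut (N := n) σ) =
      (powMonoidHom n : Fˣ →* Fˣ).range ⊔ (Units.map (j : F₀ →* F)).range := by
  apply le_antisymm
  · rintro d ⟨h, hh, rfl⟩
    obtain ⟨a, g₀, rfl⟩ := CentGL_fieldAut_decomp hn σ j hj' h hh
    rw [map_mul, det_scalGL]
    refine Subgroup.mul_mem_sup ⟨a, rfl⟩ ⟨Matrix.GeneralLinearGroup.det g₀, ?_⟩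
    apply Units.ext
    show j g₀.1.det = (g₀.1.map j).det
    exact RingHom.map_det j g₀.1
  · apply sup_le
    · rintro _ ⟨μ, rfl⟩
      refine ⟨scalGL (Fin n) μ, scalars_le_CentGL _ (scalGL_mem μ), ?_⟩
      rw [det_scalGL]
      rfl
    · rintro _ ⟨u, rfl⟩
      have hu0 : (u : F₀) ≠ 0 := u.ne_zero
      refine ⟨subGL j (Dg n ⟨0, by omega⟩ (u : F₀) hu0), subGL_mem_CentGL σ j hj _, ?_⟩
      apply Units.ext
      show ((Dg n ⟨0, by omega⟩ (u : F₀) hu0).1.map j).det = j u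
      rw [← RingHom.mapMatrix_apply, ← RingHom.map_det]
      congr 1
      have := Dg_det n ⟨0, by omega⟩ (u : F₀) hu0
      exact this

end fa

end Cfsg.Agent.Lib.Helper19.AutPSL
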