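import Mathlib
import Cfsg.Agent.Lib.Helper19.AutPSL20

/-!
# Automorphisms of `PSL_n(q)`, part 21: field automorphisms, counting and normal form (helper19)
-/

set_option autoImplicit false

namespace Cfsg.Agent.Lib.Helper19.AutPSL

open Matrix Cfsg Cfsg.Agent.Lib.Helper19.PSLGraph Cfsg.Agent.Lib.Helper19.PSUGraph

section count

variable {F : Type*} [Field F] [Fintype F] {F₀ : Type*} [Field F₀] [Fintype F₀]

theorem units_range_eq_ker (j : F₀ →+* F)
    (hdvd : (Fintype.card F₀ - 1) ∣ (Fintype.card F - 1)) :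
    (Units.map (j : F₀ →* F)).range =
      (powMonoidHom (Fintype.card F₀ - 1) : Fˣ →* Fˣ).ker := by
  classical
  have hle : (Units.map (j : F₀ →* F)).range ≤
      (powMonoidHom (Fintype.card F₀ - 1) : Fˣ →* Fˣ).ker := by
    rintro _ ⟨u, rfl⟩
    rw [MonoidHom.mem_ker]
    show (Units.map (j : F₀ →* F) u) ^ (Fintype.card F₀ - 1) = 1
    rw [← map_pow, ← Fintype.card_units, pow_card_eq_one, map_one]
  apply Subgroup.eq_of_le_of_card_ge hle
  have hinj : Function.Injective (Units.map (j : F₀ →* F)) :=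
    Units.map_injective j.injective
  have hr : Nat.card ↥(Units.map (j : F₀ →* F)).range = Fintype.card F₀ - 1 := by
    rw [← Nat.card_congr (MonoidHom.ofInjective hinj).toEquiv, Nat.card_eq_fintype_card,
      Fintype.card_units]
  rw [IsCyclic.card_powMonoidHom_ker, Nat.card_eq_fintype_card (α := Fˣ), Fintype.card_units,
    Nat.gcd_eq_right hdvd, hr]

end count

section fa

variable {n : ℕ} {F : Type*} [Field F] [Fintype F] {F₀ : Type*} [Field F₀] [Fintype F₀]

theorem card_quot_detCent_fieldAut (hn : 1 ≤ n) (σ : F ≃+* F) (j : F₀ →+* F)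
    (hj : ∀ b, σ (j b) = j b) (hj' : ∀ a : F, σ a = a → ∃ b, j b = a)
    (hdvd : (Fintype.card F₀ - 1) ∣ (Fintype.card F - 1)) :
    Nat.card (Fˣ ⧸ detCent (fieldAut (N := n) σ)) =
      Nat.gcd n ((Fintype.card F - 1) / (Fintype.card F₀ - 1)) := by
  classical
  rw [detCent_fieldAut hn σ j hj hj', units_range_eq_ker j hdvd]
  have h1 : 1 < Fintype.card F₀ := Fintype.one_lt_card
  rw [card_quot_pow_sup_ker n (Fintype.card F₀ - 1)
    (by rw [Nat.card_eq_fintype_card, Fintype.card_units]; exact hdvd) (by omega),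
    Nat.card_eq_fintype_card, Fintype.card_units]

omit [Fintype F] in
lemma orderOf_fieldAut (hn : 2 ≤ n) (σ : F ≃+* F) :
    orderOf (fieldAut (N := n) σ) = orderOf (σ : RingAut F) := by
  rw [← fieldAutHom_apply]
  apply orderOf_injective
  intro a b hab
  exact fieldAut_injective hn hab

end fa

section main

variable {n : ℕ} {F : Type*} [Field F] [Fintype F] (p : ℕ) [Fact p.Prime] [CharP F p]

include p in
/-- the normal form of a field automorphism -/
theorem fa_normal_form (hn : 2 ≤ n) (x : MulAut (Matrix.ProjectiveSpecialLinearGroup (Fin n) F))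
    (hx : Cfsg.IsFieldAutClassPSL x) :
    ∃ (σ : F ≃+* F) (g : GL (Fin n) F), σ ≠ RingEquiv.refl F ∧
      x = Phi g * fieldAut σ * (Phi g)⁻¹ := by
  obtain ⟨α, σ, hσ, hφ⟩ := hx
  have e := std_eq_fieldAut σ _ hφ
  have ex : x = α⁻¹ * fieldAut σ * α⁻¹⁻¹ := by
    rw [← e, inv_inv]
    group
  obtain ⟨g, hg⟩ := conj_eq_Phi_conj p hn (fieldAut (N := n) σ) (fieldAut_iota0 σ).symm
    (fun τ => fieldAut_comm p τ σ) α⁻¹
  rw [hg] at ex
  exact ⟨σ, g, hσ, ex⟩

end main

end Cfsg.Agent.Lib.Helper19.AutPSL
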