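import Mathlib

/-!
# Hilbert's Theorem 90 for `GL_n` over a cyclic extension (helper19)

For a field automorphism `σ` of finite order `r` and a matrix `A` whose twisted norm
`A σ(A) ⋯ σ^{r-1}(A)` is `1` there is an invertible `a` with `A σ(a) = a`.
-/

set_option autoImplicit false

namespace Cfsg.Agent.Lib.Helper19.H90

open Matrix

section defs

variable {n : ℕ} {F : Type*} [Field F]

/-- the iterates of `σ` -/
def sp (σ : F ≃+* F) (k : ℕ) : F ≃+* F := (σ : RingAut F) ^ k

lemma sp_zero (σ : F ≃+* F) (x : F) : sp σ 0 x = x := rfl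

lemma sp_succ (σ : F ≃+* F) (k : ℕ) (x : F) : sp σ (k + 1) x = σ (sp σ k x) := by
  unfold sp
  rw [pow_succ']
  rfl

lemma sp_succ' (σ : F ≃+* F) (k : ℕ) (x : F) : sp σ (k + 1) x = sp σ k (σ x) := by
  unfold sp
  rw [pow_succ]
  rfl

lemma sp_order (σ : F ≃+* F) {r : ℕ} (hr : orderOf (σ : RingAut F) = r) (x : F) :
    sp σ r x = x := by
  unfold sp
  rw [← hr, pow_orderOf_eq_one]
  rfl

/-- the partial twisted norms of a matrix -/
def PN (σ : F ≃+* F) (A : Matrix (Fin n) (Fin n) F) : ℕ → Matrix (Fin n) (Fin n) F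
  | 0 => 1
  | k + 1 => A * (PN σ A k).map σ

lemma PN_zero (σ : F ≃+* F) (A : Matrix (Fin n) (Fin n) F) : PN σ A 0 = 1 := rfl

lemma PN_succ (σ : F ≃+* F) (A : Matrix (Fin n) (Fin n) F) (k : ℕ) :
    PN σ A (k + 1) = A * (PN σ A k).map σ := rfl

lemma map_mul_sigma (σ : F ≃+* F) (A B : Matrix (Fin n) (Fin n) F) :
    (A * B).map σ = A.map σ * B.map σ :=
  Matrix.map_mul (f := (σ : F →+* F))

lemma map_one_sigma (σ : F ≃+* F) : (1 : Matrix (Fin n) (Fin n) F).map σ = 1 :=
  Matrix.map_one _ (map_zero _) (map_one _)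

lemma PN_succ' (σ : F ≃+* F) (A : Matrix (Fin n) (Fin n) F) (k : ℕ) :
    PN σ A (k + 1) = PN σ A k * A.map (sp σ k) := by
  induction k with
  | zero =>
    rw [PN_succ, PN_zero, map_one_sigma, mul_one, one_mul]
    ext i j
    rfl
  | succ k ih =>
    rw [PN_succ, ih, map_mul_sigma, ← Matrix.mul_assoc, ← PN_succ]
    congr 1
    ext i j
    simp only [Matrix.map_apply]
    rw [sp_succ]

/-- the partial norms of a scalar -/
def Nm (σ : F ≃+* F) (c : F) (k : ℕ) : F := ∏ i ∈ Finset.range k, sp σ i c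

lemma Nm_succ (σ : F ≃+* F) (c : F) (k : ℕ) : Nm σ c (k + 1) = c * σ (Nm σ c k) := by
  unfold Nm
  rw [Finset.prod_range_succ', map_prod, sp_zero, mul_comm]
  congr 1
  apply Finset.prod_congr rfl
  intro i _
  rw [sp_succ]

lemma PN_smul (σ : F ≃+* F) (c : F) (A : Matrix (Fin n) (Fin n) F) (k : ℕ) :
    PN σ (c • A) k = Nm σ c k • PN σ A k := by
  induction k with
  | zero =>
    rw [PN_zero, PN_zero]
    unfold Nm
    rw [Finset.range_zero, Finset.prod_empty, one_smul]
  | succ k ih =>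
    rw [PN_succ, ih, PN_succ, Nm_succ, Matrix.smul_mul]
    have : (Nm σ c k • PN σ A k).map σ = σ (Nm σ c k) • (PN σ A k).map σ := by
      ext i j
      simp
    rw [this, Matrix.mul_smul, smul_smul]

lemma PN_one (σ : F ≃+* F) (k : ℕ) : PN σ (1 : Matrix (Fin n) (Fin n) F) k = 1 := by
  induction k with
  | zero => rfl
  | succ k ih => rw [PN_succ, ih, map_one_sigma, one_mul]

end defs

section dedekind

variable {F : Type*} [Field F]

/-- Dedekind's independence of the powers of `σ` -/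
theorem dedekind (σ : F ≃+* F) {r : ℕ} (hr : orderOf (σ : RingAut F) = r) (w : ℕ → F)
    (h : ∀ c : F, ∑ i ∈ Finset.range r, sp σ i c * w i = 0) : ∀ i, i < r → w i = 0 := by
  classical
  let χ : Fin r → (F →* F) := fun i => ((sp σ i.1 : F ≃+* F) : F →+* F)
  have hinj : Function.Injective χ := by
    intro i j hij
    have h1 : (σ : RingAut F) ^ i.1 = (σ : RingAut F) ^ j.1 := by
      apply RingEquiv.ext
      intro x
      have := congrArg (fun f : F →* F => f x) hij
      exact this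
    apply Fin.ext
    have hi : i.1 < orderOf (σ : RingAut F) := by rw [hr]; exact i.2
    have hj : j.1 < orderOf (σ : RingAut F) := by rw [hr]; exact j.2
    exact pow_injOn_Iio_orderOf hi hj h1
  have hli : LinearIndependent F (fun i : Fin r => ((χ i : F →* F) : F → F)) :=
    (linearIndependent_monoidHom F F).comp χ hinj
  rw [Fintype.linearIndependent_iff] at hli
  have h0 : ∑ i : Fin r, w i.1 • ((χ i : F →* F) : F → F) = 0 := by
    funext c
    rw [Finset.sum_apply, Pi.zero_apply, ← h c, ← Fin.sum_univ_eq_sum_range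
      (fun i => sp σ i c * w i) r]
    apply Finset.sum_congr rfl
    intro i _
    rw [Pi.smul_apply, smul_eq_mul, mul_comm]
    rfl
  intro i hi
  exact hli (fun i => w i.1) h0 ⟨i, hi⟩

end dedekind

section main

variable {n : ℕ} {F : Type*} [Field F]

/-- the averaging map -/
def bv (σ : F ≃+* F) (A : Matrix (Fin n) (Fin n) F) (r : ℕ) (v : Fin n → F) : Fin n → F :=
  ∑ i ∈ Finset.range r, PN σ A i *ᵥ (fun t => sp σ i (v t))

lemma sigma_mulVec (σ : F ≃+* F) (M : Matrix (Fin n) (Fin n) F) (v : Fin n → F) :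
    (fun t => σ ((M *ᵥ v) t)) = M.map σ *ᵥ (fun t => σ (v t)) := by
  funext t
  exact RingHom.map_mulVec (σ : F →+* F) M v t

lemma bv_fixed (σ : F ≃+* F) {r : ℕ} (hr : orderOf (σ : RingAut F) = r)
    (A : Matrix (Fin n) (Fin n) F) (hA : PN σ A r = 1) (v : Fin n → F) :
    A *ᵥ (fun t => σ (bv σ A r v t)) = bv σ A r v := by
  have h1 : (fun t => σ (bv σ A r v t)) =
      ∑ i ∈ Finset.range r, (PN σ A i).map σ *ᵥ (fun t => sp σ (i + 1) (v t)) := by
    funext t
    unfold bv
    rw [Finset.sum_apply, map_sum, Finset.sum_apply]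
    apply Finset.sum_congr rfl
    intro i _
    have := congrFun (sigma_mulVec σ (PN σ A i) (fun t => sp σ i (v t))) t
    rw [this]
    congr 2
    funext t'
    rw [sp_succ]
  rw [h1, Matrix.mulVec_sum]
  have h2 : ∀ i ∈ Finset.range r,
      A *ᵥ ((PN σ A i).map σ *ᵥ (fun t => sp σ (i + 1) (v t))) =
        PN σ A (i + 1) *ᵥ (fun t => sp σ (i + 1) (v t)) := by
    intro i _
    rw [Matrix.mulVec_mulVec, ← PN_succ]
  rw [Finset.sum_congr rfl h2]
  have h3 := Finset.sum_range_succ' (fun i => PN σ A i *ᵥ (fun t => sp σ i (v t))) r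
  have h4 := Finset.sum_range_succ (fun i => PN σ A i *ᵥ (fun t => sp σ i (v t))) r
  rw [h4] at h3
  have h5 : PN σ A r *ᵥ (fun t => sp σ r (v t)) = v := by
    rw [hA, Matrix.one_mulVec]
    funext t
    exact sp_order σ hr _
  have h6 : PN σ A 0 *ᵥ (fun t => sp σ 0 (v t)) = v := by
    rw [PN_zero, Matrix.one_mulVec]
    rfl
  rw [h5, h6] at h3
  unfold bv
  exact (add_right_cancel h3).symm

lemma bv_smul (σ : F ≃+* F) (A : Matrix (Fin n) (Fin n) F) (r : ℕ) (c : F) (v : Fin n → F)
    (u : Fin n → F) :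
    u ⬝ᵥ bv σ A r (c • v) =
      ∑ i ∈ Finset.range r, sp σ i c * (u ⬝ᵥ (PN σ A i *ᵥ (fun t => sp σ i (v t)))) := by
  unfold bv
  rw [dotProduct_sum]
  apply Finset.sum_congr rfl
  intro i _
  have : (fun t => sp σ i ((c • v) t)) = sp σ i c • (fun t => sp σ i (v t)) := by
    funext t
    simp
  rw [this, Matrix.mulVec_smul, dotProduct_smul, smul_eq_mul]

theorem functional_zero (σ : F ≃+* F) {r : ℕ} (hr : orderOf (σ : RingAut F) = r) (hr0 : 0 < r)
    (A : Matrix (Fin n) (Fin n) F) (u : Fin n → F) (h : ∀ v, u ⬝ᵥ bv σ A r v = 0) : u = 0 := by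
  have h1 : ∀ v : Fin n → F, u ⬝ᵥ v = 0 := by
    intro v
    have h2 := dedekind σ hr (fun i => u ⬝ᵥ (PN σ A i *ᵥ (fun t => sp σ i (v t))))
      (fun c => by rw [← bv_smul]; exact h _) 0 hr0
    simp only [PN_zero, Matrix.one_mulVec] at h2
    exact h2
  funext i
  have := h1 (Pi.single i 1)
  simpa using this

theorem span_bv (σ : F ≃+* F) {r : ℕ} (hr : orderOf (σ : RingAut F) = r) (hr0 : 0 < r)
    (A : Matrix (Fin n) (Fin n) F) :
    Submodule.span F (Set.range (bv σ A r)) = ⊤ := by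
  by_contra hne
  obtain ⟨f, hf0, hf⟩ := Submodule.exists_le_ker_of_lt_top _ (lt_top_iff_ne_top.2 hne)
  apply hf0
  let u : Fin n → F := fun i => f (Pi.single i 1)
  have hfu : ∀ v : Fin n → F, f v = u ⬝ᵥ v := by
    intro v
    rw [LinearMap.pi_apply_eq_sum_univ f v]
    unfold dotProduct
    apply Finset.sum_congr rfl
    intro i _
    rw [smul_eq_mul, mul_comm]
    congr 2
    funext k
    by_cases hik : k = i
    · subst hik; simp
    · simp [Pi.single_apply, hik, Ne.symm hik]
  have hu : u = 0 := by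
    apply functional_zero σ hr hr0 A u
    intro v
    rw [← hfu]
    exact hf (Submodule.subset_span ⟨v, rfl⟩)
  apply LinearMap.ext
  intro v
  rw [hfu, hu, zero_dotProduct]
  rfl

/-- **Hilbert's Theorem 90** for `GL_n` over a cyclic extension. -/
theorem hilbert90_GL (σ : F ≃+* F) {r : ℕ} (hr : orderOf (σ : RingAut F) = r) (hr0 : 0 < r)
    (A : Matrix (Fin n) (Fin n) F) (hA : PN σ A r = 1) :
    ∃ a : GL (Fin n) F, A * a.1.map σ = a.1 := by
  classical
  obtain ⟨b, hbsub, hbspan, hbli⟩ := exists_linearIndependent F (Set.range (bv σ A r))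
  have hbtop : ⊤ ≤ Submodule.span F (Set.range ((↑) : b → (Fin n → F))) := by
    rw [Subtype.range_coe, hbspan, span_bv σ hr hr0 A]
  let bas : Module.Basis b F (Fin n → F) := Module.Basis.mk hbli hbtop
  haveI : Fintype b := FiniteDimensional.fintypeBasisIndex bas
  have hcard : Fintype.card b = n := by
    rw [← Module.finrank_eq_card_basis bas, Module.finrank_fin_fun]
  let e : b ≃ Fin n := Fintype.equivFinOfCardEq hcard
  let bas' : Module.Basis (Fin n) F (Fin n → F) := bas.reindex e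
  have hmem : ∀ i, bas' i ∈ Set.range (bv σ A r) := by
    intro i
    have : bas' i = ((e.symm i : b) : Fin n → F) := by
      show bas.reindex e i = _
      rw [Module.Basis.reindex_apply]
      exact Module.Basis.mk_apply hbli hbtop _
    rw [this]
    exact hbsub (e.symm i).2
  choose x hx using hmem
  let a0 : Matrix (Fin n) (Fin n) F := (Pi.basisFun F (Fin n)).toMatrix bas'
  have ha0 : ∀ s i, a0 s i = bv σ A r (x i) s := by
    intro s i
    show (Pi.basisFun F (Fin n)).toMatrix bas' s i = _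
    rw [Module.Basis.toMatrix_apply, Pi.basisFun_repr, ← hx i]
  have hunit : IsUnit a0 := by
    haveI := Module.Basis.invertibleToMatrix (Pi.basisFun F (Fin n)) bas'
    exact isUnit_of_invertible a0
  obtain ⟨a, ha⟩ := hunit
  refine ⟨a, ?_⟩
  have ha' : a.1 = a0 := ha
  rw [ha']
  ext s i
  have h1 := congrFun (bv_fixed σ hr A hA (x i)) s
  rw [ha0, ← h1]
  show ∑ k, A s k * σ (a0 k i) = ∑ k, A s k * σ (bv σ A r (x i) k)
  apply Finset.sum_congr rfl
  intro k _
  rw [ha0]

/-- the scalar case -/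
theorem hilbert90_scalar (σ : F ≃+* F) {r : ℕ} (hr : orderOf (σ : RingAut F) = r) (hr0 : 0 < r)
    (c : F) (hc : Nm σ c r = 1) : ∃ x : F, x ≠ 0 ∧ c * σ x = x := by
  have hA : PN σ (c • (1 : Matrix (Fin 1) (Fin 1) F)) r = 1 := by
    rw [PN_smul, PN_one, hc, one_smul]
  obtain ⟨a, ha⟩ := hilbert90_GL σ hr hr0 _ hA
  refine ⟨a.1 0 0, ?_, ?_⟩
  · intro h0
    have h1 : a.1 = 0 := by
      ext i j
      rw [Subsingleton.elim i 0, Subsingleton.elim j 0, h0]
      rfl
    have h2 : a.1 * (a⁻¹).1 = 1 := Units.mul_inv a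
    rw [h1, Matrix.zero_mul] at h2
    have := congrFun (congrFun h2 0) 0
    simp at this
  · have := congrFun (congrFun ha 0) 0
    rw [Matrix.smul_mul, one_mul] at this
    exact this

end main

end Cfsg.Agent.Lib.Helper19.H90
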