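import Mathlib
import Cfsg.Agent.Lib.Helper19.H90Cyclic

/-!
# Surjectivity of the norm of a cyclic extension of finite fields (helper19)
-/

set_option autoImplicit false

namespace Cfsg.Agent.Lib.Helper19.H90

section norm

variable {F : Type*} [Field F]

/-- the units version of an automorphism -/
def uS (σ : F ≃+* F) : Fˣ →* Fˣ := Units.map ((σ : F →+* F) : F →* F)

lemma uS_val (σ : F ≃+* F) (x : Fˣ) : ((uS σ x : Fˣ) : F) = σ x := rfl

/-- the norm on units -/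
def NmU (σ : F ≃+* F) (r : ℕ) : Fˣ →* Fˣ where
  toFun x := ∏ i ∈ Finset.range r, uS (sp σ i) x
  map_one' := by simp
  map_mul' x y := by
    simp only [map_mul]
    rw [Finset.prod_mul_distrib]

lemma NmU_val (σ : F ≃+* F) (r : ℕ) (x : Fˣ) : ((NmU σ r x : Fˣ) : F) = Nm σ (x : F) r := by
  show ((∏ i ∈ Finset.range r, uS (sp σ i) x : Fˣ) : F) = _
  rw [Units.coe_prod]
  rfl

lemma Nm_sigma (σ : F ≃+* F) {r : ℕ} (hr : orderOf (σ : RingAut F) = r) (c : F) :
    Nm σ (σ c) r = Nm σ c r := by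
  unfold Nm
  have h1 := Finset.prod_range_succ' (fun i => sp σ i c) r
  have h2 := Finset.prod_range_succ (fun i => sp σ i c) r
  rw [h2, sp_order σ hr, sp_zero] at h1
  have h3 : ∏ i ∈ Finset.range r, sp σ i (σ c) = ∏ i ∈ Finset.range r, sp σ (i + 1) c := by
    apply Finset.prod_congr rfl
    intro i _
    rw [sp_succ']
  rw [h3]
  by_cases hc : c = 0
  · subst hc
    simp
  · exact (mul_right_cancel₀ hc h1).symm

lemma sigma_Nm (σ : F ≃+* F) {r : ℕ} (hr : orderOf (σ : RingAut F) = r) (c : F) :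
    σ (Nm σ c r) = Nm σ c r := by
  have h1 : σ (Nm σ c r) = Nm σ (σ c) r := by
    unfold Nm
    rw [map_prod]
    apply Finset.prod_congr rfl
    intro i _
    rw [← sp_succ, sp_succ']
  rw [h1, Nm_sigma σ hr]

/-- the map `x ↦ x / σ x` -/
def TU (σ : F ≃+* F) : Fˣ →* Fˣ where
  toFun x := x * (uS σ x)⁻¹
  map_one' := by simp
  map_mul' x y := by
    rw [map_mul, mul_inv]
    exact mul_mul_mul_comm _ _ _ _

/-- the fixed units -/
def fixU (σ : F ≃+* F) : Subgroup Fˣ where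
  carrier := {x | uS σ x = x}
  one_mem' := map_one _
  mul_mem' := by
    intro x y hx hy
    show uS σ (x * y) = x * y
    rw [map_mul, hx, hy]
  inv_mem' := by
    intro x hx
    show uS σ x⁻¹ = x⁻¹
    rw [map_inv, hx]

lemma mem_fixU (σ : F ≃+* F) (x : Fˣ) : x ∈ fixU σ ↔ σ (x : F) = x := by
  show uS σ x = x ↔ _
  rw [Units.ext_iff, uS_val]

lemma TU_ker (σ : F ≃+* F) : (TU σ).ker = fixU σ := by
  ext x
  rw [MonoidHom.mem_ker]
  show x * (uS σ x)⁻¹ = 1 ↔ uS σ x = x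
  rw [mul_inv_eq_one]
  exact eq_comm

lemma TU_range (σ : F ≃+* F) {r : ℕ} (hr : orderOf (σ : RingAut F) = r) (hr0 : 0 < r) :
    (TU σ).range = (NmU σ r).ker := by
  ext c
  rw [MonoidHom.mem_ker]
  constructor
  · rintro ⟨x, rfl⟩
    show NmU σ r (x * (uS σ x)⁻¹) = 1
    rw [map_mul, map_inv, mul_inv_eq_one]
    apply Units.ext
    rw [NmU_val, NmU_val, uS_val, Nm_sigma σ hr]
  · intro hc
    have hc' : Nm σ (c : F) r = 1 := by
      rw [← NmU_val, hc, Units.val_one]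
    obtain ⟨x, hx0, hx⟩ := hilbert90_scalar σ hr hr0 (c : F) hc'
    refine ⟨Units.mk0 x hx0, ?_⟩
    show Units.mk0 x hx0 * (uS σ (Units.mk0 x hx0))⁻¹ = c
    rw [mul_inv_eq_iff_eq_mul]
    apply Units.ext
    rw [Units.val_mul, uS_val, Units.val_mk0, hx]

lemma NmU_range_le (σ : F ≃+* F) {r : ℕ} (hr : orderOf (σ : RingAut F) = r) :
    (NmU σ r).range ≤ fixU σ := by
  rintro _ ⟨x, rfl⟩
  rw [mem_fixU, NmU_val, sigma_Nm σ hr]

theorem NmU_range [Finite F] (σ : F ≃+* F) {r : ℕ} (hr : orderOf (σ : RingAut F) = r)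
    (hr0 : 0 < r) : (NmU σ r).range = fixU σ := by
  apply Subgroup.eq_of_le_of_card_ge (NmU_range_le σ hr)
  have h1 := Subgroup.card_mul_index (TU σ).ker
  have h2 := Subgroup.card_mul_index (NmU σ r).ker
  rw [Subgroup.index_ker] at h1 h2
  rw [TU_range σ hr hr0, TU_ker] at h1
  have h3 : Nat.card ↥(NmU σ r).ker ≠ 0 := Nat.card_pos.ne'
  have h4 : Nat.card ↥(fixU σ) * Nat.card ↥(NmU σ r).ker =
      Nat.card ↥(NmU σ r).range * Nat.card ↥(NmU σ r).ker := by
    rw [h1, mul_comm, h2]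
  exact (Nat.eq_of_mul_eq_mul_right (Nat.pos_of_ne_zero h3) h4).le

/-- the norm is onto the fixed field -/
theorem norm_surj [Finite F] (σ : F ≃+* F) {r : ℕ} (hr : orderOf (σ : RingAut F) = r)
    (hr0 : 0 < r) (c : F) (hc0 : c ≠ 0) (hc : σ c = c) : ∃ x : F, x ≠ 0 ∧ Nm σ x r = c := by
  have h1 : Units.mk0 c hc0 ∈ fixU σ := by
    rw [mem_fixU, Units.val_mk0, hc]
  rw [← NmU_range σ hr hr0] at h1
  obtain ⟨x, hx⟩ := h1
  refine ⟨(x : F), x.ne_zero, ?_⟩
  rw [← NmU_val, hx, Units.val_mk0]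

end norm

end Cfsg.Agent.Lib.Helper19.H90
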