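import Mathlib
import Cfsg.Agent.Lib.Helper19.AutPSL21
import Cfsg.Agent.Lib.Helper19.H90Norm
import Cfsg.Agent.Lib.Helper19.PSUSplit4

/-!
# Automorphisms of `PSL_n(q)`, part 22: the coset of a field automorphism (helper19)

An element of order `r` in the coset `Inndiag · φ` of a standard field automorphism `φ` of
order `r` is conjugate to `φ` under `Inndiag`.
-/

set_option autoImplicit false

namespace Cfsg.Agent.Lib.Helper19.AutPSL

open Matrix Cfsg Cfsg.Agent.Lib.Helper19.PSLGraph Cfsg.Agent.Lib.Helper19.PSUGraph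
open Cfsg.Agent.Lib.Helper19.H90

section coset

variable {n : ℕ} {F : Type*} [Field F]

/-- the partial twisted norms in `GL` -/
def PNgl (σ : F ≃+* F) (d : GL (Fin n) F) : ℕ → GL (Fin n) F
  | 0 => 1
  | k + 1 => d * mapGL σ (PNgl σ d k)

lemma PNgl_coe (σ : F ≃+* F) (d : GL (Fin n) F) (k : ℕ) : (PNgl σ d k).1 = PN σ d.1 k := by
  induction k with
  | zero => rfl
  | succ k ih =>
    show (d * mapGL σ (PNgl σ d k)).1 = _
    rw [Units.val_mul, mapGL_coe, ih, PN_succ]

lemma pow_coset (σ : F ≃+* F) (d : GL (Fin n) F) (k : ℕ) :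
    (Phi d * fieldAut (N := n) σ) ^ k = Phi (PNgl σ d k) * (fieldAut σ) ^ k := by
  induction k with
  | zero =>
    show _ = Phi 1 * _
    rw [pow_zero, pow_zero, map_one, one_mul]
  | succ k ih =>
    rw [pow_succ', ih, pow_succ' (fieldAut σ)]
    show _ = Phi (d * mapGL σ (PNgl σ d k)) * _
    rw [map_mul, mul_assoc (Phi d), ← mul_assoc (fieldAut σ), fieldAut_Phi]
    simp only [mul_assoc]

lemma fieldAut_pow_order (σ : F ≃+* F) {r : ℕ} (hr : orderOf (σ : RingAut F) = r) :
    (fieldAut (N := n) σ) ^ r = 1 := by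
  rw [← fieldAutHom_apply, ← map_pow, ← hr, pow_orderOf_eq_one, map_one]

theorem fieldAut_coset_conj [Finite F] (hn : 1 ≤ n) (σ : F ≃+* F) {r : ℕ}
    (hr : orderOf (σ : RingAut F) = r) (hr0 : 0 < r) (d : GL (Fin n) F)
    (h : (Phi d * fieldAut (N := n) σ) ^ r = 1) :
    ∃ a : GL (Fin n) F, Phi d * fieldAut (N := n) σ = Phi a * fieldAut σ * (Phi a)⁻¹ := by
  rw [pow_coset, fieldAut_pow_order σ hr, mul_one, Phi_eq_one_iff, Cfsg.Geo.mem_scalars_iff] at h
  obtain ⟨c, hc⟩ := h
  rw [PNgl_coe] at hc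
  -- the multiplier is fixed
  have hfix : σ (c : F) = c := by
    have h1 : PN σ d.1 (r + 1) = σ (c : F) • d.1 := by
      rw [PN_succ, hc]
      have : ((c : F) • (1 : Matrix (Fin n) (Fin n) F)).map σ = σ (c : F) • 1 := by
        ext i j
        by_cases hij : i = j
        · simp [hij]
        · simp [hij]
      rw [this, Matrix.mul_smul, mul_one]
    have h2 : PN σ d.1 (r + 1) = (c : F) • d.1 := by
      rw [PN_succ', hc, Matrix.smul_mul, one_mul]
      congr 1
      ext i j
      exact sp_order σ hr _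
    exact smul_cancel_unit hn d (h1.symm.trans h2)
  obtain ⟨e, he0, he⟩ := norm_surj σ hr hr0 ((c : F)⁻¹) (inv_ne_zero c.ne_zero)
    (by rw [map_inv₀, hfix])
  have hA : PN σ (e • d.1) r = 1 := by
    rw [PN_smul, he, hc, smul_smul, inv_mul_cancel₀ c.ne_zero, one_smul]
  obtain ⟨a, ha⟩ := hilbert90_GL σ hr hr0 (e • d.1) hA
  refine ⟨a, ?_⟩
  have h1 : scalGL (Fin n) (Units.mk0 e he0) * d * mapGL σ a = a := by
    apply Units.ext
    rw [Units.val_mul, Units.val_mul, scalGL_coe, Matrix.smul_mul, one_mul, mapGL_coe,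
      Units.val_mk0]
    exact ha
  have h2 : Phi d * Phi (mapGL σ a) = Phi a := by
    have := congrArg Phi h1
    rw [map_mul, map_mul, (Phi_eq_one_iff _).2 (scalGL_mem _), one_mul] at this
    exact this
  have h3 : fieldAut (N := n) σ * (Phi a)⁻¹ = (Phi (mapGL σ a))⁻¹ * fieldAut σ := by
    rw [← map_inv, fieldAut_Phi, map_inv, map_inv]
  rw [mul_assoc, h3, ← h2]
  group

end coset

end Cfsg.Agent.Lib.Helper19.AutPSL
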