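import Mathlib
import Cfsg.Agent.Lib.Helper19.AutPSL22
import Cfsg.Agent.Lib.Helper19.PSUGraph3
import Cfsg.Agent.Lib.Helper19.PSLGraph10

/-!
# Automorphisms of `PSL_n(q)`, part 23: the coset of a graph-field involution (helper19)
-/

set_option autoImplicit false

namespace Cfsg.Agent.Lib.Helper19.AutPSL

open Matrix Cfsg Cfsg.Agent.Lib.Helper19.PSLGraph Cfsg.Agent.Lib.Helper19.PSUGraph
open Cfsg.Agent.Lib.Helper27.Unitary

section herm

variable {n : ℕ} {F : Type*} [Field F] [Fintype F] {q : ℕ}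

/-- every invertible Hermitian matrix is `a * (cjM a)ᵀ` -/
theorem herm_std (hF : Fintype.card F = q ^ 2) (D : GL (Fin n) F) (hD : (cjM q D.1)ᵀ = D.1) :
    ∃ a : GL (Fin n) F, D.1 = a.1 * (cjM q a.1)ᵀ := by
  classical
  let f : (Fin n → F) → (Fin n → F) → F := fun u v => u ⬝ᵥ (D.1 *ᵥ cjV q v)
  have hform : Cfsg.Agent.Lib.Helper24.USim.HForm q f := by
    refine ⟨?_, ?_, ?_, ?_⟩
    · intro x y v
      exact add_dotProduct _ _ _
    · intro c x v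
      show (c • x) ⬝ᵥ _ = c * _
      rw [smul_dotProduct, smul_eq_mul]
    · intro v w
      show v ⬝ᵥ (D.1 *ᵥ cjV q w) = (w ⬝ᵥ (D.1 *ᵥ cjV q v)) ^ q
      have h1 : (w ⬝ᵥ (D.1 *ᵥ cjV q v)) ^ q = cjV q w ⬝ᵥ cjV q (D.1 *ᵥ cjV q v) :=
        RingHom.map_dotProduct (conjHom hF) w (D.1 *ᵥ cjV q v)
      have hD' : D.1ᵀ = cjM q D.1 := by
        conv_lhs => rw [← hD]
        rw [Matrix.transpose_transpose]
      calc v ⬝ᵥ (D.1 *ᵥ cjV q w) = (D.1 *ᵥ cjV q w) ⬝ᵥ v := dotProduct_comm _ _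
        _ = (cjV q w ᵥ* D.1ᵀ) ⬝ᵥ v := by rw [Matrix.vecMul_transpose]
        _ = cjV q w ⬝ᵥ (D.1ᵀ *ᵥ v) := (Matrix.dotProduct_mulVec _ _ _).symm
        _ = cjV q w ⬝ᵥ (cjM q D.1 *ᵥ v) := by rw [hD']
        _ = (w ⬝ᵥ (D.1 *ᵥ cjV q v)) ^ q := by rw [h1, cjV_mulVec hF, cjV_cjV hF]
    · intro v hv
      have hvD : v ᵥ* D.1 ≠ 0 := by
        intro h0
        apply hv
        have : v = (v ᵥ* D.1) ᵥ* (D⁻¹).1 := by
          rw [Matrix.vecMul_vecMul, ← Units.val_mul, mul_inv_cancel, Units.val_one,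
            Matrix.vecMul_one]
        rw [this, h0, Matrix.zero_vecMul]
      obtain ⟨i, hi⟩ : ∃ i, (v ᵥ* D.1) i ≠ 0 := by
        by_contra hcon
        push Not at hcon
        exact hvD (funext hcon)
      refine ⟨cjV q (Pi.single i 1), ?_⟩
      show v ⬝ᵥ (D.1 *ᵥ cjV q (cjV q (Pi.single i 1))) ≠ 0
      rw [cjV_cjV hF, Matrix.dotProduct_mulVec]
      simpa using hi
  obtain ⟨Pg, hP⟩ := Cfsg.Agent.Lib.Helper24.USim.exists_std hF hform
  have hmat : Pg.1ᵀ * D.1 * cjM q Pg.1 = 1 := by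
    apply eq_of_bil_eq
    intro u w
    have h := hP u (cjV q w)
    rw [hermForm_eq, cjV_cjV hF] at h
    rw [Matrix.one_mulVec, ← h]
    show _ = (Pg.1 *ᵥ u) ⬝ᵥ (D.1 *ᵥ cjV q (Pg.1 *ᵥ cjV q w))
    rw [cjV_mulVec hF, cjV_cjV hF, ← Matrix.vecMul_transpose Pg.1 u, ← Matrix.dotProduct_mulVec,
      Matrix.mulVec_mulVec, Matrix.mulVec_mulVec, Matrix.mul_assoc]
  refine ⟨tGL Pg⁻¹, ?_⟩
  rw [tGL_coe, cjM_transpose, Matrix.transpose_transpose]
  have h1 : (Pg⁻¹).1ᵀ * Pg.1ᵀ = 1 := by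
    rw [← Matrix.transpose_mul, Units.mul_inv, Matrix.transpose_one]
  have h2 : cjM q Pg.1 * cjM q (Pg⁻¹).1 = 1 := by
    rw [← cjM_mul hF, Units.mul_inv, cjM_one hF]
  calc D.1 = ((Pg⁻¹).1ᵀ * Pg.1ᵀ) * D.1 * (cjM q Pg.1 * cjM q (Pg⁻¹).1) := by
        rw [h1, h2, one_mul, mul_one]
    _ = (Pg⁻¹).1ᵀ * (Pg.1ᵀ * D.1 * cjM q Pg.1) * cjM q (Pg⁻¹).1 := by
        simp only [Matrix.mul_assoc]
    _ = (Pg⁻¹).1ᵀ * cjM q (Pg⁻¹).1 := by rw [hmat, mul_one]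

end herm

section coset

variable {n : ℕ} {F : Type*} [Field F] [Fintype F] {q : ℕ}

lemma zgf_mul_self (hF : Fintype.card F = q ^ 2) (σ : F ≃+* F) (hσ : ∀ x, σ x = x ^ q) :
    zgf (n := n) σ * zgf σ = 1 := by
  rw [zgf_sq]
  have : ((σ : RingAut F) * σ : F ≃+* F) = RingEquiv.refl F := by
    apply RingEquiv.ext
    intro x
    show σ (σ x) = x
    rw [hσ, hσ, cj_cj hF]
  rw [this, fieldAut_one]

theorem zgf_coset_conj (hF : Fintype.card F = q ^ 2) (hn : 1 ≤ n) (σ : F ≃+* F)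
    (hσ : ∀ x, σ x = x ^ q) (d : GL (Fin n) F) (h : (Phi d * zgf (n := n) σ) ^ 2 = 1) :
    ∃ a : GL (Fin n) F, Phi d * zgf (n := n) σ = Phi a * zgf σ * (Phi a)⁻¹ := by
  have hzz := zgf_mul_self (n := n) hF σ hσ
  have h1 : (Phi d * zgf (n := n) σ) ^ 2 = Phi (d * (mapGL σ (tGL d))⁻¹) := by
    rw [pow_two, mul_assoc, ← mul_assoc (zgf σ), zgf_mul_Phi, mul_assoc, hzz, mul_one, ← map_mul]
  rw [h1, Phi_eq_one_iff, Cfsg.Geo.mem_scalars_iff] at h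
  obtain ⟨c, hc⟩ := h
  have hd : d.1 = (c : F) • (cjM q d.1)ᵀ := by
    calc d.1 = (d * (mapGL σ (tGL d))⁻¹).1 * (mapGL σ (tGL d)).1 := by
          rw [← Units.val_mul, inv_mul_cancel_right]
      _ = (c : F) • (cjM q d.1)ᵀ := by
          rw [hc, Matrix.smul_mul, one_mul, mapGL_tGL_coe σ hσ]
  -- the multiplier has norm one
  have hcc : (c : F) * (c : F) ^ q = 1 := by
    have h2 : (cjM q d.1)ᵀ = (c : F) ^ q • d.1 := by
      conv_lhs => rw [hd]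
      rw [cjM_smul, cjM_transpose, cjM_cjM hF, Matrix.transpose_smul, Matrix.transpose_transpose]
    have h3 : (1 : F) • d.1 = ((c : F) * (c : F) ^ q) • d.1 := by
      rw [one_smul]
      conv_lhs => rw [hd, h2, smul_smul]
    exact (smul_cancel_unit hn d h3).symm
  obtain ⟨ν, hν0, hν⟩ := hilbert90_scalar hF (c : F) hcc
  let D : GL (Fin n) F := scalGL (Fin n) (Units.mk0 ν hν0) * d
  have hDcoe : D.1 = ν • d.1 := by
    show (scalGL (Fin n) (Units.mk0 ν hν0) * d).1 = _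
    rw [Units.val_mul, scalGL_coe, Matrix.smul_mul, one_mul, Units.val_mk0]
  have hDherm : (cjM q D.1)ᵀ = D.1 := by
    rw [hDcoe, cjM_smul, Matrix.transpose_smul, hν]
    conv_rhs => rw [hd]
    rw [smul_smul, mul_comm]
  obtain ⟨a, ha⟩ := herm_std hF D hDherm
  refine ⟨a, ?_⟩
  have h4 : D = a * mapGL σ (tGL a) := by
    apply Units.ext
    show D.1 = a.1 * (mapGL σ (tGL a)).1
    rw [mapGL_tGL_coe σ hσ, ha]
  have h5 : Phi d = Phi a * Phi (mapGL σ (tGL a)) := by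
    have := congrArg Phi h4
    rw [map_mul, map_mul, (Phi_eq_one_iff _).2 (scalGL_mem _), one_mul] at this
    exact this
  have h6 : zgf (n := n) σ * (Phi a)⁻¹ = Phi (mapGL σ (tGL a)) * zgf σ := by
    rw [← map_inv, zgf_mul_Phi, tGL_inv, map_inv (mapGL σ), inv_inv]
  rw [mul_assoc (Phi a), h6, h5]
  group

end coset

end Cfsg.Agent.Lib.Helper19.AutPSL
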