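import Mathlib
import Cfsg.Agent.Lib.Helper19.AutPSL23

/-!
# Automorphisms of `PSL_n(q)`, part 24: the order of a graph-field automorphism is even (helper19)
-/

set_option autoImplicit false

namespace Cfsg.Agent.Lib.Helper19.AutPSL

open Matrix Cfsg Cfsg.Agent.Lib.Helper19.PSLGraph Cfsg.Agent.Lib.Helper19.PSUGraph

section ne

variable {n : ℕ} {F : Type*} [Field F]

/-- the inverse-transpose automorphism is not a field automorphism -/
theorem iota0_ne_fieldAut (hn : 2 ≤ n) (τ : F ≃+* F) :
    (iota0 : MulAut (Matrix.ProjectiveSpecialLinearGroup (Fin n) F)) ≠ fieldAut τ := by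
  intro h
  let i : Fin n := ⟨0, by omega⟩
  let j : Fin n := ⟨1, by omega⟩
  have hij : i ≠ j := by
    intro e
    have := congrArg Fin.val e
    simp [i, j] at this
  have h1 := congrFun (congrArg DFunLike.coe h) (QuotientGroup.mk (tv i j hij))
  rw [fieldAut_tv, iota0_mk, tSL_inv] at h1
  have h2 : (QuotientGroup.mk (tSL (tv i j hij) * tv i j hij) :
      Matrix.ProjectiveSpecialLinearGroup (Fin n) F) = QuotientGroup.mk 1 := by
    rw [QuotientGroup.mk_mul, ← h1, ← QuotientGroup.mk_mul, mul_inv_cancel]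
  rw [mk_eq_iff] at h2
  obtain ⟨r, hr, hr'⟩ := h2
  have h3 := congrFun (congrFun hr' i) j
  have h4 : ((tSL (tv i j hij) * tv i j hij : Matrix.SpecialLinearGroup (Fin n) F) :
      Matrix (Fin n) (Fin n) F) =
      1 + single i j (1 : F) + single j i (1 : F) + single j j (1 : F) := by
    show ((tv i j hij : Matrix.SpecialLinearGroup (Fin n) F) : Matrix (Fin n) (Fin n) F)ᵀ *
      ((tv i j hij : Matrix.SpecialLinearGroup (Fin n) F) : Matrix (Fin n) (Fin n) F) = _
    rw [tv_coe, Matrix.transpose_add, Matrix.transpose_one, Matrix.transpose_single,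
      Matrix.add_mul, Matrix.mul_add, Matrix.mul_add, one_mul, mul_one, one_mul,
      Matrix.single_mul_single_same, mul_one]
    abel
  rw [h4] at h3
  have hji : j ≠ i := Ne.symm hij
  simp [hij, hji] at h3
  rw [← h3] at hr
  have hn0 : n ≠ 0 := by omega
  simp [hn0] at hr

lemma iota0_pow_odd (k : ℕ) :
    (iota0 : MulAut (Matrix.ProjectiveSpecialLinearGroup (Fin n) F)) ^ (2 * k + 1) = iota0 := by
  rw [pow_succ, pow_mul, pow_two, iota0_sq, one_pow, one_mul]

/-- a graph-field automorphism of prime order has order two -/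
theorem gf_order_two (hn : 2 ≤ n) (σ : F ≃+* F) {r : ℕ} (hr : r.Prime)
    (h : (zgf (n := n) σ) ^ r = 1) : r = 2 := by
  rcases hr.eq_two_or_odd' with h2 | hodd
  · exact h2
  · exfalso
    obtain ⟨k, rfl⟩ := hodd
    unfold zgf at h
    have hc : Commute (fieldAut (N := n) σ) iota0 := fieldAut_iota0 σ
    rw [hc.mul_pow, iota0_pow_odd, ← fieldAutHom_apply, ← map_pow, fieldAutHom_apply] at h
    have h1 : (iota0 : MulAut (Matrix.ProjectiveSpecialLinearGroup (Fin n) F)) =
        fieldAut (((σ : RingAut F) ^ (2 * k + 1))⁻¹ : RingAut F) := by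
      rw [← fieldAutHom_apply, map_inv, fieldAutHom_apply]
      exact eq_inv_of_mul_eq_one_right h
    exact iota0_ne_fieldAut hn _ h1

end ne

end Cfsg.Agent.Lib.Helper19.AutPSL
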