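-- Finite groups whose commutators and squares lie in a central subgroup of order two:
-- large abelian subgroups.
import Mathlib

set_option autoImplicit false

namespace Cfsg.Agent.Lib.Helper19.C2Central

variable {H : Type*} [Group H]

theorem mem_centralizer_singleton (x g : H) :
    g ∈ Subgroup.centralizer ({x} : Set H) ↔ x * g = g * x := by
  rw [Subgroup.mem_centralizer_iff]
  constructor
  · intro h; exact h x rfl
  · intro h y hy; rw [Set.mem_singleton_iff.1 hy]; exact h

/-- The centraliser of an element has index at most two. -/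
theorem index_centralizer_le_two (z : H) (hz : ∀ g, g * z = z * g) (hz2 : z * z = 1)
    (hcomm : ∀ x y : H, x * y = y * x ∨ x * y = z * (y * x)) (x : H) :
    (Subgroup.centralizer ({x} : Set H)).index ≤ 2 := by
  by_cases htop : Subgroup.centralizer ({x} : Set H) = ⊤
  · rw [htop, Subgroup.index_top]; norm_num
  · obtain ⟨y₀, hy₀⟩ : ∃ y₀, y₀ ∉ Subgroup.centralizer ({x} : Set H) := by
      by_contra hcon
      push Not at hcon
      exact htop (eq_top_iff.2 fun g _ => hcon g)
    have hnot : ∀ g, g ∉ Subgroup.centralizer ({x} : Set H) → g * x = z * (x * g) := by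
      intro g hg
      rcases hcomm g x with h | h
      · exact absurd ((mem_centralizer_singleton x g).2 h.symm) hg
      · exact h
    apply le_of_eq
    rw [Subgroup.index_eq_two_iff]
    refine ⟨y₀, fun b => ?_⟩
    by_cases hb : b ∈ Subgroup.centralizer ({x} : Set H)
    · refine Or.inr ⟨hb, fun h => hy₀ ?_⟩
      have := Subgroup.mul_mem _ (Subgroup.inv_mem _ hb) h
      rwa [inv_mul_cancel_left] at this
    · refine Or.inl ⟨?_, hb⟩
      rw [mem_centralizer_singleton]
      have h1 := hnot b hb
      have h2 := hnot y₀ hy₀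
      symm
      calc b * y₀ * x = b * (y₀ * x) := by rw [mul_assoc]
        _ = b * (z * (x * y₀)) := by rw [h2]
        _ = z * (b * x) * y₀ := by rw [← mul_assoc b z, hz b]; simp only [mul_assoc]
        _ = z * (z * (x * b)) * y₀ := by rw [h1]
        _ = (z * z) * (x * b * y₀) := by simp only [mul_assoc]
        _ = x * (b * y₀) := by rw [hz2, one_mul, mul_assoc]

theorem two_mul_card_le_of_lt [Finite H] {K K' : Subgroup H} (hle : K ≤ K') (hne : K ≠ K') :
    2 * Nat.card K ≤ Nat.card K' := by
  obtain ⟨d, hd⟩ := Subgroup.card_dvd_of_le hle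
  have hpos : 0 < Nat.card K := Nat.card_pos
  have hpos' : 0 < Nat.card K' := Nat.card_pos
  have hd1 : d ≠ 1 := by
    intro h
    apply hne
    apply Subgroup.eq_of_le_of_card_ge hle
    rw [hd, h, mul_one]
  have hd0 : d ≠ 0 := by
    intro h
    rw [h, mul_zero] at hd
    omega
  have : 2 ≤ d := by omega
  rw [hd, mul_comm]
  exact Nat.mul_le_mul_left _ this

/-- Halving of centralisers. -/
theorem card_le_two_mul_inf_centralizer [Finite H] (z : H) (hz : ∀ g, g * z = z * g)
    (hz2 : z * z = 1) (hcomm : ∀ x y : H, x * y = y * x ∨ x * y = z * (y * x))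
    (C : Subgroup H) (x : H) :
    Nat.card C ≤ 2 * Nat.card (C ⊓ Subgroup.centralizer ({x} : Set H) : Subgroup H) := by
  have h1 := Subgroup.card_mul_index C
  have h2 := Subgroup.card_mul_index (C ⊓ Subgroup.centralizer ({x} : Set H))
  have h3 := Subgroup.index_inf_le (H := C) (K := Subgroup.centralizer ({x} : Set H))
  have h4 := index_centralizer_le_two z hz hz2 hcomm x
  have hidx : 0 < C.index := Nat.pos_of_ne_zero (Subgroup.index_ne_zero_of_finite)
  have h5 : (C ⊓ Subgroup.centralizer ({x} : Set H)).index ≤ C.index * 2 :=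
    le_trans h3 (Nat.mul_le_mul_left _ h4)
  have h6 : Nat.card C * C.index ≤
      Nat.card (C ⊓ Subgroup.centralizer ({x} : Set H) : Subgroup H) * (C.index * 2) := by
    rw [h1, ← h2]
    exact Nat.mul_le_mul_left _ h5
  have h7 : Nat.card C * C.index ≤
      (2 * Nat.card (C ⊓ Subgroup.centralizer ({x} : Set H) : Subgroup H)) * C.index := by
    calc Nat.card C * C.index ≤ _ := h6
      _ = _ := by ring
  exact Nat.le_of_mul_le_mul_right h7 hidx

/-- There is an abelian subgroup `A` containing the centre with `|H| |Z(H)| ≤ |A|²`. -/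
theorem exists_large_abelian [Finite H] (z : H) (hz : ∀ g, g * z = z * g) (hz2 : z * z = 1)
    (hcomm : ∀ x y : H, x * y = y * x ∨ x * y = z * (y * x)) :
    ∃ A : Subgroup H, (∀ a ∈ A, ∀ b ∈ A, a * b = b * a) ∧
      Nat.card H * Nat.card (Subgroup.center H) ≤ Nat.card A * Nat.card A := by
  have key : ∀ n : ℕ, ∀ K : Subgroup H, Nat.card H - Nat.card K = n →
      (∀ a ∈ K, ∀ b ∈ K, a * b = b * a) →
      Nat.card H * Nat.card (Subgroup.center H)
        ≤ Nat.card (Subgroup.centralizer (K : Set H)) * Nat.card K →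
      ∃ A : Subgroup H, (∀ a ∈ A, ∀ b ∈ A, a * b = b * a) ∧
        Nat.card H * Nat.card (Subgroup.center H) ≤ Nat.card A * Nat.card A := by
    intro n
    induction n using Nat.strong_induction_on with
    | _ n ih =>
      intro K hn hKab hinv
      by_cases hCK : Subgroup.centralizer (K : Set H) ≤ K
      · exact ⟨K, hKab, le_trans hinv (Nat.mul_le_mul_right _ (Subgroup.card_le_of_le hCK))⟩
      · obtain ⟨x, hxC, hxK⟩ := SetLike.not_le_iff_exists.1 hCK
        rw [Subgroup.mem_centralizer_iff] at hxC
        have hgen : ∀ a ∈ ((K : Set H) ∪ {x}), ∀ b ∈ ((K : Set H) ∪ {x}), a * b = b * a := by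
          rintro a (ha | ha) b (hb | hb)
          · exact hKab a ha b hb
          · rw [Set.mem_singleton_iff.1 hb]; exact hxC a ha
          · rw [Set.mem_singleton_iff.1 ha]; exact (hxC b hb).symm
          · rw [Set.mem_singleton_iff.1 ha, Set.mem_singleton_iff.1 hb]
        obtain ⟨K', hK'⟩ : ∃ K' : Subgroup H, K' = Subgroup.closure ((K : Set H) ∪ {x}) :=
          ⟨_, rfl⟩
        have hKK' : K ≤ K' := by
          rw [hK']
          exact fun a ha => Subgroup.subset_closure (Or.inl ha)
        have hxK' : x ∈ K' := by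
          rw [hK']
          exact Subgroup.subset_closure (Or.inr rfl)
        have hne : K ≠ K' := fun h => hxK (h ▸ hxK')
        have hK'ab : ∀ a ∈ K', ∀ b ∈ K', a * b = b * a := by
          intro a ha b hb
          rw [hK'] at ha hb
          letI := Subgroup.closureCommGroupOfComm hgen
          have := mul_comm (⟨a, ha⟩ : Subgroup.closure ((K : Set H) ∪ {x})) ⟨b, hb⟩
          exact congrArg Subtype.val this
        have hcard := two_mul_card_le_of_lt hKK' hne
        have hcent : Subgroup.centralizer (K : Set H) ⊓ Subgroup.centralizer ({x} : Set H)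
            ≤ Subgroup.centralizer (K' : Set H) := by
          intro g hg
          rw [Subgroup.mem_inf, Subgroup.mem_centralizer_iff, mem_centralizer_singleton] at hg
          have hsub : K' ≤ Subgroup.centralizer ({g} : Set H) := by
            rw [hK', Subgroup.closure_le]
            rintro a (ha | ha)
            · exact (mem_centralizer_singleton g a).2 (hg.1 a ha).symm
            · rw [Set.mem_singleton_iff.1 ha]
              exact (mem_centralizer_singleton g x).2 hg.2.symm
          rw [Subgroup.mem_centralizer_iff]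
          intro a ha
          exact ((mem_centralizer_singleton g a).1 (hsub ha)).symm
        have h1 := card_le_two_mul_inf_centralizer z hz hz2 hcomm
          (Subgroup.centralizer (K : Set H)) x
        have h2 := Subgroup.card_le_of_le hcent
        have hinv' : Nat.card H * Nat.card (Subgroup.center H)
            ≤ Nat.card (Subgroup.centralizer (K' : Set H)) * Nat.card K' := by
          calc Nat.card H * Nat.card (Subgroup.center H)
              ≤ Nat.card (Subgroup.centralizer (K : Set H)) * Nat.card K := hinv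
            _ ≤ (2 * Nat.card (Subgroup.centralizer (K : Set H) ⊓
                  Subgroup.centralizer ({x} : Set H) : Subgroup H)) * Nat.card K :=
                Nat.mul_le_mul_right _ h1
            _ = Nat.card (Subgroup.centralizer (K : Set H) ⊓
                  Subgroup.centralizer ({x} : Set H) : Subgroup H) * (2 * Nat.card K) := by ring
            _ ≤ Nat.card (Subgroup.centralizer (K' : Set H)) * Nat.card K' :=
                Nat.mul_le_mul h2 hcard
        have hK'le : Nat.card K' ≤ Nat.card H := Subgroup.card_le_card_group K'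
        have hKpos : 0 < Nat.card K := Nat.card_pos
        exact ih (Nat.card H - Nat.card K') (by omega) K' rfl hK'ab hinv'
  refine key _ (Subgroup.center H) rfl ?_ ?_
  · intro a ha b _
    exact (Subgroup.mem_center_iff.1 ha b).symm
  · have : Subgroup.centralizer ((Subgroup.center H : Subgroup H) : Set H) = ⊤ := by
      rw [eq_top_iff]
      intro g _
      rw [Subgroup.mem_centralizer_iff]
      intro c hc
      exact (Subgroup.mem_center_iff.1 hc g).symm
    rw [this, Subgroup.card_top]

/-- In an abelian subgroup, the elements of square one form a subgroup of index at most two. -/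
theorem card_le_two_mul_card_sq_one [Finite H] (z : H) (hz2 : z * z = 1)
    (hsq : ∀ x : H, x * x = 1 ∨ x * x = z) (A : Subgroup H)
    (hA : ∀ a ∈ A, ∀ b ∈ A, a * b = b * a) :
    ∃ A₁ : Subgroup H, A₁ ≤ A ∧ (∀ a ∈ A₁, a * a = 1) ∧ Nat.card A ≤ 2 * Nat.card A₁ := by
  have hmulsq : ∀ a ∈ A, ∀ b ∈ A, (a * b) * (a * b) = (a * a) * (b * b) := by
    intro a ha b hb
    calc a * b * (a * b) = a * (b * a) * b := by simp only [mul_assoc]
      _ = a * (a * b) * b := by rw [hA b hb a ha]
      _ = a * a * (b * b) := by simp only [mul_assoc]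
  obtain ⟨A₁, hA₁⟩ : ∃ A₁ : Subgroup H, ∀ g, g ∈ A₁ ↔ g ∈ A ∧ g * g = 1 :=
    ⟨{ carrier := {g | g ∈ A ∧ g * g = 1}
       mul_mem' := by
         rintro a b ⟨ha, ha2⟩ ⟨hb, hb2⟩
         exact ⟨A.mul_mem ha hb, by rw [hmulsq a ha b hb, ha2, hb2, one_mul]⟩
       one_mem' := ⟨A.one_mem, one_mul 1⟩
       inv_mem' := by
         rintro a ⟨ha, ha2⟩
         refine ⟨A.inv_mem ha, ?_⟩
         have : a⁻¹ = a := inv_eq_of_mul_eq_one_left ha2
         rw [this, ha2] }, fun g => Iff.rfl⟩
  have hle : A₁ ≤ A := fun g hg => ((hA₁ g).1 hg).1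
  refine ⟨A₁, hle, fun a ha => ((hA₁ a).1 ha).2, ?_⟩
  by_cases heq : A₁ = A
  · rw [heq]; omega
  · obtain ⟨a₀, ha₀A, ha₀⟩ : ∃ a₀ ∈ A, a₀ ∉ A₁ := by
      by_contra hcon
      push Not at hcon
      exact heq (le_antisymm hle hcon)
    have ha₀sq : a₀ * a₀ = z := by
      rcases hsq a₀ with h | h
      · exact absurd ((hA₁ a₀).2 ⟨ha₀A, h⟩) ha₀
      · exact h
    -- every element of `A` lies in `A₁` or in `a₀ A₁`
    have hcover : ∀ a ∈ A, a ∈ A₁ ∨ a₀⁻¹ * a ∈ A₁ := by
      intro a ha
      rcases hsq a with h | h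
      · exact Or.inl ((hA₁ a).2 ⟨ha, h⟩)
      · right
        rw [hA₁]
        refine ⟨A.mul_mem (A.inv_mem ha₀A) ha, ?_⟩
        rw [hmulsq _ (A.inv_mem ha₀A) a ha, h, ← mul_inv_rev, ha₀sq]
        have : z⁻¹ = z := inv_eq_of_mul_eq_one_left hz2
        rw [this, hz2]
    -- injection of `A` into `A₁ × Bool`
    classical
    have hinj : Nat.card A ≤ Nat.card (A₁ × Bool) := by
      apply Nat.card_le_card_of_injective
        (fun a : A => if h : (a : H) ∈ A₁ then ((⟨a, h⟩ : A₁), true)
          else ((⟨a₀⁻¹ * a, (hcover a a.2).resolve_left h⟩ : A₁), false))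
      intro a b hab
      by_cases ha : (a : H) ∈ A₁ <;> by_cases hb : (b : H) ∈ A₁
      · simp only [ha, hb, dif_pos, Prod.mk.injEq, Subtype.mk.injEq, and_true] at hab
        exact Subtype.ext hab
      · simp only [ha, hb, dif_pos, dif_neg, not_false_eq_true, Prod.mk.injEq] at hab
        exact absurd hab.2 (by simp)
      · simp only [ha, hb, dif_pos, dif_neg, not_false_eq_true, Prod.mk.injEq] at hab
        exact absurd hab.2 (by simp)
      · simp only [ha, hb, dif_neg, not_false_eq_true, Prod.mk.injEq, Subtype.mk.injEq,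
          and_true] at hab
        exact Subtype.ext (mul_left_cancel hab)
    rw [Nat.card_prod, Nat.card_eq_fintype_card (α := Bool), Fintype.card_bool] at hinj
    omega

end Cfsg.Agent.Lib.Helper19.C2Central

namespace Cfsg.Agent.Lib.Helper19.C2Central

section dedekind

variable {H : Type*} [Group H]

/-- The commutator `y x y⁻¹ x⁻¹`. -/
def cm (y x : H) : H := y * x * y⁻¹ * x⁻¹

theorem conj_eq_cm_mul (y x : H) : y * x * y⁻¹ = cm y x * x := by
  unfold cm; group

theorem cm_cases (z : H) (hcomm : ∀ x y : H, x * y = y * x ∨ x * y = z * (y * x)) (y x : H) :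
    cm y x = 1 ∨ cm y x = z := by
  unfold cm
  rcases hcomm y x with h | h
  · left; rw [h]; group
  · right; rw [h]; group

theorem cm_mul_left (z : H) (hz : ∀ g, g * z = z * g)
    (hcomm : ∀ x y : H, x * y = y * x ∨ x * y = z * (y * x)) (y y' x : H) :
    cm (y * y') x = cm y x * cm y' x := by
  have hc : ∀ g, g * cm y' x = cm y' x * g := by
    intro g
    rcases cm_cases z hcomm y' x with h | h
    · rw [h]; simp
    · rw [h]; exact hz g
  calc cm (y * y') x = y * (cm y' x * x) * y⁻¹ * x⁻¹ := by
        rw [← conj_eq_cm_mul]; unfold cm; group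
    _ = cm y' x * (y * x * y⁻¹ * x⁻¹) := by
        rw [← mul_assoc y, hc y]; simp only [mul_assoc]
    _ = cm y x * cm y' x := by
        rw [← hc]; rfl

variable {F : Type*} [Field F]

/-- The sign of an element of `{1, z}`. -/
noncomputable def sgn (F : Type*) [Field F] (g : H) : F := by
  classical exact if g = 1 then 1 else -1

theorem sgn_one : sgn F (1 : H) = 1 := by
  unfold sgn; simp

theorem sgn_of_ne {g : H} (hg : g ≠ 1) : sgn F g = -1 := by
  unfold sgn; simp [hg]

theorem sgn_mul (z : H) (hz1 : z ≠ 1) (hz2 : z * z = 1) (a b : H) (ha : a = 1 ∨ a = z)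
    (hb : b = 1 ∨ b = z) : sgn F (a * b) = sgn F a * sgn F b := by
  rcases ha with rfl | rfl <;> rcases hb with rfl | rfl
  · simp [sgn_one]
  · simp [sgn_one]
  · simp [sgn_one]
  · rw [hz2, sgn_one, sgn_of_ne hz1]; ring

/-- The commutation character attached to `x`. -/
noncomputable def chi (F : Type*) [Field F] (z : H) (hz : ∀ g, g * z = z * g) (hz1 : z ≠ 1)
    (hz2 : z * z = 1) (hcomm : ∀ x y : H, x * y = y * x ∨ x * y = z * (y * x)) (x : H) :
    H →* F where
  toFun y := sgn F (cm y x)
  map_one' := by
    have : cm (1 : H) x = 1 := by unfold cm; group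
    rw [this, sgn_one]
  map_mul' y y' := by
    rw [cm_mul_left z hz hcomm, sgn_mul z hz1 hz2 _ _ (cm_cases z hcomm y x)
      (cm_cases z hcomm y' x)]

theorem chi_apply (z : H) (hz : ∀ g, g * z = z * g) (hz1 : z ≠ 1)
    (hz2 : z * z = 1) (hcomm : ∀ x y : H, x * y = y * x ∨ x * y = z * (y * x)) (x y : H) :
    chi F z hz hz1 hz2 hcomm x y = sgn F (cm y x) := rfl

/-- If the centre is `{1, z}` and `ρ` is a matrix representation with `ρ z = -1`, then
`|H| ≤ 2 n²`. -/
theorem card_le_of_center [Finite H] {n : Type*} [Fintype n] [DecidableEq n] [Nonempty n]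
    (h2 : (2 : F) ≠ 0) (z : H) (hz : ∀ g, g * z = z * g) (hz1 : z ≠ 1) (hz2 : z * z = 1)
    (hcomm : ∀ x y : H, x * y = y * x ∨ x * y = z * (y * x))
    (ρ : H →* Matrix n n F) (hρz : ρ z = -1)
    (hcenter : ∀ x : H, (∀ y, x * y = y * x) → x = 1 ∨ x = z) :
    Nat.card H ≤ 2 * (Fintype.card n * Fintype.card n) := by
  classical
  have hne : (1 : F) ≠ -1 := by
    intro h
    apply h2
    have : (2 : F) = 1 + 1 := by norm_num
    rw [this]
    nth_rewrite 2 [h]
    ring
  -- conjugation relation
  have hconj : ∀ y x : H, ρ y * ρ x * ρ y⁻¹ = chi F z hz hz1 hz2 hcomm x y • ρ x := by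
    intro y x
    rw [← map_mul, ← map_mul, conj_eq_cm_mul, map_mul, chi_apply]
    rcases cm_cases z hcomm y x with h | h
    · rw [h, map_one, sgn_one, one_mul, one_smul]
    · rw [h, hρz, sgn_of_ne hz1]; simp
  -- equal characters give the same coset of the centre
  have hfib : ∀ x x' : H, chi F z hz hz1 hz2 hcomm x = chi F z hz hz1 hz2 hcomm x' →
      x' = x ∨ x' = x * z := by
    intro x x' h
    have hcm : ∀ y, cm y x = cm y x' := by
      intro y
      have h1 := DFunLike.congr_fun h y
      rw [chi_apply, chi_apply] at h1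
      rcases cm_cases z hcomm y x with ha | ha <;> rcases cm_cases z hcomm y x' with hb | hb
      · rw [ha, hb]
      · rw [ha, hb, sgn_one, sgn_of_ne hz1] at h1; exact absurd h1 hne
      · rw [ha, hb, sgn_one, sgn_of_ne hz1] at h1; exact absurd h1.symm hne
      · rw [ha, hb]
    have hcen : ∀ y, (x⁻¹ * x') * y = y * (x⁻¹ * x') := by
      intro y
      have e1 := conj_eq_cm_mul y x
      have e2 := conj_eq_cm_mul y x'
      rw [← hcm y] at e2
      have e3 : y * (x⁻¹ * x') * y⁻¹ = x⁻¹ * x' := by
        calc y * (x⁻¹ * x') * y⁻¹ = (y * x * y⁻¹)⁻¹ * (y * x' * y⁻¹) := by group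
          _ = x⁻¹ * x' := by rw [e1, e2]; group
      calc x⁻¹ * x' * y = (y * (x⁻¹ * x') * y⁻¹) * y := by rw [e3]
        _ = y * (x⁻¹ * x') := by group
    rcases hcenter _ hcen with h1 | h1
    · left
      have := congrArg (fun g => x * g) h1
      simpa using this
    · right
      have := congrArg (fun g => x * g) h1
      simpa using this
  -- the set of characters and a section
  haveI : Fintype H := Fintype.ofFinite H
  let S : Set (H →* F) := Set.range (chi F z hz hz1 hz2 hcomm)
  haveI : Finite S := Set.finite_range _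
  haveI : Fintype S := Fintype.ofFinite S
  have hsec : ∀ φ : S, ∃ x : H, chi F z hz hz1 hz2 hcomm x = φ.1 := fun φ => φ.2
  choose s hs using hsec
  -- linear independence of the matrices `ρ (s φ)`
  have hli : LinearIndependent F (fun φ : S => ρ (s φ)) := by
    rw [Fintype.linearIndependent_iff]
    intro g hg φ₀
    have hded : LinearIndependent F (fun φ : S => ((φ.1 : H →* F) : H → F)) :=
      (linearIndependent_monoidHom H F).comp _ Subtype.val_injective
    rw [Fintype.linearIndependent_iff] at hded
    have hentry : ∀ i j, g φ₀ * ρ (s φ₀) i j = 0 := by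
      intro i j
      apply hded (fun φ => g φ * ρ (s φ) i j)
      funext y
      have h1 : ρ y * (∑ φ, g φ • ρ (s φ)) * ρ y⁻¹ = 0 := by rw [hg]; simp
      rw [Finset.mul_sum, Finset.sum_mul] at h1
      have h3 := congrFun (congrFun h1 i) j
      rw [Matrix.sum_apply, Matrix.zero_apply] at h3
      simp only [Finset.sum_apply, Pi.smul_apply, Pi.zero_apply, smul_eq_mul]
      rw [← h3]
      apply Finset.sum_congr rfl
      intro φ _
      rw [Matrix.mul_smul, Matrix.smul_mul, hconj, hs φ, Matrix.smul_apply, Matrix.smul_apply,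
        smul_eq_mul, smul_eq_mul]
      ring
    by_contra hgne
    have hzero : ρ (s φ₀) = 0 := by
      ext i j
      rcases mul_eq_zero.1 (hentry i j) with h | h
      · exact absurd h hgne
      · exact h
    have hinv : ρ (s φ₀) * ρ (s φ₀)⁻¹ = 1 := by rw [← map_mul, mul_inv_cancel, map_one]
    rw [hzero, zero_mul] at hinv
    exact zero_ne_one hinv
  have hS : Nat.card S ≤ Fintype.card n * Fintype.card n := by
    have := hli.fintype_card_le_finrank
    rw [Module.finrank_matrix, Module.finrank_self, mul_one] at this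
    rw [Nat.card_eq_fintype_card]
    exact this
  -- injection of `H` into `S × Bool`
  have hinj : Nat.card H ≤ Nat.card (S × Bool) := by
    apply Nat.card_le_card_of_injective
      (fun x : H => ((⟨chi F z hz hz1 hz2 hcomm x, x, rfl⟩ : S),
        decide (x = s ⟨chi F z hz hz1 hz2 hcomm x, x, rfl⟩)))
    intro x x' hxx'
    simp only [Prod.mk.injEq] at hxx'
    obtain ⟨h1, h3⟩ := hxx'
    have h1' : chi F z hz hz1 hz2 hcomm x = chi F z hz hz1 hz2 hcomm x' :=
      congrArg Subtype.val h1
    rw [← h1] at h3
    obtain ⟨t, ht⟩ : ∃ t : H, t = s ⟨chi F z hz hz1 hz2 hcomm x, x, rfl⟩ := ⟨_, rfl⟩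
    rw [← ht, decide_eq_decide] at h3
    have hx := hfib t x (by rw [ht, hs])
    have hx' := hfib t x' (by rw [ht, hs]; exact h1')
    have hzt : t * z ≠ t := by
      intro h
      apply hz1
      have := congrArg (fun g => t⁻¹ * g) h
      simpa using this
    rcases hx with hx | hx <;> rcases hx' with hx' | hx'
    · rw [hx, hx']
    · exact absurd (hx' ▸ h3.1 hx) hzt
    · exact absurd (hx ▸ h3.2 hx') hzt
    · rw [hx, hx']
  rw [Nat.card_prod, Nat.card_eq_fintype_card (α := Bool), Fintype.card_bool] at hinj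
  calc Nat.card H ≤ Nat.card S * 2 := hinj
    _ ≤ (Fintype.card n * Fintype.card n) * 2 := Nat.mul_le_mul_right _ hS
    _ = 2 * (Fintype.card n * Fintype.card n) := by ring

end dedekind

end Cfsg.Agent.Lib.Helper19.C2Central
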