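-- The Dickson character in characteristic two is the parity of the rank of `g - 1`.
import Mathlib
import Cfsg.Prelude.Def_Classical
import Cfsg.Prelude.Def_ClassicalGeometry
import Cfsg.Agent.Lib.Helper19.OrthRefl
import Cfsg.Agent.Lib.Helper19.Parity
import Cfsg.Agent.Lib.Helper19.ParityHom
import Cfsg.Agent.Lib.Helper19.OrthParity
import Cfsg.Agent.Lib.Helper19.Dickson

set_option autoImplicit false

namespace Cfsg.Agent.Lib.Helper19.Parity

open QuadraticMap Module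

variable {F V : Type*} [Field F] [AddCommGroup V] [Module F V] {Q : QuadraticForm F V}

theorem diag_inf_map_eq {G : Type*} [Group G] (ρ : G →* (V ≃ₗ[F] V)) (g : G) :
    diag F V ⊓ (diag F V).map ((leftAct ρ g : (V × V) ≃ₗ[F] (V × V)) : (V × V) →ₗ[F] (V × V))
      = (LinearMap.ker (((ρ g : V ≃ₗ[F] V) : V →ₗ[F] V) - LinearMap.id)).map
          (LinearMap.prod (LinearMap.id : V →ₗ[F] V) (LinearMap.id : V →ₗ[F] V)) := by
  ext p
  constructor
  · rintro ⟨⟨v, rfl⟩, ⟨_, ⟨w, rfl⟩, hw⟩⟩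
    have hw' : (ρ g w, w) = (v, v) := hw
    have h1 : ρ g w = v := congrArg Prod.fst hw'
    have h3 : w = v := congrArg Prod.snd hw'
    subst h3
    refine ⟨w, ?_, rfl⟩
    apply LinearMap.mem_ker.2
    rw [LinearMap.sub_apply, LinearMap.id_apply]
    show ρ g w - w = 0
    rw [h1, sub_self]
  · rintro ⟨v, hv, rfl⟩
    have hv0 := LinearMap.mem_ker.1 hv
    rw [LinearMap.sub_apply, LinearMap.id_apply] at hv0
    have hv' : ρ g v = v := sub_eq_zero.1 hv0
    refine ⟨⟨v, rfl⟩, ⟨(v, v), ⟨v, rfl⟩, ?_⟩⟩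
    show (ρ g v, v) = (v, v)
    rw [hv']

variable [FiniteDimensional F V]

theorem dicksonHom_eq_rank (h2 : (2 : F) = 0) (hQ : (polarBilin Q).Nondegenerate)
    {G : Type*} [Group G] (ρ : G →* (V ≃ₗ[F] V)) (hρ : ∀ g v, Q (ρ g v) = Q v) (g : G) :
    dicksonHom h2 hQ ρ hρ g
      = (-1) ^ finrank F ↥(LinearMap.range (((ρ g : V ≃ₗ[F] V) : V →ₗ[F] V) - LinearMap.id)) := by
  unfold dicksonHom
  rw [parityHom_apply, diag_inf_map_eq]
  have hinj : Function.Injective
      (LinearMap.prod (LinearMap.id : V →ₗ[F] V) (LinearMap.id : V →ₗ[F] V)) := by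
    intro a b h
    exact congrArg Prod.fst h
  have h1 : finrank F ↥((LinearMap.ker (((ρ g : V ≃ₗ[F] V) : V →ₗ[F] V) - LinearMap.id)).map
      (LinearMap.prod (LinearMap.id : V →ₗ[F] V) (LinearMap.id : V →ₗ[F] V)))
      = finrank F ↥(LinearMap.ker (((ρ g : V ≃ₗ[F] V) : V →ₗ[F] V) - LinearMap.id)) :=
    (LinearEquiv.finrank_eq (Submodule.equivMapOfInjective _ hinj _)).symm
  rw [h1]
  have h3 := LinearMap.finrank_range_add_finrank_ker
    (((ρ g : V ≃ₗ[F] V) : V →ₗ[F] V) - LinearMap.id)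
  congr 1
  omega

end Cfsg.Agent.Lib.Helper19.Parity

namespace Cfsg.Agent.Lib.Helper19.OrthRefl

open Matrix QuadraticMap Module Cfsg.Agent.Lib.Helper19.Parity

variable {ι : Type} [Fintype ι] [DecidableEq ι] {F : Type*} [Field F]

theorem dicksonChar_eq_rank (h2 : (2 : F) = 0) (Q : QuadraticForm F (ι → F))
    (hQ : (polarBilin Q).Nondegenerate) (g : ↥(Cfsg.isometryGroup F ⇑Q)) :
    dicksonChar h2 Q hQ g
      = (-1) ^ (((g : Matrix.GeneralLinearGroup ι F) : Matrix ι ι F) - 1).rank := by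
  unfold dicksonChar
  rw [dicksonHom_eq_rank]
  have : ((actEquiv (⇑Q) g : (ι → F) ≃ₗ[F] (ι → F)) : (ι → F) →ₗ[F] (ι → F)) - LinearMap.id
      = Matrix.mulVecLin (((g : Matrix.GeneralLinearGroup ι F) : Matrix ι ι F) - 1) := by
    rw [actEquiv_coe]
    apply LinearMap.ext
    intro x
    rw [LinearMap.sub_apply, LinearMap.id_apply, Matrix.mulVecLin_apply, Matrix.mulVecLin_apply,
      Matrix.sub_mulVec, Matrix.one_mulVec]
  rw [this]
  rfl

end Cfsg.Agent.Lib.Helper19.OrthRefl
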