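-- Recognising the dihedral group of order eight.
import Mathlib
import Cfsg.Agent.Lib.Helper24.DihIso

set_option autoImplicit false

namespace Cfsg.Agent.Lib.Helper19.Dih8

/-- A group of order eight with two non-commuting involutions is dihedral. -/
theorem dihedral_of_card_eight {H : Type*} [Group H] (hcard : Nat.card H = 8) {x y : H}
    (hx : x * x = 1) (hy : y * y = 1) (hxy : x * y ≠ y * x) :
    Nonempty (H ≃* DihedralGroup 4) := by
  haveI : Finite H := Nat.finite_of_card_ne_zero (by omega)
  have hx1 : x ≠ 1 := by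
    rintro rfl
    exact hxy (by rw [one_mul, mul_one])
  have hy1 : y ≠ 1 := by
    rintro rfl
    exact hxy (by rw [one_mul, mul_one])
  have hox : orderOf x = 2 := orderOf_eq_prime (by rw [pow_two]; exact hx) hx1
  have hoy : orderOf y = 2 := orderOf_eq_prime (by rw [pow_two]; exact hy) hy1
  obtain ⟨e⟩ := Cfsg.Agent.Lib.Helper24.closure_pair_equiv_dihedral hox hoy
  have hxinv : x⁻¹ = x := inv_eq_of_mul_eq_one_left hx
  have hyinv : y⁻¹ = y := inv_eq_of_mul_eq_one_left hy
  have hc : Nat.card ↥(Subgroup.closure ({x, y} : Set H)) = 2 * orderOf (x * y) := by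
    rw [Nat.card_congr e.toEquiv, DihedralGroup.nat_card]
  have hdvd : 2 * orderOf (x * y) ∣ 8 := by
    rw [← hc, ← hcard]
    exact Subgroup.card_subgroup_dvd_card _
  have hpos : 0 < orderOf (x * y) := orderOf_pos _
  have hn4 : orderOf (x * y) ∣ 4 := by
    have : 2 * orderOf (x * y) ∣ 2 * 4 := hdvd
    exact (Nat.mul_dvd_mul_iff_left (by norm_num)).1 this
  have hle : orderOf (x * y) ≤ 4 := Nat.le_of_dvd (by norm_num) hn4
  have hn : orderOf (x * y) = 4 := by
    have h1 : orderOf (x * y) ≠ 1 := by
      intro h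
      rw [orderOf_eq_one_iff] at h
      apply hxy
      have : y = x := by
        rw [← hxinv]
        exact (inv_eq_of_mul_eq_one_right h).symm
      rw [this]
    have h2 : orderOf (x * y) ≠ 2 := by
      intro h
      have h3 : (x * y) ^ 2 = 1 := by rw [← h]; exact pow_orderOf_eq_one _
      apply hxy
      have h4 : x * y = (x * y)⁻¹ := by
        rw [pow_two] at h3
        exact eq_inv_of_mul_eq_one_left h3
      rw [h4, mul_inv_rev, hxinv, hyinv]
    have h3 : orderOf (x * y) ≠ 3 := by
      intro h
      rw [h] at hn4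
      omega
    omega
  have htop : Subgroup.closure ({x, y} : Set H) = ⊤ := by
    apply Subgroup.eq_top_of_card_eq
    rw [hc, hn, hcard]
  rw [hn] at e
  exact ⟨(Subgroup.topEquiv.symm.trans (MulEquiv.subgroupCongr htop.symm)).trans e⟩

/-- A group of order eight with an involution `a` and an element `t` not commuting with it, such
that `a` commutes with its conjugate `b` by `t` and `t ^ 2` is `1` or `a b`, is dihedral. -/
theorem dihedral_of_klein_ext {H : Type*} [Group H] (hcard : Nat.card H = 8) (a t : H)
    (ha : a * a = 1) (hcomm : a * (t * a * t⁻¹) = (t * a * t⁻¹) * a)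
    (hne : t * a * t⁻¹ ≠ a) (ht : t * t = 1 ∨ t * t = a * (t * a * t⁻¹)) :
    Nonempty (H ≃* DihedralGroup 4) := by
  rcases ht with ht | ht
  · apply dihedral_of_card_eight hcard ha ht
    intro h
    apply hne
    rw [← h, mul_inv_cancel_right]
  · have hb : (t * a * t⁻¹) * (t * a * t⁻¹) = 1 := by
      have : (t * a * t⁻¹) * (t * a * t⁻¹) = t * (a * a) * t⁻¹ := by group
      rw [this, ha, mul_one, mul_inv_cancel]
    have hy : (t * a) * (t * a) = 1 := by
      have : (t * a) * (t * a) = (t * a * t⁻¹) * (t * t) * a := by group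
      rw [this, ht, ← mul_assoc, ← hcomm, mul_assoc a, hb, mul_one, ha]
    apply dihedral_of_card_eight hcard ha hy
    intro h
    apply hne
    have : t * a * t⁻¹ = (t * a) * a * (t * a)⁻¹ := by group
    rw [this, ← h, mul_inv_cancel_right]

end Cfsg.Agent.Lib.Helper19.Dih8
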