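import Mathlib
import Cfsg.Agent.Lib.Helper19.AutPSL3

/-!
# Flags and the unitriangular group, part 1: the normaliser (helper19)
-/

set_option autoImplicit false

namespace Cfsg.Agent.Lib.Helper19.FlagSL

open Matrix Cfsg.Agent.Lib.Helper19.AutPSL

section flag

variable {k : Type*} [Field k] {N : ℕ}

/-- the vectors supported on the first `i` coordinates -/
def InV (i : ℕ) (v : Fin N → k) : Prop := ∀ r : Fin N, i ≤ r.val → v r = 0

lemma inV_zero (v : Fin N → k) : InV 0 v ↔ v = 0 := by
  constructor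
  · intro h
    funext r
    exact h r (Nat.zero_le _)
  · rintro rfl r _
    rfl

lemma inV_mono {i j : ℕ} (hij : i ≤ j) {v : Fin N → k} (h : InV i v) : InV j v :=
  fun r hr => h r (le_trans hij hr)

lemma inV_top (v : Fin N → k) : InV N v := fun r hr => absurd r.2 (not_lt.mpr hr)

lemma inV_single (s : Fin N) : InV (s.val + 1) (Pi.single s (1 : k)) := by
  intro r hr
  rw [Pi.single_apply, if_neg]
  intro h
  rw [h] at hr
  omega

/-- an upper unitriangular matrix moves `V_{i+1}` into `V_i` modulo the identity -/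
lemma isUU_sub_one_mulVec {M : Matrix (Fin N) (Fin N) k} (hM : IsUU M) {i : ℕ} {v : Fin N → k}
    (hv : InV (i + 1) v) : InV i ((M - 1) *ᵥ v) := by
  intro r hr
  rw [Matrix.mulVec, dotProduct]
  apply Finset.sum_eq_zero
  intro s _
  rw [Matrix.sub_apply]
  by_cases hsr : s < r
  · rw [hM.1 r s hsr, Matrix.one_apply_ne (ne_of_gt hsr), sub_zero, zero_mul]
  · rcases eq_or_lt_of_le (not_lt.mp hsr) with h | h
    · subst h
      rw [hM.2, Matrix.one_apply_eq, sub_self, zero_mul]
    · rw [hv s (by have : r.val < s.val := h; omega), mul_zero]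

lemma inV_succ_of_forall [Fintype k] {i : ℕ} {v : Fin N → k}
    (h : ∀ u : Matrix.SpecialLinearGroup (Fin N) k, u ∈ UU k N →
      InV i (((u : Matrix (Fin N) (Fin N) k) - 1) *ᵥ v)) : InV (i + 1) v := by
  intro r hr
  by_contra hne
  have hr0 : 0 < r.val := by omega
  let r' : Fin N := ⟨r.val - 1, by omega⟩
  have hlt : r' < r := by
    show r.val - 1 < r.val
    omega
  have h1 := h (xe r' r 1) ((mem_UU _).2 (isUU_xe hlt 1)) r' (by show i ≤ r.val - 1; omega)
  rw [xe_coe (ne_of_lt hlt), add_sub_cancel_left, Matrix.mulVec, dotProduct,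
    Finset.sum_eq_single r] at h1
  · rw [Matrix.single_apply_same, one_mul] at h1
    exact hne h1
  · intro s _ hs
    rw [Matrix.single_apply, if_neg, zero_mul]
    rintro ⟨_, h2⟩
    exact hs h2.symm
  · intro h2
    exact absurd (Finset.mem_univ r) h2

/-- a matrix normalising the unitriangular group preserves the standard flag -/
theorem normalizer_preserves [Fintype k] (g : Matrix.SpecialLinearGroup (Fin N) k)
    (hg : ∀ u, u ∈ UU k N → g⁻¹ * u * g ∈ UU k N) (i : ℕ) (v : Fin N → k) (hv : InV i v) :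
    InV i ((g : Matrix (Fin N) (Fin N) k) *ᵥ v) := by
  induction i generalizing v with
  | zero =>
    rw [inV_zero] at hv ⊢
    rw [hv, Matrix.mulVec_zero]
  | succ i ih =>
    apply inV_succ_of_forall
    intro u hu
    have h1 := hg u hu
    have h2 : InV i ((((g⁻¹ * u * g : Matrix.SpecialLinearGroup (Fin N) k) :
        Matrix (Fin N) (Fin N) k) - 1) *ᵥ v) := isUU_sub_one_mulVec ((mem_UU _).1 h1) hv
    have h3 := ih _ h2
    have h4 : (g : Matrix (Fin N) (Fin N) k) *ᵥ ((((g⁻¹ * u * g : Matrix.SpecialLinearGroup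
        (Fin N) k) : Matrix (Fin N) (Fin N) k) - 1) *ᵥ v) =
        ((u : Matrix (Fin N) (Fin N) k) - 1) *ᵥ ((g : Matrix (Fin N) (Fin N) k) *ᵥ v) := by
      rw [Matrix.mulVec_mulVec, Matrix.mulVec_mulVec]
      congr 1
      have e1 : (g : Matrix (Fin N) (Fin N) k) *
          ((g⁻¹ * u * g : Matrix.SpecialLinearGroup (Fin N) k) : Matrix (Fin N) (Fin N) k) =
          (u : Matrix (Fin N) (Fin N) k) * (g : Matrix (Fin N) (Fin N) k) := by
        rw [← Matrix.SpecialLinearGroup.coe_mul, ← Matrix.SpecialLinearGroup.coe_mul]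
        have : g * (g⁻¹ * u * g) = u * g := by group
        rw [this]
      rw [Matrix.mul_sub, Matrix.sub_mul, e1, mul_one, one_mul]
    rw [h4] at h3
    exact h3

/-- hence it is upper triangular -/
theorem normalizer_upper [Fintype k] (g : Matrix.SpecialLinearGroup (Fin N) k)
    (hg : ∀ u, u ∈ UU k N → g⁻¹ * u * g ∈ UU k N) (r s : Fin N) (hsr : s < r) :
    (g : Matrix (Fin N) (Fin N) k) r s = 0 := by
  have h := normalizer_preserves g hg (s.val + 1) (Pi.single s 1) (inV_single s) r
    (by have : s.val < r.val := hsr; omega)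
  rwa [Matrix.mulVec_single_one] at h

/-- over the field with two elements it is unitriangular -/
theorem normalizer_mem [Fintype k] (h2 : ∀ a : k, a = 0 ∨ a = 1)
    (g : Matrix.SpecialLinearGroup (Fin N) k)
    (hg : ∀ u, u ∈ UU k N → g⁻¹ * u * g ∈ UU k N) : g ∈ UU k N := by
  rw [mem_UU]
  refine ⟨normalizer_upper g hg, ?_⟩
  have hdet : (g : Matrix (Fin N) (Fin N) k).det = 1 := g.2
  have hup : (g : Matrix (Fin N) (Fin N) k).BlockTriangular id := by
    intro i j hij
    exact normalizer_upper g hg i j hij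
  rw [Matrix.det_of_upperTriangular hup] at hdet
  intro i
  rcases h2 ((g : Matrix (Fin N) (Fin N) k) i i) with h | h
  · exfalso
    have h0 : ∏ j, (g : Matrix (Fin N) (Fin N) k) j j = 0 :=
      Finset.prod_eq_zero (Finset.mem_univ i) h
    rw [h0] at hdet
    exact zero_ne_one hdet
  · exact h

end flag

end Cfsg.Agent.Lib.Helper19.FlagSL
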