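import Mathlib
import Cfsg.Agent.Lib.Helper19.FlagSL1

/-!
# Flags and the unitriangular group, part 2: a common transvection (helper19)
-/

set_option autoImplicit false

namespace Cfsg.Agent.Lib.Helper19.FlagSL

open Matrix Cfsg.Agent.Lib.Helper19.AutPSL

section transv

variable {k : Type*} [Field k] {N : ℕ}

lemma isUU_one_add_vecMulVec (a ψ : Fin N → k) (κ : ℕ) (ha : ∀ r : Fin N, κ < r.val → a r = 0)
    (hψ : ∀ s : Fin N, s.val < κ → ψ s = 0) (h0 : ψ ⬝ᵥ a = 0) :
    IsUU (1 + vecMulVec a ψ) := by
  constructor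
  · intro i j hji
    rw [Matrix.add_apply, Matrix.one_apply_ne (ne_of_gt hji), zero_add, vecMulVec_apply]
    by_cases h : κ < i.val
    · rw [ha i h, zero_mul]
    · rw [hψ j (by have : j.val < i.val := hji; omega), mul_zero]
  · intro i
    rw [Matrix.add_apply, Matrix.one_apply_eq, vecMulVec_apply]
    rcases lt_trichotomy i.val κ with h | h | h
    · rw [hψ i h, mul_zero, add_zero]
    · have h1 : ψ ⬝ᵥ a = ψ i * a i := by
        rw [dotProduct]
        apply Finset.sum_eq_single i
        · intro s _ hs
          have hs' : s.val ≠ i.val := fun h' => hs (Fin.ext h')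
          rcases lt_or_gt_of_ne hs' with h2 | h2
          · rw [hψ s (by omega), zero_mul]
          · rw [ha s (by omega), mul_zero]
        · intro h2
          exact absurd (Finset.mem_univ i) h2
      rw [h0] at h1
      rw [mul_comm, ← h1, add_zero]
    · rw [ha i h, zero_mul, add_zero]

/-- a vector of `V_j` mapped into `V_{N-j}` yields a transvection in both unitriangular groups -/
theorem exists_common [Fintype k] (g : Matrix.SpecialLinearGroup (Fin N) k) (j : ℕ)
    (c : Fin N → k) (hc0 : c ≠ 0) (hc : InV j c)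
    (hgc : InV (N - j) ((g : Matrix (Fin N) (Fin N) k) *ᵥ c)) :
    ∃ t : Matrix.SpecialLinearGroup (Fin N) k, t ≠ 1 ∧ t ∈ UU k N ∧ g⁻¹ * t * g ∈ UU k N := by
  classical
  set a : Fin N → k := (g : Matrix (Fin N) (Fin N) k) *ᵥ c with ha
  have hca : ((g⁻¹ : Matrix.SpecialLinearGroup (Fin N) k) : Matrix (Fin N) (Fin N) k) *ᵥ a = c := by
    rw [ha, Matrix.mulVec_mulVec, ← Matrix.SpecialLinearGroup.coe_mul, inv_mul_cancel,
      Matrix.SpecialLinearGroup.coe_one, Matrix.one_mulVec]
  have ha0 : a ≠ 0 := by
    intro h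
    apply hc0
    rw [← hca, h, Matrix.mulVec_zero]
  have hj0 : 0 < j := by
    rcases Nat.eq_zero_or_pos j with h | h
    · exfalso
      apply hc0
      rw [h] at hc
      exact (inV_zero c).1 hc
    · exact h
  have hjN : j < N := by
    by_contra h
    apply ha0
    have : N - j = 0 := by omega
    rw [this] at hgc
    exact (inV_zero a).1 hgc
  -- the matrix whose columns must be killed
  let M : Matrix (Fin N) (Fin N) k := Matrix.of fun i s =>
    if s.val < N - j - 1 then (if i = s then 1 else 0)
    else if s.val = N - j - 1 then a i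
    else if s.val + 1 < N then (g : Matrix (Fin N) (Fin N) k) i ⟨s.val - (N - j), by omega⟩
    else 0
  have hdet : M.det = 0 := by
    apply Matrix.det_eq_zero_of_column_eq_zero (⟨N - 1, by omega⟩ : Fin N)
    intro i
    show (if (N - 1) < N - j - 1 then (if i = (⟨N - 1, by omega⟩ : Fin N) then (1 : k) else 0)
      else if (N - 1) = N - j - 1 then a i
      else if (N - 1) + 1 < N then (g : Matrix (Fin N) (Fin N) k) i ⟨(N - 1) - (N - j), by omega⟩
      else 0) = 0
    rw [if_neg (by omega), if_neg (by omega), if_neg (by omega)]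
  obtain ⟨ψ, hψ0, hψM⟩ := Matrix.exists_vecMul_eq_zero_iff.mpr hdet
  have hcol : ∀ s : Fin N, ∑ i, ψ i * M i s = 0 := by
    intro s
    have := congrFun hψM s
    rwa [Matrix.vecMul, dotProduct] at this
  -- consequences
  have h1 : ∀ s : Fin N, s.val < N - j - 1 → ψ s = 0 := by
    intro s hs
    have h := hcol s
    rw [Finset.sum_eq_single s] at h
    · have e1 : M s s = 1 := by
        show (if s.val < N - j - 1 then (if s = s then (1 : k) else 0) else _) = 1
        rw [if_pos hs, if_pos rfl]
      rwa [e1, mul_one] at h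
    · intro i _ hi
      have e1 : M i s = 0 := by
        show (if s.val < N - j - 1 then (if i = s then (1 : k) else 0) else _) = 0
        rw [if_pos hs, if_neg hi]
      rw [e1, mul_zero]
    · intro h2
      exact absurd (Finset.mem_univ s) h2
  have h2 : ψ ⬝ᵥ a = 0 := by
    have h := hcol (⟨N - j - 1, by omega⟩ : Fin N)
    rw [dotProduct]
    rw [← h]
    apply Finset.sum_congr rfl
    intro i _
    have e1 : M i (⟨N - j - 1, by omega⟩ : Fin N) = a i := by
      show (if (N - j - 1) < N - j - 1 then (if i = (⟨N - j - 1, by omega⟩ : Fin N) then (1 : k)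
        else 0) else if (N - j - 1) = N - j - 1 then a i else _) = a i
      rw [if_neg (lt_irrefl _), if_pos rfl]
    rw [e1]
  have h3 : ∀ s : Fin N, s.val < j - 1 → (ψ ᵥ* (g : Matrix (Fin N) (Fin N) k)) s = 0 := by
    intro s hs
    have h := hcol (⟨s.val + (N - j), by omega⟩ : Fin N)
    rw [Matrix.vecMul, dotProduct, ← h]
    apply Finset.sum_congr rfl
    intro i _
    have e1 : M i (⟨s.val + (N - j), by omega⟩ : Fin N) = (g : Matrix (Fin N) (Fin N) k) i s := by
      show (if (s.val + (N - j)) < N - j - 1 then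
          (if i = (⟨s.val + (N - j), by omega⟩ : Fin N) then (1 : k) else 0)
        else if (s.val + (N - j)) = N - j - 1 then a i
        else if (s.val + (N - j)) + 1 < N then
          (g : Matrix (Fin N) (Fin N) k) i ⟨(s.val + (N - j)) - (N - j), by omega⟩
        else 0) = _
      rw [if_neg (by omega), if_neg (by omega), if_pos (by omega)]
      have e2 : (⟨(s.val + (N - j)) - (N - j), by omega⟩ : Fin N) = s := by
        apply Fin.ext
        show s.val + (N - j) - (N - j) = s.val
        omega
      rw [e2]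
    rw [e1]
  -- the two unitriangular matrices
  have hU1 : IsUU (1 + vecMulVec a ψ) := by
    apply isUU_one_add_vecMulVec a ψ (N - j - 1)
    · intro r hr
      exact hgc r (by omega)
    · exact h1
    · exact h2
  have hU2 : IsUU (1 + vecMulVec c (ψ ᵥ* (g : Matrix (Fin N) (Fin N) k))) := by
    apply isUU_one_add_vecMulVec c _ (j - 1)
    · intro r hr
      exact hc r (by omega)
    · exact h3
    · rw [← Matrix.dotProduct_mulVec]
      exact h2
  let t : Matrix.SpecialLinearGroup (Fin N) k := ⟨1 + vecMulVec a ψ, det_of_isUU hU1⟩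
  let t' : Matrix.SpecialLinearGroup (Fin N) k :=
    ⟨1 + vecMulVec c (ψ ᵥ* (g : Matrix (Fin N) (Fin N) k)), det_of_isUU hU2⟩
  have hcomm : g * t' = t * g := by
    apply Subtype.ext
    rw [Matrix.SpecialLinearGroup.coe_mul, Matrix.SpecialLinearGroup.coe_mul]
    show (g : Matrix (Fin N) (Fin N) k) * (1 + vecMulVec c (ψ ᵥ* (g : Matrix (Fin N) (Fin N) k))) =
      (1 + vecMulVec a ψ) * (g : Matrix (Fin N) (Fin N) k)
    rw [Matrix.mul_add, Matrix.add_mul, mul_one, one_mul, Matrix.mul_vecMulVec,
      Matrix.vecMulVec_mul]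
  refine ⟨t, ?_, hU1, ?_⟩
  · intro ht
    have h4 : (t : Matrix (Fin N) (Fin N) k) = 1 := by rw [ht]; rfl
    have h5 : vecMulVec a ψ = 0 := by
      have : (1 : Matrix (Fin N) (Fin N) k) + vecMulVec a ψ = 1 := h4
      rwa [add_eq_left] at this
    obtain ⟨r, hr⟩ := Function.ne_iff.mp ha0
    obtain ⟨s, hs⟩ := Function.ne_iff.mp hψ0
    have h6 := congrFun (congrFun h5 r) s
    rw [vecMulVec_apply] at h6
    rcases mul_eq_zero.mp h6 with h7 | h7
    · exact hr h7
    · exact hs h7
  · have : g⁻¹ * t * g = t' := by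
      rw [mul_assoc, ← hcomm]
      group
    rw [this]
    exact hU2

end transv

end Cfsg.Agent.Lib.Helper19.FlagSL
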