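import Mathlib
import Cfsg.Agent.Lib.Helper19.FlagSL2

/-!
# Flags and the unitriangular group, part 3: opposite flags (helper19)
-/

set_option autoImplicit false

namespace Cfsg.Agent.Lib.Helper19.FlagSL

open Matrix Cfsg.Agent.Lib.Helper19.AutPSL

section opp

variable {k : Type*} [Field k] {N : ℕ}

/-- the image of the standard flag under `g` is opposite to the standard flag -/
def Opp (g : Matrix (Fin N) (Fin N) k) : Prop :=
  ∀ (j : ℕ) (c : Fin N → k), InV j c → InV (N - j) (g *ᵥ c) → c = 0

lemma exists_col (g : Matrix (Fin N) (Fin N) k) (j : Fin N) :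
    ∃ c : Fin N → k, c ≠ 0 ∧ InV (j.val + 1) c ∧ InV (N - j.val) (g *ᵥ c) := by
  classical
  have hjN := j.isLt
  let M : Matrix (Fin N) (Fin N) k := Matrix.of fun r s =>
    if r.val + j.val + 1 < N then (if s.val = r.val + j.val + 1 then 1 else 0)
    else if r.val + j.val + 1 = N then 0 else g r s
  have hdet : M.det = 0 := by
    apply Matrix.det_eq_zero_of_row_eq_zero (⟨N - j.val - 1, by omega⟩ : Fin N)
    intro s
    show (if (N - j.val - 1) + j.val + 1 < N then
        (if s.val = (N - j.val - 1) + j.val + 1 then (1 : k) else 0)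
      else if (N - j.val - 1) + j.val + 1 = N then 0
      else g (⟨N - j.val - 1, by omega⟩ : Fin N) s) = 0
    rw [if_neg (by omega), if_pos (by omega)]
  obtain ⟨v, hv0, hvM⟩ := Matrix.exists_mulVec_eq_zero_iff.mpr hdet
  have hrow : ∀ r : Fin N, ∑ s, M r s * v s = 0 := by
    intro r
    have := congrFun hvM r
    rwa [Matrix.mulVec, dotProduct] at this
  refine ⟨v, hv0, ?_, ?_⟩
  · intro s hs
    have hsN := s.isLt
    have h := hrow (⟨s.val - j.val - 1, by omega⟩ : Fin N)
    rw [Finset.sum_eq_single s] at h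
    · have e1 : M (⟨s.val - j.val - 1, by omega⟩ : Fin N) s = 1 := by
        show (if (s.val - j.val - 1) + j.val + 1 < N then
            (if s.val = (s.val - j.val - 1) + j.val + 1 then (1 : k) else 0)
          else _) = 1
        rw [if_pos (by omega), if_pos (by omega)]
      rwa [e1, one_mul] at h
    · intro s' _ hs'
      have hs'' : s'.val ≠ s.val := fun h' => hs' (Fin.ext h')
      have e1 : M (⟨s.val - j.val - 1, by omega⟩ : Fin N) s' = 0 := by
        show (if (s.val - j.val - 1) + j.val + 1 < N then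
            (if s'.val = (s.val - j.val - 1) + j.val + 1 then (1 : k) else 0)
          else _) = 0
        rw [if_pos (by omega), if_neg (by omega)]
      rw [e1, zero_mul]
    · intro h2
      exact absurd (Finset.mem_univ s) h2
  · intro r hr
    have h := hrow r
    rw [Matrix.mulVec, dotProduct, ← h]
    apply Finset.sum_congr rfl
    intro s _
    have e1 : M r s = g r s := by
      show (if r.val + j.val + 1 < N then (if s.val = r.val + j.val + 1 then (1 : k) else 0)
        else if r.val + j.val + 1 = N then 0 else g r s) = g r s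
      rw [if_neg (by omega), if_neg (by omega)]
    rw [e1]

/-- the antidiagonal permutation matrix -/
def Wm (k : Type*) [Field k] (N : ℕ) : Matrix (Fin N) (Fin N) k :=
  Matrix.of fun s j => if s = Fin.rev j then 1 else 0

lemma mul_Wm (B : Matrix (Fin N) (Fin N) k) (r j : Fin N) :
    (B * Wm k N) r j = B r (Fin.rev j) := by
  rw [Matrix.mul_apply, Finset.sum_eq_single (Fin.rev j)]
  · show B r (Fin.rev j) * (if Fin.rev j = Fin.rev j then 1 else 0) = _
    rw [if_pos rfl, mul_one]
  · intro s _ hs
    show B r s * (if s = Fin.rev j then 1 else 0) = 0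
    rw [if_neg hs, mul_zero]
  · intro h
    exact absurd (Finset.mem_univ _) h

/-- the normal form of a matrix moving the standard flag to an opposite one -/
theorem opp_normal_form [Fintype k] (h2 : ∀ a : k, a = 0 ∨ a = 1)
    (g : Matrix.SpecialLinearGroup (Fin N) k) (hg : Opp (g : Matrix (Fin N) (Fin N) k)) :
    ∃ B C : Matrix.SpecialLinearGroup (Fin N) k, B ∈ UU k N ∧ C ∈ UU k N ∧
      (g : Matrix (Fin N) (Fin N) k) * (C : Matrix (Fin N) (Fin N) k) =
        (B : Matrix (Fin N) (Fin N) k) * Wm k N := by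
  classical
  have hex := exists_col (g : Matrix (Fin N) (Fin N) k)
  choose c hc0 hc1 hc2 using hex
  have hd1 : ∀ j : Fin N, c j j = 1 := by
    intro j
    rcases h2 (c j j) with h | h
    · exfalso
      apply hc0 j
      apply hg j.val (c j) _ (hc2 j)
      intro r hr
      rcases eq_or_lt_of_le hr with h' | h'
      · have : r = j := Fin.ext h'.symm
        rw [this]
        exact h
      · exact hc1 j r (by omega)
    · exact h
  have hd2 : ∀ (j : Fin N) (r : Fin N), r.val + j.val + 1 = N →
      ((g : Matrix (Fin N) (Fin N) k) *ᵥ c j) r = 1 := by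
    intro j r hr
    rcases h2 (((g : Matrix (Fin N) (Fin N) k) *ᵥ c j) r) with h | h
    · exfalso
      apply hc0 j
      apply hg (j.val + 1) (c j) (hc1 j)
      intro r' hr'
      rcases eq_or_lt_of_le hr' with h' | h'
      · have : r' = r := Fin.ext (by omega)
        rw [this]
        exact h
      · exact hc2 j r' (by omega)
    · exact h
  have hC : IsUU (Matrix.of fun r j => c j r : Matrix (Fin N) (Fin N) k) := by
    constructor
    · intro i j hji
      show c j i = 0
      exact hc1 j i (by have : j.val < i.val := hji; omega)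
    · intro i
      exact hd1 i
  have hB : IsUU (Matrix.of fun r s => ((g : Matrix (Fin N) (Fin N) k) *ᵥ c (Fin.rev s)) r :
      Matrix (Fin N) (Fin N) k) := by
    constructor
    · intro i j hji
      show ((g : Matrix (Fin N) (Fin N) k) *ᵥ c (Fin.rev j)) i = 0
      apply hc2 (Fin.rev j) i
      rw [Fin.val_rev]
      have : j.val < i.val := hji
      have := j.isLt
      omega
    · intro i
      show ((g : Matrix (Fin N) (Fin N) k) *ᵥ c (Fin.rev i)) i = 1
      apply hd2
      rw [Fin.val_rev]
      have := i.isLt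
      omega
  refine ⟨⟨_, det_of_isUU hB⟩, ⟨_, det_of_isUU hC⟩, hB, hC, ?_⟩
  ext r j
  rw [mul_Wm]
  show ((g : Matrix (Fin N) (Fin N) k) * (Matrix.of fun r j => c j r : Matrix (Fin N) (Fin N) k)) r j
    = ((g : Matrix (Fin N) (Fin N) k) *ᵥ c (Fin.rev (Fin.rev j))) r
  rw [Fin.rev_rev, Matrix.mul_apply, Matrix.mulVec, dotProduct]
  rfl

/-- the unitriangular group is transitive on the flags opposite to the standard one -/
theorem opp_trans [Fintype k] (h2 : ∀ a : k, a = 0 ∨ a = 1)
    (g g' : Matrix.SpecialLinearGroup (Fin N) k) (hg : Opp (g : Matrix (Fin N) (Fin N) k))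
    (hg' : Opp (g' : Matrix (Fin N) (Fin N) k)) :
    ∃ u ∈ UU k N, ∃ b ∈ UU k N, u * g = g' * b := by
  have key : ∀ B C g : Matrix.SpecialLinearGroup (Fin N) k,
      (g : Matrix (Fin N) (Fin N) k) * (C : Matrix (Fin N) (Fin N) k) =
        (B : Matrix (Fin N) (Fin N) k) * Wm k N →
      ((B⁻¹ * g * C : Matrix.SpecialLinearGroup (Fin N) k) : Matrix (Fin N) (Fin N) k) = Wm k N := by
    intro B C g h
    rw [Matrix.SpecialLinearGroup.coe_mul, Matrix.SpecialLinearGroup.coe_mul, Matrix.mul_assoc, h,
      ← Matrix.mul_assoc, ← Matrix.SpecialLinearGroup.coe_mul, inv_mul_cancel,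
      Matrix.SpecialLinearGroup.coe_one, Matrix.one_mul]
  obtain ⟨B, C, hB, hC, h⟩ := opp_normal_form h2 g hg
  obtain ⟨B', C', hB', hC', h'⟩ := opp_normal_form h2 g' hg'
  have hX : B⁻¹ * g * C = B'⁻¹ * g' * C' := by
    apply Subtype.ext
    rw [key B C g h, key B' C' g' h']
  refine ⟨B' * B⁻¹, (UU k N).mul_mem hB' ((UU k N).inv_mem hB), C' * C⁻¹,
    (UU k N).mul_mem hC' ((UU k N).inv_mem hC), ?_⟩
  have e1 : B' * B⁻¹ * g = B' * (B⁻¹ * g * C) * C⁻¹ := by group
  rw [e1, hX]
  group

/-- trivial intersection of the two unitriangular groups forces opposite flags -/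
theorem opp_of_trivial [Fintype k] (g : Matrix.SpecialLinearGroup (Fin N) k)
    (hg : ∀ t ∈ UU k N, g⁻¹ * t * g ∈ UU k N → t = 1) :
    Opp (g : Matrix (Fin N) (Fin N) k) := by
  intro j c hc hgc
  by_contra hc0
  obtain ⟨t, ht1, htU, htg⟩ := exists_common g j c hc0 hc hgc
  exact ht1 (hg t htU htg)

end opp

end Cfsg.Agent.Lib.Helper19.FlagSL
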