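import Mathlib
import Cfsg.Agent.Lib.Helper19.FlagSL3
import Cfsg.Agent.Lib.Helper19.SylMeet

/-!
# Flags and the unitriangular group, part 4: Sylow 2-subgroups of an extension of `SL_n(2)`
of index two meet non-trivially (helper19)
-/

set_option autoImplicit false

namespace Cfsg.Agent.Lib.Helper19.FlagSL

open Matrix Cfsg.Agent.Lib.Helper19.AutPSL Cfsg.Agent.Lib.Helper19.SylMeet
open scoped Pointwise

section syl

variable {n : ℕ}

lemma zmod_two_cases (a : ZMod 2) : a = 0 ∨ a = 1 := by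
  fin_cases a
  · left; rfl
  · right; rfl

lemma card_UU_two :
    Nat.card ↥(UU (ZMod 2) n) =
      2 ^ (Nat.card (Matrix.SpecialLinearGroup (Fin n) (ZMod 2))).factorization 2 := by
  classical
  have hp : (2 : ℕ).Prime := Nat.prime_two
  obtain ⟨P⟩ : Nonempty (Sylow 2 (Matrix.GeneralLinearGroup (Fin n) (ZMod 2))) := inferInstance
  have h1 : Nat.card P = Fintype.card (ZMod 2) ^ (n * (n - 1) / 2) :=
    Cfsg.Agent.S0263.result rfl 2 n P
  have h2 := Sylow.card_eq_multiplicity P
  set e := (Nat.card (Matrix.GeneralLinearGroup (Fin n) (ZMod 2))).factorization 2 with he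
  have h3 : Nat.card ↥(UU (ZMod 2) n) = 2 ^ e := by rw [card_UU, ← h1, h2]
  have hT0 : Nat.card (Matrix.SpecialLinearGroup (Fin n) (ZMod 2)) ≠ 0 := Nat.card_pos.ne'
  have hG0 : Nat.card (Matrix.GeneralLinearGroup (Fin n) (ZMod 2)) ≠ 0 := Nat.card_pos.ne'
  have h4 : Nat.card (Matrix.SpecialLinearGroup (Fin n) (ZMod 2)) ∣
      Nat.card (Matrix.GeneralLinearGroup (Fin n) (ZMod 2)) :=
    Subgroup.card_dvd_of_injective (Matrix.SpecialLinearGroup.toGL)
      (by
        intro a b hab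
        apply Subtype.ext
        have := congrArg (fun g : Matrix.GeneralLinearGroup (Fin n) (ZMod 2) =>
          (g : Matrix (Fin n) (Fin n) (ZMod 2))) hab
        exact this)
  have h5 : 2 ^ e ∣ Nat.card (Matrix.SpecialLinearGroup (Fin n) (ZMod 2)) := by
    rw [← h3]; exact Subgroup.card_subgroup_dvd_card _
  have h6 : e ≤ (Nat.card (Matrix.SpecialLinearGroup (Fin n) (ZMod 2))).factorization 2 :=
    (hp.pow_dvd_iff_le_factorization hT0).mp h5
  have h7 : (Nat.card (Matrix.SpecialLinearGroup (Fin n) (ZMod 2))).factorization 2 ≤ e :=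
    (Nat.factorization_le_iff_dvd hT0 hG0).mpr h4 2
  rw [h3, le_antisymm h6 h7]

end syl

section main

variable {G : Type*} [Group G] [Finite G] {n : ℕ}

/-- in an extension of `SL_n(2)` of index two, a Sylow 2-subgroup meets the normal subgroup in a
copy of the unitriangular group -/
theorem exists_equiv_UU (N : Subgroup G) [N.Normal]
    (e : N ≃* Matrix.SpecialLinearGroup (Fin n) (ZMod 2)) (hidx : N.index = 2) (H : Sylow 2 G) :
    ∃ e' : N ≃* Matrix.SpecialLinearGroup (Fin n) (ZMod 2),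
      ∀ v : N, (v : G) ∈ (H : Subgroup G) ↔ e' v ∈ UU (ZMod 2) n := by
  classical
  set Q : Subgroup N := (H : Subgroup G).subgroupOf N with hQ
  have hQp : IsPGroup 2 Q := H.2.comap_subtype
  have hQi : ¬ 2 ∣ Q.index := by
    have e0 : Q.index = (H : Subgroup G).relIndex N := rfl
    have e1 : ((H : Subgroup G) ⊓ N).relIndex N * N.index = ((H : Subgroup G) ⊓ N).index :=
      Subgroup.relIndex_mul_index inf_le_right
    have e2 : ((H : Subgroup G) ⊓ N).relIndex (H : Subgroup G) * (H : Subgroup G).index =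
        ((H : Subgroup G) ⊓ N).index := Subgroup.relIndex_mul_index inf_le_left
    rw [Subgroup.inf_relIndex_right] at e1
    rw [Subgroup.inf_relIndex_left] at e2
    have e3 : N.relIndex (H : Subgroup G) ∣ N.index := Subgroup.relIndex_dvd_index_of_normal N _
    rw [hidx] at e3 e1
    have hodd : ¬ 2 ∣ (H : Subgroup G).index := H.not_dvd_index
    rw [e0]
    intro h4
    rcases (Nat.dvd_prime Nat.prime_two).mp e3 with h5 | h5
    · rw [h5, one_mul] at e2
      apply hodd
      rw [e2, ← e1]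
      exact Dvd.intro_left _ rfl
    · rw [h5] at e2
      apply hodd
      have : (H : Subgroup G).index = (H : Subgroup G).relIndex N := by
        have := e1.trans e2.symm
        omega
      rw [this]
      exact h4
  set P₂ : Sylow 2 N := hQp.toSylow hQi with hP₂
  have hc : Nat.card ↥((UU (ZMod 2) n).map e.symm.toMonoidHom) =
      2 ^ (Nat.card N).factorization 2 := by
    rw [Subgroup.card_map_of_injective e.symm.injective, card_UU_two,
      Nat.card_congr e.toEquiv]
  set P₁ : Sylow 2 N := Sylow.ofCard ((UU (ZMod 2) n).map e.symm.toMonoidHom) hc with hP₁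
  obtain ⟨y, hy⟩ := MulAction.exists_smul_eq N P₁ P₂
  have hy' : MulAut.conj y • ((UU (ZMod 2) n).map e.symm.toMonoidHom) = Q := by
    have := congrArg (fun P : Sylow 2 N => (P : Subgroup N)) hy
    simpa [hP₁, hP₂, Sylow.coe_subgroup_smul] using this
  refine ⟨(MulAut.conj y).symm.trans e, fun v => ?_⟩
  have h1 : (v : G) ∈ (H : Subgroup G) ↔ v ∈ Q := by
    rw [hQ, Subgroup.mem_subgroupOf]
  rw [h1, ← hy', mem_conj_smul, Subgroup.mem_map_equiv, MulEquiv.symm_symm, MulEquiv.trans_apply,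
    MulAut.conj_symm_apply]

/-- **Sylow 2-subgroups of an extension of `SL_n(2)` of index two pairwise meet.** -/
theorem sylow_meet_SL (N : Subgroup G) [N.Normal]
    (e : N ≃* Matrix.SpecialLinearGroup (Fin n) (ZMod 2)) (hidx : N.index = 2)
    (H : Sylow 2 G) (x : G) :
    (H : Subgroup G) ⊓ MulAut.conj x • (H : Subgroup G) ≠ ⊥ := by
  classical
  obtain ⟨e', hmem⟩ := exists_equiv_UU N e hidx H
  have h2 : ∀ a : ZMod 2, a = 0 ∨ a = 1 := zmod_two_cases
  -- conjugation inside `N` transported along `e'`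
  have hconj : ∀ (g : G) (hgN : g ∈ N) (v : N),
      e' ((⟨g, hgN⟩ : N)⁻¹ * v * ⟨g, hgN⟩) = (e' ⟨g, hgN⟩)⁻¹ * e' v * e' ⟨g, hgN⟩ := by
    intro g hgN v
    rw [map_mul, map_mul, map_inv]
  have hmemU : ∀ v : N, e' v ∈ UU (ZMod 2) n → (v : G) ∈ (H : Subgroup G) ⊓ N :=
    fun v hv => Subgroup.mem_inf.mpr ⟨(hmem v).2 hv, v.2⟩
  apply sylow_meet N hidx H x
  · intro g hgN hcj
    have h3 : e' ⟨g, hgN⟩ ∈ UU (ZMod 2) n := by
      apply normalizer_mem h2
      intro u hu
      set v : N := e'.symm u with hv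
      have hvu : e' v = u := e'.apply_symm_apply u
      have h4 : (v : G) ∈ (H : Subgroup G) ⊓ N := hmemU v (by rw [hvu]; exact hu)
      rw [← hcj, mem_conj_smul] at h4
      have h5 : (((⟨g, hgN⟩ : N)⁻¹ * v * ⟨g, hgN⟩ : N) : G) ∈ (H : Subgroup G) :=
        (Subgroup.mem_inf.mp h4).1
      rw [hmem, hconj, hvu] at h5
      exact h5
    exact (hmem ⟨g, hgN⟩).2 h3
  · intro g hgN g' hg'N hint hint'
    have trivial_of : ∀ (g : G) (hgN : g ∈ N),
        ((H : Subgroup G) ⊓ N) ⊓ MulAut.conj g • ((H : Subgroup G) ⊓ N) = ⊥ →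
        ∀ t ∈ UU (ZMod 2) n, (e' ⟨g, hgN⟩)⁻¹ * t * (e' ⟨g, hgN⟩) ∈ UU (ZMod 2) n → t = 1 := by
      intro g hgN hint t ht htg
      set v : N := e'.symm t with hv
      have hvt : e' v = t := e'.apply_symm_apply t
      have h4 : (v : G) ∈ (H : Subgroup G) ⊓ N := hmemU v (by rw [hvt]; exact ht)
      have h5 : (v : G) ∈ MulAut.conj g • ((H : Subgroup G) ⊓ N) := by
        rw [mem_conj_smul]
        have h6 : e' ((⟨g, hgN⟩ : N)⁻¹ * v * ⟨g, hgN⟩) ∈ UU (ZMod 2) n := by
          rw [hconj, hvt]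
          exact htg
        exact hmemU _ h6
      have h7 : (v : G) ∈ ((H : Subgroup G) ⊓ N) ⊓ MulAut.conj g • ((H : Subgroup G) ⊓ N) :=
        Subgroup.mem_inf.mpr ⟨h4, h5⟩
      rw [hint, Subgroup.mem_bot] at h7
      have h8 : v = 1 := Subtype.ext h7
      rw [← hvt, h8, map_one]
    obtain ⟨u, hu, b, hb, hub⟩ := opp_trans h2 (e' ⟨g, hgN⟩) (e' ⟨g', hg'N⟩)
      (opp_of_trivial _ (trivial_of g hgN hint)) (opp_of_trivial _ (trivial_of g' hg'N hint'))
    set uN : N := e'.symm u with huN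
    set bN : N := e'.symm b with hbN
    have huu : e' uN = u := e'.apply_symm_apply u
    have hbb : e' bN = b := e'.apply_symm_apply b
    have h3 : uN * ⟨g, hgN⟩ = (⟨g', hg'N⟩ : N) * bN := by
      apply e'.injective
      rw [map_mul, map_mul, huu, hbb]
      exact hub
    have h4 : (uN : G) * g = g' * (bN : G) := congrArg Subtype.val h3
    have huU : (uN : G) ∈ (H : Subgroup G) ⊓ N := hmemU uN (by rw [huu]; exact hu)
    have hbU : (bN : G) ∈ (H : Subgroup G) ⊓ N := hmemU bN (by rw [hbb]; exact hb)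
    refine ⟨(uN : G), huU, ?_⟩
    rw [h4, conj_mul_smul, conj_smul_of_mem hbU]

end main

end Cfsg.Agent.Lib.Helper19.FlagSL
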