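import Mathlib

/-!
# A computational model of finite subgroups of `GL(2, ZMod p)`

Matrices are encoded as 4-tuples of natural numbers; a subgroup generated by explicit
matrices is enumerated by a list of words, and all checks are boolean computations
over `ℕ` that the kernel can evaluate.
-/

set_option autoImplicit false

namespace Cfsg.Agent.Lib.Helper19.GL2Model

abbrev T4 := ℕ × ℕ × ℕ × ℕ

def mulN (p : ℕ) : T4 → T4 → T4
  | (a, b, c, d), (a', b', c', d') =>
    ((a * a' + b * c') % p, (a * b' + b * d') % p, (c * a' + d * c') % p, (c * b' + d * d') % p)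

def unitN : T4 := (1, 0, 0, 1)

def mat (p : ℕ) : T4 → Matrix (Fin 2) (Fin 2) (ZMod p)
  | (a, b, c, d) => !![(a : ZMod p), (b : ZMod p); (c : ZMod p), (d : ZMod p)]

lemma mat_mulN (p : ℕ) (x y : T4) : mat p (mulN p x y) = mat p x * mat p y := by
  obtain ⟨a, b, c, d⟩ := x
  obtain ⟨a', b', c', d'⟩ := y
  ext i j
  fin_cases i <;> fin_cases j <;>
    simp [mat, mulN, Matrix.mul_apply, Fin.sum_univ_two, ZMod.natCast_mod]

lemma mat_unitN (p : ℕ) : mat p unitN = 1 := by
  ext i j
  fin_cases i <;> fin_cases j <;> simp [mat, unitN]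

def eqB : T4 → T4 → Bool
  | (a, b, c, d), (a', b', c', d') => Nat.beq a a' && Nat.beq b b' && Nat.beq c c' && Nat.beq d d'

lemma eqB_iff (x y : T4) : eqB x y = true ↔ x = y := by
  obtain ⟨a, b, c, d⟩ := x
  obtain ⟨a', b', c', d'⟩ := y
  simp [eqB, Nat.beq_eq_true_eq, and_assoc]

def memB (x : T4) (L : List T4) : Bool := L.any (eqB x)

lemma memB_iff (x : T4) (L : List T4) : memB x L = true ↔ x ∈ L := by
  simp [memB, List.any_eq_true, eqB_iff]

def nodupB : List T4 → Bool
  | [] => true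
  | x :: xs => !memB x xs && nodupB xs

lemma nodupB_iff (L : List T4) : nodupB L = true → L.Nodup := by
  induction L with
  | nil => intro _; exact List.nodup_nil
  | cons x xs ih =>
    intro h
    simp only [nodupB, Bool.and_eq_true, Bool.not_eq_true'] at h
    refine List.nodup_cons.2 ⟨?_, ih h.2⟩
    intro hx
    have := (memB_iff x xs).2 hx
    rw [h.1] at this
    exact Bool.false_ne_true this

def inRange (p : ℕ) : T4 → Bool
  | (a, b, c, d) => Nat.blt a p && Nat.blt b p && Nat.blt c p && Nat.blt d p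

lemma mat_inj (p : ℕ) {x y : T4} (hx : inRange p x = true) (hy : inRange p y = true)
    (h : mat p x = mat p y) : x = y := by
  obtain ⟨a, b, c, d⟩ := x
  obtain ⟨a', b', c', d'⟩ := y
  simp only [inRange, Bool.and_eq_true, Nat.blt_eq] at hx hy
  obtain ⟨⟨⟨ha, hb⟩, hc⟩, hd⟩ := hx
  obtain ⟨⟨⟨ha', hb'⟩, hc'⟩, hd'⟩ := hy
  have key : ∀ u v : ℕ, u < p → v < p → ((u : ZMod p) = (v : ZMod p)) → u = v := by
    intro u v hu hv huv
    rw [ZMod.natCast_eq_natCast_iff', Nat.mod_eq_of_lt hu, Nat.mod_eq_of_lt hv] at huv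
    exact huv
  have h00 := congrFun (congrFun h 0) 0
  have h01 := congrFun (congrFun h 0) 1
  have h10 := congrFun (congrFun h 1) 0
  have h11 := congrFun (congrFun h 1) 1
  simp only [mat, Matrix.of_apply, Matrix.cons_val', Matrix.cons_val_zero, Matrix.cons_val_one,
    Matrix.cons_val_fin_one] at h00 h01 h10 h11
  rw [key a a' ha ha' h00, key b b' hb hb' h01, key c c' hc hc' h10, key d d' hd hd' h11]

/-- Evaluation of a word (list of generator indices), in the model. -/
def evN (p : ℕ) (gen : ℕ → T4) (w : List ℕ) : T4 :=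
  w.foldl (fun acc i => mulN p acc (gen i)) unitN

/-- Evaluation of a word in a group. -/
def evG {G : Type*} [Group G] (gs : ℕ → G) (w : List ℕ) : G :=
  w.foldl (fun acc i => acc * gs i) 1

lemma evG_mem {G : Type*} [Group G] (gs : ℕ → G) (H : Subgroup G) (w : List ℕ)
    (hw : ∀ i ∈ w, gs i ∈ H) : evG gs w ∈ H := by
  unfold evG
  have : ∀ (acc : G), acc ∈ H → (∀ i ∈ w, gs i ∈ H) →
      w.foldl (fun acc i => acc * gs i) acc ∈ H := by
    induction w with
    | nil => intro acc hacc _; simpa using hacc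
    | cons i w ih =>
      intro acc hacc hw
      rw [List.foldl_cons]
      exact ih (fun j hj => hw j (List.mem_cons_of_mem _ hj)) _
        (H.mul_mem hacc (hw i List.mem_cons_self))
        (fun j hj => hw j (List.mem_cons_of_mem _ hj))
  exact this 1 H.one_mem hw

abbrev GL2 (p : ℕ) := Matrix.GeneralLinearGroup (Fin 2) (ZMod p)

lemma evG_coe (p : ℕ) (gen : ℕ → T4) (gs : ℕ → GL2 p) (w : List ℕ)
    (hw : ∀ i ∈ w, ((gs i : GL2 p) : Matrix (Fin 2) (Fin 2) (ZMod p)) = mat p (gen i)) :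
    ((evG gs w : GL2 p) : Matrix (Fin 2) (Fin 2) (ZMod p)) = mat p (evN p gen w) := by
  unfold evG evN
  have : ∀ (acc : GL2 p) (accN : T4),
      ((acc : GL2 p) : Matrix (Fin 2) (Fin 2) (ZMod p)) = mat p accN →
      (∀ i ∈ w, ((gs i : GL2 p) : Matrix (Fin 2) (Fin 2) (ZMod p)) = mat p (gen i)) →
      ((w.foldl (fun acc i => acc * gs i) acc : GL2 p) : Matrix (Fin 2) (Fin 2) (ZMod p)) =
        mat p (w.foldl (fun acc i => mulN p acc (gen i)) accN) := by
    induction w with
    | nil => intro acc accN h _; simpa using h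
    | cons i w ih =>
      intro acc accN h hw
      rw [List.foldl_cons, List.foldl_cons]
      apply ih (fun j hj => hw j (List.mem_cons_of_mem _ hj))
      · rw [Units.val_mul, h, hw i List.mem_cons_self, mat_mulN]
      · exact fun j hj => hw j (List.mem_cons_of_mem _ hj)
  exact this 1 unitN (by rw [Units.val_one, mat_unitN]) hw

/-- The full boolean check. -/
def check (p k : ℕ) (gen ginv : ℕ → T4) (words : List (List ℕ)) : Bool :=
  let L := words.map (evN p gen)
  L.all (inRange p) && nodupB L && memB unitN L &&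
  words.all (fun w => w.all (fun i => Nat.blt i k)) &&
  (List.range k).all (fun i => eqB (mulN p (gen i) (ginv i)) unitN &&
    L.all (fun x => memB (mulN p x (gen i)) L && memB (mulN p x (ginv i)) L))

section sound

variable (p : ℕ) [Fact p.Prime] (k : ℕ) (gen ginv : ℕ → T4) (words : List (List ℕ))
  (hc : check p k gen ginv words = true)
  (gs : ℕ → GL2 p)
  (hgs : ∀ i < k, ((gs i : GL2 p) : Matrix (Fin 2) (Fin 2) (ZMod p)) = mat p (gen i))
  (S : Set (GL2 p)) (hS : S = {g | ∃ i < k, g = gs i})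

include hc hgs hS

theorem mem_closure_iff (g : GL2 p) :
    g ∈ Subgroup.closure S ↔
      ∃ x ∈ words.map (evN p gen), (g : Matrix (Fin 2) (Fin 2) (ZMod p)) = mat p x := by
  simp only [check, Bool.and_eq_true, List.all_eq_true, memB_iff, eqB_iff, Nat.blt_eq,
    List.mem_range] at hc
  obtain ⟨⟨⟨⟨hR, hN⟩, h1⟩, hw⟩, hcl⟩ := hc
  constructor
  · intro hg
    induction hg using Subgroup.closure_induction_right with
    | one => exact ⟨unitN, h1, by rw [Units.val_one, mat_unitN]⟩
    | mul_right x hx y hy ih =>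
      obtain ⟨xN, hxN, hxe⟩ := ih
      rw [hS] at hy
      obtain ⟨i, hi, rfl⟩ := hy
      refine ⟨mulN p xN (gen i), ((hcl i hi).2 xN hxN).1, ?_⟩
      rw [Units.val_mul, hxe, hgs i hi, mat_mulN]
    | mul_inv_cancel x hx y hy ih =>
      obtain ⟨xN, hxN, hxe⟩ := ih
      rw [hS] at hy
      obtain ⟨i, hi, rfl⟩ := hy
      refine ⟨mulN p xN (ginv i), ((hcl i hi).2 xN hxN).2, ?_⟩
      have hinv : ((gs i)⁻¹ : GL2 p).1 = mat p (ginv i) := by
        have e1 : (gs i).1 * mat p (ginv i) = 1 := by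
          rw [hgs i hi, ← mat_mulN, (hcl i hi).1, mat_unitN]
        have e2 : ((gs i)⁻¹ : GL2 p).1 * (gs i).1 = 1 := by
          rw [← Units.val_mul, inv_mul_cancel, Units.val_one]
        calc ((gs i)⁻¹ : GL2 p).1 = ((gs i)⁻¹ : GL2 p).1 * ((gs i).1 * mat p (ginv i)) := by
              rw [e1, mul_one]
          _ = mat p (ginv i) := by rw [← mul_assoc, e2, one_mul]
      rw [Units.val_mul, hxe, hinv, mat_mulN]
  · rintro ⟨x, hx, hgx⟩
    obtain ⟨w, hww, rfl⟩ := List.mem_map.1 hx
    have hwk : ∀ i ∈ w, i < k := hw w hww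
    have h2 := evG_coe p gen gs w (fun i hi => hgs i (hwk i hi))
    have h3 : g = evG gs w := Units.ext (by rw [hgx, h2])
    rw [h3]
    apply evG_mem
    intro i hi
    apply Subgroup.subset_closure
    rw [hS]
    exact ⟨i, hwk i hi, rfl⟩

theorem card_closure : Nat.card (Subgroup.closure S) = words.length := by
  classical
  have hmem := mem_closure_iff p k gen ginv words hc gs hgs S hS
  simp only [check, Bool.and_eq_true, List.all_eq_true, memB_iff, eqB_iff, Nat.blt_eq,
    List.mem_range] at hc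
  obtain ⟨⟨⟨⟨hR, hN⟩, h1⟩, hw⟩, hcl⟩ := hc
  have hN' := nodupB_iff _ hN
  set L := words.map (evN p gen) with hL
  let ψ : Subgroup.closure S → Matrix (Fin 2) (Fin 2) (ZMod p) := fun g => (g.1 : GL2 p).1
  have hψ : Function.Injective ψ := by
    intro a b hab
    exact Subtype.ext (Units.ext hab)
  have hrange : Set.range ψ = ↑(L.toFinset.image (mat p)) := by
    ext M
    constructor
    · rintro ⟨g, rfl⟩
      obtain ⟨x, hx, hgx⟩ := (hmem g.1).1 g.2
      simp only [Finset.coe_image, Set.mem_image, Finset.mem_coe, List.mem_toFinset]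
      exact ⟨x, hx, hgx.symm⟩
    · intro hM
      simp only [Finset.coe_image, Set.mem_image, Finset.mem_coe, List.mem_toFinset] at hM
      obtain ⟨x, hx, rfl⟩ := hM
      obtain ⟨w, hww, rfl⟩ := List.mem_map.1 hx
      have hwk : ∀ i ∈ w, i < k := hw w hww
      have h2 := evG_coe p gen gs w (fun i hi => hgs i (hwk i hi))
      have h3 : evG gs w ∈ Subgroup.closure S := (hmem _).2 ⟨_, hx, h2⟩
      exact ⟨⟨evG gs w, h3⟩, h2⟩
  rw [← Nat.card_range_of_injective hψ, hrange, Nat.card_coe_set_eq, Set.ncard_coe_finset,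
    Finset.card_image_of_injOn, List.toFinset_card_of_nodup hN', hL, List.length_map]
  intro x hx y hy hxy
  simp only [Finset.mem_coe, List.mem_toFinset] at hx hy
  exact mat_inj p (hR x hx) (hR y hy) hxy

end sound

/-- `det (x - 1)` in the model. -/
def detm1N (p : ℕ) : T4 → ℕ
  | (a, b, c, d) => ((a + (p - 1)) * (d + (p - 1)) + (p - 1) * (b * c)) % p

lemma detm1N_cast (p : ℕ) [Fact p.Prime] (x : T4) :
    ((detm1N p x : ℕ) : ZMod p) = (mat p x - 1).det := by
  obtain ⟨a, b, c, d⟩ := x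
  have hp : 1 ≤ p := (Fact.out : p.Prime).one_lt.le
  have hm1 : ((p - 1 : ℕ) : ZMod p) = -1 := by
    rw [Nat.cast_sub hp, ZMod.natCast_self, Nat.cast_one, zero_sub]
  rw [Matrix.det_fin_two]
  simp only [detm1N, ZMod.natCast_mod, mat, Nat.cast_add, Nat.cast_mul, hm1, Matrix.sub_apply,
    Matrix.of_apply, Matrix.cons_val', Matrix.cons_val_zero, Matrix.cons_val_one,
    Matrix.cons_val_fin_one, Matrix.one_apply_eq, Matrix.one_apply_ne, ne_eq, zero_ne_one,
    one_ne_zero, not_false_eq_true, sub_zero]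
  ring

/-- Semiregularity check. -/
def semiB (p : ℕ) (L : List T4) : Bool :=
  L.all fun x => eqB x unitN || !(Nat.beq (detm1N p x) 0)

lemma semiB_sound (p : ℕ) [Fact p.Prime] (L : List T4) (h : semiB p L = true) (x : T4)
    (hx : x ∈ L) (hne : x ≠ unitN) : (mat p x - 1).det ≠ 0 := by
  simp only [semiB, List.all_eq_true, Bool.or_eq_true, eqB_iff, Bool.not_eq_true',
    Nat.beq_eq_true_eq] at h
  have h1 := h x hx
  rcases h1 with h1 | h1
  · exact absurd h1 hne
  · rw [← detm1N_cast]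
    intro h0
    rw [ZMod.natCast_eq_zero_iff] at h0
    have hlt : detm1N p x < p := by
      obtain ⟨a, b, c, d⟩ := x
      exact Nat.mod_lt _ (Fact.out : p.Prime).pos
    have hne0 : detm1N p x ≠ 0 := by
      intro h2
      rw [h2] at h1
      simp at h1
    exact hne0 (Nat.eq_zero_of_dvd_of_lt h0 hlt)

/-- A subgroup of `GL(2,p)` of order `p^2-1` in which no non-identity element has eigenvalue `1`
acts regularly on the non-zero vectors. -/
theorem regular_of_semiregular (p : ℕ) [Fact p.Prime] (H : Subgroup (GL2 p))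
    (hcard : Nat.card H = p ^ 2 - 1)
    (hsemi : ∀ h ∈ H, h ≠ 1 → ((h : GL2 p).1 - 1).det ≠ 0) :
    ∀ v w : Fin 2 → ZMod p, v ≠ 0 → w ≠ 0 →
      ∃! h : H, Matrix.mulVec ((h : GL2 p) : Matrix (Fin 2) (Fin 2) (ZMod p)) v = w := by
  classical
  intro v w hv hw
  have hfix : ∀ h ∈ H, Matrix.mulVec (h : GL2 p).1 v = v → h = 1 := by
    intro h hh hhv
    by_contra hne
    apply hsemi h hh hne
    apply Matrix.exists_mulVec_eq_zero_iff.1
    refine ⟨v, hv, ?_⟩
    rw [Matrix.sub_mulVec, hhv, Matrix.one_mulVec, sub_self]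
  have hnz : ∀ h : H, Matrix.mulVec ((h : GL2 p) : Matrix (Fin 2) (Fin 2) (ZMod p)) v ≠ 0 := by
    intro h h0
    apply hv
    have := congrArg (Matrix.mulVec ((h⁻¹ : H) : GL2 p).1) h0
    rw [Matrix.mulVec_mulVec, Matrix.mulVec_zero] at this
    have e : ((h⁻¹ : H) : GL2 p).1 * ((h : H) : GL2 p).1 = 1 := by
      rw [← Units.val_mul, ← Subgroup.coe_mul, inv_mul_cancel, Subgroup.coe_one, Units.val_one]
    rwa [e, Matrix.one_mulVec] at this
  let f : H → {u : Fin 2 → ZMod p // u ≠ 0} := fun h => ⟨_, hnz h⟩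
  have hf : Function.Injective f := by
    intro a b hab
    have hab' : Matrix.mulVec (a : GL2 p).1 v = Matrix.mulVec (b : GL2 p).1 v :=
      congrArg Subtype.val hab
    have h1 : Matrix.mulVec ((b⁻¹ * a : H) : GL2 p).1 v = v := by
      rw [Subgroup.coe_mul, Units.val_mul, ← Matrix.mulVec_mulVec, hab', Matrix.mulVec_mulVec]
      have e : ((b⁻¹ : H) : GL2 p).1 * ((b : H) : GL2 p).1 = 1 := by
        rw [← Units.val_mul, ← Subgroup.coe_mul, inv_mul_cancel, Subgroup.coe_one, Units.val_one]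
      rw [e, Matrix.one_mulVec]
    have h2 := hfix _ (b⁻¹ * a).2 h1
    have h3 : b⁻¹ * a = 1 := Subtype.ext h2
    exact (inv_mul_eq_one.1 h3).symm
  have hcardT : Nat.card {u : Fin 2 → ZMod p // u ≠ 0} = p ^ 2 - 1 := by
    rw [Nat.card_eq_fintype_card, Fintype.card_subtype_compl, Fintype.card_fun, ZMod.card,
      Fintype.card_fin]
    simp
  have hbij : Function.Bijective f :=
    hf.bijective_of_nat_card_le (by rw [hcardT, hcard])
  obtain ⟨h, hh⟩ := hbij.2 ⟨w, hw⟩
  refine ⟨h, congrArg Subtype.val hh, ?_⟩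
  intro h' hh'
  apply hf
  apply Subtype.ext
  rw [hh]
  exact hh'

/-- The unpacked content of `check`. -/
lemma check_facts (p k : ℕ) (gen ginv : ℕ → T4) (words : List (List ℕ))
    (hc : check p k gen ginv words = true) :
    (∀ x ∈ words.map (evN p gen), inRange p x = true) ∧
    (words.map (evN p gen)).Nodup ∧ unitN ∈ words.map (evN p gen) ∧
    (∀ w ∈ words, ∀ i ∈ w, i < k) ∧
    (∀ i < k, mulN p (gen i) (ginv i) = unitN ∧ ∀ x ∈ words.map (evN p gen),
      mulN p x (gen i) ∈ words.map (evN p gen) ∧ mulN p x (ginv i) ∈ words.map (evN p gen)) := by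
  simp only [check, Bool.and_eq_true, List.all_eq_true, memB_iff, eqB_iff, Nat.blt_eq,
    List.mem_range] at hc
  obtain ⟨⟨⟨⟨hR, hN⟩, h1⟩, hw⟩, hcl⟩ := hc
  exact ⟨hR, nodupB_iff _ hN, h1, hw, hcl⟩

/-- If `mat x * mat y = 1` in the model then `mat y` is the inverse of any unit with matrix
`mat x`. -/
lemma inv_eq_of_mulN (p : ℕ) {g : GL2 p} {x y : T4} (hg : (g : GL2 p).1 = mat p x)
    (hxy : mulN p x y = unitN) : ((g⁻¹ : GL2 p) : GL2 p).1 = mat p y := by
  have e1 : (g : GL2 p).1 * mat p y = 1 := by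
    rw [hg, ← mat_mulN, hxy, mat_unitN]
  have e2 : ((g⁻¹ : GL2 p) : GL2 p).1 * (g : GL2 p).1 = 1 := by
    rw [← Units.val_mul, inv_mul_cancel, Units.val_one]
  calc ((g⁻¹ : GL2 p) : GL2 p).1 = ((g⁻¹ : GL2 p) : GL2 p).1 * ((g : GL2 p).1 * mat p y) := by
        rw [e1, mul_one]
    _ = mat p y := by rw [← mul_assoc, e2, one_mul]

/-- Scalar multiple in the model. -/
def scalN (p s : ℕ) : T4 → T4
  | (a, b, c, d) => ((s * a) % p, (s * b) % p, (s * c) % p, (s * d) % p)

lemma mat_scalN (p s : ℕ) (x : T4) : mat p (scalN p s x) = (s : ZMod p) • mat p x := by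
  obtain ⟨a, b, c, d⟩ := x
  ext i j
  fin_cases i <;> fin_cases j <;> simp [mat, scalN, ZMod.natCast_mod]

/-- A semiregular subgroup of `GL(2,p)` has order at most `p^2-1`. -/
theorem card_le_of_semiregular (p : ℕ) [Fact p.Prime] (H : Subgroup (GL2 p))
    (hsemi : ∀ h ∈ H, h ≠ 1 → ((h : GL2 p).1 - 1).det ≠ 0) :
    Nat.card H ≤ p ^ 2 - 1 := by
  classical
  let v : Fin 2 → ZMod p := ![1, 0]
  have hv : v ≠ 0 := by
    intro h
    have := congrFun h 0
    simp [v] at this
  have hfix : ∀ h ∈ H, Matrix.mulVec (h : GL2 p).1 v = v → h = 1 := by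
    intro h hh hhv
    by_contra hne
    apply hsemi h hh hne
    apply Matrix.exists_mulVec_eq_zero_iff.1
    refine ⟨v, hv, ?_⟩
    rw [Matrix.sub_mulVec, hhv, Matrix.one_mulVec, sub_self]
  have hnz : ∀ h : H, Matrix.mulVec ((h : GL2 p) : Matrix (Fin 2) (Fin 2) (ZMod p)) v ≠ 0 := by
    intro h h0
    apply hv
    have := congrArg (Matrix.mulVec ((h⁻¹ : H) : GL2 p).1) h0
    rw [Matrix.mulVec_mulVec, Matrix.mulVec_zero] at this
    have e : ((h⁻¹ : H) : GL2 p).1 * ((h : H) : GL2 p).1 = 1 := by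
      rw [← Units.val_mul, ← Subgroup.coe_mul, inv_mul_cancel, Subgroup.coe_one, Units.val_one]
    rwa [e, Matrix.one_mulVec] at this
  let f : H → {u : Fin 2 → ZMod p // u ≠ 0} := fun h => ⟨_, hnz h⟩
  have hf : Function.Injective f := by
    intro a b hab
    have hab' : Matrix.mulVec (a : GL2 p).1 v = Matrix.mulVec (b : GL2 p).1 v :=
      congrArg Subtype.val hab
    have h1 : Matrix.mulVec ((b⁻¹ * a : H) : GL2 p).1 v = v := by
      rw [Subgroup.coe_mul, Units.val_mul, ← Matrix.mulVec_mulVec, hab', Matrix.mulVec_mulVec]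
      have e : ((b⁻¹ : H) : GL2 p).1 * ((b : H) : GL2 p).1 = 1 := by
        rw [← Units.val_mul, ← Subgroup.coe_mul, inv_mul_cancel, Subgroup.coe_one, Units.val_one]
      rw [e, Matrix.one_mulVec]
    have h2 := hfix _ (b⁻¹ * a).2 h1
    have h3 : b⁻¹ * a = 1 := Subtype.ext h2
    exact (inv_mul_eq_one.1 h3).symm
  have hcardT : Nat.card {u : Fin 2 → ZMod p // u ≠ 0} = p ^ 2 - 1 := by
    rw [Nat.card_eq_fintype_card, Fintype.card_subtype_compl, Fintype.card_fun, ZMod.card,
      Fintype.card_fin]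
    simp
  rw [← hcardT]
  exact Nat.card_le_card_of_injective f hf

end Cfsg.Agent.Lib.Helper19.GL2Model
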