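import Mathlib
import Cfsg.Agent.Lib.Helper19.OPlusTwo1

/-!
# Sylow 2-subgroups of `O⁺(2m,2)` pairwise meet, part 2 (helper19)

The pointwise stabiliser of the standard totally singular subspace is a 2-group.
-/

set_option autoImplicit false

namespace Cfsg.Agent.Lib.Helper19.OPlusTwo

open Matrix QuadraticMap Cfsg.Agent.Lib.Helper19.OrthRefl Cfsg.Agent.Lib.Helper19.QuadStd

section two

variable {F : Type*} [Field F] {k : ℕ}

lemma two_eq_zero_of (h2 : ∀ c : F, c = 0 ∨ c = 1) : (1 : F) + 1 = 0 := by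
  rcases h2 (1 + 1) with h | h
  · exact h
  · exfalso
    have : (1 : F) = 0 := by linear_combination h
    exact one_ne_zero this

lemma coord_inl {g : ↥(Cfsg.isometryGroup F ⇑(stdPlus (k + 1) F))} (hg : g ∈ Sg k F)
    {x : Fin (k + 1) ⊕ Fin (k + 1) → F} (hx : InP x) :
    act g x (Sum.inl 0) = x (Sum.inl 0) * act g (e0 F k) (Sum.inl 0) +
      x (Sum.inr 0) * act g (f0 F k) (Sum.inl 0) := by
  conv_lhs => rw [act_coords hg hx]
  simp only [Pi.add_apply, Pi.smul_apply, smul_eq_mul]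
  rw [(decomp hx).2.1, zero_add]

lemma coord_inr {g : ↥(Cfsg.isometryGroup F ⇑(stdPlus (k + 1) F))} (hg : g ∈ Sg k F)
    {x : Fin (k + 1) ⊕ Fin (k + 1) → F} (hx : InP x) :
    act g x (Sum.inr 0) = x (Sum.inl 0) * act g (e0 F k) (Sum.inr 0) +
      x (Sum.inr 0) * act g (f0 F k) (Sum.inr 0) := by
  conv_lhs => rw [act_coords hg hx]
  simp only [Pi.add_apply, Pi.smul_apply, smul_eq_mul]
  rw [(decomp hx).2.2, zero_add]

/-- the action on the hyperbolic plane `P / W` is trivial or the swap -/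
lemma plane_cases (h2 : ∀ c : F, c = 0 ∨ c = 1)
    {g : ↥(Cfsg.isometryGroup F ⇑(stdPlus (k + 1) F))} (hg : g ∈ Sg k F) :
    (act g (e0 F k) (Sum.inl 0) = 1 ∧ act g (e0 F k) (Sum.inr 0) = 0 ∧
      act g (f0 F k) (Sum.inl 0) = 0 ∧ act g (f0 F k) (Sum.inr 0) = 1) ∨
    (act g (e0 F k) (Sum.inl 0) = 0 ∧ act g (e0 F k) (Sum.inr 0) = 1 ∧
      act g (f0 F k) (Sum.inl 0) = 1 ∧ act g (f0 F k) (Sum.inr 0) = 0) := by
  have q1 : act g (e0 F k) (Sum.inl 0) * act g (e0 F k) (Sum.inr 0) = 0 := by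
    rw [← Q_of_inP (act_inP hg inP_e0), Q_act g, Q_of_inP inP_e0]
    simp [e0]
  have q2 : act g (f0 F k) (Sum.inl 0) * act g (f0 F k) (Sum.inr 0) = 0 := by
    rw [← Q_of_inP (act_inP hg inP_f0), Q_act g, Q_of_inP inP_f0]
    simp [f0]
  have q3 : act g (e0 F k) (Sum.inl 0) * act g (f0 F k) (Sum.inr 0) +
      act g (f0 F k) (Sum.inl 0) * act g (e0 F k) (Sum.inr 0) = 1 := by
    rw [← polar_of_inP (act_inP hg inP_e0) (act_inP hg inP_f0), polar_act,
      polar_of_inP inP_e0 inP_f0]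
    simp [e0, f0]
  generalize act g (e0 F k) (Sum.inl 0) = a₁ at q1 q2 q3 ⊢
  generalize act g (e0 F k) (Sum.inr 0) = b₁ at q1 q2 q3 ⊢
  generalize act g (f0 F k) (Sum.inl 0) = a₂ at q1 q2 q3 ⊢
  generalize act g (f0 F k) (Sum.inr 0) = b₂ at q1 q2 q3 ⊢
  rcases h2 a₁ with h | h <;> rcases h2 b₁ with h' | h' <;> rcases h2 a₂ with h'' | h'' <;>
    rcases h2 b₂ with h''' | h''' <;> subst h h' h'' h''' <;> simp at q1 q2 q3 ⊢

lemma sq_coords (h2 : ∀ c : F, c = 0 ∨ c = 1)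
    {g : ↥(Cfsg.isometryGroup F ⇑(stdPlus (k + 1) F))} (hg : g ∈ Sg k F)
    {x : Fin (k + 1) ⊕ Fin (k + 1) → F} (hx : InP x) :
    act g (act g x) (Sum.inl 0) = x (Sum.inl 0) ∧ act g (act g x) (Sum.inr 0) = x (Sum.inr 0) := by
  have hx' := act_inP hg hx
  rw [coord_inl hg hx', coord_inr hg hx', coord_inl hg hx, coord_inr hg hx]
  rcases plane_cases h2 hg with ⟨h1, h3, h4, h5⟩ | ⟨h1, h3, h4, h5⟩
  · rw [h1, h3, h4, h5]
    constructor <;> ring
  · rw [h1, h3, h4, h5]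
    constructor <;> ring

/-- an element of the stabiliser acting trivially on `P / W` has order dividing four -/
lemma pow_four_of_trivial (h2 : ∀ c : F, c = 0 ∨ c = 1)
    {h : ↥(Cfsg.isometryGroup F ⇑(stdPlus (k + 1) F))} (hh : h ∈ Sg k F)
    (htriv : ∀ y : Fin (k + 1) ⊕ Fin (k + 1) → F, InP y →
      act h y (Sum.inl 0) = y (Sum.inl 0) ∧ act h y (Sum.inr 0) = y (Sum.inr 0))
    (x : Fin (k + 1) ⊕ Fin (k + 1) → F) :
    act h (act h (act h (act h x))) = x := by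
  have two := two_eq_zero_of h2
  have m1 : ∀ y, InP (act h y - y) := by
    intro y j
    rw [Pi.sub_apply, act_inr hh, sub_self]
  have m2 : ∀ y, InP y → InW (act h y - y) := by
    intro y hy
    refine ⟨m1 y, ?_, ?_⟩
    · rw [Pi.sub_apply, (htriv y hy).1, sub_self]
    · rw [Pi.sub_apply, (htriv y hy).2, sub_self]
  have m3 : ∀ y, InW y → act h y - y = 0 := by
    intro y hy
    rw [hh y hy, sub_self]
  have cube : ∀ y, ((act h (act h (act h y)) - act h (act h y)) - (act h (act h y) - act h y)) -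
      ((act h (act h y) - act h y) - (act h y - y)) = 0 := by
    intro y
    have := m3 _ (m2 _ (m1 y))
    rw [act_sub, act_sub, act_sub] at this
    exact this
  have E1 := cube x
  have E2 := cube (act h x)
  funext s
  have E1s := congrFun E1 s
  have E2s := congrFun E2 s
  simp only [Pi.sub_apply, Pi.zero_apply] at E1s E2s
  linear_combination E2s - E1s + (2 * act h (act h (act h x)) s - 3 * act h (act h x) s +
    2 * act h x s - x s) * two

theorem isPGroup_Sg (h2 : ∀ c : F, c = 0 ∨ c = 1) : IsPGroup 2 (Sg k F) := by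
  rintro ⟨g, hg⟩
  refine ⟨3, ?_⟩
  apply Subtype.ext
  rw [Subgroup.coe_pow, Subgroup.coe_one]
  show g ^ 2 ^ 3 = 1
  apply ext_act
  intro x
  rw [act_one]
  obtain ⟨h, hh⟩ : ∃ h, h = g * g := ⟨_, rfl⟩
  have hhS : h ∈ Sg k F := by rw [hh]; exact (Sg k F).mul_mem hg hg
  have e : g ^ 2 ^ 3 = h * (h * (h * h)) := by
    have e1 : g ^ 2 ^ 3 = (g ^ 2) ^ 4 := by rw [← pow_mul]; norm_num
    rw [e1, pow_two, ← hh, show (4 : ℕ) = 1 + 1 + 1 + 1 from rfl, pow_add, pow_add, pow_add,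
      pow_one, mul_assoc, mul_assoc]
  rw [e, act_mul, act_mul, act_mul]
  apply pow_four_of_trivial h2 hhS
  intro y hy
  rw [hh, act_mul]
  exact sq_coords h2 hg hy

end two

end Cfsg.Agent.Lib.Helper19.OPlusTwo
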