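import Mathlib
import Cfsg.Agent.Lib.Helper19.OPlusTwo2

/-!
# Sylow 2-subgroups of `O⁺(2m,2)` pairwise meet, part 3 (helper19)

Any two conjugates of the pointwise stabiliser of the standard totally singular subspace share a
reflection or a Siegel transformation.
-/

set_option autoImplicit false

namespace Cfsg.Agent.Lib.Helper19.OPlusTwo

open Matrix QuadraticMap Module Cfsg.Agent.Lib.Helper19.OrthRefl Cfsg.Agent.Lib.Helper19.QuadStd

section meet

variable {F : Type*} [Field F] {k : ℕ}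

lemma exists_polar_ne {m : ℕ} {v : Fin m ⊕ Fin m → F} (hv : v ≠ 0) :
    ∃ x, polar ⇑(stdPlus m F) v x ≠ 0 := by
  by_contra h
  push Not at h
  exact hv ((stdPlus_nondeg (F := F) m).1 v (fun w => by simpa using h w))

theorem meet (h2 : ∀ c : F, c = 0 ∨ c = 1)
    (y : ↥(Cfsg.isometryGroup F ⇑(stdPlus (k + 1) F))) :
    ∃ s : ↥(Cfsg.isometryGroup F ⇑(stdPlus (k + 1) F)),
      s ≠ 1 ∧ s ∈ Sg k F ∧ y⁻¹ * s * y ∈ Sg k F := by
  classical
  have hQ := stdPlus_nondeg (F := F) (k + 1)
  let π : (Fin (k + 1) ⊕ Fin (k + 1) → F) →ₗ[F] (Fin k → F) :=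
    LinearMap.pi (fun j => LinearMap.proj (Sum.inr j.succ))
  let A : (Fin (k + 1) ⊕ Fin (k + 1) → F) →ₗ[F] (Fin (k + 1) ⊕ Fin (k + 1) → F) :=
    Matrix.toLin' (((y⁻¹ : ↥(Cfsg.isometryGroup F ⇑(stdPlus (k + 1) F))) :
      Matrix.GeneralLinearGroup (Fin (k + 1) ⊕ Fin (k + 1)) F) :
      Matrix (Fin (k + 1) ⊕ Fin (k + 1)) (Fin (k + 1) ⊕ Fin (k + 1)) F)
  let φ : (Fin (k + 1) ⊕ Fin (k + 1) → F) →ₗ[F] (Fin k → F) × (Fin k → F) := π.prod (π.comp A)
  have hπ : ∀ x, π x = 0 ↔ InP x := by
    intro x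
    constructor
    · intro h j
      exact congrFun h j
    · intro h
      funext j
      exact h j
  have hA : ∀ x, A x = act y⁻¹ x := fun x => Matrix.toLin'_apply _ _
  have hker : ∀ x, x ∈ LinearMap.ker φ ↔ InP x ∧ InP (act y⁻¹ x) := by
    intro x
    rw [LinearMap.mem_ker]
    show (π x, π (A x)) = 0 ↔ _
    rw [Prod.mk_eq_zero, hπ, hπ, hA]
  have hdim : 2 ≤ finrank F (LinearMap.ker φ) := by
    have h1 := LinearMap.finrank_range_add_finrank_ker φ
    have h3 : finrank F (LinearMap.range φ) ≤ finrank F ((Fin k → F) × (Fin k → F)) :=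
      Submodule.finrank_le _
    rw [Module.finrank_prod, Module.finrank_fin_fun] at h3
    rw [Module.finrank_fintype_fun_eq_card, Fintype.card_sum, Fintype.card_fin] at h1
    omega
  obtain ⟨u, w, huR, hwR, hu0, hw0, hwu⟩ : ∃ u w : Fin (k + 1) ⊕ Fin (k + 1) → F,
      u ∈ LinearMap.ker φ ∧ w ∈ LinearMap.ker φ ∧ u ≠ 0 ∧ w ≠ 0 ∧ w ≠ u := by
    have hnot : ¬ finrank F (LinearMap.ker φ) ≤ 1 := by omega
    rw [finrank_le_one_iff] at hnot
    push Not at hnot
    obtain ⟨u, hu⟩ := hnot 0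
    obtain ⟨w, hw⟩ := hnot u
    refine ⟨u, w, u.2, w.2, ?_, ?_, ?_⟩
    · intro h
      apply hu 0
      rw [smul_zero]
      exact (Subtype.ext h).symm
    · intro h
      apply hw 0
      rw [zero_smul]
      exact (Subtype.ext h).symm
    · intro h
      apply hw 1
      rw [one_smul]
      exact (Subtype.ext h).symm
  have fixS : ∀ s : ↥(Cfsg.isometryGroup F ⇑(stdPlus (k + 1) F)),
      (∀ x, InW x → act s x = x) → (∀ x, InW x → act s (act y x) = act y x) →
      s ∈ Sg k F ∧ y⁻¹ * s * y ∈ Sg k F := by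
    intro s h1 h3
    refine ⟨h1, fun x hx => ?_⟩
    rw [act_mul, act_mul, h3 x hx, act_inv_act]
  have polar_y : ∀ v x, InP (act y⁻¹ v) → InW x →
      polar ⇑(stdPlus (k + 1) F) v (act y x) = 0 := by
    intro v x hv hx
    rw [← polar_act y⁻¹ v (act y x), act_inv_act]
    exact polar_inP_inW hv hx
  by_cases hcase : ∃ v ∈ LinearMap.ker φ, stdPlus (k + 1) F v ≠ 0
  · obtain ⟨v, hvR, hv⟩ := hcase
    obtain ⟨hvP, hvP'⟩ := (hker v).1 hvR
    refine ⟨refl (stdPlus (k + 1) F) v hv, ?_, fixS _ ?_ ?_⟩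
    · intro h1
      have hv0 : v ≠ 0 := fun h => hv (by rw [h, map_zero])
      obtain ⟨x, hx⟩ := exists_polar_ne hv0
      have h3 := congrArg (fun s => act s x) h1
      simp only [act_one, act_refl] at h3
      have h4 : ((stdPlus (k + 1) F v)⁻¹ * polar ⇑(stdPlus (k + 1) F) v x) • v = 0 := by
        have := sub_eq_self.mp h3
        exact this
      rcases smul_eq_zero.mp h4 with h5 | h5
      · rcases mul_eq_zero.mp h5 with h6 | h6
        · exact hv (inv_eq_zero.mp h6)
        · exact hx h6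
      · exact hv0 h5
    · intro x hx
      exact act_refl_of_polar_eq_zero _ v hv x (polar_inP_inW hvP hx)
    · intro x hx
      exact act_refl_of_polar_eq_zero _ v hv _ (polar_y v x hvP' hx)
  · push Not at hcase
    obtain ⟨huP, huP'⟩ := (hker u).1 huR
    obtain ⟨hwP, hwP'⟩ := (hker w).1 hwR
    have hu := hcase u huR
    have hw := hcase w hwR
    have huw0 : polar ⇑(stdPlus (k + 1) F) u w = 0 := by
      have := hcase (u + w) ((LinearMap.ker φ).add_mem huR hwR)
      unfold polar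
      rw [this, hu, hw]
      ring
    refine ⟨siegel (stdPlus (k + 1) F) hQ u w hu huw0, ?_, fixS _ ?_ ?_⟩
    · intro h1
      obtain ⟨x, hx⟩ := exists_polar_ne hw0
      have h3 := congrArg (fun s => act s x) h1
      simp only [act_one, act_siegel] at h3
      rw [hw, zero_smul, sub_zero] at h3
      have h4 : polar ⇑(stdPlus (k + 1) F) w x • u = polar ⇑(stdPlus (k + 1) F) u x • w := by
        have h5 : x + polar ⇑(stdPlus (k + 1) F) w x • u - polar ⇑(stdPlus (k + 1) F) u x • w
            - x = 0 := by rw [h3, sub_self]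
        have h6 : polar ⇑(stdPlus (k + 1) F) w x • u - polar ⇑(stdPlus (k + 1) F) u x • w = 0 := by
          rw [← h5]; abel
        exact sub_eq_zero.mp h6
      rcases h2 (polar ⇑(stdPlus (k + 1) F) w x) with h5 | h5
      · exact hx h5
      · rw [h5, one_smul] at h4
        rcases h2 (polar ⇑(stdPlus (k + 1) F) u x) with h6 | h6
        · rw [h6, zero_smul] at h4
          exact hu0 h4
        · rw [h6, one_smul] at h4
          exact hwu h4.symm
    · intro x hx
      rw [act_siegel, polar_inP_inW hwP hx, polar_inP_inW huP hx]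
      simp
    · intro x hx
      rw [act_siegel, polar_y w x hwP' hx, polar_y u x huP' hx]
      simp

end meet

end Cfsg.Agent.Lib.Helper19.OPlusTwo
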