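-- The adjoint representation of `SL₂` on trace-zero matrices as a map into `O₃`.
import Mathlib
import Cfsg.Prelude.Def_Classical
import Cfsg.Agent.Lib.Helper19.ExcIso
import Cfsg.Agent.Lib.Helper19.OrthRefl

set_option autoImplicit false

namespace Cfsg.Agent.Lib.Helper19.Omega3

open Matrix

variable {F : Type*} [Field F]

/-- Index type of the three dimensional form. -/
abbrev I3 : Type := Unit ⊕ (Fin 1 ⊕ Fin 1)

/-- Enumeration of the index type. -/
def e3 : Fin 3 ≃ I3 where
  toFun := ![Sum.inl (), Sum.inr (Sum.inl 0), Sum.inr (Sum.inr 0)]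
  invFun := Sum.elim (fun _ => 0) (Sum.elim (fun _ => 1) (fun _ => 2))
  left_inv := by intro i; fin_cases i <;> rfl
  right_inv := by
    rintro (⟨⟩ | ⟨i | i⟩)
    · rfl
    · have : i = 0 := Subsingleton.elim _ _
      subst this; rfl
    · have : i = 0 := Subsingleton.elim _ _
      subst this; rfl

/-- The matrix of `X ↦ g X adj(g)` on trace-zero matrices. -/
def M3 (g : Matrix (Fin 2) (Fin 2) F) : Matrix (Fin 3) (Fin 3) F :=
  !![g 0 0 * g 1 1 + g 0 1 * g 1 0, -(g 0 0 * g 1 0), g 0 1 * g 1 1;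
     -(2 * g 0 0 * g 0 1), g 0 0 ^ 2, -(g 0 1 ^ 2);
     2 * g 1 0 * g 1 1, -(g 1 0 ^ 2), g 1 1 ^ 2]

theorem M3_one : M3 (1 : Matrix (Fin 2) (Fin 2) F) = 1 := by
  ext i j
  fin_cases i <;> fin_cases j <;> simp [M3]

theorem M3_mul (g h : Matrix (Fin 2) (Fin 2) F) : M3 (g * h) = M3 g * M3 h := by
  ext i j
  fin_cases i <;> fin_cases j <;>
    simp [M3, Matrix.mul_apply, Fin.sum_univ_two, Fin.sum_univ_three] <;> ring

/-- `M3` as a monoid homomorphism. -/
def M3Hom : Matrix (Fin 2) (Fin 2) F →* Matrix I3 I3 F where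
  toFun g := Matrix.reindex e3 e3 (M3 g)
  map_one' := by
    rw [M3_one]
    ext i j
    simp [Matrix.one_apply]
  map_mul' g h := by
    rw [M3_mul]
    simp [Matrix.reindex_apply, Matrix.submatrix_mul_equiv]

theorem M3Hom_apply (g : Matrix (Fin 2) (Fin 2) F) :
    M3Hom g = Matrix.reindex e3 e3 (M3 g) := rfl

/-- The representation into `GL₃`. -/
noncomputable def rep3 : Matrix.SpecialLinearGroup (Fin 2) F →* Matrix.GeneralLinearGroup I3 F :=
  (Units.map (M3Hom (F := F))).comp Matrix.SpecialLinearGroup.toGL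

theorem rep3_val (g : Matrix.SpecialLinearGroup (Fin 2) F) :
    ((rep3 g : Matrix.GeneralLinearGroup I3 F) : Matrix I3 I3 F) = Matrix.reindex e3 e3 (M3 g.1) :=
  rfl

theorem quad_reindex (M : Matrix (Fin 3) (Fin 3) F) (v : I3 → F) :
    Cfsg.quadFormOdd 1 F ((Matrix.reindex e3 e3 M) *ᵥ v) =
      (M *ᵥ (v ∘ e3)) 0 ^ 2 + (M *ᵥ (v ∘ e3)) 1 * (M *ᵥ (v ∘ e3)) 2 := by
  rw [Matrix.reindex_apply, Matrix.submatrix_mulVec_equiv]
  unfold Cfsg.quadFormOdd
  simp [e3]

theorem quad_eq (v : I3 → F) :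
    Cfsg.quadFormOdd 1 F v = (v ∘ e3) 0 ^ 2 + (v ∘ e3) 1 * (v ∘ e3) 2 := by
  unfold Cfsg.quadFormOdd
  simp [e3]

theorem rep3_mem (g : Matrix.SpecialLinearGroup (Fin 2) F) :
    rep3 g ∈ Cfsg.isometryGroup F (Cfsg.quadFormOdd 1 F) := by
  rw [Cfsg.Agent.Lib.Helper19.OrthRefl.mem_iso]
  intro v
  rw [rep3_val, quad_reindex, quad_eq]
  have hdet : g.1 0 0 * g.1 1 1 - g.1 0 1 * g.1 1 0 = 1 := by
    have := g.2
    rw [Matrix.det_fin_two] at this
    exact this
  simp only [M3, Matrix.mulVec, dotProduct, Fin.sum_univ_three, Matrix.of_apply, Matrix.cons_val_zero,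
    Matrix.cons_val_one, Matrix.cons_val_two, Function.comp_apply]
  simp
  linear_combination ((g.1 0 0 * g.1 1 1 - g.1 0 1 * g.1 1 0) + 1) *
    ((v (e3 0)) ^ 2 + v (e3 1) * v (e3 2)) * hdet

/-- The representation into the isometry group. -/
noncomputable def rho3 : Matrix.SpecialLinearGroup (Fin 2) F →*
    ↥(Cfsg.isometryGroup F (Cfsg.quadFormOdd 1 F)) :=
  (rep3 (F := F)).codRestrict _ rep3_mem

theorem rho3_val (g : Matrix.SpecialLinearGroup (Fin 2) F) :
    (((rho3 g : ↥(Cfsg.isometryGroup F (Cfsg.quadFormOdd 1 F))) :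
      Matrix.GeneralLinearGroup I3 F) : Matrix I3 I3 F) = Matrix.reindex e3 e3 (M3 g.1) :=
  rfl

/-- The kernel consists of `±1`. -/
theorem rho3_ker (g : Matrix.SpecialLinearGroup (Fin 2) F) (hg : g ∈ (rho3 (F := F)).ker) :
    g.1 = 1 ∨ g.1 = -1 := by
  rw [MonoidHom.mem_ker] at hg
  have h1 : M3 g.1 = 1 := by
    have h := congrArg (fun x : ↥(Cfsg.isometryGroup F (Cfsg.quadFormOdd 1 F)) =>
      ((x : Matrix.GeneralLinearGroup I3 F) : Matrix I3 I3 F)) hg
    change Matrix.reindex e3 e3 (M3 g.1) = 1 at h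
    have h2 := congrArg (Matrix.reindex e3 e3).symm h
    rw [Equiv.symm_apply_apply] at h2
    rw [h2]
    ext i j
    simp [Matrix.one_apply]
  have e00 := congrFun (congrFun h1 0) 0
  have e11 := congrFun (congrFun h1 1) 1
  have e12 := congrFun (congrFun h1 1) 2
  have e21 := congrFun (congrFun h1 2) 1
  have e22 := congrFun (congrFun h1 2) 2
  simp [M3] at e00 e11 e12 e21 e22
  rw [e12, e21, mul_zero, add_zero] at e00
  rcases e11 with h | h
  · left
    have h' : g.1 1 1 = 1 := by rw [h, one_mul] at e00; exact e00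
    ext i j
    fin_cases i <;> fin_cases j <;> simp [e12, e21, h, h']
  · right
    have h' : g.1 1 1 = -1 := by
      rw [h] at e00
      linear_combination -e00
    ext i j
    fin_cases i <;> fin_cases j <;> simp [e12, e21, h, h']

theorem card_rho3_ker_le : Nat.card (rho3 (F := F)).ker ≤ 2 := by
  classical
  have hinj : Function.Injective (fun g : (rho3 (F := F)).ker => decide (g.1.1 = 1)) := by
    intro a b hab
    simp only [decide_eq_decide] at hab
    apply Subtype.ext
    apply Subtype.ext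
    rcases rho3_ker a.1 a.2 with h | h
    · rw [h, (hab.1 h)]
    · rcases rho3_ker b.1 b.2 with h' | h'
      · rw [(hab.2 h'), h']
      · rw [h, h']
  have := Nat.card_le_card_of_injective _ hinj
  rwa [Nat.card_eq_fintype_card (α := Bool), Fintype.card_bool] at this

/-- Transvections have order dividing the order of the field. -/
theorem orderOf_transvection_dvd [Fintype F] {i j : Fin 2} (hij : i ≠ j) (b : F) :
    orderOf (Matrix.SpecialLinearGroup.transvection hij b) ∣ Fintype.card F := by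
  let f : Multiplicative F →* Matrix.SpecialLinearGroup (Fin 2) F :=
    { toFun := fun b => Matrix.SpecialLinearGroup.transvection hij (Multiplicative.toAdd b)
      map_one' := Matrix.SpecialLinearGroup.transvection_coeff_zero hij
      map_mul' := fun a b => Matrix.SpecialLinearGroup.transvection_add hij _ _ }
  have h1 : orderOf (f (Multiplicative.ofAdd b)) ∣ orderOf (Multiplicative.ofAdd b) :=
    orderOf_map_dvd f _
  have h2 : orderOf (Multiplicative.ofAdd b) ∣ Nat.card (Multiplicative F) := orderOf_dvd_natCard _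
  rw [Nat.card_eq_fintype_card, Fintype.card_multiplicative] at h2
  exact h1.trans h2

end Cfsg.Agent.Lib.Helper19.Omega3
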