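-- The action of `SL₂(q²)` on Hermitian 2 × 2 matrices as a map into `O₄⁻(q)`.
import Mathlib
import Cfsg.Prelude.Def_Classical
import Cfsg.Agent.Lib.Helper19.UnitaryOrth

set_option autoImplicit false

namespace Cfsg.Agent.Lib.Helper19.Omega4M

open Matrix Cfsg.Agent.Lib.Helper19.UnitaryOrth

variable {F K : Type*} [Field F] [Fintype F] [Field K] [Fintype K] [Algebra F K] {q : ℕ}
  (hF : Fintype.card F = q) (hK : Fintype.card K = q ^ 2)

/-- The Hermitian matrix of a vector. -/
noncomputable def Phi (v : F × F × K) : Matrix (Fin 2) (Fin 2) K :=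
  !![algebraMap F K v.1, v.2.2; sig K hF v.2.2, -(algebraMap F K v.2.1)]

/-- The conjugate transpose. -/
noncomputable def star2 (A : Matrix (Fin 2) (Fin 2) K) : Matrix (Fin 2) (Fin 2) K :=
  ((sig K hF).mapMatrix A)ᵀ

lemma star2_apply (A : Matrix (Fin 2) (Fin 2) K) (i j : Fin 2) :
    star2 hF A i j = sig K hF (A j i) := rfl

lemma star2_mul (A B : Matrix (Fin 2) (Fin 2) K) : star2 hF (A * B) = star2 hF B * star2 hF A := by
  unfold star2
  rw [map_mul, Matrix.transpose_mul]

lemma star2_one : star2 hF (1 : Matrix (Fin 2) (Fin 2) K) = 1 := by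
  unfold star2
  rw [map_one, Matrix.transpose_one]

lemma det_star2 (A : Matrix (Fin 2) (Fin 2) K) : (star2 hF A).det = sig K hF A.det := by
  unfold star2
  rw [Matrix.det_transpose, ← RingHom.map_det]

/-- The action in coordinates. -/
noncomputable def actFun (A : Matrix (Fin 2) (Fin 2) K) (v : F × F × K) : F × F × K :=
  (v.1 * Algebra.norm F (A 0 0) - v.2.1 * Algebra.norm F (A 0 1)
      + Algebra.trace F K (A 0 0 * v.2.2 * sig K hF (A 0 1)),
   -(v.1 * Algebra.norm F (A 1 0)) + v.2.1 * Algebra.norm F (A 1 1)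
      - Algebra.trace F K (A 1 0 * v.2.2 * sig K hF (A 1 1)),
   algebraMap F K v.1 * (A 0 0 * sig K hF (A 1 0)) + A 0 0 * sig K hF (A 1 1) * v.2.2
      + A 0 1 * sig K hF (A 1 0) * sig K hF v.2.2
      - algebraMap F K v.2.1 * (A 0 1 * sig K hF (A 1 1)))

include hK in
lemma Phi_actFun (A : Matrix (Fin 2) (Fin 2) K) (v : F × F × K) :
    Phi hF (actFun hF A v) = A * Phi hF v * star2 hF A := by
  ext i j
  fin_cases i <;> fin_cases j
  · simp only [Phi, actFun, Matrix.mul_apply, Fin.sum_univ_two, star2_apply, Fin.zero_eta,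
      Matrix.of_apply, Matrix.cons_val_zero, Matrix.cons_val_one, map_add, map_sub, map_mul,
      trace_eq K hF hK, norm_eq K hF hK, sig_sig K hF hK]
    simp
    ring
  · simp only [Phi, actFun, Matrix.mul_apply, Fin.sum_univ_two, star2_apply, Fin.zero_eta,
      Fin.mk_one, Matrix.of_apply, Matrix.cons_val_zero, Matrix.cons_val_one, map_add, map_sub,
      map_mul]
    simp
    ring
  · simp only [Phi, actFun, Matrix.mul_apply, Fin.sum_univ_two, star2_apply, Fin.zero_eta,
      Fin.mk_one, Matrix.of_apply, Matrix.cons_val_zero, Matrix.cons_val_one, map_add, map_sub,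
      map_mul, sig_sig K hF hK, sig_algebraMap]
    simp
    ring
  · simp only [Phi, actFun, Matrix.mul_apply, Fin.sum_univ_two, star2_apply, Fin.mk_one,
      Matrix.of_apply, Matrix.cons_val_zero, Matrix.cons_val_one, map_add, map_sub, map_mul,
      map_neg, trace_eq K hF hK, norm_eq K hF hK, sig_sig K hF hK]
    simp
    ring

lemma Phi_injective : Function.Injective (Phi (K := K) hF) := by
  intro v w h
  have h00 := congrFun (congrFun h 0) 0
  have h01 := congrFun (congrFun h 0) 1
  have h11 := congrFun (congrFun h 1) 1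
  simp [Phi] at h00 h01 h11
  exact Prod.ext h00 (Prod.ext h11 h01)

lemma Phi_add (v w : F × F × K) : Phi hF (v + w) = Phi (K := K) hF v + Phi hF w := by
  ext i j
  fin_cases i <;> fin_cases j <;> simp [Phi] <;> ring

lemma Phi_smul (c : F) (v : F × F × K) : Phi hF (c • v) = c • Phi (K := K) hF v := by
  ext i j
  fin_cases i <;> fin_cases j <;> simp [Phi, Algebra.smul_def, sig_algebraMap]

include hK in
/-- The action as a linear map. -/
noncomputable def actLin (A : Matrix (Fin 2) (Fin 2) K) : (F × F × K) →ₗ[F] (F × F × K) where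
  toFun := actFun hF A
  map_add' v w := by
    apply Phi_injective hF
    rw [Phi_actFun hF hK, Phi_add, Phi_add, Phi_actFun hF hK, Phi_actFun hF hK, Matrix.mul_add,
      Matrix.add_mul]
  map_smul' c v := by
    apply Phi_injective hF
    rw [RingHom.id_apply, Phi_actFun hF hK, Phi_smul, Phi_smul, Phi_actFun hF hK,
      Matrix.mul_smul, Matrix.smul_mul]

lemma actLin_apply (A : Matrix (Fin 2) (Fin 2) K) (v : F × F × K) :
    actLin hF hK A v = actFun hF A v := rfl

/-- The representation of `SL₂(K)`. -/
noncomputable def rho : Matrix.SpecialLinearGroup (Fin 2) K →* Module.End F (F × F × K) where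
  toFun g := actLin hF hK g.1
  map_one' := by
    apply LinearMap.ext
    intro v
    apply Phi_injective hF
    rw [actLin_apply, Phi_actFun hF hK]
    change (1 : Matrix (Fin 2) (Fin 2) K) * _ * star2 hF 1 = _
    rw [star2_one, Matrix.one_mul, Matrix.mul_one]
    rfl
  map_mul' g h := by
    apply LinearMap.ext
    intro v
    apply Phi_injective hF
    rw [actLin_apply, Phi_actFun hF hK]
    change _ = Phi hF (actFun hF g.1 (actFun hF h.1 v))
    rw [Phi_actFun hF hK, Phi_actFun hF hK, Matrix.SpecialLinearGroup.coe_mul, star2_mul]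
    simp only [Matrix.mul_assoc]

lemma rho_apply (g : Matrix.SpecialLinearGroup (Fin 2) K) (v : F × F × K) :
    rho hF hK g v = actFun hF g.1 v := rfl

/-- The quadratic form on the coordinate space. -/
noncomputable def qV (v : F × F × K) : F := v.1 * v.2.1 + Algebra.norm F v.2.2

include hK in
lemma qV_eq (v : F × F × K) : algebraMap F K (qV v) = -(Phi hF v).det := by
  unfold qV Phi
  rw [Matrix.det_fin_two_of, map_add, map_mul, norm_eq K hF hK]
  ring

include hK in
lemma qV_rho (g : Matrix.SpecialLinearGroup (Fin 2) K) (v : F × F × K) :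
    qV (rho hF hK g v) = qV v := by
  apply (algebraMap F K).injective
  rw [qV_eq hF hK, qV_eq hF hK, rho_apply, Phi_actFun hF hK, Matrix.det_mul, Matrix.det_mul,
    det_star2, g.2, map_one, one_mul, mul_one]

include hK in
/-- The kernel consists of `±1`. -/
lemma rho_ker (g : Matrix.SpecialLinearGroup (Fin 2) K) (hg : rho (F := F) hF hK g = 1) :
    g.1 = 1 ∨ g.1 = -1 := by
  have h1 := LinearMap.congr_fun hg ((1 : F), (0 : F), (0 : K))
  have h2 := LinearMap.congr_fun hg ((0 : F), (1 : F), (0 : K))
  have h3 := LinearMap.congr_fun hg ((0 : F), (0 : F), (1 : K))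
  rw [rho_apply, Module.End.one_apply] at h1 h2 h3
  simp only [actFun, Prod.mk.injEq] at h1 h2 h3
  have hdet : g.1 0 0 * g.1 1 1 - g.1 0 1 * g.1 1 0 = 1 := by
    have := g.2
    rw [Matrix.det_fin_two] at this
    exact this
  have hsig0 : ∀ x : K, sig K hF x = 0 → x = 0 := by
    intro x hx
    have := congrArg (sig K hF) hx
    rw [sig_sig K hF hK, map_zero] at this
    exact this
  have hN0 : ∀ x : K, Algebra.norm F x = 0 → x = 0 := by
    intro x hx
    have := norm_eq K hF hK x
    rw [hx, map_zero] at this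
    rcases mul_eq_zero.1 this.symm with h | h
    · exact h
    · exact hsig0 x h
  have hc : g.1 1 0 = 0 := by
    have := h1.2.1
    simp at this
    exact this
  have hb : g.1 0 1 = 0 := by
    have := h2.1
    simp at this
    exact this
  have hNd : Algebra.norm F (g.1 1 1) = 1 := by
    have := h2.2.1
    simp at this
    exact this
  have hasd : g.1 0 0 * sig K hF (g.1 1 1) = 1 := by
    have := h3.2.2
    simp [hb] at this
    exact this
  rw [hb, zero_mul, sub_zero] at hdet
  have ha : g.1 0 0 ≠ 0 := by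
    intro h; rw [h, zero_mul] at hdet; exact zero_ne_one hdet
  have hsd : sig K hF (g.1 1 1) = g.1 1 1 := mul_left_cancel₀ ha (hasd.trans hdet.symm)
  have hdd : g.1 1 1 * g.1 1 1 = 1 := by
    have := norm_eq K hF hK (g.1 1 1)
    rw [hNd, map_one, hsd] at this
    exact this.symm
  have hsq : g.1 1 1 = 1 ∨ g.1 1 1 = -1 := by
    have : (g.1 1 1 - 1) * (g.1 1 1 + 1) = 0 := by linear_combination hdd
    rcases mul_eq_zero.1 this with h | h
    · left; linear_combination h
    · right; linear_combination h
  rcases hsq with h | h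
  · left
    have ha1 : g.1 0 0 = 1 := by rw [h, mul_one] at hdet; exact hdet
    ext i j
    fin_cases i <;> fin_cases j <;> simp [hb, hc, h, ha1]
  · right
    have ha1 : g.1 0 0 = -1 := by rw [h] at hdet; linear_combination -hdet
    ext i j
    fin_cases i <;> fin_cases j <;> simp [hb, hc, h, ha1]

/-- Coordinates on the space of Hermitian matrices. -/
noncomputable def T4 (b' : Module.Basis (Fin 2) F K) :
    (F × F × K) ≃ₗ[F] ((Fin 1 ⊕ Fin 1) ⊕ Fin 2 → F) where
  toFun v := Sum.elim (Sum.elim (fun _ => v.1) (fun _ => v.2.1)) (fun s => b'.repr v.2.2 s)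
  map_add' v w := by
    ext ((i | i) | s) <;> simp
  map_smul' c v := by
    ext ((i | i) | s) <;> simp
  invFun w := (w (Sum.inl (Sum.inl 0)), w (Sum.inl (Sum.inr 0)),
    b'.equivFun.symm (fun s => w (Sum.inr s)))
  left_inv v := by
    apply Prod.ext
    · rfl
    · apply Prod.ext
      · rfl
      · apply b'.equivFun.injective
        rw [LinearEquiv.apply_symm_apply]
        ext s
        simp
  right_inv w := by
    ext ((i | i) | s)
    · have : i = 0 := Subsingleton.elim _ _
      subst this; rfl
    · have : i = 0 := Subsingleton.elim _ _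
      subst this; rfl
    · change b'.equivFun (b'.equivFun.symm (fun s => w (Sum.inr s))) s = _
      rw [LinearEquiv.apply_symm_apply]

lemma T4_form (b' : Module.Basis (Fin 2) F K) (a b : F)
    (hnorm : ∀ x : K, Algebra.norm F x =
      (b'.repr x 0) ^ 2 + a * b'.repr x 0 * b'.repr x 1 + b * (b'.repr x 1) ^ 2)
    (v : F × F × K) : Cfsg.quadFormMinus 1 F a b (T4 b' v) = qV v := by
  unfold Cfsg.quadFormMinus qV
  rw [hnorm]
  simp [T4]

end Cfsg.Agent.Lib.Helper19.Omega4M
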