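-- The action of `SL₂ × SL₂` on 2 × 2 matrices as a map into `O₄⁺`.
import Mathlib
import Cfsg.Prelude.Def_Classical
import Cfsg.Agent.Lib.Helper19.ExcIso
import Cfsg.Agent.Lib.Helper19.OrthRefl

set_option autoImplicit false

namespace Cfsg.Agent.Lib.Helper19.Omega4P

open Matrix

variable {F : Type*} [Field F]

/-- Enumeration of the index type. -/
def e4 : Fin 4 ≃ Fin 2 ⊕ Fin 2 where
  toFun := ![Sum.inl 0, Sum.inl 1, Sum.inr 0, Sum.inr 1]
  invFun := Sum.elim ![0, 1] ![2, 3]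
  left_inv := by intro i; fin_cases i <;> rfl
  right_inv := by
    rintro (i | i) <;> fin_cases i <;> rfl

/-- The matrix of `X ↦ A X adj(B)`. -/
def M4 (A B : Matrix (Fin 2) (Fin 2) F) : Matrix (Fin 4) (Fin 4) F :=
  !![A 0 0 * B 1 1, -(A 0 0 * B 1 0), -(A 0 1 * B 1 0), -(A 0 1 * B 1 1);
     -(A 0 0 * B 0 1), A 0 0 * B 0 0, A 0 1 * B 0 0, A 0 1 * B 0 1;
     -(A 1 0 * B 0 1), A 1 0 * B 0 0, A 1 1 * B 0 0, A 1 1 * B 0 1;
     -(A 1 0 * B 1 1), A 1 0 * B 1 0, A 1 1 * B 1 0, A 1 1 * B 1 1]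

theorem M4_one : M4 (1 : Matrix (Fin 2) (Fin 2) F) 1 = 1 := by
  ext i j
  fin_cases i <;> fin_cases j <;> simp [M4]

theorem M4_mul (A B A' B' : Matrix (Fin 2) (Fin 2) F) :
    M4 (A * A') (B * B') = M4 A B * M4 A' B' := by
  ext i j
  fin_cases i <;> fin_cases j <;>
    simp [M4, Matrix.mul_apply, Fin.sum_univ_two, Fin.sum_univ_four] <;> ring

/-- `M4` as a monoid homomorphism. -/
def M4Hom : Matrix (Fin 2) (Fin 2) F × Matrix (Fin 2) (Fin 2) F →*
    Matrix (Fin 2 ⊕ Fin 2) (Fin 2 ⊕ Fin 2) F where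
  toFun g := Matrix.reindex e4 e4 (M4 g.1 g.2)
  map_one' := by
    rw [Prod.fst_one, Prod.snd_one, M4_one]
    ext i j
    simp [Matrix.one_apply]
  map_mul' g h := by
    rw [Prod.fst_mul, Prod.snd_mul, M4_mul]
    simp [Matrix.reindex_apply, Matrix.submatrix_mul_equiv]

/-- The representation into `GL₄`. -/
noncomputable def rep4 : Matrix.SpecialLinearGroup (Fin 2) F × Matrix.SpecialLinearGroup (Fin 2) F →*
    Matrix.GeneralLinearGroup (Fin 2 ⊕ Fin 2) F :=
  (Units.map (M4Hom (F := F))).comp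
    ((MulEquiv.prodUnits (M := Matrix (Fin 2) (Fin 2) F)
        (N := Matrix (Fin 2) (Fin 2) F)).symm.toMonoidHom.comp
      (MonoidHom.prodMap Matrix.SpecialLinearGroup.toGL Matrix.SpecialLinearGroup.toGL))

theorem rep4_val (g : Matrix.SpecialLinearGroup (Fin 2) F × Matrix.SpecialLinearGroup (Fin 2) F) :
    ((rep4 g : Matrix.GeneralLinearGroup (Fin 2 ⊕ Fin 2) F) : Matrix (Fin 2 ⊕ Fin 2) (Fin 2 ⊕ Fin 2) F)
      = Matrix.reindex e4 e4 (M4 g.1.1 g.2.1) :=
  rfl

theorem quad_reindex (M : Matrix (Fin 4) (Fin 4) F) (v : Fin 2 ⊕ Fin 2 → F) :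
    Cfsg.quadFormPlus 2 F ((Matrix.reindex e4 e4 M) *ᵥ v) =
      (M *ᵥ (v ∘ e4)) 0 * (M *ᵥ (v ∘ e4)) 2 + (M *ᵥ (v ∘ e4)) 1 * (M *ᵥ (v ∘ e4)) 3 := by
  rw [Matrix.reindex_apply, Matrix.submatrix_mulVec_equiv]
  unfold Cfsg.quadFormPlus
  simp [e4, Fin.sum_univ_two]

theorem quad_eq (v : Fin 2 ⊕ Fin 2 → F) :
    Cfsg.quadFormPlus 2 F v = (v ∘ e4) 0 * (v ∘ e4) 2 + (v ∘ e4) 1 * (v ∘ e4) 3 := by
  unfold Cfsg.quadFormPlus
  simp [e4, Fin.sum_univ_two]

theorem rep4_mem (g : Matrix.SpecialLinearGroup (Fin 2) F × Matrix.SpecialLinearGroup (Fin 2) F) :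
    rep4 g ∈ Cfsg.isometryGroup F (Cfsg.quadFormPlus 2 F) := by
  rw [Cfsg.Agent.Lib.Helper19.OrthRefl.mem_iso]
  intro v
  rw [rep4_val, quad_reindex, quad_eq]
  have hdetA : g.1.1 0 0 * g.1.1 1 1 - g.1.1 0 1 * g.1.1 1 0 = 1 := by
    have := g.1.2
    rw [Matrix.det_fin_two] at this
    exact this
  have hdetB : g.2.1 0 0 * g.2.1 1 1 - g.2.1 0 1 * g.2.1 1 0 = 1 := by
    have := g.2.2
    rw [Matrix.det_fin_two] at this
    exact this
  simp only [M4, Matrix.mulVec, dotProduct, Fin.sum_univ_four, Matrix.of_apply, Matrix.cons_val_zero,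
    Matrix.cons_val_one, Matrix.cons_val_two, Function.comp_apply]
  simp
  linear_combination (g.2.1 0 0 * g.2.1 1 1 - g.2.1 0 1 * g.2.1 1 0) *
    ((v (e4 0)) * v (e4 2) + v (e4 1) * v (e4 3)) * hdetA +
    ((v (e4 0)) * v (e4 2) + v (e4 1) * v (e4 3)) * hdetB

/-- The representation into the isometry group. -/
noncomputable def rho4 : Matrix.SpecialLinearGroup (Fin 2) F × Matrix.SpecialLinearGroup (Fin 2) F →*
    ↥(Cfsg.isometryGroup F (Cfsg.quadFormPlus 2 F)) :=
  (rep4 (F := F)).codRestrict _ rep4_mem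

/-- The kernel consists of `±(1,1)`. -/
theorem rho4_ker (g : Matrix.SpecialLinearGroup (Fin 2) F × Matrix.SpecialLinearGroup (Fin 2) F)
    (hg : g ∈ (rho4 (F := F)).ker) :
    (g.1.1 = 1 ∧ g.2.1 = 1) ∨ (g.1.1 = -1 ∧ g.2.1 = -1) := by
  rw [MonoidHom.mem_ker] at hg
  have h1 : M4 g.1.1 g.2.1 = 1 := by
    have h := congrArg (fun x : ↥(Cfsg.isometryGroup F (Cfsg.quadFormPlus 2 F)) =>
      ((x : Matrix.GeneralLinearGroup (Fin 2 ⊕ Fin 2) F) :
        Matrix (Fin 2 ⊕ Fin 2) (Fin 2 ⊕ Fin 2) F)) hg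
    change Matrix.reindex e4 e4 (M4 g.1.1 g.2.1) = 1 at h
    have h2 := congrArg (Matrix.reindex e4 e4).symm h
    rw [Equiv.symm_apply_apply] at h2
    rw [h2]
    ext i j
    simp [Matrix.one_apply]
  have hdetA : g.1.1 0 0 * g.1.1 1 1 - g.1.1 0 1 * g.1.1 1 0 = 1 := by
    have := g.1.2
    rw [Matrix.det_fin_two] at this
    exact this
  have e00 := congrFun (congrFun h1 0) 0
  have e01 := congrFun (congrFun h1 0) 1
  have e03 := congrFun (congrFun h1 0) 3
  have e10 := congrFun (congrFun h1 1) 0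
  have e11 := congrFun (congrFun h1 1) 1
  have e22 := congrFun (congrFun h1 2) 2
  have e30 := congrFun (congrFun h1 3) 0
  simp only [M4, Matrix.of_apply, Matrix.cons_val', Matrix.cons_val_zero, Matrix.cons_val_one,
    Matrix.cons_val_two, Matrix.cons_val_three, Matrix.one_apply] at e00 e01 e03 e10 e11 e22 e30
  simp at e00 e01 e03 e10 e11 e22 e30
  have ha : g.1.1 0 0 ≠ 0 := by
    intro h; rw [h, zero_mul] at e00; exact zero_ne_one e00
  have hs : g.2.1 1 1 ≠ 0 := by
    intro h; rw [h, mul_zero] at e00; exact zero_ne_one e00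
  have hr : g.2.1 1 0 = 0 := by
    rcases e01 with h | h
    · exact absurd h ha
    · exact h
  have hq : g.2.1 0 1 = 0 := by
    rcases e10 with h | h
    · exact absurd h ha
    · exact h
  have hb : g.1.1 0 1 = 0 := by
    rcases e03 with h | h
    · exact h
    · exact absurd h hs
  have hc : g.1.1 1 0 = 0 := by
    rcases e30 with h | h
    · exact h
    · exact absurd h hs
  rw [hb, zero_mul, sub_zero] at hdetA
  -- a * d = 1, a * s = 1, a * p = 1, d * p = 1
  have hsd : g.2.1 1 1 = g.1.1 1 1 := by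
    have : g.1.1 0 0 * g.2.1 1 1 = g.1.1 0 0 * g.1.1 1 1 := by rw [e00, hdetA]
    exact mul_left_cancel₀ ha this
  have hpd : g.2.1 0 0 = g.1.1 1 1 := by
    have : g.1.1 0 0 * g.2.1 0 0 = g.1.1 0 0 * g.1.1 1 1 := by rw [e11, hdetA]
    exact mul_left_cancel₀ ha this
  have had : g.1.1 0 0 = g.1.1 1 1 := by
    have hd : g.1.1 1 1 ≠ 0 := by
      intro h; rw [h, mul_zero] at hdetA; exact zero_ne_one hdetA
    have : g.1.1 0 0 * g.1.1 1 1 = g.1.1 1 1 * g.2.1 0 0 := by rw [hdetA, e22]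
    rw [hpd, mul_comm] at this
    exact mul_left_cancel₀ hd this
  rw [← had] at hsd hpd
  rw [← had] at hdetA
  have hsq : g.1.1 0 0 = 1 ∨ g.1.1 0 0 = -1 := by
    have : (g.1.1 0 0 - 1) * (g.1.1 0 0 + 1) = 0 := by linear_combination hdetA
    rcases mul_eq_zero.1 this with h | h
    · left; linear_combination h
    · right; linear_combination h
  rcases hsq with h | h
  · left
    constructor
    · ext i j
      fin_cases i <;> fin_cases j <;> simp [hb, hc, ← had, h]
    · ext i j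
      fin_cases i <;> fin_cases j <;> simp [hr, hq, hsd, hpd, h]
  · right
    constructor
    · ext i j
      fin_cases i <;> fin_cases j <;> simp [hb, hc, ← had, h]
    · ext i j
      fin_cases i <;> fin_cases j <;> simp [hr, hq, hsd, hpd, h]

theorem card_rho4_ker_le : Nat.card (rho4 (F := F)).ker ≤ 2 := by
  classical
  have hinj : Function.Injective (fun g : (rho4 (F := F)).ker => decide (g.1.1.1 = 1)) := by
    intro a b hab
    simp only [decide_eq_decide] at hab
    apply Subtype.ext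
    apply Prod.ext
    · apply Subtype.ext
      rcases rho4_ker a.1 a.2 with h | h
      · rcases rho4_ker b.1 b.2 with h' | h'
        · rw [h.1, h'.1]
        · rw [h.1, hab.1 h.1]
      · rcases rho4_ker b.1 b.2 with h' | h'
        · rw [hab.2 h'.1, h'.1]
        · rw [h.1, h'.1]
    · apply Subtype.ext
      rcases rho4_ker a.1 a.2 with h | h
      · rcases rho4_ker b.1 b.2 with h' | h'
        · rw [h.2, h'.2]
        · have := hab.1 h.1
          rw [h'.1] at this
          rw [h.2, h'.2, this]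
      · rcases rho4_ker b.1 b.2 with h' | h'
        · have := hab.2 h'.1
          rw [h.1] at this
          rw [h.2, h'.2, this]
        · rw [h.2, h'.2]
  have := Nat.card_le_card_of_injective _ hinj
  rwa [Nat.card_eq_fintype_card (α := Bool), Fintype.card_bool] at this

theorem card_rho4_ker_c2 (h2 : (2 : F) = 0) : Nat.card (rho4 (F := F)).ker ≤ 1 := by
  have hneg : (-1 : Matrix (Fin 2) (Fin 2) F) = 1 := by
    have : (1 : Matrix (Fin 2) (Fin 2) F) + 1 = 0 := by
      rw [← two_smul F (1 : Matrix (Fin 2) (Fin 2) F), h2, zero_smul]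
    exact neg_eq_of_add_eq_zero_left this
  have : Subsingleton (rho4 (F := F)).ker := by
    constructor
    intro a b
    apply Subtype.ext
    have ha : a.1.1.1 = 1 ∧ a.1.2.1 = 1 := by
      rcases rho4_ker a.1 a.2 with h | h
      · exact h
      · rw [hneg] at h; exact h
    have hb : b.1.1.1 = 1 ∧ b.1.2.1 = 1 := by
      rcases rho4_ker b.1 b.2 with h | h
      · exact h
      · rw [hneg] at h; exact h
    apply Prod.ext
    · apply Subtype.ext; rw [ha.1, hb.1]
    · apply Subtype.ext; rw [ha.2, hb.2]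
  exact Finite.card_le_one_iff_subsingleton.2 this

end Cfsg.Agent.Lib.Helper19.Omega4P
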