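-- The action of `SL₄` on the exterior square (Klein correspondence) as a map into `O₆⁺`.
import Mathlib
import Cfsg.Prelude.Def_Classical
import Cfsg.Agent.Lib.Helper19.ExcIso
import Cfsg.Agent.Lib.Helper19.OrthRefl

set_option autoImplicit false

namespace Cfsg.Agent.Lib.Helper19.Omega6P

open Matrix

variable {F : Type*} [Field F]

/-- Enumeration of the index type. -/
def e6 : Fin 6 ≃ Fin 3 ⊕ Fin 3 where
  toFun := ![Sum.inl 0, Sum.inl 1, Sum.inl 2, Sum.inr 0, Sum.inr 1, Sum.inr 2]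
  invFun := Sum.elim ![0, 1, 2] ![3, 4, 5]
  left_inv := by intro i; fin_cases i <;> rfl
  right_inv := by
    rintro (i | i) <;> fin_cases i <;> rfl

/-- The second compound matrix in the Klein basis `e₀₁, e₀₂, e₀₃, e₂₃, e₃₁, e₁₂`. -/
def M6 (g : Matrix (Fin 4) (Fin 4) F) : Matrix (Fin 6) (Fin 6) F :=
  !![g 0 0 * g 1 1 - g 1 0 * g 0 1, g 0 0 * g 1 2 - g 1 0 * g 0 2, g 0 0 * g 1 3 - g 1 0 * g 0 3, g 0 2 * g 1 3 - g 1 2 * g 0 3, g 0 3 * g 1 1 - g 1 3 * g 0 1, g 0 1 * g 1 2 - g 1 1 * g 0 2;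
     g 0 0 * g 2 1 - g 2 0 * g 0 1, g 0 0 * g 2 2 - g 2 0 * g 0 2, g 0 0 * g 2 3 - g 2 0 * g 0 3, g 0 2 * g 2 3 - g 2 2 * g 0 3, g 0 3 * g 2 1 - g 2 3 * g 0 1, g 0 1 * g 2 2 - g 2 1 * g 0 2;
     g 0 0 * g 3 1 - g 3 0 * g 0 1, g 0 0 * g 3 2 - g 3 0 * g 0 2, g 0 0 * g 3 3 - g 3 0 * g 0 3, g 0 2 * g 3 3 - g 3 2 * g 0 3, g 0 3 * g 3 1 - g 3 3 * g 0 1, g 0 1 * g 3 2 - g 3 1 * g 0 2;
     g 2 0 * g 3 1 - g 3 0 * g 2 1, g 2 0 * g 3 2 - g 3 0 * g 2 2, g 2 0 * g 3 3 - g 3 0 * g 2 3, g 2 2 * g 3 3 - g 3 2 * g 2 3, g 2 3 * g 3 1 - g 3 3 * g 2 1, g 2 1 * g 3 2 - g 3 1 * g 2 2;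
     g 3 0 * g 1 1 - g 1 0 * g 3 1, g 3 0 * g 1 2 - g 1 0 * g 3 2, g 3 0 * g 1 3 - g 1 0 * g 3 3, g 3 2 * g 1 3 - g 1 2 * g 3 3, g 3 3 * g 1 1 - g 1 3 * g 3 1, g 3 1 * g 1 2 - g 1 1 * g 3 2;
     g 1 0 * g 2 1 - g 2 0 * g 1 1, g 1 0 * g 2 2 - g 2 0 * g 1 2, g 1 0 * g 2 3 - g 2 0 * g 1 3, g 1 2 * g 2 3 - g 2 2 * g 1 3, g 1 3 * g 2 1 - g 2 3 * g 1 1, g 1 1 * g 2 2 - g 2 1 * g 1 2]

theorem M6_one : M6 (1 : Matrix (Fin 4) (Fin 4) F) = 1 := by
  ext i j
  fin_cases i <;> fin_cases j <;> simp [M6]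

set_option maxHeartbeats 1000000 in
theorem M6_mul (g h : Matrix (Fin 4) (Fin 4) F) : M6 (g * h) = M6 g * M6 h := by
  ext i j
  fin_cases i <;> fin_cases j <;>
    simp [M6, Matrix.mul_apply, Fin.sum_univ_four, Fin.sum_univ_six] <;> ring

theorem det4 (g : Matrix (Fin 4) (Fin 4) F) : g.det =
    g 0 0 * (g 1 1 * (g 2 2 * g 3 3 - g 2 3 * g 3 2) - g 1 2 * (g 2 1 * g 3 3 - g 2 3 * g 3 1)
      + g 1 3 * (g 2 1 * g 3 2 - g 2 2 * g 3 1))
    - g 0 1 * (g 1 0 * (g 2 2 * g 3 3 - g 2 3 * g 3 2) - g 1 2 * (g 2 0 * g 3 3 - g 2 3 * g 3 0)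
      + g 1 3 * (g 2 0 * g 3 2 - g 2 2 * g 3 0))
    + g 0 2 * (g 1 0 * (g 2 1 * g 3 3 - g 2 3 * g 3 1) - g 1 1 * (g 2 0 * g 3 3 - g 2 3 * g 3 0)
      + g 1 3 * (g 2 0 * g 3 1 - g 2 1 * g 3 0))
    - g 0 3 * (g 1 0 * (g 2 1 * g 3 2 - g 2 2 * g 3 1) - g 1 1 * (g 2 0 * g 3 2 - g 2 2 * g 3 0)
      + g 1 2 * (g 2 0 * g 3 1 - g 2 1 * g 3 0)) := by
  rw [Matrix.det_succ_row_zero]
  simp [Fin.sum_univ_four, Matrix.det_fin_three, Fin.succAbove]
  ring

/-- `M6` as a monoid homomorphism. -/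
def M6Hom : Matrix (Fin 4) (Fin 4) F →* Matrix (Fin 3 ⊕ Fin 3) (Fin 3 ⊕ Fin 3) F where
  toFun g := Matrix.reindex e6 e6 (M6 g)
  map_one' := by
    rw [M6_one]
    ext i j
    simp [Matrix.one_apply]
  map_mul' g h := by
    rw [M6_mul]
    simp [Matrix.reindex_apply, Matrix.submatrix_mul_equiv]

/-- The representation into `GL₆`. -/
noncomputable def rep6 : Matrix.SpecialLinearGroup (Fin 4) F →*
    Matrix.GeneralLinearGroup (Fin 3 ⊕ Fin 3) F :=
  (Units.map (M6Hom (F := F))).comp Matrix.SpecialLinearGroup.toGL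

theorem rep6_val (g : Matrix.SpecialLinearGroup (Fin 4) F) :
    ((rep6 g : Matrix.GeneralLinearGroup (Fin 3 ⊕ Fin 3) F) :
      Matrix (Fin 3 ⊕ Fin 3) (Fin 3 ⊕ Fin 3) F) = Matrix.reindex e6 e6 (M6 g.1) :=
  rfl

theorem quad_reindex (M : Matrix (Fin 6) (Fin 6) F) (v : Fin 3 ⊕ Fin 3 → F) :
    Cfsg.quadFormPlus 3 F ((Matrix.reindex e6 e6 M) *ᵥ v) =
      (M *ᵥ (v ∘ e6)) 0 * (M *ᵥ (v ∘ e6)) 3 + (M *ᵥ (v ∘ e6)) 1 * (M *ᵥ (v ∘ e6)) 4
        + (M *ᵥ (v ∘ e6)) 2 * (M *ᵥ (v ∘ e6)) 5 := by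
  rw [Matrix.reindex_apply, Matrix.submatrix_mulVec_equiv]
  unfold Cfsg.quadFormPlus
  simp [e6, Fin.sum_univ_three]

theorem quad_eq (v : Fin 3 ⊕ Fin 3 → F) :
    Cfsg.quadFormPlus 3 F v = (v ∘ e6) 0 * (v ∘ e6) 3 + (v ∘ e6) 1 * (v ∘ e6) 4
      + (v ∘ e6) 2 * (v ∘ e6) 5 := by
  unfold Cfsg.quadFormPlus
  simp [e6, Fin.sum_univ_three]

/-- The Klein quadratic form in `Fin 6` coordinates. -/
def q6 (w : Fin 6 → F) : F := w 0 * w 3 + w 1 * w 4 + w 2 * w 5

set_option maxHeartbeats 4000000 in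
theorem q6_M6 (G : Matrix (Fin 4) (Fin 4) F) (w : Fin 6 → F) :
    q6 (M6 G *ᵥ w) = G.det * q6 w := by
  rw [det4]
  unfold q6
  simp only [M6, Matrix.mulVec, dotProduct, Fin.sum_univ_six, Matrix.of_apply]
  simp
  ring

theorem M6_transpose (G : Matrix (Fin 4) (Fin 4) F) : M6 Gᵀ = (M6 G)ᵀ := by
  ext i j
  fin_cases i <;> fin_cases j <;> simp [M6, Matrix.transpose_apply] <;> ring

theorem rep6_mem (g : Matrix.SpecialLinearGroup (Fin 4) F) :
    rep6 g ∈ Cfsg.isometryGroup F (Cfsg.quadFormPlus 3 F) := by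
  rw [Cfsg.Agent.Lib.Helper19.OrthRefl.mem_iso]
  intro v
  rw [rep6_val, quad_reindex, quad_eq]
  have h := q6_M6 g.1 (v ∘ e6)
  rw [g.2, one_mul] at h
  exact h

/-- The representation into the isometry group. -/
noncomputable def rho6 : Matrix.SpecialLinearGroup (Fin 4) F →*
    ↥(Cfsg.isometryGroup F (Cfsg.quadFormPlus 3 F)) :=
  (rep6 (F := F)).codRestrict _ rep6_mem

/-- A matrix whose second compound is the identity is `±1`. -/
theorem M6_eq_one (G : Matrix (Fin 4) (Fin 4) F) (hG : M6 G = 1) : G = 1 ∨ G = -1 := by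
  have e00 : G 0 0 * G 1 1 - G 1 0 * G 0 1 = 1 := by
    have := congrFun (congrFun hG 0) 0
    simpa [M6] using this
  have e01 : G 0 0 * G 1 2 - G 1 0 * G 0 2 = 0 := by
    have := congrFun (congrFun hG 0) 1
    simpa [M6] using this
  have e02 : G 0 0 * G 1 3 - G 1 0 * G 0 3 = 0 := by
    have := congrFun (congrFun hG 0) 2
    simpa [M6] using this
  have e04 : G 0 3 * G 1 1 - G 1 3 * G 0 1 = 0 := by
    have := congrFun (congrFun hG 0) 4
    simpa [M6] using this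
  have e05 : G 0 1 * G 1 2 - G 1 1 * G 0 2 = 0 := by
    have := congrFun (congrFun hG 0) 5
    simpa [M6] using this
  have e10 : G 0 0 * G 2 1 - G 2 0 * G 0 1 = 0 := by
    have := congrFun (congrFun hG 1) 0
    simpa [M6] using this
  have e11 : G 0 0 * G 2 2 - G 2 0 * G 0 2 = 1 := by
    have := congrFun (congrFun hG 1) 1
    simpa [M6] using this
  have e12 : G 0 0 * G 2 3 - G 2 0 * G 0 3 = 0 := by
    have := congrFun (congrFun hG 1) 2
    simpa [M6] using this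
  have e15 : G 0 1 * G 2 2 - G 2 1 * G 0 2 = 0 := by
    have := congrFun (congrFun hG 1) 5
    simpa [M6] using this
  have e20 : G 0 0 * G 3 1 - G 3 0 * G 0 1 = 0 := by
    have := congrFun (congrFun hG 2) 0
    simpa [M6] using this
  have e21 : G 0 0 * G 3 2 - G 3 0 * G 0 2 = 0 := by
    have := congrFun (congrFun hG 2) 1
    simpa [M6] using this
  have e22 : G 0 0 * G 3 3 - G 3 0 * G 0 3 = 1 := by
    have := congrFun (congrFun hG 2) 2
    simpa [M6] using this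
  have e24 : G 0 3 * G 3 1 - G 3 3 * G 0 1 = 0 := by
    have := congrFun (congrFun hG 2) 4
    simpa [M6] using this
  have e31 : G 2 0 * G 3 2 - G 3 0 * G 2 2 = 0 := by
    have := congrFun (congrFun hG 3) 1
    simpa [M6] using this
  have e32 : G 2 0 * G 3 3 - G 3 0 * G 2 3 = 0 := by
    have := congrFun (congrFun hG 3) 2
    simpa [M6] using this
  have e33 : G 2 2 * G 3 3 - G 3 2 * G 2 3 = 1 := by
    have := congrFun (congrFun hG 3) 3
    simpa [M6] using this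
  have e40 : G 3 0 * G 1 1 - G 1 0 * G 3 1 = 0 := by
    have := congrFun (congrFun hG 4) 0
    simpa [M6] using this
  have e42 : G 3 0 * G 1 3 - G 1 0 * G 3 3 = 0 := by
    have := congrFun (congrFun hG 4) 2
    simpa [M6] using this
  have e44 : G 3 3 * G 1 1 - G 1 3 * G 3 1 = 1 := by
    have := congrFun (congrFun hG 4) 4
    simpa [M6] using this
  have e50 : G 1 0 * G 2 1 - G 2 0 * G 1 1 = 0 := by
    have := congrFun (congrFun hG 5) 0
    simpa [M6] using this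
  have e51 : G 1 0 * G 2 2 - G 2 0 * G 1 2 = 0 := by
    have := congrFun (congrFun hG 5) 1
    simpa [M6] using this
  have e55 : G 1 1 * G 2 2 - G 2 1 * G 1 2 = 1 := by
    have := congrFun (congrFun hG 5) 5
    simpa [M6] using this
  have z01 : G 0 1 = 0 := by
    linear_combination (-(G 0 1)) * e55 + (G 1 1) * e15 + (-G 2 1) * e05
  have z02 : G 0 2 = 0 := by
    linear_combination (-(G 0 2)) * e55 + (-G 2 2) * e05 + (G 1 2) * e15
  have z03 : G 0 3 = 0 := by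
    linear_combination (-(G 0 3)) * e44 + (G 3 3) * e04 + (-G 1 3) * e24
  have z10 : G 1 0 = 0 := by
    linear_combination (-(G 1 0)) * e11 + (G 0 0) * e51 + (G 2 0) * e01
  have z12 : G 1 2 = 0 := by
    linear_combination (-(G 1 2)) * e11 + (G 2 2) * e01 + (G 0 2) * e51
  have z13 : G 1 3 = 0 := by
    linear_combination (-(G 1 3)) * e22 + (G 3 3) * e02 + (-G 0 3) * e42
  have z20 : G 2 0 = 0 := by
    linear_combination (-(G 2 0)) * e00 + (-G 0 0) * e50 + (G 1 0) * e10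
  have z21 : G 2 1 = 0 := by
    linear_combination (-(G 2 1)) * e00 + (G 1 1) * e10 + (-G 0 1) * e50
  have z23 : G 2 3 = 0 := by
    linear_combination (-(G 2 3)) * e22 + (G 3 3) * e12 + (G 0 3) * e32
  have z30 : G 3 0 = 0 := by
    linear_combination (-(G 3 0)) * e00 + (G 0 0) * e40 + (G 1 0) * e20
  have z31 : G 3 1 = 0 := by
    linear_combination (-(G 3 1)) * e00 + (G 1 1) * e20 + (G 0 1) * e40
  have z32 : G 3 2 = 0 := by
    linear_combination (-(G 3 2)) * e11 + (G 2 2) * e21 + (-G 0 2) * e31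
  rw [z10, z01] at e00
  rw [z20, z02] at e11
  rw [z30, z03] at e22
  rw [z21, z12] at e55
  simp only [zero_mul, mul_zero, sub_zero] at e00 e11 e22 e55
  have h0 : G 0 0 ≠ 0 := by
    intro h; rw [h, zero_mul] at e00; exact zero_ne_one e00
  have hG2 : G 1 1 = G 2 2 := mul_left_cancel₀ h0 (e00.trans e11.symm)
  have hG3 : G 1 1 = G 3 3 := mul_left_cancel₀ h0 (e00.trans e22.symm)
  have hGne : G 1 1 ≠ 0 := by
    intro h; rw [h, mul_zero] at e00; exact zero_ne_one e00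
  have h01 : G 0 0 = G 1 1 := by
    rw [← hG2] at e55
    have : G 1 1 * G 0 0 = G 1 1 * G 1 1 := by rw [mul_comm, e00, e55]
    exact mul_left_cancel₀ hGne this
  have hsq : G 0 0 = 1 ∨ G 0 0 = -1 := by
    rw [← h01] at e00
    have : (G 0 0 - 1) * (G 0 0 + 1) = 0 := by linear_combination e00
    rcases mul_eq_zero.1 this with h | h
    · left; linear_combination h
    · right; linear_combination h
  rcases hsq with h | h
  · left
    ext i j
    fin_cases i <;> fin_cases j <;>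
      simp [z01, z02, z03, z10, z12, z13, z20, z21, z23, z30, z31, z32, ← hG2, ← hG3, ← h01, h]
  · right
    ext i j
    fin_cases i <;> fin_cases j <;>
      simp [z01, z02, z03, z10, z12, z13, z20, z21, z23, z30, z31, z32, ← hG2, ← hG3, ← h01, h]


/-- The kernel consists of `±1`. -/
theorem rho6_ker (g : Matrix.SpecialLinearGroup (Fin 4) F) (hg : g ∈ (rho6 (F := F)).ker) :
    g.1 = 1 ∨ g.1 = -1 := by
  rw [MonoidHom.mem_ker] at hg
  have h1 : M6 g.1 = 1 := by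
    have h := congrArg (fun x : ↥(Cfsg.isometryGroup F (Cfsg.quadFormPlus 3 F)) =>
      ((x : Matrix.GeneralLinearGroup (Fin 3 ⊕ Fin 3) F) :
        Matrix (Fin 3 ⊕ Fin 3) (Fin 3 ⊕ Fin 3) F)) hg
    change Matrix.reindex e6 e6 (M6 g.1) = 1 at h
    have h2 := congrArg (Matrix.reindex e6 e6).symm h
    rw [Equiv.symm_apply_apply] at h2
    rw [h2]
    ext i j
    simp [Matrix.one_apply]
  exact M6_eq_one g.1 h1

theorem card_rho6_ker_le : Nat.card (rho6 (F := F)).ker ≤ 2 := by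
  classical
  have hinj : Function.Injective (fun g : (rho6 (F := F)).ker => decide (g.1.1 = 1)) := by
    intro a b hab
    simp only [decide_eq_decide] at hab
    apply Subtype.ext
    apply Subtype.ext
    rcases rho6_ker a.1 a.2 with h | h
    · rw [h, (hab.1 h)]
    · rcases rho6_ker b.1 b.2 with h' | h'
      · rw [(hab.2 h'), h']
      · rw [h, h']
  have := Nat.card_le_card_of_injective _ hinj
  rwa [Nat.card_eq_fintype_card (α := Bool), Fintype.card_bool] at this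

theorem card_rho6_ker_c2 (h2 : (2 : F) = 0) : Nat.card (rho6 (F := F)).ker ≤ 1 := by
  have hneg : (-1 : Matrix (Fin 4) (Fin 4) F) = 1 := by
    have : (1 : Matrix (Fin 4) (Fin 4) F) + 1 = 0 := by
      rw [← two_smul F (1 : Matrix (Fin 4) (Fin 4) F), h2, zero_smul]
    exact neg_eq_of_add_eq_zero_left this
  have : Subsingleton (rho6 (F := F)).ker := by
    constructor
    intro a b
    apply Subtype.ext
    have ha : a.1.1 = 1 := by
      rcases rho6_ker a.1 a.2 with h | h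
      · exact h
      · rw [hneg] at h; exact h
    have hb : b.1.1 = 1 := by
      rcases rho6_ker b.1 b.2 with h | h
      · exact h
      · rw [hneg] at h; exact h
    apply Subtype.ext; rw [ha, hb]
  exact Finite.card_le_one_iff_subsingleton.2 this

end Cfsg.Agent.Lib.Helper19.Omega6P
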