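-- The action of `Sp₄` on the 5-dimensional part of the exterior square, as a map into `O₅`.
import Mathlib
import Cfsg.Prelude.Def_Classical
import Cfsg.Agent.Lib.Helper19.ExcIso
import Cfsg.Agent.Lib.Helper19.OrthRefl
import Cfsg.Agent.Lib.Helper19.Omega4P
import Cfsg.Agent.Lib.Helper19.Omega6P

set_option autoImplicit false

namespace Cfsg.Agent.Lib.Helper19.Omega5

open Matrix Cfsg.Agent.Lib.Helper19.Omega6P Cfsg.Agent.Lib.Helper19.Omega4P

variable {F : Type*} [Field F]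

local notation:70 A:70 " ⬝ " B:71 =>
  @HMul.hMul _ _ _ Matrix.instHMulOfFintypeOfMulOfAddCommMonoid A B

/-- Index type of the five dimensional form. -/
abbrev I5 : Type := Unit ⊕ (Fin 2 ⊕ Fin 2)

/-- Enumeration of the index type. -/
def e5 : Fin 5 ≃ I5 where
  toFun := ![Sum.inl (), Sum.inr (Sum.inl 0), Sum.inr (Sum.inl 1), Sum.inr (Sum.inr 0),
    Sum.inr (Sum.inr 1)]
  invFun := Sum.elim (fun _ => 0) (Sum.elim ![1, 2] ![3, 4])
  left_inv := by intro i; fin_cases i <;> rfl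
  right_inv := by
    rintro (⟨⟩ | ⟨i | i⟩)
    · rfl
    · fin_cases i <;> rfl
    · fin_cases i <;> rfl

/-- A symplectic matrix in `Fin 4` coordinates. -/
def g4 (g : Matrix (Fin 2 ⊕ Fin 2) (Fin 2 ⊕ Fin 2) F) : Matrix (Fin 4) (Fin 4) F :=
  Matrix.reindex e4.symm e4.symm g

theorem g4_one : g4 (1 : Matrix (Fin 2 ⊕ Fin 2) (Fin 2 ⊕ Fin 2) F) = 1 := by
  unfold g4
  ext i j
  simp [Matrix.one_apply]

theorem g4_mul (g h : Matrix (Fin 2 ⊕ Fin 2) (Fin 2 ⊕ Fin 2) F) : g4 (g * h) = g4 g * g4 h := by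
  unfold g4
  simp [Matrix.reindex_apply, Matrix.submatrix_mul_equiv]

theorem g4_transpose (g : Matrix (Fin 2 ⊕ Fin 2) (Fin 2 ⊕ Fin 2) F) : g4 gᵀ = (g4 g)ᵀ := by
  unfold g4
  simp [Matrix.reindex_apply, Matrix.transpose_submatrix]

theorem g4_neg (g : Matrix (Fin 2 ⊕ Fin 2) (Fin 2 ⊕ Fin 2) F) : g4 (-g) = -(g4 g) := by
  unfold g4
  ext i j
  simp

theorem g4_injective : Function.Injective (g4 (F := F)) := by
  unfold g4
  exact (Matrix.reindex e4.symm e4.symm).injective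

/-- The symplectic form in `Fin 4` coordinates. -/
def J4 : Matrix (Fin 4) (Fin 4) F :=
  !![0, 0, -1, 0; 0, 0, 0, -1; 1, 0, 0, 0; 0, 1, 0, 0]

theorem g4_J : g4 (Matrix.J (Fin 2) F) = J4 := by
  unfold g4 J4 Matrix.J
  ext i j
  fin_cases i <;> fin_cases j <;> simp [e4, Matrix.one_apply]

/-- The invariant bivector. -/
def om : Fin 6 → F := ![0, -1, 0, 0, 1, 0]

theorem M6_om (G : Matrix (Fin 4) (Fin 4) F) (hG : G * J4 * Gᵀ = J4) : M6 G *ᵥ om = om := by
  funext I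
  have h02 := congrFun (congrFun hG 0) 2
  have h01 := congrFun (congrFun hG 0) 1
  have h03 := congrFun (congrFun hG 0) 3
  have h23 := congrFun (congrFun hG 2) 3
  have h31 := congrFun (congrFun hG 3) 1
  have h12 := congrFun (congrFun hG 1) 2
  simp [Matrix.mul_apply, Fin.sum_univ_four, J4, Matrix.transpose_apply] at h02 h01 h03 h23 h31 h12
  fin_cases I <;>
    simp [M6, om, Matrix.mulVec, dotProduct, Fin.sum_univ_six]
  · linear_combination h01
  · linear_combination h02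
  · linear_combination h03
  · linear_combination h23
  · linear_combination h31
  · linear_combination h12

/-- Inclusion of the hyperplane orthogonal to `om`. -/
def iot : Matrix (Fin 6) (Fin 5) F :=
  !![0, 1, 0, 0, 0; 1, 0, 0, 0, 0; 0, 0, 1, 0, 0; 0, 0, 0, 1, 0; 1, 0, 0, 0, 0; 0, 0, 0, 0, 1]

/-- Projection onto the hyperplane along `om`. -/
def prj : Matrix (Fin 5) (Fin 6) F :=
  !![0, 2⁻¹, 0, 0, 2⁻¹, 0; 1, 0, 0, 0, 0, 0; 0, 0, 1, 0, 0, 0; 0, 0, 0, 1, 0, 0; 0, 0, 0, 0, 0, 1]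

theorem prj_iot (h2 : (2 : F) ≠ 0) : prj ⬝ iot = (1 : Matrix (Fin 5) (Fin 5) F) := by
  ext i j
  fin_cases i <;> fin_cases j <;>
    simp [prj, iot, Matrix.mul_apply, Fin.sum_univ_six, Matrix.one_apply]
  rw [← two_mul, mul_inv_cancel₀ h2]

theorem iot_prj (h2 : (2 : F) ≠ 0) :
    iot ⬝ prj = (1 : Matrix (Fin 6) (Fin 6) F) - Matrix.vecMulVec om ((2⁻¹ : F) • om) := by
  have h : (1 : F) - 2⁻¹ = 2⁻¹ := by field_simp; norm_num
  ext i j
  fin_cases i <;> fin_cases j <;>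
    simp [prj, iot, om, Matrix.mul_apply, Fin.sum_univ_five, Matrix.one_apply,
      Matrix.vecMulVec_apply, h]

theorem prj_om : prj *ᵥ (om : Fin 6 → F) = 0 := by
  funext i
  fin_cases i <;> simp [prj, om, Matrix.mulVec, dotProduct, Fin.sum_univ_six]

theorem om_iot : (om : Fin 6 → F) ᵥ* iot = 0 := by
  funext i
  fin_cases i <;> simp [iot, om, Matrix.vecMul, dotProduct, Fin.sum_univ_six]

/-- The five dimensional representation, as matrices over `Fin 5`. -/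
def M5 (G : Matrix (Fin 4) (Fin 4) F) : Matrix (Fin 5) (Fin 5) F := prj ⬝ M6 G ⬝ iot

theorem M5_one (h2 : (2 : F) ≠ 0) : M5 (1 : Matrix (Fin 4) (Fin 4) F) = 1 := by
  unfold M5
  rw [M6_one, Matrix.mul_one, prj_iot h2]

theorem M5_mul (h2 : (2 : F) ≠ 0) (G H : Matrix (Fin 4) (Fin 4) F) (hG : M6 G *ᵥ om = om) :
    M5 (G * H) = M5 G * M5 H := by
  unfold M5
  have e : (prj ⬝ M6 G ⬝ iot) ⬝ (prj ⬝ M6 H ⬝ iot) = prj ⬝ M6 G ⬝ (iot ⬝ prj) ⬝ M6 H ⬝ iot := by
    simp only [Matrix.mul_assoc]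
  have k : prj ⬝ M6 G ⬝ Matrix.vecMulVec om ((2⁻¹ : F) • om) = 0 := by
    rw [Matrix.mul_assoc, Matrix.mul_vecMulVec, hG, Matrix.mul_vecMulVec, prj_om]
    ext i j; simp [Matrix.vecMulVec_apply]
  rw [e, iot_prj h2, Matrix.mul_sub, Matrix.mul_one, Matrix.sub_mul, Matrix.sub_mul, k,
    Matrix.zero_mul, Matrix.zero_mul, sub_zero, M6_mul]
  simp only [Matrix.mul_assoc]

/-- The 5-dimensional form in `Fin 5` coordinates. -/
def q5 (c : Fin 5 → F) : F := c 0 ^ 2 + c 1 * c 3 + c 2 * c 4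

theorem q6_iot (c : Fin 5 → F) : q6 (iot *ᵥ c) = q5 c := by
  unfold q6 q5
  simp [iot, Matrix.mulVec, dotProduct, Fin.sum_univ_five]
  ring

theorem q6_om : q6 (om : Fin 6 → F) = -1 := by
  unfold q6
  simp [om]

theorem det_of_om (G : Matrix (Fin 4) (Fin 4) F) (hG : M6 G *ᵥ om = om) : G.det = 1 := by
  have h := q6_M6 G om
  rw [hG, q6_om] at h
  linear_combination h

theorem iot_M5 (h2 : (2 : F) ≠ 0) (G : Matrix (Fin 4) (Fin 4) F)
    (hG' : om ᵥ* M6 G = om) : iot ⬝ M5 G = M6 G ⬝ iot := by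
  unfold M5
  rw [← Matrix.mul_assoc, ← Matrix.mul_assoc, iot_prj h2, Matrix.sub_mul, Matrix.sub_mul,
    Matrix.one_mul, Matrix.vecMulVec_mul, Matrix.smul_vecMul, hG', Matrix.vecMulVec_mul,
    Matrix.smul_vecMul, om_iot, smul_zero]
  have : Matrix.vecMulVec (om : Fin 6 → F) (0 : Fin 5 → F) = 0 := by
    ext i j; simp [Matrix.vecMulVec_apply]
  rw [this, sub_zero]

theorem q5_M5 (h2 : (2 : F) ≠ 0) (G : Matrix (Fin 4) (Fin 4) F) (hG : M6 G *ᵥ om = om)
    (hG' : om ᵥ* M6 G = om) (c : Fin 5 → F) : q5 (M5 G *ᵥ c) = q5 c := by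
  rw [← q6_iot, Matrix.mulVec_mulVec, iot_M5 h2 G hG', ← Matrix.mulVec_mulVec, q6_M6,
    det_of_om G hG, one_mul, q6_iot]

theorem M6_of_M5 (h2 : (2 : F) ≠ 0) (G : Matrix (Fin 4) (Fin 4) F) (hG : M6 G *ᵥ om = om)
    (hG' : om ᵥ* M6 G = om) (h : M5 G = 1) : M6 G = 1 := by
  have h1 : M6 G ⬝ iot = iot := by rw [← iot_M5 h2 G hG', h, Matrix.mul_one]
  have h3 : M6 G ⬝ (iot ⬝ prj) = iot ⬝ prj := by rw [← Matrix.mul_assoc, h1]
  rw [iot_prj h2, Matrix.mul_sub, Matrix.mul_one, Matrix.mul_vecMulVec, hG] at h3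
  exact sub_left_injective h3

theorem sp_om (g : Matrix.symplecticGroup (Fin 2) F) : M6 (g4 g.1) *ᵥ om = om := by
  apply M6_om
  have h := SymplecticGroup.mem_iff.1 g.2
  have h' := congrArg g4 h
  rw [g4_mul, g4_mul, g4_transpose, g4_J] at h'
  exact h'

theorem sp_om' (g : Matrix.symplecticGroup (Fin 2) F) : om ᵥ* M6 (g4 g.1) = om := by
  have hT : g.1ᵀ ∈ Matrix.symplecticGroup (Fin 2) F := SymplecticGroup.transpose_mem g.2
  have h := sp_om (⟨g.1ᵀ, hT⟩ : Matrix.symplecticGroup (Fin 2) F)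
  change M6 (g4 g.1ᵀ) *ᵥ om = om at h
  rw [g4_transpose, M6_transpose, Matrix.mulVec_transpose] at h
  exact h

/-- The representation as a homomorphism into matrices. -/
def phi5Mat (h2 : (2 : F) ≠ 0) : Matrix.symplecticGroup (Fin 2) F →* Matrix I5 I5 F where
  toFun g := Matrix.reindex e5 e5 (M5 (g4 g.1))
  map_one' := by
    change Matrix.reindex e5 e5 (M5 (g4 (1 : Matrix (Fin 2 ⊕ Fin 2) (Fin 2 ⊕ Fin 2) F))) = 1
    rw [g4_one, M5_one h2]
    ext i j
    simp [Matrix.one_apply]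
  map_mul' g h := by
    change Matrix.reindex e5 e5 (M5 (g4 (g.1 * h.1))) = _
    rw [g4_mul, M5_mul h2 _ _ (sp_om g)]
    simp [Matrix.reindex_apply, Matrix.submatrix_mul_equiv]

/-- The representation into `GL₅`. -/
noncomputable def rep5 (h2 : (2 : F) ≠ 0) : Matrix.symplecticGroup (Fin 2) F →*
    Matrix.GeneralLinearGroup I5 F :=
  (Units.map (phi5Mat h2)).comp toUnits.toMonoidHom

theorem rep5_val (h2 : (2 : F) ≠ 0) (g : Matrix.symplecticGroup (Fin 2) F) :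
    ((rep5 h2 g : Matrix.GeneralLinearGroup I5 F) : Matrix I5 I5 F)
      = Matrix.reindex e5 e5 (M5 (g4 g.1)) :=
  rfl

theorem quad5_reindex (M : Matrix (Fin 5) (Fin 5) F) (v : I5 → F) :
    Cfsg.quadFormOdd 2 F ((Matrix.reindex e5 e5 M) *ᵥ v) = q5 (M *ᵥ (v ∘ e5)) := by
  rw [Matrix.reindex_apply, Matrix.submatrix_mulVec_equiv]
  unfold Cfsg.quadFormOdd q5
  simp [e5, Fin.sum_univ_two]
  ring

theorem quad5_eq (v : I5 → F) : Cfsg.quadFormOdd 2 F v = q5 (v ∘ e5) := by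
  unfold Cfsg.quadFormOdd q5
  simp [e5, Fin.sum_univ_two]
  ring

theorem rep5_mem (h2 : (2 : F) ≠ 0) (g : Matrix.symplecticGroup (Fin 2) F) :
    rep5 h2 g ∈ Cfsg.isometryGroup F (Cfsg.quadFormOdd 2 F) := by
  rw [Cfsg.Agent.Lib.Helper19.OrthRefl.mem_iso]
  intro v
  rw [rep5_val, quad5_reindex, quad5_eq]
  exact q5_M5 h2 _ (sp_om g) (sp_om' g) _

/-- The representation into the isometry group. -/
noncomputable def rho5 (h2 : (2 : F) ≠ 0) : Matrix.symplecticGroup (Fin 2) F →*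
    ↥(Cfsg.isometryGroup F (Cfsg.quadFormOdd 2 F)) :=
  (rep5 h2).codRestrict _ (rep5_mem h2)

/-- The kernel consists of `±1`. -/
theorem rho5_ker (h2 : (2 : F) ≠ 0) (g : Matrix.symplecticGroup (Fin 2) F)
    (hg : g ∈ (rho5 h2).ker) : g.1 = 1 ∨ g.1 = -1 := by
  rw [MonoidHom.mem_ker] at hg
  have h1 : M5 (g4 g.1) = 1 := by
    have h := congrArg (fun x : ↥(Cfsg.isometryGroup F (Cfsg.quadFormOdd 2 F)) =>
      ((x : Matrix.GeneralLinearGroup I5 F) : Matrix I5 I5 F)) hg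
    change Matrix.reindex e5 e5 (M5 (g4 g.1)) = 1 at h
    have h3 := congrArg (Matrix.reindex e5 e5).symm h
    rw [Equiv.symm_apply_apply] at h3
    rw [h3]
    ext i j
    simp [Matrix.one_apply]
  have h6 := M6_of_M5 h2 _ (sp_om g) (sp_om' g) h1
  rcases M6_eq_one _ h6 with h | h
  · left
    apply g4_injective
    rw [h, g4_one]
  · right
    apply g4_injective
    rw [h, g4_neg, g4_one]

theorem card_rho5_ker_le (h2 : (2 : F) ≠ 0) : Nat.card (rho5 h2).ker ≤ 2 := by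
  classical
  have hinj : Function.Injective (fun g : (rho5 h2).ker => decide (g.1.1 = 1)) := by
    intro a b hab
    simp only [decide_eq_decide] at hab
    apply Subtype.ext
    apply Subtype.ext
    rcases rho5_ker h2 a.1 a.2 with h | h
    · rw [h, (hab.1 h)]
    · rcases rho5_ker h2 b.1 b.2 with h' | h'
      · rw [(hab.2 h'), h']
      · rw [h, h']
  have := Nat.card_le_card_of_injective _ hinj
  rwa [Nat.card_eq_fintype_card (α := Bool), Fintype.card_bool] at this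

end Cfsg.Agent.Lib.Helper19.Omega5
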