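-- The twisted Klein correspondence: `SU₄(q)` acting on a 6-dimensional `F_q`-form of the
-- exterior square, as a map into `O₆⁻(q)`.
import Mathlib
import Cfsg.Prelude.Def_Classical
import Cfsg.Agent.Lib.Helper19.UnitaryOrth
import Cfsg.Agent.Lib.Helper19.Omega6P

set_option autoImplicit false

namespace Cfsg.Agent.Lib.Helper19.Omega6M

open Matrix Cfsg.Agent.Lib.Helper19.UnitaryOrth Cfsg.Agent.Lib.Helper19.Omega6P

section matrices

variable {K : Type*} [Field K]

/-- The Gram matrix of the polar form of the Klein form. -/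
def Kl : Matrix (Fin 6) (Fin 6) K :=
  !![0, 0, 0, 1, 0, 0; 0, 0, 0, 0, 1, 0; 0, 0, 0, 0, 0, 1;
     1, 0, 0, 0, 0, 0; 0, 1, 0, 0, 0, 0; 0, 0, 1, 0, 0, 0]

theorem Kl_mul_Kl : (Kl : Matrix (Fin 6) (Fin 6) K) * Kl = 1 := by
  ext i j
  fin_cases i <;> fin_cases j <;> simp [Kl, Matrix.mul_apply, Fin.sum_univ_six, Matrix.one_apply]

set_option maxHeartbeats 4000000 in
theorem M6_klein (G : Matrix (Fin 4) (Fin 4) K) : (M6 G)ᵀ * Kl * M6 G = G.det • Kl := by
  rw [det4]
  ext i j
  fin_cases i <;> fin_cases j <;>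
    simp [M6, Kl, Matrix.mul_apply, Fin.sum_univ_six, Matrix.transpose_apply, Matrix.smul_apply] <;>
    ring

theorem M6_map (f : K →+* K) (G : Matrix (Fin 4) (Fin 4) K) :
    M6 (f.mapMatrix G) = f.mapMatrix (M6 G) := by
  ext i j
  fin_cases i <;> fin_cases j <;> simp [M6, RingHom.mapMatrix_apply, Matrix.map_apply]

theorem Kl_map (f : K →+* K) : f.mapMatrix (Kl : Matrix (Fin 6) (Fin 6) K) = Kl := by
  ext i j
  fin_cases i <;> fin_cases j <;> simp [Kl, RingHom.mapMatrix_apply, Matrix.map_apply]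

/-- For a unitary matrix of determinant one, the conjugate of the compound matrix is its
conjugate by the Klein Gram matrix. -/
theorem M6_sigma (f : K →+* K) (G : Matrix (Fin 4) (Fin 4) K) (hdet : G.det = 1)
    (hG : Gᵀ * f.mapMatrix G = 1) : f.mapMatrix (M6 G) = Kl * M6 G * Kl := by
  have h1 : (M6 G)ᵀ * f.mapMatrix (M6 G) = 1 := by
    rw [← M6_transpose, ← M6_map, ← M6_mul, hG, M6_one]
  have h2 : (M6 G)ᵀ * (Kl * M6 G * Kl) = 1 := by
    have := M6_klein G
    rw [hdet, one_smul] at this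
    rw [← Matrix.mul_assoc, ← Matrix.mul_assoc, this, Kl_mul_Kl]
  have h3 : (Kl * M6 G * Kl) * (M6 G)ᵀ = 1 := mul_eq_one_comm.1 h2
  calc f.mapMatrix (M6 G) = (Kl * M6 G * Kl * (M6 G)ᵀ) * f.mapMatrix (M6 G) := by
        rw [h3, Matrix.one_mul]
    _ = Kl * M6 G * Kl * ((M6 G)ᵀ * f.mapMatrix (M6 G)) := by rw [Matrix.mul_assoc]
    _ = Kl * M6 G * Kl := by rw [h1, Matrix.mul_one]

end matrices

section setting

variable {F K : Type*} [Field F] [Fintype F] [Field K] [Fintype K] [Algebra F K] {q : ℕ}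
  (hF : Fintype.card F = q) (hK : Fintype.card K = q ^ 2)

/-- The defining relation of the unitary group in matrix form. -/
lemma SU_rel (g : ↥(Cfsg.SU 4 K q)) : (g.1.1)ᵀ * (sig K hF).mapMatrix g.1.1 = 1 := by
  ext i j
  have h := g.2 (Pi.single i 1) (Pi.single j 1)
  change Cfsg.hermForm 4 K q (g.1.1 *ᵥ Pi.single i 1) (g.1.1 *ᵥ Pi.single j 1)
    = Cfsg.hermForm 4 K q (Pi.single i 1) (Pi.single j 1) at h
  rw [Matrix.mul_apply]
  simp only [Matrix.transpose_apply, RingHom.mapMatrix_apply, Matrix.map_apply, sig_apply]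
  unfold Cfsg.hermForm at h
  simp only [Matrix.mulVec_single_one, Matrix.col_apply] at h
  rw [h]
  have hq : q ≠ 0 := by rw [← hF]; exact Fintype.card_ne_zero
  by_cases hij : i = j
  · subst hij
    simp [Matrix.one_apply, Pi.single_apply, hq]
  · simp [Matrix.one_apply, Pi.single_apply, hij, hq]
    intro k
    exact hij k.symm

/-- The embedding of `K³` as the fixed space of the semilinear involution. -/
noncomputable def emb (u : Fin 3 → K) : Fin 6 → K :=
  ![u 0, u 1, u 2, sig K hF (u 0), sig K hF (u 1), sig K hF (u 2)]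

/-- The first three coordinates. -/
def fst3 (w : Fin 6 → K) : Fin 3 → K := ![w 0, w 1, w 2]

lemma fst3_emb (u : Fin 3 → K) : fst3 (emb hF u) = u := by
  funext i
  fin_cases i <;> simp [fst3, emb]

lemma emb_injective : Function.Injective (emb (K := K) hF) := by
  intro u v h
  rw [← fst3_emb hF u, ← fst3_emb hF v, h]

include hK in
lemma emb_of_fixed (w : Fin 6 → K)
    (hw : (Kl : Matrix (Fin 6) (Fin 6) K) *ᵥ (fun i => sig K hF (w i)) = w) :
    w = emb hF (fst3 w) := by
  have h0 := congrFun hw 3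
  have h1 := congrFun hw 4
  have h2 := congrFun hw 5
  simp [Kl, Matrix.mulVec, dotProduct, Fin.sum_univ_six] at h0 h1 h2
  funext i
  fin_cases i <;> simp [emb, fst3, h0, h1, h2]

include hK in
lemma Kl_emb (u : Fin 3 → K) :
    (Kl : Matrix (Fin 6) (Fin 6) K) *ᵥ (fun i => sig K hF (emb hF u i)) = emb hF u := by
  funext i
  fin_cases i <;> simp [Kl, emb, Matrix.mulVec, dotProduct, Fin.sum_univ_six, sig_sig K hF hK]

include hK in
/-- The compound matrix of a special unitary matrix preserves the fixed space. -/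
lemma M6_emb (G : Matrix (Fin 4) (Fin 4) K) (hdet : G.det = 1)
    (hG : Gᵀ * (sig K hF).mapMatrix G = 1) (u : Fin 3 → K) :
    M6 G *ᵥ emb hF u = emb hF (fst3 (M6 G *ᵥ emb hF u)) := by
  apply emb_of_fixed hF hK
  have h1 : (fun i => sig K hF ((M6 G *ᵥ emb hF u) i)) =
      (sig K hF).mapMatrix (M6 G) *ᵥ (fun i => sig K hF (emb hF u i)) := by
    funext i
    exact RingHom.map_mulVec (sig K hF) (M6 G) (emb hF u) i
  rw [h1, M6_sigma (sig K hF) G hdet hG, Matrix.mulVec_mulVec, ← Matrix.mul_assoc,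
    ← Matrix.mul_assoc, Kl_mul_Kl, Matrix.one_mul, ← Matrix.mulVec_mulVec, Kl_emb hF hK]

lemma emb_add (u v : Fin 3 → K) : emb hF (u + v) = emb hF u + emb hF v := by
  funext i
  fin_cases i <;> simp [emb]

lemma emb_smul (c : F) (u : Fin 3 → K) : emb hF (c • u) = algebraMap F K c • emb hF u := by
  funext i
  fin_cases i <;> simp [emb, Algebra.smul_def, sig_algebraMap]

lemma fst3_add (v w : Fin 6 → K) : fst3 (v + w) = fst3 v + fst3 w := by
  funext i
  fin_cases i <;> simp [fst3]

lemma fst3_smul (c : K) (w : Fin 6 → K) : fst3 (c • w) = c • fst3 w := by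
  funext i
  fin_cases i <;> simp [fst3]

/-- The action of a matrix on `K³`, as an `F`-linear map. -/
noncomputable def actL (G : Matrix (Fin 4) (Fin 4) K) : (Fin 3 → K) →ₗ[F] (Fin 3 → K) where
  toFun u := fst3 (M6 G *ᵥ emb hF u)
  map_add' u v := by
    rw [emb_add, Matrix.mulVec_add, fst3_add]
  map_smul' c u := by
    rw [emb_smul, Matrix.mulVec_smul, fst3_smul, RingHom.id_apply]
    funext i
    simp [Algebra.smul_def]

lemma actL_apply (G : Matrix (Fin 4) (Fin 4) K) (u : Fin 3 → K) :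
    actL (F := F) hF G u = fst3 (M6 G *ᵥ emb hF u) := rfl

include hK in
lemma emb_actL (g : ↥(Cfsg.SU 4 K q)) (u : Fin 3 → K) :
    emb hF (actL (F := F) hF g.1.1 u) = M6 g.1.1 *ᵥ emb hF u :=
  (M6_emb hF hK g.1.1 g.1.2 (SU_rel hF g) u).symm

include hK in
/-- The representation of `SU₄`. -/
noncomputable def rho : ↥(Cfsg.SU 4 K q) →* Module.End F (Fin 3 → K) where
  toFun g := actL hF g.1.1
  map_one' := by
    apply LinearMap.ext
    intro u
    change fst3 (M6 (1 : Matrix (Fin 4) (Fin 4) K) *ᵥ emb hF u) = u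
    rw [M6_one, Matrix.one_mulVec, fst3_emb]
  map_mul' g h := by
    apply LinearMap.ext
    intro u
    apply emb_injective hF
    rw [emb_actL hF hK]
    change _ = emb hF (actL hF g.1.1 (actL hF h.1.1 u))
    rw [emb_actL hF hK, emb_actL hF hK, Matrix.mulVec_mulVec, ← M6_mul]
    rfl

lemma rho_apply (g : ↥(Cfsg.SU 4 K q)) (u : Fin 3 → K) :
    rho (F := F) hF hK g u = actL hF g.1.1 u := rfl

/-- The norm form on `K³`. -/
noncomputable def nrm (u : Fin 3 → K) : F := ∑ i, Algebra.norm F (u i)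

include hK in
lemma nrm_eq (u : Fin 3 → K) : algebraMap F K (nrm u) = q6 (emb hF u) := by
  unfold nrm q6
  rw [map_sum, Fin.sum_univ_three, norm_eq K hF hK, norm_eq K hF hK, norm_eq K hF hK]
  simp [emb]

include hK in
lemma nrm_rho (g : ↥(Cfsg.SU 4 K q)) (u : Fin 3 → K) :
    nrm (F := F) (rho (F := F) hF hK g u) = nrm (F := F) u := by
  apply (algebraMap F K).injective
  rw [nrm_eq hF hK, nrm_eq hF hK, rho_apply, emb_actL hF hK, q6_M6, g.1.2, one_mul]

include hK in
/-- The kernel consists of `±1`. -/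
lemma rho_ker (g : ↥(Cfsg.SU 4 K q)) (hg : rho (F := F) hF hK g = 1)
    (t : K) (ht : sig K hF t ≠ t) : g.1.1 = 1 ∨ g.1.1 = -1 := by
  apply M6_eq_one
  have hfix : ∀ u : Fin 3 → K, M6 g.1.1 *ᵥ emb hF u = emb hF u := by
    intro u
    rw [← emb_actL hF hK, ← rho_apply hF hK, hg, Module.End.one_apply]
  have hne : sig K hF t - t ≠ 0 := sub_ne_zero.2 ht
  -- columns
  have hcol : ∀ (i : Fin 3) (a b : Fin 6), a = Fin.castAdd 3 i → b = Fin.natAdd 3 i →
      (∀ k, M6 g.1.1 k a = (1 : Matrix (Fin 6) (Fin 6) K) k a) ∧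
      (∀ k, M6 g.1.1 k b = (1 : Matrix (Fin 6) (Fin 6) K) k b) := by
    intro i a b ha hb
    have e1 : emb hF (Pi.single i (1 : K)) = Pi.single a 1 + Pi.single b 1 := by
      subst ha hb
      funext k
      fin_cases i <;> fin_cases k <;> simp [emb, Pi.single_apply]
    have e2 : emb hF (Pi.single i t) = t • Pi.single a 1 + sig K hF t • Pi.single b 1 := by
      subst ha hb
      funext k
      fin_cases i <;> fin_cases k <;> simp [emb, Pi.single_apply]
    have h1 := hfix (Pi.single i 1)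
    have h2 := hfix (Pi.single i t)
    rw [e1, Matrix.mulVec_add, Matrix.mulVec_single_one, Matrix.mulVec_single_one] at h1
    rw [e2, Matrix.mulVec_add, Matrix.mulVec_smul, Matrix.mulVec_smul, Matrix.mulVec_single_one,
      Matrix.mulVec_single_one] at h2
    have hb' : ∀ k, M6 g.1.1 k b = (1 : Matrix (Fin 6) (Fin 6) K) k b := by
      intro k
      have k1 := congrFun h1 k
      have k2 := congrFun h2 k
      simp only [Pi.add_apply, Pi.smul_apply, Matrix.col_apply, smul_eq_mul] at k1 k2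
      have : (sig K hF t - t) * (M6 g.1.1 k b - (1 : Matrix (Fin 6) (Fin 6) K) k b) = 0 := by
        rw [Matrix.one_apply]
        rw [Pi.single_apply, Pi.single_apply] at k1 k2
        linear_combination k2 - t * k1
      rcases mul_eq_zero.1 this with h | h
      · exact absurd h hne
      · exact sub_eq_zero.1 h
    refine ⟨?_, hb'⟩
    intro k
    have k1 := congrFun h1 k
    simp only [Pi.add_apply, Matrix.col_apply] at k1
    rw [Pi.single_apply, Pi.single_apply] at k1
    rw [Matrix.one_apply]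
    have := hb' k
    rw [Matrix.one_apply] at this
    linear_combination k1 - this
  ext k l
  fin_cases l
  · exact (hcol 0 0 3 rfl rfl).1 k
  · exact (hcol 1 1 4 rfl rfl).1 k
  · exact (hcol 2 2 5 rfl rfl).1 k
  · exact (hcol 0 0 3 rfl rfl).2 k
  · exact (hcol 1 1 4 rfl rfl).2 k
  · exact (hcol 2 2 5 rfl rfl).2 k

end setting

end Cfsg.Agent.Lib.Helper19.Omega6M
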