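-- The action of the isometry group on `PΩ` by conjugation, its kernel, and the images of `SO`
-- and `Ω` in the automorphism group of `PΩ`.
import Mathlib
import Cfsg.Prelude.Def_Classical
import Cfsg.Prelude.Def_ClassicalGeometry
import Cfsg.Prelude.Def_LieTypeDatum
import Cfsg.Agent.Lib.Helper19.OrthPOmegaCard

set_option autoImplicit false

namespace Cfsg.Agent.Lib.Helper19.OrthRefl

open Matrix QuadraticMap Module Cfsg.Agent.Lib.Helper19.Parity

variable {ι : Type} [Fintype ι] [DecidableEq ι] {F : Type*} [Field F]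

section aut

variable (Q : (ι → F) → F)

/-- The automorphism of `PΩ` induced by conjugation by an isometry. -/
noncomputable def autOfIso (g : ↥(Cfsg.isometryGroup F Q)) : MulAut (Cfsg.POmega F Q) :=
  QuotientGroup.congr (Subgroup.center ↥(Cfsg.Omega F Q)) (Subgroup.center ↥(Cfsg.Omega F Q))
    (MulAut.conjNormal g : ↥(Cfsg.Omega F Q) ≃* ↥(Cfsg.Omega F Q))
    (Subgroup.characteristic_iff_map_eq.1 inferInstance _)

theorem autOfIso_mk (g : ↥(Cfsg.isometryGroup F Q)) (s : ↥(Cfsg.Omega F Q)) :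
    autOfIso Q g (QuotientGroup.mk s) = QuotientGroup.mk (MulAut.conjNormal g s) := rfl

/-- Conjugation, as a homomorphism to the automorphism group of `PΩ`. -/
noncomputable def autHom : ↥(Cfsg.isometryGroup F Q) →* MulAut (Cfsg.POmega F Q) :=
  MonoidHom.mk' (autOfIso Q) (by
    intro g h
    apply MulEquiv.ext
    intro x
    induction x using QuotientGroup.induction_on with
    | H s =>
      rw [MulAut.mul_apply, autOfIso_mk, autOfIso_mk, autOfIso_mk, map_mul, MulAut.mul_apply])

theorem autHom_mk (g : ↥(Cfsg.isometryGroup F Q)) (s : ↥(Cfsg.Omega F Q)) :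
    autHom Q g (QuotientGroup.mk s) = QuotientGroup.mk (MulAut.conjNormal g s) := rfl

theorem map_refl (M : Matrix ι ι F) : M.map ⇑(RingEquiv.refl F) = M := by
  ext i j
  rfl

/-- An automorphism is induced by the isometry `g` exactly when it is `autHom g`. -/
theorem isInduced_iff (g : ↥(Cfsg.isometryGroup F Q)) (β : Cfsg.POmega F Q ≃* Cfsg.POmega F Q) :
    Cfsg.IsInducedBySemilinearPOmega Q (g : Matrix.GeneralLinearGroup ι F) (RingEquiv.refl F) β
      ↔ β = autHom Q g := by
  constructor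
  · intro h
    apply MulEquiv.ext
    intro x
    induction x using QuotientGroup.induction_on with
    | H s =>
      rw [autHom_mk]
      apply h s (MulAut.conjNormal g s)
      rw [map_refl, MulAut.conjNormal_apply]
      rfl
  · rintro rfl s s' hs
    rw [autHom_mk]
    congr 1
    apply Subtype.ext
    apply Subtype.ext
    apply Units.ext
    rw [hs, map_refl, MulAut.conjNormal_apply]
    rfl

/-- The image of `SO` in `Aut(PΩ)`. -/
theorem psoAut_eq : Cfsg.psoAut F Q = (Cfsg.specialIsometryGroup F Q).map (autHom Q) := by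
  unfold Cfsg.psoAut Cfsg.autSubgroupOf
  have hset : {β : MulAut (Cfsg.POmega F Q) | Cfsg.IsSpecialIsometryInducedAutPOmega Q β}
      = (autHom Q) '' (Cfsg.specialIsometryGroup F Q : Set ↥(Cfsg.isometryGroup F Q)) := by
    ext β
    constructor
    · rintro ⟨g, hg, hβ⟩
      have hgO : g ∈ Cfsg.isometryGroup F Q := hg.1
      refine ⟨⟨g, hgO⟩, ?_, ((isInduced_iff Q ⟨g, hgO⟩ β).1 hβ).symm⟩
      exact hg.2
    · rintro ⟨g, hg, rfl⟩
      refine ⟨(g : Matrix.GeneralLinearGroup ι F), ⟨g.2, hg⟩, (isInduced_iff Q g _).2 rfl⟩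
  rw [hset, ← MonoidHom.map_closure, Subgroup.closure_eq]

/-- The inner automorphism group of `PΩ` is the image of `Ω`. -/
theorem inn_eq : Cfsg.Inn (Cfsg.POmega F Q) = (Cfsg.Omega F Q).map (autHom Q) := by
  ext β
  constructor
  · rintro ⟨x, rfl⟩
    induction x using QuotientGroup.induction_on with
    | H s =>
      refine ⟨s.1, s.2, ?_⟩
      apply MulEquiv.ext
      intro y
      induction y using QuotientGroup.induction_on with
      | H t =>
        rw [autHom_mk, MulAut.conj_apply]
        rw [← QuotientGroup.mk_inv, ← QuotientGroup.mk_mul, ← QuotientGroup.mk_mul]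
        congr 1
  · rintro ⟨g, hg, rfl⟩
    refine ⟨QuotientGroup.mk ⟨g, hg⟩, ?_⟩
    apply MulEquiv.ext
    intro y
    induction y using QuotientGroup.induction_on with
    | H t =>
      rw [autHom_mk, MulAut.conj_apply]
      rw [← QuotientGroup.mk_inv, ← QuotientGroup.mk_mul, ← QuotientGroup.mk_mul]
      congr 1

end aut

section index

variable [Fintype F]

theorem autHom_negOne (Q : QuadraticForm F (ι → F)) : autHom (⇑Q) (negOne Q) = 1 := by
  apply MulEquiv.ext
  intro x
  induction x using QuotientGroup.induction_on with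
  | H s =>
    rw [autHom_mk, MulAut.one_apply]
    congr 1
    apply Subtype.ext
    rw [MulAut.conjNormal_apply, ← negOne_comm Q s.1, mul_inv_cancel_right]

/-- The kernel of the conjugation action on `PΩ` consists of `±1`. -/
theorem eq_one_or_negOne_of_autHom (h2 : (2 : F) ≠ 0) (Q : QuadraticForm F (ι → F))
    (hQ : (polarBilin Q).Nondegenerate) (hn : 5 ≤ Fintype.card ι)
    (g : ↥(Cfsg.isometryGroup F ⇑Q)) (hg : autHom (⇑Q) g = 1) : g = 1 ∨ g = negOne Q := by
  have hfr : finrank F (ι → F) = Fintype.card ι := Module.finrank_fintype_fun_eq_card F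
  apply eq_one_or_negOne_of_comm h2 Q hQ (by omega) g
  intro a b ha hb hab
  have hmem := refl_mul_refl_mem_Omega h2 Q hQ (by omega) a b ha hb hab
  set ω : ↥(Cfsg.isometryGroup F ⇑Q) := refl Q a ha * refl Q b hb with hω
  have h1 : autHom (⇑Q) g (QuotientGroup.mk ⟨ω, hmem⟩) = QuotientGroup.mk ⟨ω, hmem⟩ := by
    rw [hg, MulAut.one_apply]
  rw [autHom_mk, QuotientGroup.eq] at h1
  rcases center_Omega_odd h2 Q hQ (by omega) _ h1 with hz | hz
  · have hz' : (g * ω * g⁻¹)⁻¹ * ω = 1 := by
      have := hz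
      rw [Subgroup.coe_mul, Subgroup.coe_inv, MulAut.conjNormal_apply] at this
      exact this
    have h3 : ω = g * ω * g⁻¹ := by
      have := inv_mul_eq_one.1 hz'
      exact this.symm
    calc ω * g = g * ω * g⁻¹ * g := by rw [← h3]
      _ = g * ω := by group
  · exfalso
    have hz' : (g * ω * g⁻¹)⁻¹ * ω = negOne Q := by
      have := hz
      rw [Subgroup.coe_mul, Subgroup.coe_inv, MulAut.conjNormal_apply] at this
      exact this
    have h3 : ω = g * ω * g⁻¹ * negOne Q := by
      rw [← hz']; group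
    -- a non-zero vector orthogonal to `a`, `b`, `g a`, `g b`
    set W := Submodule.span F (Set.range ![a, b, act g a, act g b]) with hW
    have hWfr : finrank F W ≤ 4 := by
      have := finrank_range_le_card (R := F) ![a, b, act g a, act g b]
      rw [Fintype.card_fin] at this
      exact this
    have hO : orth Q W ≠ ⊥ := by
      intro h
      have h4 := finrank_orth hQ W
      rw [h, finrank_bot, hfr] at h4
      omega
    obtain ⟨x, hxW, hx0⟩ := Submodule.exists_mem_ne_zero_of_ne_bot hO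
    have hmemW : ∀ i, ![a, b, act g a, act g b] i ∈ W := fun i =>
      Submodule.subset_span (Set.mem_range_self i)
    have hxa : polar (⇑Q) a x = 0 := mem_orth.1 hxW a (hmemW 0)
    have hxb : polar (⇑Q) b x = 0 := mem_orth.1 hxW b (hmemW 1)
    have hxga : polar (⇑Q) (act g a) x = 0 := mem_orth.1 hxW _ (hmemW 2)
    have hxgb : polar (⇑Q) (act g b) x = 0 := mem_orth.1 hxW _ (hmemW 3)
    have hfix : ∀ y, polar (⇑Q) a y = 0 → polar (⇑Q) b y = 0 → act ω y = y := by
      intro y hya hyb
      rw [hω, act_mul, act_refl_of_polar_eq_zero Q b hb y hyb,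
        act_refl_of_polar_eq_zero Q a ha y hya]
    have e1 : act ω x = x := hfix x hxa hxb
    have e2 : act (g * ω * g⁻¹) x = x := by
      rw [act_mul, act_mul, hfix (act g⁻¹ x), act_act_inv]
      · rw [← polar_act_left]; exact hxga
      · rw [← polar_act_left]; exact hxgb
    have e3 : act ω x = -x := by
      rw [h3, act_mul, act_negOne, act_neg, e2]
    rw [e1] at e3
    apply hx0
    have h4 : (2 : F) • x = 0 := by
      rw [two_smul]
      nth_rewrite 1 [e3]
      exact neg_add_cancel x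
    exact (smul_eq_zero.1 h4).resolve_left h2

theorem detHom_negOne (Q : QuadraticForm F (ι → F)) (heven : Even (Fintype.card ι)) :
    detHom (⇑Q) (negOne Q) = 1 := by
  apply Units.ext
  rw [detHom_val, negOne_coe, Matrix.det_neg, Matrix.det_one, mul_one, Units.val_one]
  exact heven.neg_one_pow

/-- The index of the inner automorphism group in the image of `SO`, when `-1 ∉ Ω`. -/
theorem relIndex_inn_pso_of_not_mem (h2 : (2 : F) ≠ 0) (Q : QuadraticForm F (ι → F))
    (hQ : (polarBilin Q).Nondegenerate) (hn : 5 ≤ Fintype.card ι)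
    (heven : Even (Fintype.card ι)) (hneg : negOne Q ∉ Cfsg.Omega F ⇑Q) :
    (Cfsg.Inn (Cfsg.POmega F ⇑Q)).relIndex (Cfsg.psoAut F ⇑Q) = 1 := by
  have hn2 : 2 ≤ Fintype.card ι := by omega
  rw [Subgroup.relIndex_eq_one, inn_eq, psoAut_eq]
  rintro _ ⟨g, hg, rfl⟩
  have hdet : detHom (⇑Q) g = 1 := hg
  by_cases hgO : g ∈ Cfsg.Omega F ⇑Q
  · exact ⟨g, hgO, rfl⟩
  · refine ⟨negOne Q * g, ?_, ?_⟩
    · have hc1 : chi (⇑Q) 1 g = -1 := by
        rcases int_units_cases (chi (⇑Q) 1 g) with h | h
        · exfalso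
          apply hgO
          rw [mem_Omega_iff h2 Q hQ hn2 1 one_ne_zero, ← detHom_val, hdet]
          exact ⟨rfl, h⟩
        · exact h
      have hc2 : chi (⇑Q) 1 (negOne Q) = -1 := by
        rcases int_units_cases (chi (⇑Q) 1 (negOne Q)) with h | h
        · exfalso
          apply hneg
          rw [mem_Omega_iff h2 Q hQ hn2 1 one_ne_zero, ← detHom_val, detHom_negOne Q heven]
          exact ⟨rfl, h⟩
        · exact h
      show negOne Q * g ∈ Cfsg.Omega F ⇑Q
      rw [mem_Omega_iff h2 Q hQ hn2 1 one_ne_zero, ← detHom_val, map_mul, map_mul, hdet,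
        detHom_negOne Q heven, hc1, hc2]
      exact ⟨by simp, by decide⟩
    · rw [map_mul, autHom_negOne, one_mul]

/-- The index of the inner automorphism group in the image of `SO`, when `-1 ∈ Ω`. -/
theorem relIndex_inn_pso_of_mem (h2 : (2 : F) ≠ 0) (Q : QuadraticForm F (ι → F))
    (hQ : (polarBilin Q).Nondegenerate) (hn : 5 ≤ Fintype.card ι)
    (hneg : negOne Q ∈ Cfsg.Omega F ⇑Q) :
    (Cfsg.Inn (Cfsg.POmega F ⇑Q)).relIndex (Cfsg.psoAut F ⇑Q) = 2 := by
  classical
  have hn2 : 2 ≤ Fintype.card ι := by omega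
  have hker : (autHom (⇑Q)).ker ≤ Cfsg.Omega F ⇑Q := by
    intro g hg
    rcases eq_one_or_negOne_of_autHom h2 Q hQ hn g hg with h | h
    · rw [h]; exact Subgroup.one_mem _
    · rw [h]; exact hneg
  rw [inn_eq, psoAut_eq, ← Subgroup.relIndex_comap, Subgroup.comap_map_eq, sup_of_le_left hker]
  -- `Ω` has index two in `SO`
  set ψ : ↥(Cfsg.specialIsometryGroup F ⇑Q) →* ℤˣ :=
    (chi (⇑Q) 1).comp (Cfsg.specialIsometryGroup F ⇑Q).subtype with hψ
  have hsub : (Cfsg.Omega F ⇑Q).subgroupOf (Cfsg.specialIsometryGroup F ⇑Q) = ψ.ker := by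
    ext g
    rw [Subgroup.mem_subgroupOf, MonoidHom.mem_ker, hψ, MonoidHom.comp_apply,
      mem_Omega_iff h2 Q hQ hn2 1 one_ne_zero]
    have hg : detHom (⇑Q) g.1 = 1 := g.2
    constructor
    · intro h; exact h.2
    · intro h
      refine ⟨?_, h⟩
      rw [← detHom_val, hg]; rfl
  unfold Subgroup.relIndex
  rw [hsub]
  obtain ⟨ν, hν⟩ := FiniteField.exists_nonsquare (ringChar_ne_two h2) (F := F)
  have hν0 : ν ≠ 0 := by
    rintro rfl
    exact hν ⟨0, by ring⟩
  obtain ⟨a, hQa⟩ := exists_Q_eq h2 Q hQ hn2 1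
  obtain ⟨b, hQb⟩ := exists_Q_eq h2 Q hQ hn2 ν
  have ha : Q a ≠ 0 := by rw [hQa]; exact one_ne_zero
  have hb : Q b ≠ 0 := by rw [hQb]; exact hν0
  have hmem : refl Q a ha * refl Q b hb ∈ Cfsg.specialIsometryGroup F ⇑Q := by
    show detHom (⇑Q) (refl Q a ha * refl Q b hb) = 1
    rw [map_mul, detHom_refl, detHom_refl]; simp
  apply index_ker_of_neg_one ψ ⟨_, hmem⟩
  rw [hψ, MonoidHom.comp_apply]
  show chi (⇑Q) 1 (refl Q a ha * refl Q b hb) = -1
  rw [map_mul, chi_refl h2 Q 1 one_ne_zero, chi_refl h2 Q 1 one_ne_zero, hQa, hQb, one_mul,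
    one_mul, if_pos ⟨1, by ring⟩, if_neg hν]
  rfl

end index

end Cfsg.Agent.Lib.Helper19.OrthRefl
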