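-- Negating hyperbolic pairs: the isometry `-1` on a hyperbolic plane (identity on its orthogonal
-- complement) as a product of two reflections, its sign character, and products of such.
import Mathlib
import Cfsg.Prelude.Def_Classical
import Cfsg.Prelude.Def_ClassicalGeometry
import Cfsg.Agent.Lib.Helper19.OrthSpinor

set_option autoImplicit false

namespace Cfsg.Agent.Lib.Helper19.OrthRefl

open Matrix QuadraticMap

variable {ι : Type} [Fintype ι] [DecidableEq ι] {F : Type*} [Field F]

/-- The sign attached to `-1`. -/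
noncomputable def epsNeg (F : Type*) [Field F] : ℤˣ := by
  classical exact if IsSquare (-1 : F) then 1 else -1

theorem epsNeg_pow_eq_one_iff [Fintype F] {q : ℕ} (hF : Fintype.card F = q) (hodd : Odd q) (i : ℕ) :
    epsNeg F ^ i = 1 ↔ q ^ i % 4 = 1 := by
  classical
  unfold epsNeg
  have hsq := FiniteField.isSquare_neg_one_iff (F := F)
  rw [hF] at hsq
  have hq : q % 4 = 1 ∨ q % 4 = 3 := by
    obtain ⟨k, hk⟩ := hodd
    omega
  rcases hq with h | h
  · have h1 : IsSquare (-1 : F) := hsq.2 (by omega)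
    rw [if_pos h1, one_pow, Nat.pow_mod, h, one_pow]
    simp
  · have h1 : ¬IsSquare (-1 : F) := fun h' => (hsq.1 h') h
    rw [if_neg h1, Nat.pow_mod, h]
    rcases Nat.even_or_odd i with hi | hi
    · rw [hi.neg_one_pow]
      obtain ⟨k, rfl⟩ := hi
      rw [← two_mul, pow_mul]
      norm_num
      rw [Nat.pow_mod]
      norm_num
    · rw [hi.neg_one_pow]
      obtain ⟨k, rfl⟩ := hi
      rw [pow_succ, pow_mul]
      have : (3 ^ 2) ^ k * 3 % 4 = 3 := by
        rw [Nat.mul_mod, Nat.pow_mod]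
        norm_num
      rw [this]
      constructor
      · intro h'; exact absurd h' (by decide)
      · intro h'; exact absurd h' (by decide)

/-- The negation of a hyperbolic pair of coordinate vectors, as a product of two reflections. -/
theorem exists_hypNeg [Fintype F] (h2 : (2 : F) ≠ 0) (Q : QuadraticForm F (ι → F)) (a b : ι)
    (hne : a ≠ b)
    (hQa : Q (Pi.single a 1) = 0) (hQb : Q (Pi.single b 1) = 0)
    (hpa : ∀ x, polar (⇑Q) (Pi.single a 1) x = x b)
    (hpb : ∀ x, polar (⇑Q) (Pi.single b 1) x = x a) :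
    ∃ g : ↥(Cfsg.isometryGroup F ⇑Q),
      ((g : Matrix.GeneralLinearGroup ι F) : Matrix ι ι F)
        = Matrix.diagonal (fun k => if k = a ∨ k = b then (-1 : F) else 1) ∧
      ((g : Matrix.GeneralLinearGroup ι F) : Matrix ι ι F).det = 1 ∧
      chi (⇑Q) 1 g = epsNeg F := by
  classical
  set e : ι → F := Pi.single a 1 with he
  set f : ι → F := Pi.single b 1 with hf
  have hef : polar (⇑Q) e f = 1 := by rw [hpa, hf, Pi.single_eq_same]
  have hQadd : Q (e + f) = 1 := by
    have : Q (e + f) = Q e + Q f + polar (⇑Q) e f := by unfold QuadraticMap.polar; ring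
    rw [this, hQa, hQb, hef]; ring
  have hQsub : Q (e - f) = -1 := by
    rw [Q_sub', hQa, hQb, hef]; ring
  have hadd0 : Q (e + f) ≠ 0 := by rw [hQadd]; exact one_ne_zero
  have hsub0 : Q (e - f) ≠ 0 := by rw [hQsub]; exact neg_ne_zero.mpr one_ne_zero
  refine ⟨refl Q (e + f) hadd0 * refl Q (e - f) hsub0, ?_, ?_, ?_⟩
  · apply Matrix.toLin'.injective
    apply LinearMap.ext
    intro x
    rw [Matrix.toLin'_apply, Matrix.toLin'_apply, ← act_def, act_mul, act_refl, act_refl,
      hQadd, hQsub]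
    simp only [QuadraticMap.polar_add_left, QuadraticMap.polar_sub_left,
      QuadraticMap.polar_sub_right, QuadraticMap.polar_smul_right, hpa, hpb]
    funext k
    rw [Matrix.mulVec_diagonal]
    simp only [Pi.sub_apply, Pi.smul_apply, Pi.add_apply, smul_eq_mul, he, hf, Pi.single_apply]
    by_cases hka : k = a
    · subst hka
      simp [hne, hne.symm]
    · by_cases hkb : k = b
      · subst hkb
        simp [hne, hne.symm]
      · simp [hka, hkb, hne, hne.symm]
  · rw [Subgroup.coe_mul, Units.val_mul, Matrix.det_mul, refl_det, refl_det]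
    ring
  · rw [map_mul, chi_refl h2 Q 1 one_ne_zero, chi_refl h2 Q 1 one_ne_zero, hQadd, hQsub, one_mul,
      one_mul, if_pos ⟨1, by ring⟩]
    unfold epsNeg
    by_cases h : IsSquare (-1 : F)
    · rw [if_pos h, if_pos h]; rfl
    · rw [if_neg h, if_neg h]; rfl

/-- Negating the first `i` of a family of hyperbolic pairs of coordinate vectors. -/
theorem exists_hypNeg_prod [Fintype F] (h2 : (2 : F) ≠ 0) (Q : QuadraticForm F (ι → F))
    (idx : ι → ℕ) (N : ℕ) (a b : ℕ → ι)
    (hab : ∀ j < N, ∀ k, idx k = j ↔ (k = a j ∨ k = b j))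
    (hne : ∀ j < N, a j ≠ b j)
    (hQa : ∀ j < N, Q (Pi.single (a j) 1) = 0) (hQb : ∀ j < N, Q (Pi.single (b j) 1) = 0)
    (hpa : ∀ j < N, ∀ x, polar (⇑Q) (Pi.single (a j) 1) x = x (b j))
    (hpb : ∀ j < N, ∀ x, polar (⇑Q) (Pi.single (b j) 1) x = x (a j)) :
    ∀ i ≤ N, ∃ g : ↥(Cfsg.isometryGroup F ⇑Q),
      ((g : Matrix.GeneralLinearGroup ι F) : Matrix ι ι F)
        = Matrix.diagonal (fun k => if idx k < i then (-1 : F) else 1) ∧
      ((g : Matrix.GeneralLinearGroup ι F) : Matrix ι ι F).det = 1 ∧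
      chi (⇑Q) 1 g = epsNeg F ^ i := by
  intro i
  induction i with
  | zero =>
    intro _
    refine ⟨1, ?_, ?_, ?_⟩
    · simp
    · simp
    · simp
  | succ i ih =>
    intro hi
    obtain ⟨g, hg1, hg2, hg3⟩ := ih (by omega)
    obtain ⟨s, hs1, hs2, hs3⟩ := exists_hypNeg h2 Q (a i) (b i) (hne i (by omega))
      (hQa i (by omega)) (hQb i (by omega)) (hpa i (by omega)) (hpb i (by omega))
    refine ⟨g * s, ?_, ?_, ?_⟩
    · rw [Subgroup.coe_mul, Units.val_mul, hg1, hs1, Matrix.diagonal_mul_diagonal]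
      congr 1
      funext k
      have := hab i (by omega) k
      by_cases hk : idx k = i
      · rw [if_neg (by omega), if_pos (this.1 hk), if_pos (by omega)]
        ring
      · rw [if_neg (fun h => hk (this.2 h)), mul_one]
        by_cases hk' : idx k < i
        · rw [if_pos hk', if_pos (by omega)]
        · rw [if_neg hk', if_neg (by omega)]
    · rw [Subgroup.coe_mul, Units.val_mul, Matrix.det_mul, hg2, hs2, one_mul]
    · rw [map_mul, hg3, hs3, pow_succ]

/-- Membership in `Ω` of the isometry with a prescribed matrix. -/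
theorem exists_mem_Omega_iff [Fintype F] (h2 : (2 : F) ≠ 0) (Q : QuadraticForm F (ι → F))
    (hQ : (QuadraticMap.polarBilin Q).Nondegenerate) (hn : 2 ≤ Fintype.card ι)
    (D : Matrix ι ι F) (g' : ↥(Cfsg.isometryGroup F ⇑Q))
    (hg' : ((g' : Matrix.GeneralLinearGroup ι F) : Matrix ι ι F) = D) (hdet : D.det = 1) :
    (∃ g : ↥(Cfsg.isometryGroup F ⇑Q), g ∈ Cfsg.Omega F (⇑Q) ∧
      ((g : Matrix.GeneralLinearGroup ι F) : Matrix ι ι F) = D) ↔ chi (⇑Q) 1 g' = 1 := by
  constructor
  · rintro ⟨g, hg, hgD⟩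
    have : g = g' := by
      apply Subtype.ext
      apply Units.ext
      rw [hgD, hg']
    rw [this] at hg
    exact ((mem_Omega_iff h2 Q hQ hn 1 one_ne_zero g').1 hg).2
  · intro h
    refine ⟨g', ?_, hg'⟩
    rw [mem_Omega_iff h2 Q hQ hn 1 one_ne_zero g', hg']
    exact ⟨hdet, h⟩

theorem two_ne_zero_of_odd_card [Fintype F] (hodd : Odd (Fintype.card F)) : (2 : F) ≠ 0 := by
  intro h
  have h2 : ringChar F = 2 := CharP.ringChar_of_prime_eq_zero Nat.prime_two h
  have := FiniteField.even_card_of_char_two h2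
  rcases hodd with ⟨k, hk⟩
  omega

end Cfsg.Agent.Lib.Helper19.OrthRefl
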