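-- Characteristic two: involutions of the orthogonal group conjugate under the symplectic group of
-- the polar form are conjugate in the orthogonal group (Witt's lemma).
import Mathlib
import Cfsg.Prelude.Def_Classical
import Cfsg.Prelude.Def_ClassicalGeometry
import Cfsg.Agent.Lib.Helper19.OrthWitt

set_option autoImplicit false

namespace Cfsg.Agent.Lib.Helper19.OrthRefl

open Matrix QuadraticMap Module Cfsg.Agent.Lib.Helper19.Parity Cfsg.Agent.Lib.Helper19.WittQuad

variable {ι : Type} [Fintype ι] [DecidableEq ι] {F : Type*} [Field F]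

/-- The linear equivalence of an invertible matrix. -/
noncomputable def glEquiv (h : Matrix.GeneralLinearGroup ι F) : (ι → F) ≃ₗ[F] (ι → F) :=
  LinearEquiv.ofLinear (Matrix.mulVecLin (h : Matrix ι ι F))
    (Matrix.mulVecLin ((h⁻¹ : Matrix.GeneralLinearGroup ι F) : Matrix ι ι F))
    (by
      rw [← Matrix.mulVecLin_mul, ← Units.val_mul, mul_inv_cancel, Units.val_one,
        Matrix.mulVecLin_one])
    (by
      rw [← Matrix.mulVecLin_mul, ← Units.val_mul, inv_mul_cancel, Units.val_one,
        Matrix.mulVecLin_one])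

theorem glEquiv_apply (h : Matrix.GeneralLinearGroup ι F) (v : ι → F) :
    glEquiv h v = (h : Matrix ι ι F) *ᵥ v := rfl

/-- The commutator space `[V, t]` of an isometry. -/
def commSpace {Q : (ι → F) → F} (t : ↥(Cfsg.isometryGroup F Q)) : Submodule F (ι → F) :=
  LinearMap.range (Matrix.mulVecLin
    (((t : Matrix.GeneralLinearGroup ι F) : Matrix ι ι F) - 1))

theorem mem_commSpace {Q : (ι → F) → F} (t : ↥(Cfsg.isometryGroup F Q)) (y : ι → F) :
    y ∈ commSpace t ↔ ∃ v, act t v - v = y := by
  unfold commSpace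
  rw [LinearMap.mem_range]
  constructor
  · rintro ⟨v, rfl⟩
    exact ⟨v, by rw [Matrix.mulVecLin_apply, Matrix.sub_mulVec, Matrix.one_mulVec]; rfl⟩
  · rintro ⟨v, rfl⟩
    exact ⟨v, by rw [Matrix.mulVecLin_apply, Matrix.sub_mulVec, Matrix.one_mulVec]; rfl⟩

/-- A vector orthogonal to the commutator space of an involution is fixed by it. -/
theorem act_eq_self_of_orth (Q : QuadraticForm F (ι → F)) (hQ : (polarBilin Q).Nondegenerate)
    (s : ↥(Cfsg.isometryGroup F ⇑Q)) (hs : s * s = 1) (d : ι → F)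
    (hd : ∀ v, polar (⇑Q) d (act s v - v) = 0) : act s d = d := by
  have h0 : act s d - d = 0 := by
    apply hQ.1
    intro y
    rw [polarBilin_apply_apply, QuadraticMap.polar_sub_left]
    have hss : ∀ x, act s (act s x) = x := fun x => by rw [← act_mul, hs, act_one]
    have h1 : polar (⇑Q) (act s d) y = polar (⇑Q) d (act s y) := by
      rw [← polar_act s (act s d) y, hss]
    rw [h1, ← QuadraticMap.polar_sub_right]
    exact hd y
  exact sub_eq_zero.1 h0


/-- Isometries preserve the polar form (matrix version). -/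
theorem polar_mulVec_of_mem {Q : (ι → F) → F} (c : ↥(Cfsg.isometryGroup F Q)) (u v : ι → F) :
    Q (((c : Matrix.GeneralLinearGroup ι F) : Matrix ι ι F) *ᵥ u
        + ((c : Matrix.GeneralLinearGroup ι F) : Matrix ι ι F) *ᵥ v)
      - Q (((c : Matrix.GeneralLinearGroup ι F) : Matrix ι ι F) *ᵥ u)
      - Q (((c : Matrix.GeneralLinearGroup ι F) : Matrix ι ι F) *ᵥ v) = Q (u + v) - Q u - Q v := by
  rw [← Matrix.mulVec_add]
  change Q (act c (u + v)) - Q (act c u) - Q (act c v) = _
  rw [Q_act c, Q_act c, Q_act c]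

/-- Main theorem: conjugacy under the symplectic group of the polar form gives conjugacy in the
orthogonal group (characteristic two, second element an involution). -/
theorem conj_of_polar_conj (h2 : (2 : F) = 0) (Q : QuadraticForm F (ι → F))
    (hQ : (polarBilin Q).Nondegenerate) (t s : ↥(Cfsg.isometryGroup F ⇑Q)) (hs : s * s = 1)
    (h : Matrix.GeneralLinearGroup ι F)
    (hB : ∀ u v, polar (⇑Q) ((h : Matrix ι ι F) *ᵥ u) ((h : Matrix ι ι F) *ᵥ v) = polar (⇑Q) u v)
    (hconj : h * (t : Matrix.GeneralLinearGroup ι F) * h⁻¹ = (s : Matrix.GeneralLinearGroup ι F)) :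
    ∃ g : ↥(Cfsg.isometryGroup F ⇑Q), g * t * g⁻¹ = s := by
  -- the intertwining relation
  have hint : ∀ v, (h : Matrix ι ι F) *ᵥ (act t v) = act s ((h : Matrix ι ι F) *ᵥ v) := by
    intro v
    have e : h * (t : Matrix.GeneralLinearGroup ι F) = (s : Matrix.GeneralLinearGroup ι F) * h := by
      rw [← hconj]; group
    have e' := congrArg (fun x : Matrix.GeneralLinearGroup ι F => (x : Matrix ι ι F) *ᵥ v) e
    simp only [Units.val_mul, ← Matrix.mulVec_mulVec] at e'
    exact e'
  -- Q of a commutator vector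
  have hQc : ∀ (r : ↥(Cfsg.isometryGroup F ⇑Q)) (v : ι → F),
      Q (act r v - v) = - polar (⇑Q) (act r v) v := by
    intro r v
    rw [Q_sub', Q_act r]
    linear_combination Q v * h2
  have hmap : (commSpace t).map (glEquiv h : (ι → F) →ₗ[F] (ι → F)) = commSpace s := by
    ext y
    rw [Submodule.mem_map, mem_commSpace]
    constructor
    · rintro ⟨w, hw, rfl⟩
      obtain ⟨v, rfl⟩ := (mem_commSpace t w).1 hw
      refine ⟨(h : Matrix ι ι F) *ᵥ v, ?_⟩
      rw [← hint]
      change _ = (h : Matrix ι ι F) *ᵥ (act t v - v)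
      rw [Matrix.mulVec_sub]
    · rintro ⟨u, rfl⟩
      refine ⟨act t ((glEquiv h).symm u) - (glEquiv h).symm u,
        (mem_commSpace t _).2 ⟨_, rfl⟩, ?_⟩
      change (h : Matrix ι ι F) *ᵥ (act t ((glEquiv h).symm u) - (glEquiv h).symm u) = _
      rw [Matrix.mulVec_sub, hint]
      have : (h : Matrix ι ι F) *ᵥ ((glEquiv h).symm u) = u := (glEquiv h).apply_symm_apply u
      rw [this]
  obtain ⟨φ, hφ⟩ : ∃ φ : ↥(commSpace t) ≃ₗ[F] ↥(commSpace s),
      ∀ w : ↥(commSpace t), (φ w : ι → F) = (h : Matrix ι ι F) *ᵥ (w : ι → F) :=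
    ⟨((glEquiv h).submoduleMap (commSpace t)).trans (LinearEquiv.ofEq _ _ hmap), fun w => rfl⟩
  have hφQ : ∀ w : ↥(commSpace t), Q (φ w : ι → F) = Q (w : ι → F) := by
    intro w
    obtain ⟨v, hv⟩ := (mem_commSpace t w).1 w.2
    rw [hφ, ← hv, Matrix.mulVec_sub, hint, hQc, hQc, ← hint, hB]
  obtain ⟨g, hg, -⟩ := exists_isometry_map Q hQ (commSpace t) (commSpace s) φ hφQ
  refine ⟨g, ?_⟩
  have hss : ∀ x, act s (act s x) = x := fun x => by rw [← act_mul, hs, act_one]
  -- g T x = S g x
  have key : ∀ x, act g (act t x) = act s (act g x) := by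
    intro x
    have h1 : act g (act t x - x) = act s ((h : Matrix ι ι F) *ᵥ x) - (h : Matrix ι ι F) *ᵥ x := by
      have := hg ⟨act t x - x, (mem_commSpace t _).2 ⟨x, rfl⟩⟩
      rw [hφ] at this
      rw [this, Matrix.mulVec_sub, hint]
    have hfix : act s (act g x - (h : Matrix ι ι F) *ᵥ x) = act g x - (h : Matrix ι ι F) *ᵥ x := by
      apply act_eq_self_of_orth Q hQ s hs
      intro v
      -- act s v - v lies in the image of the commutator space of t under h (and g)
      have hv : act s v - v ∈ (commSpace t).map (glEquiv h : (ι → F) →ₗ[F] (ι → F)) := by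
        rw [hmap]; exact (mem_commSpace s _).2 ⟨v, rfl⟩
      obtain ⟨w, hw, hwv⟩ := hv
      have hgw : act g w = (h : Matrix ι ι F) *ᵥ w := by
        have := hg ⟨w, hw⟩
        rw [hφ] at this
        exact this
      have hwv' : (h : Matrix ι ι F) *ᵥ w = act s v - v := hwv
      rw [← hwv', QuadraticMap.polar_sub_left, hB, ← hgw, polar_act, sub_self]
    rw [act_sub] at h1
    rw [act_sub] at hfix
    have : act g (act t x) = act g x + (act s ((h : Matrix ι ι F) *ᵥ x) - (h : Matrix ι ι F) *ᵥ x) := by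
      rw [← h1]; abel
    rw [this]
    have h3 : act s ((h : Matrix ι ι F) *ᵥ x) = act s (act g x) - (act g x - (h : Matrix ι ι F) *ᵥ x) := by
      rw [← hfix]; abel
    rw [h3]; abel
  apply ext_act
  intro u
  rw [act_mul, act_mul, key, act_act_inv]

/-- Characteristic two: two isometries, the second an involution, are conjugate in the orthogonal
group iff they are conjugate under the symplectic group of the polar form. -/
theorem isConj_iff_polar_conj (h2 : (2 : F) = 0) (Q : QuadraticForm F (ι → F))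
    (hQ : (polarBilin Q).Nondegenerate) (t s : ↥(Cfsg.isometryGroup F ⇑Q)) (hs : s * s = 1) :
    IsConj t s ↔ ∃ g ∈ Cfsg.preserving (Units.coeHom (Matrix ι ι F))
      (fun u v => Q (u + v) - Q u - Q v),
      g * (t : Matrix.GeneralLinearGroup ι F) * g⁻¹ = (s : Matrix.GeneralLinearGroup ι F) := by
  constructor
  · intro hc
    obtain ⟨c, hc⟩ := isConj_iff.1 hc
    refine ⟨(c : Matrix.GeneralLinearGroup ι F), ?_, ?_⟩
    · intro u v
      exact polar_mulVec_of_mem c u v
    · rw [← hc]
      simp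
  · rintro ⟨g, hg, hconj⟩
    obtain ⟨c, hc⟩ := conj_of_polar_conj h2 Q hQ t s hs g (fun u v => hg u v) hconj
    exact isConj_iff.2 ⟨c, hc⟩

end Cfsg.Agent.Lib.Helper19.OrthRefl
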