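-- The parity character agrees with the determinant (odd characteristic) and with the Dickson
-- character (characteristic two).
import Mathlib
import Cfsg.Prelude.Def_Classical
import Cfsg.Prelude.Def_ClassicalGeometry
import Cfsg.Agent.Lib.Helper19.OrthParity
import Cfsg.Agent.Lib.Helper19.OrthSpinor
import Cfsg.Agent.Lib.Helper19.OrthOmega2

set_option autoImplicit false

namespace Cfsg.Agent.Lib.Helper19.OrthRefl

open Matrix QuadraticMap Module Cfsg.Agent.Lib.Helper19.Parity

variable {ι : Type} [Fintype ι] [DecidableEq ι] {F : Type*} [Field F]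

/-- The map `ℤˣ → Fˣ`. -/
noncomputable def unitsCast (F : Type*) [Field F] : ℤˣ →* Fˣ :=
  Units.map ((Int.castRingHom F : ℤ →+* F) : ℤ →* F)

theorem unitsCast_neg_one : unitsCast F (-1) = -1 := by
  apply Units.ext
  simp [unitsCast]

theorem parityChar_eq_one_iff_detHom (h2 : (2 : F) ≠ 0) (Q : QuadraticForm F (ι → F))
    (hQ : (polarBilin Q).Nondegenerate) {n : ℕ} (hV : finrank F (ι → F) = 2 * n)
    (U₀ : Submodule F (ι → F)) (hU₀ : IsTS Q U₀) (hn : finrank F U₀ = n)
    (g : ↥(Cfsg.isometryGroup F ⇑Q)) :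
    parityChar Q hQ hV U₀ hU₀ hn g = 1 ↔ detHom (⇑Q) g = 1 := by
  have heq : (unitsCast F).comp (parityChar Q hQ hV U₀ hU₀ hn) = detHom (⇑Q) := by
    apply MonoidHom.eq_of_eqOn_dense (closure_Rset h2 Q hQ)
    rintro _ ⟨v, hv, rfl⟩
    rw [MonoidHom.comp_apply, parityChar_refl, detHom_refl, unitsCast_neg_one]
  rw [← heq, MonoidHom.comp_apply]
  rcases Int.units_eq_one_or (parityChar Q hQ hV U₀ hU₀ hn g) with h | h
  · rw [h, map_one]
    exact ⟨fun _ => rfl, fun _ => rfl⟩
  · rw [h, unitsCast_neg_one]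
    constructor
    · intro h'; exact absurd h' (by decide)
    · intro h'
      exfalso
      apply h2
      have := congrArg Units.val h'
      rw [Units.val_neg, Units.val_one] at this
      linear_combination -this

theorem parityChar_eq_dicksonChar [Fintype F] (h2 : (2 : F) = 0) (Q : QuadraticForm F (ι → F))
    (hQ : (polarBilin Q).Nondegenerate) (hex : Fintype.card F ≠ 2 ∨ Fintype.card ι ≠ 4) {n : ℕ}
    (hV : finrank F (ι → F) = 2 * n)
    (U₀ : Submodule F (ι → F)) (hU₀ : IsTS Q U₀) (hn : finrank F U₀ = n) :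
    parityChar Q hQ hV U₀ hU₀ hn = dicksonChar h2 Q hQ := by
  apply MonoidHom.eq_of_eqOn_dense (closure_Rset_c2 h2 Q hQ hex)
  rintro _ ⟨v, hv, rfl⟩
  rw [parityChar_refl, dicksonChar_refl]

end Cfsg.Agent.Lib.Helper19.OrthRefl
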