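-- Characteristic two: splitting of involution classes between the orthogonal group and `Ω`.
import Mathlib
import Cfsg.Prelude.Def_Classical
import Cfsg.Prelude.Def_ClassicalGeometry
import Cfsg.Agent.Lib.Helper19.OrthInvConj
import Cfsg.Agent.Lib.Helper19.OrthParity2
import Cfsg.Agent.Lib.Helper19.DicksonRank
import Cfsg.Agent.Lib.Helper19.OrthOmega2

set_option autoImplicit false

namespace Cfsg.Agent.Lib.Helper19.OrthRefl

open Matrix QuadraticMap Module Cfsg.Agent.Lib.Helper19.Parity Cfsg.Agent.Lib.Helper19.WittQuad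

variable {ι : Type} [Fintype ι] [DecidableEq ι] {F : Type*} [Field F]

/-- A reflection in a vector fixed by `t` commutes with `t`. -/
theorem refl_comm_of_fixed (Q : QuadraticForm F (ι → F)) (t : ↥(Cfsg.isometryGroup F ⇑Q))
    (w : ι → F) (hw : Q w ≠ 0) (htw : act t w = w) :
    t * refl Q w hw * t⁻¹ = refl Q w hw := by
  have hgv : Q (act t w) ≠ 0 := by rw [htw]; exact hw
  rw [conj_refl Q w hw t hgv]
  exact refl_congr Q _ _ hgv hw htw

/-- If `t` fixes a non-singular vector, then conjugacy of `t` in `O` gives conjugacy under `Ω`. -/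
theorem conj_in_Omega_of_fixed [Fintype F] (h2 : (2 : F) = 0) (Q : QuadraticForm F (ι → F))
    (hQ : (polarBilin Q).Nondegenerate) (hex : Fintype.card F ≠ 2 ∨ Fintype.card ι ≠ 4)
    (t s g : ↥(Cfsg.isometryGroup F ⇑Q)) (hg : g * t * g⁻¹ = s) (w : ι → F) (hw : Q w ≠ 0)
    (htw : act t w = w) : ∃ g' ∈ Cfsg.Omega F ⇑Q, g' * t * g'⁻¹ = s := by
  rcases Int.units_eq_one_or (dicksonChar h2 Q hQ g) with h | h
  · exact ⟨g, (mem_Omega_iff_c2 h2 Q hQ hex g).2 h, hg⟩
  · refine ⟨g * refl Q w hw, (mem_Omega_iff_c2 h2 Q hQ hex _).2 ?_, ?_⟩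
    · rw [map_mul, h, dicksonChar_refl]; rfl
    · have hc := refl_comm_of_fixed Q t w hw htw
      rw [← hg]
      calc g * refl Q w hw * t * (g * refl Q w hw)⁻¹
          = g * (t * (t⁻¹ * (refl Q w hw * t * (refl Q w hw)⁻¹))) * g⁻¹ := by group
        _ = g * t * g⁻¹ := by
          have : t⁻¹ * (refl Q w hw * t * (refl Q w hw)⁻¹) = 1 := by
            have h3 : refl Q w hw * t = t * refl Q w hw := (mul_inv_eq_iff_eq_mul.1 hc).symm
            rw [h3]; group
          rw [this, mul_one]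

/-- A non-singular vector fixed by an involution, in characteristic two. -/
theorem exists_fixed_nonsing (h2 : (2 : F) = 0) (Q : QuadraticForm F (ι → F))
    (hQ : (polarBilin Q).Nondegenerate) (t : ↥(Cfsg.isometryGroup F ⇑Q)) (ht : t * t = 1)
    (h : (∃ v, Q (act t v - v) ≠ 0) ∨ ¬ IsTS Q (orth Q (commSpace t))) :
    ∃ w, Q w ≠ 0 ∧ act t w = w := by
  have htt : ∀ x, act t (act t x) = x := fun x => by rw [← act_mul, ht, act_one]
  rcases h with ⟨v, hv⟩ | h
  · refine ⟨act t v - v, hv, ?_⟩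
    rw [act_sub, htt]
    have : (2 : F) • (act t v - v) = 0 := by rw [h2, zero_smul]
    rw [two_smul] at this
    have h3 : v - act t v = -(act t v - v) := by abel
    rw [h3]
    exact (eq_neg_of_add_eq_zero_left this).symm
  · unfold IsTS at h
    push Not at h
    obtain ⟨w, hw, hQw⟩ := h
    refine ⟨w, hQw, act_eq_self_of_orth Q hQ t ht w ?_⟩
    intro v
    rw [QuadraticMap.polar_comm]
    exact mem_orth.1 hw _ ((mem_commSpace t _).2 ⟨v, rfl⟩)

theorem finrank_commSpace {Q : (ι → F) → F} (t : ↥(Cfsg.isometryGroup F Q)) :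
    finrank F (commSpace t)
      = (((t : Matrix.GeneralLinearGroup ι F) : Matrix ι ι F) - 1).rank := rfl

theorem isTS_commSpace (Q : QuadraticForm F (ι → F)) (t : ↥(Cfsg.isometryGroup F ⇑Q))
    (h : ∀ v, Q (act t v - v) = 0) : IsTS Q (commSpace t) := by
  intro w hw
  obtain ⟨v, rfl⟩ := (mem_commSpace t w).1 hw
  exact h v

/-- The commutator space of a conjugate. -/
theorem commSpace_conj {Q : (ι → F) → F} (t s g : ↥(Cfsg.isometryGroup F Q))
    (hg : g * t * g⁻¹ = s) :
    (commSpace t).map (Matrix.mulVecLin ((g : Matrix.GeneralLinearGroup ι F) : Matrix ι ι F))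
      = commSpace s := by
  ext y
  rw [Submodule.mem_map, mem_commSpace]
  constructor
  · rintro ⟨w, hw, rfl⟩
    obtain ⟨v, rfl⟩ := (mem_commSpace t w).1 hw
    refine ⟨act g v, ?_⟩
    rw [← hg, act_mul, act_mul, act_inv_act]
    change _ = act g (act t v - v)
    rw [act_sub]
  · rintro ⟨u, rfl⟩
    refine ⟨act t (act g⁻¹ u) - act g⁻¹ u, (mem_commSpace t _).2 ⟨_, rfl⟩, ?_⟩
    change act g (act t (act g⁻¹ u) - act g⁻¹ u) = _
    rw [act_sub, act_act_inv, ← hg, act_mul, act_mul]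

end Cfsg.Agent.Lib.Helper19.OrthRefl
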