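-- A non-degenerate quadratic form in at least two variables over a finite field of odd
-- characteristic represents every scalar (general spaces and subspaces).
import Mathlib
import Cfsg.Prelude.Def_Classical
import Cfsg.Prelude.Def_ClassicalGeometry
import Cfsg.Agent.Lib.Helper19.OrthSpinor
import Cfsg.Agent.Lib.Helper19.OrthCD2c

set_option autoImplicit false

namespace Cfsg.Agent.Lib.Helper19.OrthRefl

open Matrix QuadraticMap Module Cfsg.Agent.Lib.Helper19.Parity

theorem exists_Q_eq_gen {F V : Type*} [Field F] [Fintype F] [AddCommGroup V] [Module F V]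
    [FiniteDimensional F V] (h2 : (2 : F) ≠ 0) (Q : QuadraticForm F V)
    (hQ : (polarBilin Q).Nondegenerate) (hn : 2 ≤ finrank F V) (c : F) : ∃ x, Q x = c := by
  letI : Invertible (2 : F) := invertibleOfNonzero h2
  have hsymm : (polarBilin Q).IsSymm := by
    rw [LinearMap.isSymm_def]
    intro x y
    exact QuadraticMap.polar_comm _ _ _
  obtain ⟨v, hv⟩ := LinearMap.BilinForm.exists_orthogonal_basis hsymm
  have hortho : ∀ i j, i ≠ j → polar (⇑Q) (v i) (v j) = 0 := fun i j hij => hv hij
  have hns : ∀ i, Q (v i) ≠ 0 := by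
    intro i
    have := hv.not_isOrtho_basis_self_of_separatingLeft hQ.1 i
    rw [QuadraticMap.polarBilin_apply_apply, QuadraticMap.polar_self] at this
    intro h0
    exact this (by rw [h0, smul_zero])
  have h0 : 0 < finrank F V := by omega
  have h1 : 1 < finrank F V := by omega
  set i0 : Fin (finrank F V) := ⟨0, h0⟩
  set i1 : Fin (finrank F V) := ⟨1, h1⟩
  have h01 : i0 ≠ i1 := by
    intro h
    have := congrArg Fin.val h
    simp [i0, i1] at this
  set a := Q (v i0) with ha
  set b := Q (v i1) with hb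
  have hcard : Fintype.card F % 2 = 1 :=
    FiniteField.odd_card_of_char_ne_two (ringChar_ne_two h2)
  have hf2 : (Polynomial.C a * Polynomial.X ^ 2).degree = 2 :=
    Polynomial.degree_C_mul_X_pow 2 (hns i0)
  have hg2 : (Polynomial.C b * Polynomial.X ^ 2 - Polynomial.C c).degree = 2 := by
    rw [Polynomial.degree_sub_C]
    · exact Polynomial.degree_C_mul_X_pow 2 (hns i1)
    · rw [Polynomial.degree_C_mul_X_pow 2 (hns i1)]; norm_num
  obtain ⟨x, y, hxy⟩ := FiniteField.exists_root_sum_quadratic hf2 hg2 hcard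
  refine ⟨x • v i0 + y • v i1, ?_⟩
  have hQ' : Q (x • v i0 + y • v i1) = Q (x • v i0) + Q (y • v i1)
      + polar (⇑Q) (x • v i0) (y • v i1) := QuadraticMap.map_add (⇑Q) _ _
  rw [hQ', QuadraticMap.map_smul, QuadraticMap.map_smul, QuadraticMap.polar_smul_left,
    QuadraticMap.polar_smul_right, hortho i0 i1 h01]
  simp only [Polynomial.eval_mul, Polynomial.eval_C, Polynomial.eval_pow, Polynomial.eval_X,
    Polynomial.eval_sub] at hxy
  rw [smul_eq_mul, smul_eq_mul, smul_eq_mul, smul_eq_mul, ← ha, ← hb]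
  linear_combination hxy

variable {ι : Type} [Fintype ι] [DecidableEq ι] {F : Type*} [Field F]

theorem exists_Q_eq_in [Fintype F] (h2 : (2 : F) ≠ 0) (Q : QuadraticForm F (ι → F))
    {D : Submodule F (ι → F)} (hD : Nondeg Q D) (hd : 2 ≤ finrank F D) (c : F) :
    ∃ x ∈ D, Q x = c := by
  obtain ⟨x, hx⟩ := exists_Q_eq_gen h2 (Q.comp D.subtype) (restrict_nondeg Q hD) hd c
  exact ⟨x.1, x.2, hx⟩

end Cfsg.Agent.Lib.Helper19.OrthRefl
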