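-- `Ω` is generated by the Siegel transformations (dimension at least five).
import Mathlib
import Cfsg.Prelude.Def_Classical
import Cfsg.Prelude.Def_ClassicalGeometry
import Cfsg.Agent.Lib.Helper19.OrthSiegel
import Cfsg.Agent.Lib.Helper19.OrthSquares
import Cfsg.Agent.Lib.Helper19.QuadUniv

set_option autoImplicit false

namespace Cfsg.Agent.Lib.Helper19.OrthRefl

open Matrix QuadraticMap Module Cfsg.Agent.Lib.Helper19.Parity Cfsg.Agent.Lib.Helper19.WittQuad

variable {ι : Type} [Fintype ι] [DecidableEq ι] {F : Type*} [Field F]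

/-- The set of all Siegel transformations. -/
def SiegelSet (Q : QuadraticForm F (ι → F)) (hQ : (polarBilin Q).Nondegenerate) :
    Set ↥(Cfsg.isometryGroup F ⇑Q) :=
  {g | ∃ (p u : ι → F) (hp : Q p = 0) (hpu : polar (⇑Q) p u = 0), g = siegel Q hQ p u hp hpu}

theorem siegel_mem_SiegelSet (Q : QuadraticForm F (ι → F)) (hQ : (polarBilin Q).Nondegenerate)
    (p u : ι → F) (hp : Q p = 0) (hpu : polar (⇑Q) p u = 0) :
    siegel Q hQ p u hp hpu ∈ SiegelSet Q hQ := ⟨p, u, hp, hpu, rfl⟩

/-- Key lemma, first case: `b - a` singular. -/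
theorem refl_mul_refl_mem_of_sub_singular (Q : QuadraticForm F (ι → F))
    (hQ : (polarBilin Q).Nondegenerate) (a b : ι → F) (ha : Q a ≠ 0) (hb : Q b ≠ 0)
    (hab : Q a = Q b) (hs : Q (b - a) = 0) :
    refl Q a ha * refl Q b hb ∈ Subgroup.closure (SiegelSet Q hQ) := by
  obtain ⟨p, hp'⟩ : ∃ p : ι → F, p = b - a := ⟨_, rfl⟩
  have hbp : b = a + p := by rw [hp']; abel
  have hp : Q p = 0 := by rw [hp']; exact hs
  have hpa : polar (⇑Q) p a = 0 := by
    have h1 : Q (a + p) = Q a + Q p + polar (⇑Q) a p := QuadraticMap.map_add (⇑Q) a p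
    rw [← hbp, ← hab, hp, add_zero] at h1
    rw [QuadraticMap.polar_comm]
    linear_combination -h1
  have hap : Q (a + p) ≠ 0 := by rw [← hbp]; exact hb
  have hpu : polar (⇑Q) p (-(Q a)⁻¹ • a) = 0 := by
    rw [QuadraticMap.polar_smul_right, hpa, smul_zero]
  rw [refl_congr Q b (a + p) hb hap hbp, refl_mul_refl_eq_siegel Q hQ a p ha hp hpa hap hpu]
  exact Subgroup.subset_closure (siegel_mem_SiegelSet Q hQ _ _ _ _)

theorem nondeg_plane_of_ne (Q : QuadraticForm F (ι → F)) (a b : ι → F)
    (h : polar (⇑Q) a b * polar (⇑Q) a b ≠ 4 * Q a * Q b) : Nondeg Q (plane F a b) := by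
  unfold Nondeg
  rw [eq_bot_iff]
  rintro x ⟨hx1, hx2⟩
  obtain ⟨s, t, rfl⟩ := mem_plane.1 hx1
  obtain ⟨e1, e2⟩ := mem_orth_plane.1 hx2
  rw [QuadraticMap.polar_add_right, QuadraticMap.polar_smul_right, QuadraticMap.polar_smul_right,
    polar_self', smul_eq_mul, smul_eq_mul] at e1
  rw [QuadraticMap.polar_add_right, QuadraticMap.polar_smul_right, QuadraticMap.polar_smul_right,
    polar_self', smul_eq_mul, smul_eq_mul, QuadraticMap.polar_comm (⇑Q) b a] at e2
  have hd : 4 * Q a * Q b - polar (⇑Q) a b * polar (⇑Q) a b ≠ 0 := by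
    intro h'
    apply h
    linear_combination -h'
  have hs : s = 0 := by
    have : (4 * Q a * Q b - polar (⇑Q) a b * polar (⇑Q) a b) * s = 0 := by
      linear_combination 2 * Q b * e1 - polar (⇑Q) a b * e2
    exact (mul_eq_zero.1 this).resolve_left hd
  have ht : t = 0 := by
    have : (4 * Q a * Q b - polar (⇑Q) a b * polar (⇑Q) a b) * t = 0 := by
      linear_combination 2 * Q a * e2 - polar (⇑Q) a b * e1
    exact (mul_eq_zero.1 this).resolve_left hd
  rw [hs, ht, zero_smul, zero_smul, add_zero]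
  exact Submodule.zero_mem _

variable [Fintype F]

/-- An intermediate vector `w` with `Q w = Q a`, `w - a` and `b - w` singular. -/
theorem exists_middle (Q : QuadraticForm F (ι → F)) (hQ : (polarBilin Q).Nondegenerate)
    (hn : 5 ≤ Fintype.card ι) (a b : ι → F) (ha : Q a ≠ 0) (hab : Q a = Q b)
    (h1 : Q (b - a) ≠ 0) (h3 : Q (b + a) ≠ 0) :
    ∃ w, Q w = Q a ∧ Q (w - a) = 0 ∧ Q (b - w) = 0 := by
  have hfr : finrank F (ι → F) = Fintype.card ι := Module.finrank_fintype_fun_eq_card F
  by_cases h2 : (2 : F) = 0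
  · obtain ⟨w₀, hQw₀, haw₀, hbw₀⟩ := exists_nonsing_orth_pair Q hQ hn a b
    obtain ⟨t, ht⟩ := isSquare_c2 h2 (Q a / Q w₀)
    refine ⟨t • w₀, ?_, ?_, ?_⟩
    · rw [QuadraticMap.map_smul, smul_eq_mul, ← ht]
      field_simp
    · rw [Q_sub', QuadraticMap.map_smul, QuadraticMap.polar_smul_left,
        QuadraticMap.polar_comm (⇑Q) w₀ a, haw₀, smul_zero, sub_zero, smul_eq_mul, ← ht]
      have : Q a / Q w₀ * Q w₀ = Q a := by field_simp
      rw [this, ← two_mul, h2, zero_mul]
    · rw [Q_sub', QuadraticMap.map_smul, QuadraticMap.polar_smul_right, hbw₀, smul_zero, sub_zero,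
        smul_eq_mul, ← ht, ← hab]
      have : Q a / Q w₀ * Q w₀ = Q a := by field_simp
      rw [this, ← two_mul, h2, zero_mul]
  · set c := Q a with hc
    set β := polar (⇑Q) a b with hβ
    have hβ1 : β - 2 * c ≠ 0 := by
      intro h
      apply h1
      rw [Q_sub', ← hab, QuadraticMap.polar_comm (⇑Q) b a, ← hβ]
      linear_combination -h
    have hβ2 : β + 2 * c ≠ 0 := by
      intro h
      apply h3
      have : Q (b + a) = Q b + Q a + polar (⇑Q) b a := QuadraticMap.map_add (⇑Q) b a
      rw [this, ← hab, QuadraticMap.polar_comm (⇑Q) b a, ← hβ]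
      linear_combination h
    have hne : polar (⇑Q) a b * polar (⇑Q) a b ≠ 4 * Q a * Q b := by
      rw [← hab, ← hβ]
      intro h
      have : (β - 2 * c) * (β + 2 * c) = 0 := by linear_combination h
      rcases mul_eq_zero.1 this with h' | h'
      · exact hβ1 h'
      · exact hβ2 h'
    have hP := nondeg_plane_of_ne Q a b hne
    have hD : Nondeg Q (orth Q (plane F a b)) := by
      unfold Nondeg
      rw [orth_orth hQ, inf_comm]
      exact hP
    have hfp : finrank F (plane F a b) ≤ 2 := by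
      have := finrank_range_le_card (R := F) ![a, b]
      rw [Fintype.card_fin] at this
      exact this
    have hDfr : 2 ≤ finrank F (orth Q (plane F a b)) := by
      rw [finrank_orth hQ, hfr]
      omega
    obtain ⟨z, hzD, hQz⟩ := exists_Q_eq_in h2 Q hD hDfr (c * (β - 2 * c) / (β + 2 * c))
    obtain ⟨hza, hzb⟩ := mem_orth_plane.1 hzD
    obtain ⟨t, ht⟩ : ∃ t : F, t = 2 * c / (2 * c + β) := ⟨_, rfl⟩
    have hd : 2 * c + β ≠ 0 := by rw [add_comm]; exact hβ2
    have htd : t * (2 * c + β) = 2 * c := by rw [ht]; field_simp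
    have hQab : Q (a + b) = 2 * c + β := by
      have : Q (a + b) = Q a + Q b + polar (⇑Q) a b := QuadraticMap.map_add (⇑Q) a b
      rw [this, ← hab, ← hβ]; ring
    have hwa : polar (⇑Q) (t • (a + b) + z) a = 2 * c := by
      rw [QuadraticMap.polar_add_left, QuadraticMap.polar_smul_left, QuadraticMap.polar_add_left,
        polar_self', QuadraticMap.polar_comm (⇑Q) b a, ← hβ, QuadraticMap.polar_comm (⇑Q) z a, hza,
        add_zero, smul_eq_mul, ← hc]
      linear_combination htd
    have hwb : polar (⇑Q) (t • (a + b) + z) b = 2 * c := by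
      rw [QuadraticMap.polar_add_left, QuadraticMap.polar_smul_left, QuadraticMap.polar_add_left,
        polar_self', ← hβ, QuadraticMap.polar_comm (⇑Q) z b, hzb, add_zero, smul_eq_mul, ← hab]
      linear_combination htd
    have hQw : Q (t • (a + b) + z) = c := by
      have e : Q (t • (a + b) + z) = Q (t • (a + b)) + Q z + polar (⇑Q) (t • (a + b)) z :=
        QuadraticMap.map_add (⇑Q) _ _
      rw [e, QuadraticMap.map_smul, hQab, hQz, QuadraticMap.polar_smul_left,
        QuadraticMap.polar_add_left, hza, hzb, add_zero, smul_zero, add_zero, smul_eq_mul, ht]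
      field_simp
      ring
    refine ⟨t • (a + b) + z, hQw, ?_, ?_⟩
    · rw [Q_sub', hQw, hwa]; ring
    · rw [Q_sub', hQw, ← hab, QuadraticMap.polar_comm, hwb]; ring

/-- Key lemma: a product of two reflections in vectors with the same value of `Q` is a product
of Siegel transformations. -/
theorem refl_mul_refl_mem_closure_SiegelSet (Q : QuadraticForm F (ι → F))
    (hQ : (polarBilin Q).Nondegenerate) (hn : 5 ≤ Fintype.card ι) (a b : ι → F)
    (ha : Q a ≠ 0) (hb : Q b ≠ 0) (hab : Q a = Q b) :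
    refl Q a ha * refl Q b hb ∈ Subgroup.closure (SiegelSet Q hQ) := by
  by_cases h1 : Q (b - a) = 0
  · exact refl_mul_refl_mem_of_sub_singular Q hQ a b ha hb hab h1
  by_cases h3 : Q (b + a) = 0
  · have hnb : Q (-b) ≠ 0 := by rw [QuadraticMap.map_neg]; exact hb
    rw [← refl_neg Q b hb hnb]
    apply refl_mul_refl_mem_of_sub_singular Q hQ a (-b) ha hnb
    · rw [QuadraticMap.map_neg]; exact hab
    · have : -b - a = -(b + a) := by abel
      rw [this, QuadraticMap.map_neg]; exact h3
  obtain ⟨w, hQw, hwa, hbw⟩ := exists_middle Q hQ hn a b ha hab h1 h3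
  have hw : Q w ≠ 0 := by rw [hQw]; exact ha
  have e : refl Q a ha * refl Q b hb
      = (refl Q a ha * refl Q w hw) * (refl Q w hw * refl Q b hb) := by
    rw [mul_assoc, ← mul_assoc (refl Q w hw), refl_mul_self, one_mul]
  rw [e]
  exact Subgroup.mul_mem _ (refl_mul_refl_mem_of_sub_singular Q hQ a w ha hw hQw.symm hwa)
    (refl_mul_refl_mem_of_sub_singular Q hQ w b hw hb (hQw.trans hab) hbw)

/-- `Ω` is generated by the Siegel transformations. -/
theorem Omega_eq_closure_SiegelSet (Q : QuadraticForm F (ι → F))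
    (hQ : (polarBilin Q).Nondegenerate) (hn : 5 ≤ Fintype.card ι) :
    Cfsg.Omega F ⇑Q = Subgroup.closure (SiegelSet Q hQ) := by
  apply le_antisymm
  · have hgen : Subgroup.closure (Rset Q) = ⊤ := by
      by_cases h2 : (2 : F) = 0
      · exact closure_Rset_c2 h2 Q hQ (Or.inr (by omega))
      · exact closure_Rset h2 Q hQ
    have h := commutator_le_closure_squares (Rset Q) hgen
      (by rintro _ ⟨v, hv, rfl⟩; exact refl_mul_self Q v hv)
      (by
        rintro g _ ⟨v, hv, rfl⟩
        have hgv : Q (act g v) ≠ 0 := by rw [Q_act g]; exact hv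
        rw [conj_refl Q v hv g hgv]
        exact refl_mem_Rset Q _ hgv)
    refine h.trans ?_
    rw [Subgroup.closure_le]
    rintro _ ⟨_, ⟨u, hu, rfl⟩, _, ⟨v, hv, rfl⟩, rfl⟩
    have hgu : Q (act (refl Q v hv) u) ≠ 0 := by rw [Q_act (refl Q v hv) u]; exact hu
    have e : refl Q u hu * refl Q v hv * (refl Q u hu * refl Q v hv)
        = refl Q u hu * refl Q (act (refl Q v hv) u) hgu := by
      rw [← conj_refl Q u hu (refl Q v hv) hgu, refl_inv]
      group
    rw [e]
    exact refl_mul_refl_mem_closure_SiegelSet Q hQ hn _ _ hu hgu (Q_act (refl Q v hv) u).symm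
  · rw [Subgroup.closure_le]
    rintro _ ⟨p, u, hp, hpu, rfl⟩
    exact siegel_mem_Omega Q hQ hn p u hp hpu

end Cfsg.Agent.Lib.Helper19.OrthRefl
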