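-- Elements of the isometry group stabilising a given subspace, with prescribed determinant and
-- spinor character.
import Mathlib
import Cfsg.Prelude.Def_Classical
import Cfsg.Prelude.Def_ClassicalGeometry
import Cfsg.Agent.Lib.Helper19.OrthWitt

set_option autoImplicit false

namespace Cfsg.Agent.Lib.Helper19.OrthRefl

open Matrix QuadraticMap Module Cfsg.Agent.Lib.Helper19.Parity

variable {ι : Type} [Fintype ι] [DecidableEq ι] {F : Type*} [Field F]

theorem act_refl_mem_of_mem (Q : QuadraticForm F (ι → F)) (v : ι → F) (hv : Q v ≠ 0)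
    (W : Submodule F (ι → F)) (hvW : v ∈ W) (w : ι → F) (hw : w ∈ W) :
    act (refl Q v hv) w ∈ W := by
  rw [act_refl]
  exact W.sub_mem hw (W.smul_mem _ hvW)

theorem act_refl_mem_of_orth (Q : QuadraticForm F (ι → F)) (v : ι → F) (hv : Q v ≠ 0)
    (W : Submodule F (ι → F)) (hvW : v ∈ orth Q W) (w : ι → F) (hw : w ∈ W) :
    act (refl Q v hv) w ∈ W := by
  rw [act_refl_of_polar_eq_zero Q v hv w]
  · exact hw
  · rw [QuadraticMap.polar_comm]
    exact mem_orth.1 hvW w hw

/-- A singular partner of a non-zero singular vector. -/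
theorem exists_hyp_partner (Q : QuadraticForm F (ι → F)) (hQ : (polarBilin Q).Nondegenerate)
    (e : ι → F) (he0 : e ≠ 0) (hQe : Q e = 0) :
    ∃ f : ι → F, Q f = 0 ∧ polar (⇑Q) e f = 1 := by
  obtain ⟨y, hy⟩ : ∃ y, polar (⇑Q) e y ≠ 0 := by
    by_contra hcon
    push Not at hcon
    exact he0 (hQ.1 e hcon)
  obtain ⟨y', hy'⟩ : ∃ y' : ι → F, y' = (polar (⇑Q) e y)⁻¹ • y := ⟨_, rfl⟩
  have hey' : polar (⇑Q) e y' = 1 := by
    rw [hy', QuadraticMap.polar_smul_right, smul_eq_mul, inv_mul_cancel₀ hy]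
  refine ⟨y' - Q y' • e, ?_, ?_⟩
  · rw [Q_sub', QuadraticMap.map_smul, hQe, smul_zero, add_zero, QuadraticMap.polar_smul_right,
      QuadraticMap.polar_comm (⇑Q) y' e, hey', smul_eq_mul, mul_one, sub_self]
  · rw [QuadraticMap.polar_sub_right, QuadraticMap.polar_smul_right, polar_self', hQe, mul_zero,
      smul_zero, sub_zero, hey']

/-- An element of determinant one and non-trivial spinor character acting on `e^⊥` by
transvections along the singular vector `e`. -/
theorem exists_hyp_stab [Fintype F] (h2 : (2 : F) ≠ 0) (Q : QuadraticForm F (ι → F))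
    (hQ : (polarBilin Q).Nondegenerate) (e : ι → F) (he0 : e ≠ 0) (hQe : Q e = 0) :
    ∃ (s : ↥(Cfsg.isometryGroup F ⇑Q)) (f : ι → F) (c : F), detHom (⇑Q) s = 1 ∧
      chi (⇑Q) 1 s = -1 ∧ ∀ w, polar (⇑Q) e w = 0 → act s w = w + (c * polar (⇑Q) f w) • e := by
  classical
  obtain ⟨f, hQf, hef⟩ := exists_hyp_partner Q hQ e he0 hQe
  obtain ⟨ν, hν⟩ := FiniteField.exists_nonsquare (ringChar_ne_two h2) (F := F)
  have hν0 : ν ≠ 0 := by
    rintro rfl
    exact hν ⟨0, by ring⟩
  have hQa : Q (e + f) = 1 := by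
    have : Q (e + f) = Q e + Q f + polar (⇑Q) e f := QuadraticMap.map_add (⇑Q) e f
    rw [this, hQe, hQf, hef]; ring
  have hQb : Q (e + ν • f) = ν := by
    have : Q (e + ν • f) = Q e + Q (ν • f) + polar (⇑Q) e (ν • f) :=
      QuadraticMap.map_add (⇑Q) e (ν • f)
    rw [this, hQe, QuadraticMap.map_smul, hQf, QuadraticMap.polar_smul_right, hef]
    simp
  have ha : Q (e + f) ≠ 0 := by rw [hQa]; exact one_ne_zero
  have hb : Q (e + ν • f) ≠ 0 := by rw [hQb]; exact hν0
  refine ⟨refl Q (e + f) ha * refl Q (e + ν • f) hb, f, ν - 1, ?_, ?_, ?_⟩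
  · rw [map_mul, detHom_refl, detHom_refl]; simp
  · rw [map_mul, chi_refl h2 Q 1 one_ne_zero, chi_refl h2 Q 1 one_ne_zero, hQa, hQb, one_mul,
      one_mul, if_pos ⟨1, by ring⟩, if_neg hν]
    rfl
  · intro w hw
    have hee : polar (⇑Q) e e = 0 := by rw [polar_self', hQe, mul_zero]
    have hff : polar (⇑Q) f f = 0 := by rw [polar_self', hQf, mul_zero]
    have hfe : polar (⇑Q) f e = 1 := by rw [QuadraticMap.polar_comm]; exact hef
    have hbw : polar (⇑Q) (e + ν • f) w = ν * polar (⇑Q) f w := by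
      rw [QuadraticMap.polar_add_left, QuadraticMap.polar_smul_left, hw, zero_add, smul_eq_mul]
    have h1 : act (refl Q (e + ν • f) hb) w = w - polar (⇑Q) f w • (e + ν • f) := by
      rw [act_refl, hQb, hbw, ← mul_assoc, inv_mul_cancel₀ hν0, one_mul]
    have hab : polar (⇑Q) (e + f) (e + ν • f) = ν + 1 := by
      rw [QuadraticMap.polar_add_left, QuadraticMap.polar_add_right, QuadraticMap.polar_add_right,
        QuadraticMap.polar_smul_right, QuadraticMap.polar_smul_right, hee, hef, hfe, hff]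
      simp
    have haw : polar (⇑Q) (e + f) w = polar (⇑Q) f w := by
      rw [QuadraticMap.polar_add_left, hw, zero_add]
    rw [act_mul, h1, act_refl, hQa, QuadraticMap.polar_sub_right, QuadraticMap.polar_smul_right,
      hab, haw, inv_one, one_mul, smul_eq_mul]
    module

end Cfsg.Agent.Lib.Helper19.OrthRefl
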