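-- `Ω` is generated by the long root elements (Siegel transformations with both vectors singular).
import Mathlib
import Cfsg.Prelude.Def_Classical
import Cfsg.Prelude.Def_ClassicalGeometry
import Cfsg.Agent.Lib.Helper19.OrthSiegelGen
import Cfsg.Agent.Lib.Helper19.QuadWitt
import Cfsg.Agent.Lib.Helper19.OrthStab

set_option autoImplicit false

namespace Cfsg.Agent.Lib.Helper19.OrthRefl

open Matrix QuadraticMap Module Cfsg.Agent.Lib.Helper19.Parity Cfsg.Agent.Lib.Helper19.WittQuad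

variable {ι : Type} [Fintype ι] [DecidableEq ι] {F : Type*} [Field F]

/-- A hyperbolic pair inside a non-degenerate subspace of dimension at least three. -/
theorem exists_hyp_pair_in [Finite F] (Q : QuadraticForm F (ι → F)) {D : Submodule F (ι → F)}
    (hD : Nondeg Q D) (hd : 3 ≤ finrank F D) :
    ∃ s ∈ D, ∃ s' ∈ D, Q s = 0 ∧ Q s' = 0 ∧ polar (⇑Q) s s' = 1 := by
  obtain ⟨s, hsD, hs0, hQs⟩ := Cfsg.Agent.Lib.Helper19.QuadWitt.exists_singular_of_three (Q := Q) D hd
  obtain ⟨y, hyD, hy⟩ := hD.exists_polar_ne hsD hs0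
  obtain ⟨y', hy'⟩ : ∃ y' : ι → F, y' = (polar (⇑Q) s y)⁻¹ • y := ⟨_, rfl⟩
  have hy'D : y' ∈ D := by rw [hy']; exact D.smul_mem _ hyD
  have hsy' : polar (⇑Q) s y' = 1 := by
    rw [hy', QuadraticMap.polar_smul_right, smul_eq_mul, inv_mul_cancel₀ hy]
  refine ⟨s, hsD, y' - Q y' • s, D.sub_mem hy'D (D.smul_mem _ hsD), hQs, ?_, ?_⟩
  · rw [Q_sub', QuadraticMap.map_smul, hQs, QuadraticMap.polar_smul_right,
      QuadraticMap.polar_comm (⇑Q) y' s, hsy', smul_eq_mul, smul_eq_mul]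
    ring
  · rw [QuadraticMap.polar_sub_right, QuadraticMap.polar_smul_right, polar_self', hQs, hsy']
    simp

/-- The plane of a hyperbolic pair is non-degenerate. -/
theorem nondeg_hyp_plane (Q : QuadraticForm F (ι → F)) (p p' : ι → F) (hp : Q p = 0)
    (hpp' : polar (⇑Q) p p' = 1) : Nondeg Q (plane F p p') := by
  apply nondeg_plane_of_ne
  rw [hpp', hp]
  simp

/-- The complement of a hyperbolic plane. -/
theorem nondeg_orth_hyp_plane (Q : QuadraticForm F (ι → F)) (hQ : (polarBilin Q).Nondegenerate)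
    (p p' : ι → F) (hp : Q p = 0) (hpp' : polar (⇑Q) p p' = 1) :
    Nondeg Q (orth Q (plane F p p')) := by
  unfold Nondeg
  rw [orth_orth hQ, inf_comm]
  exact nondeg_hyp_plane Q p p' hp hpp'

omit [Fintype ι] [DecidableEq ι] in
theorem finrank_plane_le (a b : ι → F) : finrank F (plane F a b) ≤ 2 := by
  have := finrank_range_le_card (R := F) ![a, b]
  rw [Fintype.card_fin] at this
  exact this

/-- A hyperbolic pair orthogonal to a given non-zero singular vector (and to a partner). -/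
theorem exists_hyp_pair_orth [Finite F] (Q : QuadraticForm F (ι → F))
    (hQ : (polarBilin Q).Nondegenerate) (hn : 5 ≤ Fintype.card ι) (p p' : ι → F)
    (hp : Q p = 0) (hpp' : polar (⇑Q) p p' = 1) :
    ∃ s s', Q s = 0 ∧ Q s' = 0 ∧ polar (⇑Q) s s' = 1 ∧ polar (⇑Q) p s = 0 ∧ polar (⇑Q) p s' = 0 ∧
      polar (⇑Q) p' s = 0 ∧ polar (⇑Q) p' s' = 0 := by
  have hfr : finrank F (ι → F) = Fintype.card ι := Module.finrank_fintype_fun_eq_card F
  have hD := nondeg_orth_hyp_plane Q hQ p p' hp hpp'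
  have hd : 3 ≤ finrank F (orth Q (plane F p p')) := by
    rw [finrank_orth hQ, hfr]
    have := finrank_plane_le (F := F) p p'
    omega
  obtain ⟨s, hsD, s', hs'D, h1, h2, h3⟩ := exists_hyp_pair_in Q hD hd
  exact ⟨s, s', h1, h2, h3, (mem_orth_plane.1 hsD).1, (mem_orth_plane.1 hs'D).1,
    (mem_orth_plane.1 hsD).2, (mem_orth_plane.1 hs'D).2⟩

/-- The set of long root elements. -/
def LongSet (Q : QuadraticForm F (ι → F)) (hQ : (polarBilin Q).Nondegenerate) :
    Set ↥(Cfsg.isometryGroup F ⇑Q) :=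
  {g | ∃ (p u : ι → F) (hp : Q p = 0) (hpu : polar (⇑Q) p u = 0), Q u = 0 ∧
    g = siegel Q hQ p u hp hpu}

theorem siegel_mem_LongSet (Q : QuadraticForm F (ι → F)) (hQ : (polarBilin Q).Nondegenerate)
    (p u : ι → F) (hp : Q p = 0) (hpu : polar (⇑Q) p u = 0) (hu : Q u = 0) :
    siegel Q hQ p u hp hpu ∈ LongSet Q hQ := ⟨p, u, hp, hpu, hu, rfl⟩

theorem siegel_zero_left (Q : QuadraticForm F (ι → F)) (hQ : (polarBilin Q).Nondegenerate)
    (u : ι → F) (hp : Q (0 : ι → F) = 0) (hpu : polar (⇑Q) 0 u = 0) :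
    siegel Q hQ 0 u hp hpu = 1 := by
  apply ext_act
  intro v
  rw [act_siegel, act_one, QuadraticMap.polar_zero_left]
  simp

/-- Every Siegel transformation is a product of long root elements. -/
theorem siegel_mem_closure_LongSet [Finite F] (Q : QuadraticForm F (ι → F))
    (hQ : (polarBilin Q).Nondegenerate) (hn : 5 ≤ Fintype.card ι) (p u : ι → F)
    (hp : Q p = 0) (hpu : polar (⇑Q) p u = 0) :
    siegel Q hQ p u hp hpu ∈ Subgroup.closure (LongSet Q hQ) := by
  by_cases hp0 : p = 0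
  · subst hp0
    rw [siegel_zero_left]
    exact Subgroup.one_mem _
  obtain ⟨p', hQp', hpp'⟩ := exists_hyp_partner Q hQ p hp0 hp
  obtain ⟨s, s', hQs, hQs', hss', hps, hps', -, -⟩ := exists_hyp_pair_orth Q hQ hn p p' hp hpp'
  obtain ⟨a, ha⟩ : ∃ a : F, a = polar (⇑Q) u s' + 1 := ⟨_, rfl⟩
  obtain ⟨b, hb⟩ : ∃ b : F, b = a * polar (⇑Q) u s - Q u := ⟨_, rfl⟩
  obtain ⟨σ, hσ⟩ : ∃ σ : ι → F, σ = u - a • s - b • s' := ⟨_, rfl⟩
  have hQσ : Q σ = 0 := by
    have e : σ = (1 : F) • u + (-a) • s + (-b) • s' := by rw [hσ]; module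
    rw [e, Cfsg.Agent.Lib.Helper19.QuadWitt.Q_lin3, hQs, hQs', hss']
    rw [hb, ha]
    ring
  have hpσ : polar (⇑Q) p σ = 0 := by
    rw [hσ, QuadraticMap.polar_sub_right, QuadraticMap.polar_sub_right,
      QuadraticMap.polar_smul_right, QuadraticMap.polar_smul_right, hpu, hps, hps']
    simp
  have hpas : polar (⇑Q) p (a • s) = 0 := by
    rw [QuadraticMap.polar_smul_right, hps, smul_zero]
  have hpbs : polar (⇑Q) p (b • s') = 0 := by
    rw [QuadraticMap.polar_smul_right, hps', smul_zero]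
  have hu1 : σ + a • s + b • s' = u := by rw [hσ]; module
  have hp1 : polar (⇑Q) p (σ + a • s) = 0 := by
    rw [QuadraticMap.polar_add_right, hpσ, hpas, add_zero]
  have hp2 : polar (⇑Q) p (σ + a • s + b • s') = 0 := by rw [hu1]; exact hpu
  have e : siegel Q hQ p u hp hpu
      = siegel Q hQ p σ hp hpσ * siegel Q hQ p (a • s) hp hpas * siegel Q hQ p (b • s') hp hpbs := by
    rw [siegel_mul Q hQ p σ (a • s) hp hpσ hpas hp1,
      siegel_mul Q hQ p (σ + a • s) (b • s') hp hp1 hpbs hp2]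
    exact siegel_congr Q hQ hp hpu hp hp2 rfl hu1.symm
  rw [e]
  refine Subgroup.mul_mem _ (Subgroup.mul_mem _ ?_ ?_) ?_
  · exact Subgroup.subset_closure (siegel_mem_LongSet Q hQ _ _ _ _ hQσ)
  · apply Subgroup.subset_closure
    apply siegel_mem_LongSet Q hQ
    rw [QuadraticMap.map_smul, hQs, smul_zero]
  · apply Subgroup.subset_closure
    apply siegel_mem_LongSet Q hQ
    rw [QuadraticMap.map_smul, hQs', smul_zero]

/-- `Ω` is generated by the long root elements. -/
theorem Omega_eq_closure_LongSet [Fintype F] (Q : QuadraticForm F (ι → F))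
    (hQ : (polarBilin Q).Nondegenerate) (hn : 5 ≤ Fintype.card ι) :
    Cfsg.Omega F ⇑Q = Subgroup.closure (LongSet Q hQ) := by
  rw [Omega_eq_closure_SiegelSet Q hQ hn]
  apply le_antisymm
  · rw [Subgroup.closure_le]
    rintro _ ⟨p, u, hp, hpu, rfl⟩
    exact siegel_mem_closure_LongSet Q hQ hn p u hp hpu
  · apply Subgroup.closure_mono
    rintro _ ⟨p, u, hp, hpu, -, rfl⟩
    exact siegel_mem_SiegelSet Q hQ p u hp hpu

/-- The matrix of a long root element. -/
theorem siegelMatrix_mulVec (Q : QuadraticForm F (ι → F)) (u v : ι → F) (c : F) (x : ι → F) :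
    Cfsg.siegelMatrix (⇑Q) u v c *ᵥ x
      = x + c • (polar (⇑Q) u x • v - polar (⇑Q) v x • u) := by
  unfold Cfsg.siegelMatrix
  rw [Matrix.add_mulVec, Matrix.one_mulVec, Matrix.smul_mulVec, Matrix.sub_mulVec,
    Matrix.vecMulVec_mulVec, Matrix.vecMulVec_mulVec,
    Cfsg.Agent.Lib.Helper12.polarVec_dotProduct, Cfsg.Agent.Lib.Helper12.polarVec_dotProduct]
  ext i
  simp [mul_comm]

theorem siegel_coe (Q : QuadraticForm F (ι → F)) (hQ : (polarBilin Q).Nondegenerate)
    (u v : ι → F) (c : F) (hu : Q u = 0) (hv : Q v = 0) (hvu : polar (⇑Q) v (c • u) = 0) :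
    (((siegel Q hQ v (c • u) hv hvu : ↥(Cfsg.isometryGroup F ⇑Q)) :
      Matrix.GeneralLinearGroup ι F) : Matrix ι ι F) = Cfsg.siegelMatrix (⇑Q) u v c := by
  apply Matrix.toLin'.injective
  apply LinearMap.ext
  intro x
  rw [Matrix.toLin'_apply, Matrix.toLin'_apply, ← act_def, act_siegel, siegelMatrix_mulVec,
    QuadraticMap.map_smul, hu, QuadraticMap.polar_smul_left]
  simp only [smul_eq_mul, mul_zero, zero_smul, sub_zero]
  module

end Cfsg.Agent.Lib.Helper19.OrthRefl
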