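-- `Ω` is perfect (dimension at least five).
import Mathlib
import Cfsg.Prelude.Def_Classical
import Cfsg.Prelude.Def_ClassicalGeometry
import Cfsg.Agent.Lib.Helper19.OrthLong

set_option autoImplicit false

namespace Cfsg.Agent.Lib.Helper19.OrthRefl

open Matrix QuadraticMap Module Cfsg.Agent.Lib.Helper19.Parity Cfsg.Agent.Lib.Helper19.WittQuad
open scoped commutatorElement

variable {ι : Type} [Fintype ι] [DecidableEq ι] {F : Type*} [Field F]

/-- Two vectors orthogonal to a given pair, with polar value one. -/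
theorem exists_polar_one_orth_pair (Q : QuadraticForm F (ι → F))
    (hQ : (polarBilin Q).Nondegenerate) (hn : 5 ≤ Fintype.card ι) (p s : ι → F) :
    ∃ w w', polar (⇑Q) w w' = 1 ∧ polar (⇑Q) p w = 0 ∧ polar (⇑Q) s w = 0 ∧
      polar (⇑Q) p w' = 0 ∧ polar (⇑Q) s w' = 0 := by
  have hfr : finrank F (ι → F) = Fintype.card ι := Module.finrank_fintype_fun_eq_card F
  have hfp := finrank_plane_le (F := F) p s
  obtain ⟨w, hw, w₀, hw₀, hne⟩ : ∃ w ∈ orth Q (plane F p s), ∃ w₀ ∈ orth Q (plane F p s),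
      polar (⇑Q) w w₀ ≠ 0 := by
    by_contra hcon
    push Not at hcon
    have hle : orth Q (plane F p s) ≤ orth Q (orth Q (plane F p s)) := by
      intro x hx
      rw [mem_orth]
      intro y hy
      exact hcon y hy x hx
    rw [orth_orth hQ] at hle
    have h1 := Submodule.finrank_mono hle
    rw [finrank_orth hQ, hfr] at h1
    omega
  refine ⟨w, (polar (⇑Q) w w₀)⁻¹ • w₀, ?_, (mem_orth_plane.1 hw).1, (mem_orth_plane.1 hw).2, ?_, ?_⟩
  · rw [QuadraticMap.polar_smul_right, smul_eq_mul, inv_mul_cancel₀ hne]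
  · rw [QuadraticMap.polar_smul_right, (mem_orth_plane.1 hw₀).1, smul_zero]
  · rw [QuadraticMap.polar_smul_right, (mem_orth_plane.1 hw₀).2, smul_zero]

/-- A long root element is a commutator of two Siegel transformations. -/
theorem siegel_eq_commutator (Q : QuadraticForm F (ι → F))
    (hQ : (polarBilin Q).Nondegenerate) (p s w w' : ι → F) (hp : Q p = 0) (hs : Q s = 0)
    (hps : polar (⇑Q) p s = 0) (hww' : polar (⇑Q) w w' = 1) (hpw : polar (⇑Q) p w = 0)
    (hsw : polar (⇑Q) s w = 0) (hpw' : polar (⇑Q) p w' = 0) (hsw' : polar (⇑Q) s w' = 0) :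
    siegel Q hQ p s hp hps
      = ⁅(siegel Q hQ p w hp hpw)⁻¹, siegel Q hQ s w' hs hsw'⁆ := by
  have hsp : polar (⇑Q) s p = 0 := by rw [QuadraticMap.polar_comm]; exact hps
  have hw'w : polar (⇑Q) w' w = 1 := by rw [QuadraticMap.polar_comm]; exact hww'
  have h1 : act (siegel Q hQ s w' hs hsw') p = p := by
    rw [act_siegel, hsp, QuadraticMap.polar_comm (⇑Q) w' p, hpw']
    simp
  have h2 : act (siegel Q hQ s w' hs hsw') w = w + s := by
    rw [act_siegel, hsw, hw'w]
    simp
  have hp' : Q (act (siegel Q hQ s w' hs hsw') p) = 0 := by rw [h1]; exact hp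
  have hpu' : polar (⇑Q) (act (siegel Q hQ s w' hs hsw') p) (act (siegel Q hQ s w' hs hsw') w) = 0 := by
    rw [polar_act]; exact hpw
  have hc := conj_siegel Q hQ p w hp hpw (siegel Q hQ s w' hs hsw') hp' hpu'
  have hpws : polar (⇑Q) p (w + s) = 0 := by
    rw [QuadraticMap.polar_add_right, hpw, hps, add_zero]
  rw [siegel_congr Q hQ hp' hpu' hp hpws h1 h2, ← siegel_mul Q hQ p w s hp hpw hps hpws] at hc
  rw [commutatorElement_def, inv_inv, mul_assoc, mul_assoc, ← mul_assoc (siegel Q hQ s w' hs hsw'), hc,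
    ← mul_assoc, inv_mul_cancel, one_mul]

section fin

variable [Fintype F]

/-- `Ω` is contained in its own commutator subgroup. -/
theorem Omega_le_commutator (Q : QuadraticForm F (ι → F))
    (hQ : (polarBilin Q).Nondegenerate) (hn : 5 ≤ Fintype.card ι) :
    Cfsg.Omega F ⇑Q ≤ ⁅Cfsg.Omega F ⇑Q, Cfsg.Omega F ⇑Q⁆ := by
  conv_lhs => rw [Omega_eq_closure_LongSet Q hQ hn]
  rw [Subgroup.closure_le]
  rintro _ ⟨p, s, hp, hps, hs, rfl⟩
  obtain ⟨w, w', hww', hpw, hsw, hpw', hsw'⟩ := exists_polar_one_orth_pair Q hQ hn p s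
  rw [siegel_eq_commutator Q hQ p s w w' hp hs hps hww' hpw hsw hpw' hsw']
  exact Subgroup.commutator_mem_commutator
    (Subgroup.inv_mem _ (siegel_mem_Omega Q hQ hn p w hp hpw))
    (siegel_mem_Omega Q hQ hn s w' hs hsw')

/-- `Ω` is perfect. -/
theorem commutator_Omega_eq_top (Q : QuadraticForm F (ι → F))
    (hQ : (polarBilin Q).Nondegenerate) (hn : 5 ≤ Fintype.card ι) :
    commutator ↥(Cfsg.Omega F ⇑Q) = ⊤ := by
  rw [eq_top_iff]
  intro g _
  have h := Omega_le_commutator Q hQ hn g.2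
  rw [← Subgroup.map_subtype_commutator] at h
  obtain ⟨g', hg', hgg'⟩ := h
  have : g' = g := Subtype.ext hgg'
  rw [← this]
  exact hg'

end fin

end Cfsg.Agent.Lib.Helper19.OrthRefl
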