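-- Geometry of singular points: Siegel transformations moving points, common partners, kernel.
import Mathlib
import Cfsg.Prelude.Def_Classical
import Cfsg.Prelude.Def_ClassicalGeometry
import Cfsg.Agent.Lib.Helper19.OrthPerfect

set_option autoImplicit false

namespace Cfsg.Agent.Lib.Helper19.OrthRefl

open Matrix QuadraticMap Module Cfsg.Agent.Lib.Helper19.Parity Cfsg.Agent.Lib.Helper19.WittQuad

variable {ι : Type} [Fintype ι] [DecidableEq ι] {F : Type*} [Field F]

/-- A Siegel transformation fixes the vectors orthogonal to both its parameters. -/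
theorem act_siegel_fix (Q : QuadraticForm F (ι → F)) (hQ : (polarBilin Q).Nondegenerate)
    (p u : ι → F) (hp : Q p = 0) (hpu : polar (⇑Q) p u = 0) (x : ι → F)
    (hpx : polar (⇑Q) p x = 0) (hux : polar (⇑Q) u x = 0) :
    act (siegel Q hQ p u hp hpu) x = x := by
  rw [act_siegel, hpx, hux]
  simp

/-- The Siegel transformations at `p` act transitively on the singular vectors `y` with
`B(p, y) = 1`. -/
theorem act_siegel_sub (Q : QuadraticForm F (ι → F)) (hQ : (polarBilin Q).Nondegenerate)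
    (p y y' : ι → F) (hp : Q p = 0) (hy : Q y = 0) (hy' : Q y' = 0)
    (hpy : polar (⇑Q) p y = 1) (hpy' : polar (⇑Q) p y' = 1)
    (hpu : polar (⇑Q) p (y - y') = 0) :
    act (siegel Q hQ p (y - y') hp hpu) y = y' := by
  rw [act_siegel, hpy, Q_sub', hy, hy', QuadraticMap.polar_sub_left, polar_self', hy,
    QuadraticMap.polar_comm (⇑Q) y' y]
  module

section geom

variable [Finite F]

/-- A non-singular vector orthogonal to three given vectors (dimension at least seven). -/
theorem exists_nonsing_orth_three (Q : QuadraticForm F (ι → F))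
    (hQ : (polarBilin Q).Nondegenerate) (hn : 7 ≤ Fintype.card ι) (x y z : ι → F) :
    ∃ d, Q d ≠ 0 ∧ polar (⇑Q) x d = 0 ∧ polar (⇑Q) y d = 0 ∧ polar (⇑Q) z d = 0 := by
  have hfr : finrank F (ι → F) = Fintype.card ι := Module.finrank_fintype_fun_eq_card F
  obtain ⟨S, hS⟩ : ∃ S : Submodule F (ι → F), S = Submodule.span F (Set.range ![x, y, z]) :=
    ⟨_, rfl⟩
  have hfp : finrank F S ≤ 3 := by
    have := finrank_range_le_card (R := F) ![x, y, z]
    rw [Fintype.card_fin] at this
    rw [hS]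
    exact this
  have hxS : x ∈ S := by rw [hS]; exact Submodule.subset_span ⟨0, rfl⟩
  have hyS : y ∈ S := by rw [hS]; exact Submodule.subset_span ⟨1, rfl⟩
  have hzS : z ∈ S := by rw [hS]; exact Submodule.subset_span ⟨2, rfl⟩
  obtain ⟨w, hw, hQw⟩ : ∃ w ∈ orth Q S, Q w ≠ 0 := by
    by_contra hcon
    push Not at hcon
    have hTS : IsTS Q (orth Q S) := hcon
    have h1 := hTS.finrank_le hQ
    rw [finrank_orth hQ, hfr] at h1
    omega
  exact ⟨w, hQw, hw x hxS, hw y hyS, hw z hzS⟩

omit [Finite F] in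
/-- A vector orthogonal to `x` but not to `y`, when `y` is not a multiple of `x`. -/
theorem exists_orth_polar_ne (Q : QuadraticForm F (ι → F)) (hQ : (polarBilin Q).Nondegenerate)
    (x y : ι → F) (hy : y ∉ Submodule.span F {x}) :
    ∃ v, polar (⇑Q) x v = 0 ∧ polar (⇑Q) v y ≠ 0 := by
  by_contra hcon
  push Not at hcon
  apply hy
  rw [← orth_orth hQ (Submodule.span F {x})]
  rw [mem_orth]
  intro w hw
  apply hcon
  exact hw x (Submodule.mem_span_singleton_self x)

/-- A non-zero singular vector orthogonal to two given vectors. -/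
theorem exists_singular_orth_pair (Q : QuadraticForm F (ι → F))
    (hQ : (polarBilin Q).Nondegenerate) (hn : 5 ≤ Fintype.card ι) (x y : ι → F) :
    ∃ w, w ≠ 0 ∧ Q w = 0 ∧ polar (⇑Q) x w = 0 ∧ polar (⇑Q) y w = 0 := by
  have hfr : finrank F (ι → F) = Fintype.card ι := Module.finrank_fintype_fun_eq_card F
  have hfp := finrank_plane_le (F := F) x y
  have hd : 3 ≤ finrank F (orth Q (plane F x y)) := by
    rw [finrank_orth hQ, hfr]
    omega
  obtain ⟨w, hwD, hw0, hQw⟩ :=
    Cfsg.Agent.Lib.Helper19.QuadWitt.exists_singular_of_three (Q := Q) _ hd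
  exact ⟨w, hw0, hQw, (mem_orth_plane.1 hwD).1, (mem_orth_plane.1 hwD).2⟩

/-- A singular vector orthogonal to `x` and not orthogonal to two given singular vectors. -/
theorem exists_common_partner (Q : QuadraticForm F (ι → F))
    (hQ : (polarBilin Q).Nondegenerate) (hn : 7 ≤ Fintype.card ι) (x y y' : ι → F)
    (hy : Q y = 0) (hy' : Q y' = 0) (hxy : polar (⇑Q) x y = 0) (hxy' : polar (⇑Q) x y' = 0)
    (hyx : y ∉ Submodule.span F {x}) (hy'x : y' ∉ Submodule.span F {x}) :
    ∃ w, Q w = 0 ∧ polar (⇑Q) x w = 0 ∧ polar (⇑Q) w y ≠ 0 ∧ polar (⇑Q) w y' ≠ 0 := by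
  by_cases hβ : polar (⇑Q) y y' = 0
  · obtain ⟨v1, hv1x, hv1y⟩ := exists_orth_polar_ne Q hQ x y hyx
    obtain ⟨v2, hv2x, hv2y'⟩ := exists_orth_polar_ne Q hQ x y' hy'x
    obtain ⟨v, hvx, hvy, hvy'⟩ : ∃ v, polar (⇑Q) x v = 0 ∧ polar (⇑Q) v y ≠ 0 ∧
        polar (⇑Q) v y' ≠ 0 := by
      by_cases h1 : polar (⇑Q) v1 y' = 0
      · by_cases h2 : polar (⇑Q) v2 y = 0
        · refine ⟨v1 + v2, ?_, ?_, ?_⟩
          · rw [QuadraticMap.polar_add_right, hv1x, hv2x, add_zero]
          · rw [QuadraticMap.polar_add_left, h2, add_zero]; exact hv1y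
          · rw [QuadraticMap.polar_add_left, h1, zero_add]; exact hv2y'
        · exact ⟨v2, hv2x, h2, hv2y'⟩
      · exact ⟨v1, hv1x, hv1y, h1⟩
    refine ⟨v - (Q v / polar (⇑Q) v y) • y, ?_, ?_, ?_, ?_⟩
    · rw [Q_sub', QuadraticMap.map_smul, hy, QuadraticMap.polar_smul_right, smul_eq_mul,
        smul_eq_mul]
      field_simp
      ring
    · rw [QuadraticMap.polar_sub_right, QuadraticMap.polar_smul_right, hvx, hxy]
      simp
    · rw [QuadraticMap.polar_sub_left, QuadraticMap.polar_smul_left, polar_self', hy]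
      simpa using hvy
    · rw [QuadraticMap.polar_sub_left, QuadraticMap.polar_smul_left, hβ]
      simpa using hvy'
  · obtain ⟨d, hQd, hxd, hyd, hy'd⟩ := exists_nonsing_orth_three Q hQ hn x y y'
    obtain ⟨a, ha⟩ : ∃ a : F, a = -Q d / polar (⇑Q) y y' := ⟨_, rfl⟩
    have ha0 : a ≠ 0 := by
      rw [ha]
      exact div_ne_zero (neg_ne_zero.2 hQd) hβ
    have haβ : a * polar (⇑Q) y y' = -Q d := by
      rw [ha]; field_simp
    refine ⟨(1 : F) • y + a • y' + (1 : F) • d, ?_, ?_, ?_, ?_⟩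
    · rw [Cfsg.Agent.Lib.Helper19.QuadWitt.Q_lin3, hy, hy', hyd, hy'd]
      linear_combination haβ
    · rw [QuadraticMap.polar_add_right, QuadraticMap.polar_add_right,
        QuadraticMap.polar_smul_right, QuadraticMap.polar_smul_right,
        QuadraticMap.polar_smul_right, hxy, hxy', hxd]
      simp
    · rw [QuadraticMap.polar_add_left, QuadraticMap.polar_add_left,
        QuadraticMap.polar_smul_left, QuadraticMap.polar_smul_left,
        QuadraticMap.polar_smul_left, polar_self', hy, QuadraticMap.polar_comm (⇑Q) y' y,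
        QuadraticMap.polar_comm (⇑Q) d y, hyd]
      simp only [smul_eq_mul, mul_zero, zero_add, add_zero]
      exact mul_ne_zero ha0 hβ
    · rw [QuadraticMap.polar_add_left, QuadraticMap.polar_add_left,
        QuadraticMap.polar_smul_left, QuadraticMap.polar_smul_left,
        QuadraticMap.polar_smul_left, polar_self', hy',
        QuadraticMap.polar_comm (⇑Q) d y', hy'd]
      simp only [smul_eq_mul, mul_zero, add_zero, one_mul]
      exact hβ

/-- Every vector is a sum of three singular vectors. -/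
theorem exists_three_singular (Q : QuadraticForm F (ι → F))
    (hQ : (polarBilin Q).Nondegenerate) (hn : 3 ≤ Fintype.card ι) (u : ι → F) :
    ∃ σ s s' : ι → F, Q σ = 0 ∧ Q s = 0 ∧ Q s' = 0 ∧ u = σ + s + s' := by
  have hfr : finrank F (ι → F) = Fintype.card ι := Module.finrank_fintype_fun_eq_card F
  have hd : 3 ≤ finrank F (⊤ : Submodule F (ι → F)) := by
    rw [finrank_top, hfr]; exact hn
  obtain ⟨s, -, s', -, hQs, hQs', hss'⟩ := exists_hyp_pair_in Q (nondeg_top hQ) hd
  obtain ⟨a, ha⟩ : ∃ a : F, a = polar (⇑Q) u s' + 1 := ⟨_, rfl⟩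
  obtain ⟨b, hb⟩ : ∃ b : F, b = a * polar (⇑Q) u s - Q u := ⟨_, rfl⟩
  refine ⟨(1 : F) • u + (-a) • s + (-b) • s', a • s, b • s', ?_, ?_, ?_, ?_⟩
  · rw [Cfsg.Agent.Lib.Helper19.QuadWitt.Q_lin3, hQs, hQs', hss']
    rw [hb, ha]
    ring
  · rw [QuadraticMap.map_smul, hQs, smul_zero]
  · rw [QuadraticMap.map_smul, hQs', smul_zero]
  · module

end geom

end Cfsg.Agent.Lib.Helper19.OrthRefl
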