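-- An isometry fixing every singular point is a scalar.
import Mathlib
import Cfsg.Prelude.Def_Classical
import Cfsg.Prelude.Def_ClassicalGeometry
import Cfsg.Agent.Lib.Helper19.OrthPoints

set_option autoImplicit false

namespace Cfsg.Agent.Lib.Helper19.OrthRefl

open Matrix QuadraticMap Module Cfsg.Agent.Lib.Helper19.Parity Cfsg.Agent.Lib.Helper19.WittQuad

variable {ι : Type} [Fintype ι] [DecidableEq ι] {F : Type*} [Field F]

/-- Orthogonal independent singular eigenvectors have the same eigenvalue. -/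
theorem eig_eq_of_orth (Q : QuadraticForm F (ι → F)) (g : ↥(Cfsg.isometryGroup F ⇑Q))
    (hfix : ∀ v, Q v = 0 → ∃ c : F, act g v = c • v) (p q : ι → F) (hp : Q p = 0) (hq : Q q = 0)
    (hpq : polar (⇑Q) p q = 0) (hp0 : p ≠ 0) (hqp : q ∉ Submodule.span F {p}) (cp cq : F)
    (h1 : act g p = cp • p) (h2 : act g q = cq • q) : cp = cq := by
  have hpq' : Q (p + q) = 0 := by
    have : Q (p + q) = Q p + Q q + polar (⇑Q) p q := QuadraticMap.map_add (⇑Q) p q
    rw [this, hp, hq, hpq]; simp
  obtain ⟨c, hc⟩ := hfix (p + q) hpq'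
  rw [act_add, h1, h2, smul_add] at hc
  have e : (cp - c) • p = (c - cq) • q := by
    rw [sub_smul, sub_smul]
    rw [sub_eq_sub_iff_add_eq_add]
    rw [hc]
    abel
  by_cases hc' : c - cq = 0
  · rw [hc', zero_smul] at e
    have := (smul_eq_zero.1 e).resolve_right hp0
    linear_combination this + hc'
  · exfalso
    apply hqp
    rw [Submodule.mem_span_singleton]
    refine ⟨(c - cq)⁻¹ * (cp - c), ?_⟩
    rw [mul_smul, e, smul_smul, inv_mul_cancel₀ hc', one_smul]

/-- An isometry fixing every singular point is a scalar. -/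
theorem scalar_of_fix_singular [Finite F] (Q : QuadraticForm F (ι → F))
    (hQ : (polarBilin Q).Nondegenerate) (hn : 5 ≤ Fintype.card ι)
    (g : ↥(Cfsg.isometryGroup F ⇑Q)) (hfix : ∀ v, Q v = 0 → ∃ c : F, act g v = c • v) :
    ∃ c : F, ∀ v, act g v = c • v := by
  obtain ⟨p0, hp00, hQp0, -, -⟩ := exists_singular_orth_pair Q hQ hn 0 0
  obtain ⟨c0, hc0⟩ := hfix p0 hQp0
  have key : ∀ q, Q q = 0 → act g q = c0 • q := by
    intro q hq
    by_cases hq0 : q = 0
    · subst hq0; rw [act_zero, smul_zero]
    obtain ⟨c, hc⟩ := hfix q hq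
    suffices c = c0 by rw [hc, this]
    by_cases hB : polar (⇑Q) p0 q = 0
    · by_cases hqs : q ∈ Submodule.span F {p0}
      · obtain ⟨t, rfl⟩ := Submodule.mem_span_singleton.1 hqs
        rw [act_smul, hc0] at hc
        have ht : t ≠ 0 := by rintro rfl; exact hq0 (zero_smul _ _)
        have h3 : (t * c0 - c * t) • p0 = 0 := by
          rw [sub_smul, mul_smul, mul_smul, hc, sub_self]
        have h4 := (smul_eq_zero.1 h3).resolve_right hp00
        have h' : t * (c0 - c) = 0 := by linear_combination h4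
        have h5 := (mul_eq_zero.1 h').resolve_left ht
        linear_combination -h5
      · exact (eig_eq_of_orth Q g hfix p0 q hQp0 hq hB hp00 hqs c0 c hc0 hc).symm
    · obtain ⟨w, hw0, hQw, hp0w, hqw⟩ := exists_singular_orth_pair Q hQ hn p0 q
      obtain ⟨cw, hcw⟩ := hfix w hQw
      have hw1 : w ∉ Submodule.span F {p0} := by
        intro h
        obtain ⟨t, rfl⟩ := Submodule.mem_span_singleton.1 h
        rw [QuadraticMap.polar_smul_right, smul_eq_mul, QuadraticMap.polar_comm] at hqw
        rcases mul_eq_zero.1 hqw with h | h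
        · apply hw0; rw [h, zero_smul]
        · exact hB h
      have hw2 : w ∉ Submodule.span F {q} := by
        intro h
        obtain ⟨t, rfl⟩ := Submodule.mem_span_singleton.1 h
        rw [QuadraticMap.polar_smul_right, smul_eq_mul] at hp0w
        rcases mul_eq_zero.1 hp0w with h | h
        · apply hw0; rw [h, zero_smul]
        · exact hB h
      have e1 := eig_eq_of_orth Q g hfix p0 w hQp0 hQw hp0w hp00 hw1 c0 cw hc0 hcw
      have e2 := eig_eq_of_orth Q g hfix q w hq hQw hqw hq0 hw2 c cw hc hcw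
      rw [e2, e1]
  refine ⟨c0, fun v => ?_⟩
  obtain ⟨σ, s, s', h1, h2, h3, rfl⟩ := exists_three_singular Q hQ (by omega) v
  rw [act_add, act_add, key σ h1, key s h2, key s' h3, smul_add, smul_add]

end Cfsg.Agent.Lib.Helper19.OrthRefl
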