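-- Totally singular subspaces of the elliptic quadratic space have dimension at most the number of
-- hyperbolic pairs.
import Mathlib
import Cfsg.Prelude.Def_Classical
import Cfsg.Prelude.Def_ClassicalGeometry
import Cfsg.Agent.Lib.Helper19.OrthWitt
import Cfsg.Agent.Lib.Helper19.QuadStd

set_option autoImplicit false

namespace Cfsg.Agent.Lib.Helper19.OrthRefl

open Matrix QuadraticMap Module Cfsg.Agent.Lib.Helper19.Parity Cfsg.Agent.Lib.Helper19.WittQuad
  Cfsg.Agent.Lib.Helper19.QuadStd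

variable {F : Type*} [Field F]

/-- The standard embedding of `F^n` as a totally singular subspace. -/
def stdEmb (n : ℕ) (F : Type*) [Field F] : (Fin n → F) →ₗ[F] ((Fin n ⊕ Fin n) ⊕ Fin 2 → F) where
  toFun c := fun idx => match idx with
    | Sum.inl (Sum.inl i) => c i
    | Sum.inl (Sum.inr _) => 0
    | Sum.inr _ => 0
  map_add' c c' := by
    ext idx
    rcases idx with (i | i) | j <;> simp
  map_smul' t c := by
    ext idx
    rcases idx with (i | i) | j <;> simp

theorem stdEmb_injective (n : ℕ) : Function.Injective (stdEmb n F) := by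
  intro c c' h
  ext i
  have := congrFun h (Sum.inl (Sum.inl i))
  exact this

theorem Q_stdEmb (n : ℕ) (a c : F) (x : Fin n → F) : stdMinus n F a c (stdEmb n F x) = 0 := by
  rw [stdMinus_apply]
  unfold Cfsg.quadFormMinus
  simp [stdEmb]

theorem polar_stdEmb_single (n : ℕ) (a c : F) (i : Fin n)
    (w : (Fin n ⊕ Fin n) ⊕ Fin 2 → F) :
    polar ⇑(stdMinus n F a c) (stdEmb n F (Pi.single i 1)) w = w (Sum.inl (Sum.inr i)) := by
  rw [polar_stdMinus]
  simp [stdEmb, Pi.single_apply]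

theorem isTS_minus_finrank_le [Finite F] (n : ℕ) {a c : F}
    (hac : ∀ z₁ z₂ : F, z₁ ^ 2 + a * z₁ * z₂ + c * z₂ ^ 2 = 0 → z₁ = 0 ∧ z₂ = 0)
    (U : Submodule F ((Fin n ⊕ Fin n) ⊕ Fin 2 → F)) (hU : IsTS (stdMinus n F a c) U) :
    finrank F U ≤ n := by
  classical
  by_contra hcon
  push Not at hcon
  have hle : finrank F (Fin n → F) ≤ finrank F U := by
    rw [Module.finrank_fintype_fun_eq_card, Fintype.card_fin]; omega
  obtain ⟨ψ, hψ⟩ := _root_.finrank_le_iff_exists_linearMap.1 hle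
  have hinj2 : Function.Injective (U.subtype.comp ψ) := by
    intro x y h
    exact hψ (Subtype.ext h)
  obtain ⟨φ, hφ⟩ : ∃ φ : ↥(LinearMap.range (stdEmb n F)) ≃ₗ[F] ↥(LinearMap.range (U.subtype.comp ψ)),
      φ = (LinearEquiv.ofInjective (stdEmb n F) (stdEmb_injective n)).symm.trans
        (LinearEquiv.ofInjective (U.subtype.comp ψ) hinj2) := ⟨_, rfl⟩
  have hYU : ∀ y : ↥(LinearMap.range (U.subtype.comp ψ)), (y : (Fin n ⊕ Fin n) ⊕ Fin 2 → F) ∈ U := by
    rintro ⟨y, x, rfl⟩
    exact (ψ x).2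
  have hφQ : ∀ x : ↥(LinearMap.range (stdEmb n F)),
      stdMinus n F a c (φ x : (Fin n ⊕ Fin n) ⊕ Fin 2 → F)
        = stdMinus n F a c (x : (Fin n ⊕ Fin n) ⊕ Fin 2 → F) := by
    intro x
    rw [hU _ (hYU (φ x))]
    obtain ⟨x', hx'⟩ := x.2
    rw [← hx', Q_stdEmb]
  obtain ⟨g, hg, -⟩ := exists_isometry_map (stdMinus n F a c) (stdMinus_nondeg n hac) _ _ φ hφQ
  have hsub : U ≤ LinearMap.range (U.subtype.comp ψ) := by
    intro u hu
    obtain ⟨w, hw⟩ : ∃ w, w = act g⁻¹ u := ⟨_, rfl⟩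
    have hw1 : ∀ i, w (Sum.inl (Sum.inr i)) = 0 := by
      intro i
      rw [← polar_stdEmb_single n a c i w, hw, ← polar_act_left,
        hg ⟨stdEmb n F (Pi.single i 1), ⟨_, rfl⟩⟩]
      exact hU.polar_zero (hYU _) hu
    have hQw : stdMinus n F a c w = 0 := by
      rw [hw, Q_act g⁻¹ u]; exact hU u hu
    rw [stdMinus_apply] at hQw
    unfold Cfsg.quadFormMinus at hQw
    simp only [hw1, mul_zero, Finset.sum_const_zero, zero_add] at hQw
    obtain ⟨h0, h1⟩ := hac _ _ hQw
    have hwX : w ∈ LinearMap.range (stdEmb n F) := by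
      refine ⟨fun i => w (Sum.inl (Sum.inl i)), ?_⟩
      ext idx
      rcases idx with (i | i) | j
      · rfl
      · exact (hw1 i).symm
      · fin_cases j
        · exact h0.symm
        · exact h1.symm
    have hu' : u = act g w := by rw [hw, act_act_inv]
    rw [hu', hg ⟨w, hwX⟩]
    exact (φ ⟨w, hwX⟩).2
  have h1 := Submodule.finrank_mono hsub
  rw [LinearMap.finrank_range_of_inj hinj2, Module.finrank_fintype_fun_eq_card,
    Fintype.card_fin] at h1
  omega

end Cfsg.Agent.Lib.Helper19.OrthRefl
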