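-- `Ω(Q)` in characteristic two has index two whenever the space is not the hyperbolic 4-space
-- over the field of two elements; in particular for elliptic 4-spaces.
import Mathlib
import Cfsg.Prelude.Def_Classical
import Cfsg.Prelude.Def_ClassicalGeometry
import Cfsg.Agent.Lib.Helper19.OrthOmega2
import Cfsg.Agent.Lib.Helper19.QuadMinusTS

set_option autoImplicit false

namespace Cfsg.Agent.Lib.Helper19.OrthRefl

open Matrix QuadraticMap Module Cfsg.Agent.Lib.Helper19.Parity Cfsg.Agent.Lib.Helper19.QuadStd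

variable {ι : Type} [Fintype ι] [DecidableEq ι] {F : Type*} [Field F]

theorem refl_conj_c2' [Fintype F] (h2 : (2 : F) = 0) (Q : QuadraticForm F (ι → F))
    (hQ : (polarBilin Q).Nondegenerate) (hbad : ¬Bad Q (⊤ : Submodule F (ι → F)))
    (u v : ι → F) (hu : Q u ≠ 0) (hv : Q v ≠ 0) :
    ∃ g : ↥(Cfsg.isometryGroup F ⇑Q), g * refl Q u hu * g⁻¹ = refl Q v hv := by
  obtain ⟨s, hs⟩ := isSquare_c2 h2 (Q v / Q u)
  have hs0 : s ≠ 0 := by
    rintro rfl
    rw [mul_zero] at hs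
    exact (div_ne_zero hv hu) hs
  have hQsu : Q (s • u) = Q v := by
    rw [QuadraticMap.map_smul, smul_eq_mul, ← hs]
    field_simp
  have hsu : Q (s • u) ≠ 0 := by rw [hQsu]; exact hv
  obtain ⟨t, _, ht⟩ := exists_TW_map h2 Q hQ (nondeg_top hQ) hbad (u := s • u) (v := v)
    trivial trivial hsu hQsu
  refine ⟨t, ?_⟩
  rw [← refl_smul Q u hu s hs0 hsu]
  have hQt : Q (act t (s • u)) ≠ 0 := by rw [ht]; exact hv
  rw [conj_refl Q (s • u) hsu t hQt]
  exact refl_congr Q _ _ hQt hv ht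

theorem closure_Rset_c2' [Fintype F] (h2 : (2 : F) = 0) (Q : QuadraticForm F (ι → F))
    (hQ : (polarBilin Q).Nondegenerate) (hbad : ¬Bad Q (⊤ : Submodule F (ι → F))) :
    Subgroup.closure (Rset Q) = ⊤ := by
  rw [eq_top_iff]
  intro g _
  rw [← TW_top]
  apply mem_TW_of_fix h2 Q hQ _ ⊤ rfl (nondeg_top hQ) hbad
  intro x hx
  have : orth Q (⊤ : Submodule F (ι → F)) = ⊥ := LinearMap.BilinForm.orthogonal_top_eq_bot hQ
  rw [this, Submodule.mem_bot] at hx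
  rw [hx, act_zero]

theorem Omega_eq_c2' [Fintype F] (h2 : (2 : F) = 0) (Q : QuadraticForm F (ι → F))
    (hQ : (polarBilin Q).Nondegenerate) (hbad : ¬Bad Q (⊤ : Submodule F (ι → F))) :
    Cfsg.Omega F (⇑Q) = (dicksonChar h2 Q hQ).ker := by
  apply commutator_eq_ker_one (Rset Q) (closure_Rset_c2' h2 Q hQ hbad)
  · rintro _ ⟨v, hv, rfl⟩
    exact refl_mul_self Q v hv
  · rintro _ ⟨v, hv, rfl⟩
    exact dicksonChar_refl h2 Q hQ v hv
  · rintro _ ⟨u, hu, rfl⟩ _ ⟨v, hv, rfl⟩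
    exact refl_conj_c2' h2 Q hQ hbad u v hu hv

theorem Omega_index_c2' [Fintype F] (h2 : (2 : F) = 0) (Q : QuadraticForm F (ι → F))
    (hQ : (polarBilin Q).Nondegenerate) (hbad : ¬Bad Q (⊤ : Submodule F (ι → F)))
    (hn : 1 ≤ Fintype.card ι) : (Cfsg.Omega F (⇑Q)).index = 2 := by
  obtain ⟨v, hv⟩ := exists_nonsing_top Q hQ hn
  rw [Omega_eq_c2' h2 Q hQ hbad]
  exact index_ker_of_neg_one _ (refl Q v hv) (dicksonChar_refl h2 Q hQ v hv)

/-- The elliptic 4-space is never the exceptional space. -/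
theorem not_bad_minus [Fintype F] {a c : F}
    (hac : ∀ z₁ z₂ : F, z₁ ^ 2 + a * z₁ * z₂ + c * z₂ ^ 2 = 0 → z₁ = 0 ∧ z₂ = 0) :
    ¬Bad (stdMinus 1 F a c) (⊤ : Submodule F ((Fin 1 ⊕ Fin 1) ⊕ Fin 2 → F)) := by
  rintro ⟨_, _, S, _, hS2, hTS⟩
  have := isTS_minus_finrank_le 1 hac S hTS
  omega

/-- `Ω⁻₄(q)` has index two in characteristic two, for all `q`. -/
theorem Omega_index_minus_four_c2 [Fintype F] (h2 : (2 : F) = 0) {a c : F}
    (hac : ∀ z₁ z₂ : F, z₁ ^ 2 + a * z₁ * z₂ + c * z₂ ^ 2 = 0 → z₁ = 0 ∧ z₂ = 0) :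
    (Cfsg.Omega F (Cfsg.quadFormMinus 1 F a c)).index = 2 := by
  have := Omega_index_c2' h2 (stdMinus 1 F a c) (stdMinus_nondeg 1 hac) (not_bad_minus hac)
    (by simp)
  rw [coe_stdMinus] at this
  exact this

end Cfsg.Agent.Lib.Helper19.OrthRefl
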