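-- The action of the similarity group of a quadratic form on `PΩ` by conjugation.
import Mathlib
import Cfsg.Prelude.Def_Classical
import Cfsg.Prelude.Def_ClassicalGeometry
import Cfsg.Prelude.Def_GeometricClasses
import Cfsg.Prelude.Def_LieTypeDatum
import Cfsg.Agent.Lib.Helper19.OrthAut

set_option autoImplicit false

namespace Cfsg.Agent.Lib.Helper19.OrthRefl

open Matrix QuadraticMap Module Cfsg.Agent.Lib.Helper19.Parity

variable {ι : Type} [Fintype ι] [DecidableEq ι] {F : Type*} [Field F]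

section sim

variable (Q : (ι → F) → F)

/-- The similarity group. -/
abbrev GO : Subgroup (Matrix.GeneralLinearGroup ι F) := Cfsg.Geo.quadSimilarityGroup (F := F) Q

theorem iso_le_GO : Cfsg.isometryGroup F Q ≤ GO Q := fun g hg =>
  ⟨1, fun v => by rw [Units.val_one, one_mul]; exact (mem_iso Q g).1 hg v⟩

theorem conj_mem_iso (g : Matrix.GeneralLinearGroup ι F) (hg : g ∈ GO Q)
    (x : Matrix.GeneralLinearGroup ι F) (hx : x ∈ Cfsg.isometryGroup F Q) :
    g * x * g⁻¹ ∈ Cfsg.isometryGroup F Q := by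
  obtain ⟨c, hc⟩ := hg
  rw [mem_iso] at hx ⊢
  intro u
  have h1 : ((g * x * g⁻¹ : Matrix.GeneralLinearGroup ι F) : Matrix ι ι F) *ᵥ u
      = (g : Matrix ι ι F) *ᵥ ((x : Matrix ι ι F) *ᵥ
        (((g⁻¹ : Matrix.GeneralLinearGroup ι F) : Matrix ι ι F) *ᵥ u)) := by
    rw [Matrix.mulVec_mulVec, Matrix.mulVec_mulVec, ← Units.val_mul, ← Units.val_mul, mul_assoc]
  rw [h1, hc, hx]
  have h2 : u = (g : Matrix ι ι F) *ᵥ
      (((g⁻¹ : Matrix.GeneralLinearGroup ι F) : Matrix ι ι F) *ᵥ u) := by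
    rw [Matrix.mulVec_mulVec, ← Units.val_mul, mul_inv_cancel, Units.val_one, Matrix.one_mulVec]
  conv_rhs => rw [h2, hc]

/-- Conjugation by a similarity, on the isometry group. -/
noncomputable def conjO (g : ↥(GO Q)) :
    ↥(Cfsg.isometryGroup F Q) ≃* ↥(Cfsg.isometryGroup F Q) where
  toFun x := ⟨g.1 * x.1 * g.1⁻¹, conj_mem_iso Q g.1 g.2 x.1 x.2⟩
  invFun x := ⟨g.1⁻¹ * x.1 * g.1⁻¹⁻¹, conj_mem_iso Q g.1⁻¹ (inv_mem g.2) x.1 x.2⟩
  left_inv x := by
    apply Subtype.ext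
    show g.1⁻¹ * (g.1 * x.1 * g.1⁻¹) * g.1⁻¹⁻¹ = x.1
    group
  right_inv x := by
    apply Subtype.ext
    show g.1 * (g.1⁻¹ * x.1 * g.1⁻¹⁻¹) * g.1⁻¹ = x.1
    group
  map_mul' x y := by
    apply Subtype.ext
    show g.1 * (x.1 * y.1) * g.1⁻¹ = g.1 * x.1 * g.1⁻¹ * (g.1 * y.1 * g.1⁻¹)
    group

theorem conjO_coe (g : ↥(GO Q)) (x : ↥(Cfsg.isometryGroup F Q)) :
    ((conjO Q g x : ↥(Cfsg.isometryGroup F Q)) : Matrix.GeneralLinearGroup ι F)
      = g.1 * x.1 * g.1⁻¹ := rfl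

/-- Conjugation by a similarity, on `Ω`. -/
noncomputable def conjOm (g : ↥(GO Q)) : ↥(Cfsg.Omega F Q) ≃* ↥(Cfsg.Omega F Q) :=
  ((conjO Q g).subgroupMap (Cfsg.Omega F Q)).trans
    (MulEquiv.subgroupCongr (Subgroup.characteristic_iff_map_eq.1 inferInstance (conjO Q g)))

theorem conjOm_coe (g : ↥(GO Q)) (s : ↥(Cfsg.Omega F Q)) :
    ((conjOm Q g s : ↥(Cfsg.Omega F Q)) : ↥(Cfsg.isometryGroup F Q)) = conjO Q g s.1 := rfl

/-- The automorphism of `PΩ` induced by a similarity. -/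
noncomputable def autSim (g : ↥(GO Q)) : MulAut (Cfsg.POmega F Q) :=
  QuotientGroup.congr (Subgroup.center ↥(Cfsg.Omega F Q)) (Subgroup.center ↥(Cfsg.Omega F Q))
    (conjOm Q g) (Subgroup.characteristic_iff_map_eq.1 inferInstance _)

theorem autSim_mk (g : ↥(GO Q)) (s : ↥(Cfsg.Omega F Q)) :
    autSim Q g (QuotientGroup.mk s) = QuotientGroup.mk (conjOm Q g s) := rfl

/-- Conjugation by similarities, as a homomorphism to the automorphism group of `PΩ`. -/
noncomputable def autGO : ↥(GO Q) →* MulAut (Cfsg.POmega F Q) :=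
  MonoidHom.mk' (autSim Q) (by
    intro g h
    apply MulEquiv.ext
    intro x
    induction x using QuotientGroup.induction_on with
    | H s =>
      rw [MulAut.mul_apply, autSim_mk, autSim_mk, autSim_mk]
      congr 1
      apply Subtype.ext
      apply Subtype.ext
      rw [conjOm_coe, conjOm_coe, conjOm_coe, conjO_coe, conjO_coe, conjO_coe]
      show g.1 * h.1 * _ * (g.1 * h.1)⁻¹ = _
      group)

theorem autGO_mk (g : ↥(GO Q)) (s : ↥(Cfsg.Omega F Q)) :
    autGO Q g (QuotientGroup.mk s) = QuotientGroup.mk (conjOm Q g s) := rfl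

/-- The inclusion of the isometry group in the similarity group. -/
def inclO : ↥(Cfsg.isometryGroup F Q) →* ↥(GO Q) := Subgroup.inclusion (iso_le_GO Q)

theorem inclO_coe (x : ↥(Cfsg.isometryGroup F Q)) : (inclO Q x).1 = x.1 := rfl

theorem autGO_inclO (x : ↥(Cfsg.isometryGroup F Q)) : autGO Q (inclO Q x) = autHom Q x := by
  apply MulEquiv.ext
  intro y
  induction y using QuotientGroup.induction_on with
  | H s =>
    rw [autGO_mk, autHom_mk]
    congr 1

theorem isInduced_iff_sim (g : ↥(GO Q)) (β : Cfsg.POmega F Q ≃* Cfsg.POmega F Q) :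
    Cfsg.IsInducedBySemilinearPOmega Q (g : Matrix.GeneralLinearGroup ι F) (RingEquiv.refl F) β
      ↔ β = autGO Q g := by
  constructor
  · intro h
    apply MulEquiv.ext
    intro x
    induction x using QuotientGroup.induction_on with
    | H s =>
      rw [autGO_mk]
      apply h s (conjOm Q g s)
      rw [map_refl, conjOm_coe, conjO_coe]
      rfl
  · rintro rfl s s' hs
    rw [autGO_mk]
    congr 1
    apply Subtype.ext
    apply Subtype.ext
    apply Units.ext
    rw [hs, map_refl, conjOm_coe, conjO_coe]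
    rfl

theorem pgoAut_eq : Cfsg.pgoAut F Q = (autGO Q).range := by
  unfold Cfsg.pgoAut Cfsg.autSubgroupOf
  have hset : {β : MulAut (Cfsg.POmega F Q) | Cfsg.IsSimilarityInducedAutPOmega Q β}
      = ((autGO Q).range : Set (MulAut (Cfsg.POmega F Q))) := by
    ext β
    constructor
    · rintro ⟨g, hg, hβ⟩
      exact ⟨⟨g, hg⟩, ((isInduced_iff_sim Q ⟨g, hg⟩ β).1 hβ).symm⟩
    · rintro ⟨g, rfl⟩
      exact ⟨g.1, g.2, (isInduced_iff_sim Q g _).2 rfl⟩
  rw [hset, Subgroup.closure_eq]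

theorem psoAut_eq_sim : Cfsg.psoAut F Q
    = ((Cfsg.specialIsometryGroup F Q).map (inclO Q)).map (autGO Q) := by
  rw [psoAut_eq, Subgroup.map_map]
  congr 1

end sim

end Cfsg.Agent.Lib.Helper19.OrthRefl
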