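-- Base change of similarities of a quadratic form given by a matrix.
import Mathlib
import Cfsg.Agent.Lib.Helper19.QuadStd

set_option autoImplicit false

namespace Cfsg.Agent.Lib.Helper19.BaseChange

open Matrix

variable {ι : Type} [Fintype ι] [DecidableEq ι] {F K : Type*} [Field F] [Field K]

theorem dot_mulVec_mulVec (g A : Matrix ι ι F) (v : ι → F) :
    (g *ᵥ v) ⬝ᵥ (A *ᵥ (g *ᵥ v)) = v ⬝ᵥ ((gᵀ * A * g) *ᵥ v) := by
  rw [← Matrix.mulVec_mulVec, ← Matrix.mulVec_mulVec, dotProduct_comm (g *ᵥ v),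
    Matrix.dotProduct_mulVec, ← Matrix.mulVec_transpose, dotProduct_comm]

theorem dot_transpose (N : Matrix ι ι F) (v : ι → F) : v ⬝ᵥ (Nᵀ *ᵥ v) = v ⬝ᵥ (N *ᵥ v) := by
  rw [Matrix.mulVec_transpose, dotProduct_comm, ← Matrix.dotProduct_mulVec]

/-- A matrix whose quadratic form vanishes is alternating. -/
theorem add_transpose_eq_zero (N : Matrix ι ι F) (h : ∀ v : ι → F, v ⬝ᵥ (N *ᵥ v) = 0) :
    N + Nᵀ = 0 := by
  ext i j
  have h1 := h (Pi.single i 1 + Pi.single j 1)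
  rw [Matrix.mulVec_add, dotProduct_add, add_dotProduct, add_dotProduct, h (Pi.single i 1),
    h (Pi.single j 1)] at h1
  simp only [Matrix.mulVec_single_one, single_one_dotProduct] at h1
  rw [Matrix.add_apply, Matrix.transpose_apply, Matrix.zero_apply]
  simp only [Matrix.col_apply] at h1
  linear_combination h1

/-- Conversely, in characteristic not two. -/
theorem dot_eq_zero_of_add_transpose (h2 : (2 : F) ≠ 0) (N : Matrix ι ι F) (h : N + Nᵀ = 0)
    (v : ι → F) : v ⬝ᵥ (N *ᵥ v) = 0 := by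
  have h1 : v ⬝ᵥ ((N + Nᵀ) *ᵥ v) = 0 := by
    rw [h, Matrix.zero_mulVec, dotProduct_zero]
  rw [Matrix.add_mulVec, dotProduct_add, dot_transpose] at h1
  have : (2 : F) * (v ⬝ᵥ (N *ᵥ v)) = 0 := by linear_combination h1
  exact (mul_eq_zero.1 this).resolve_left h2

/-- Base change of a similarity. -/
theorem sim_map (f : F →+* K) (h2 : (2 : K) ≠ 0) (A g : Matrix ι ι F) (μ : F)
    (h : ∀ v : ι → F, (g *ᵥ v) ⬝ᵥ (A *ᵥ (g *ᵥ v)) = μ * (v ⬝ᵥ (A *ᵥ v))) (w : ι → K) :
    (g.map f *ᵥ w) ⬝ᵥ (A.map f *ᵥ (g.map f *ᵥ w)) = f μ * (w ⬝ᵥ (A.map f *ᵥ w)) := by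
  set N : Matrix ι ι F := gᵀ * A * g - μ • A with hN
  have hN0 : ∀ v : ι → F, v ⬝ᵥ (N *ᵥ v) = 0 := by
    intro v
    rw [hN, Matrix.sub_mulVec, dotProduct_sub, ← dot_mulVec_mulVec, h, Matrix.smul_mulVec,
      dotProduct_smul, smul_eq_mul, sub_self]
  have hNt := add_transpose_eq_zero N hN0
  have hmap : (N.map f) + (N.map f)ᵀ = 0 := by
    ext i j
    have h4 := congrFun (congrFun hNt i) j
    simp only [Matrix.add_apply, Matrix.transpose_apply, Matrix.zero_apply] at h4 ⊢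
    rw [Matrix.map_apply, Matrix.map_apply, ← map_add, h4, map_zero]
  have h3 := dot_eq_zero_of_add_transpose h2 (N.map f) hmap w
  have hNmap : N.map f = (g.map f)ᵀ * A.map f * g.map f - f μ • A.map f := by
    have e1 : ∀ M : Matrix ι ι F, M.map f = f.mapMatrix M := fun M => rfl
    rw [e1 N, hN, map_sub, map_mul, map_mul, ← e1, ← e1, ← e1, Matrix.transpose_map]
    congr 1
    ext i j
    simp
  rw [hNmap, Matrix.sub_mulVec, dotProduct_sub, ← dot_mulVec_mulVec, Matrix.smul_mulVec,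
    dotProduct_smul, smul_eq_mul] at h3
  exact sub_eq_zero.1 h3

end Cfsg.Agent.Lib.Helper19.BaseChange
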