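-- The kernel of the action of the similarity group on `PΩ`: the scalar matrices.
import Mathlib
import Cfsg.Agent.Lib.Helper19.OrthSim
import Cfsg.Agent.Lib.Helper19.OrthCenter2

set_option autoImplicit false

namespace Cfsg.Agent.Lib.Helper19.OrthRefl

open Matrix QuadraticMap Module Cfsg.Agent.Lib.Helper19.Parity

variable {ι : Type} [Fintype ι] [DecidableEq ι] {F : Type*} [Field F]

/-- A matrix stabilising every non-singular line is scalar. -/
theorem scalar_of_eigen (h2 : (2 : F) ≠ 0) (Q : QuadraticForm F (ι → F))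
    (hQ : (polarBilin Q).Nondegenerate) (hn : 4 ≤ Fintype.card ι) (M : Matrix ι ι F)
    (hev : ∀ u : ι → F, Q u ≠ 0 → ∃ a : F, M *ᵥ u = a • u) :
    ∃ c : F, ∀ x, M *ᵥ x = c • x := by
  classical
  have hfr : finrank F (ι → F) = Fintype.card ι := Module.finrank_fintype_fun_eq_card F
  obtain ⟨v, hortho, hns⟩ := exists_orthogonal_basis h2 Q hQ
  choose lam hlam using fun i => hev (v i) (hns i)
  have hd : 4 ≤ finrank F (ι → F) := by rw [hfr]; exact hn
  have step : ∀ i j, lam i = lam j := by
    intro i j
    by_cases hij : i = j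
    · rw [hij]
    obtain ⟨k, l, hki, hkj, hli, hlj, hkl⟩ := exists_two_ne hd i j
    by_cases h1 : Q (v i + v j) ≠ 0
    · obtain ⟨a, ha⟩ := hev _ h1
      rw [Matrix.mulVec_add, hlam, hlam, smul_add] at ha
      have h3 : (lam i - a) • v i + (lam j - a) • v j = 0 := by
        rw [sub_smul, sub_smul]
        have : lam i • v i + lam j • v j - (a • v i + a • v j) = 0 := sub_eq_zero.2 ha
        rw [← this]
        abel
      have hli2 : LinearIndependent F ![v i, v j] := by
        have := v.linearIndependent.comp ![i, j] (by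
          intro a b hab
          fin_cases a <;> fin_cases b <;> simp_all)
        convert this using 1
        ext a
        fin_cases a <;> rfl
      obtain ⟨e1, e2⟩ := LinearIndependent.pair_iff.1 hli2 _ _ h3
      rw [sub_eq_zero.1 e1, sub_eq_zero.1 e2]
    · push Not at h1
      have h4 : Q (v i + v j + v k) ≠ 0 := by
        have e : Q (v i + v j + v k) = Q (v i + v j) + Q (v k) + polar (⇑Q) (v i + v j) (v k) :=
          QuadraticMap.map_add (⇑Q) (v i + v j) (v k)
        rw [QuadraticMap.polar_add_left, hortho i k (Ne.symm hki), hortho j k (Ne.symm hkj), h1,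
          zero_add, add_zero, add_zero] at e
        rw [e]
        exact hns k
      obtain ⟨a, ha⟩ := hev _ h4
      rw [Matrix.mulVec_add, Matrix.mulVec_add, hlam, hlam, hlam, smul_add, smul_add] at ha
      have h3 : (lam i - a) • v i + (lam j - a) • v j + (lam k - a) • v k = 0 := by
        rw [sub_smul, sub_smul, sub_smul]
        have : lam i • v i + lam j • v j + lam k • v k - (a • v i + a • v j + a • v k) = 0 :=
          sub_eq_zero.2 ha
        rw [← this]
        abel
      have hli3 : LinearIndependent F ![v i, v j, v k] := by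
        have := v.linearIndependent.comp ![i, j, k] (by
          intro a b hab
          fin_cases a <;> fin_cases b <;> simp_all)
        convert this using 1
        ext a
        fin_cases a <;> rfl
      have h5 := Fintype.linearIndependent_iff.1 hli3 ![lam i - a, lam j - a, lam k - a] (by
        rw [Fin.sum_univ_three]
        simpa using h3)
      have e1 := h5 0
      have e2 := h5 1
      simp at e1 e2
      rw [sub_eq_zero.1 e1, sub_eq_zero.1 e2]
  set i₀ : Fin (finrank F (ι → F)) := ⟨0, by omega⟩ with hi₀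
  refine ⟨lam i₀, ?_⟩
  intro x
  have hx := v.sum_repr x
  rw [← hx]
  rw [Matrix.mulVec_sum, Finset.smul_sum]
  apply Finset.sum_congr rfl
  intro i _
  rw [Matrix.mulVec_smul, smul_comm]
  congr 1
  have := hlam i
  rw [step i i₀] at this
  exact this

/-- Scalar similarities act trivially on `PΩ`. -/
theorem autGO_eq_one_of_scalar (Q : (ι → F) → F) (g : ↥(GO Q)) (c : F)
    (hc : ((g : Matrix.GeneralLinearGroup ι F) : Matrix ι ι F) = c • (1 : Matrix ι ι F)) :
    autGO Q g = 1 := by
  apply MulEquiv.ext
  intro x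
  induction x using QuotientGroup.induction_on with
  | H s =>
    rw [autGO_mk, MulAut.one_apply]
    congr 1
    apply Subtype.ext
    apply Subtype.ext
    rw [conjOm_coe, conjO_coe]
    have hcomm : g.1 * s.1.1 = s.1.1 * g.1 := by
      apply Units.ext
      rw [Units.val_mul, Units.val_mul, hc, Matrix.smul_mul, Matrix.mul_smul, Matrix.one_mul,
        Matrix.mul_one]
    rw [hcomm, mul_inv_cancel_right]

/-- A similarity acting trivially on `PΩ` is scalar. -/
theorem scalar_of_autGO_eq_one [Fintype F] (h2 : (2 : F) ≠ 0) (Q : QuadraticForm F (ι → F))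
    (hQ : (polarBilin Q).Nondegenerate) (hn : 5 ≤ Fintype.card ι)
    (g : ↥(GO (⇑Q))) (hg : autGO (⇑Q) g = 1) :
    ∃ c : F, ∀ x, ((g : Matrix.GeneralLinearGroup ι F) : Matrix ι ι F) *ᵥ x = c • x := by
  have hfr : finrank F (ι → F) = Fintype.card ι := Module.finrank_fintype_fun_eq_card F
  apply scalar_of_eigen h2 Q hQ (by omega)
  intro u hu
  have hu0 : u ≠ 0 := by
    intro h; rw [h, QuadraticMap.map_zero] at hu; exact hu rfl
  set r := refl Q u hu with hr
  have hy : autHom (⇑Q) (conjO (⇑Q) g r * r⁻¹) = 1 := by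
    rw [← autGO_inclO]
    have : inclO (⇑Q) (conjO (⇑Q) g r * r⁻¹) = g * inclO (⇑Q) r * g⁻¹ * (inclO (⇑Q) r)⁻¹ := by
      apply Subtype.ext
      rfl
    rw [this, map_mul, map_mul, map_mul, map_inv, map_inv, hg]
    group
  rcases eq_one_or_negOne_of_autHom h2 Q hQ hn _ hy with h | h
  · have h1 : conjO (⇑Q) g r = r := mul_inv_eq_one.1 h
    have h3 : g.1 * r.1 = r.1 * g.1 := by
      have := congrArg Subtype.val h1
      rw [conjO_coe] at this
      calc g.1 * r.1 = g.1 * r.1 * g.1⁻¹ * g.1 := by group
        _ = r.1 * g.1 := by rw [this]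
    have h4 : act r ((g.1 : Matrix ι ι F) *ᵥ u) = -((g.1 : Matrix ι ι F) *ᵥ u) := by
      have := congrArg (fun (m : Matrix.GeneralLinearGroup ι F) => (m : Matrix ι ι F) *ᵥ u) h3
      simp only [Units.val_mul, ← Matrix.mulVec_mulVec] at this
      rw [← act_def r u, act_refl_self, Matrix.mulVec_neg] at this
      rw [act_def]
      exact this.symm
    exact ⟨_, eq_smul_of_act_refl_eq_neg h2 Q u hu _ h4⟩
  · exfalso
    have h1 : conjO (⇑Q) g r = negOne Q * r := mul_inv_eq_iff_eq_mul.1 h
    have h3 : g.1 * r.1 = (negOne Q).1 * r.1 * g.1 := by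
      have := congrArg Subtype.val h1
      rw [conjO_coe] at this
      calc g.1 * r.1 = g.1 * r.1 * g.1⁻¹ * g.1 := by group
        _ = (negOne Q).1 * r.1 * g.1 := by rw [this]; rfl
    have hmap : ∀ y ∈ orth Q (F ∙ u), (g.1 : Matrix ι ι F) *ᵥ y ∈ F ∙ u := by
      intro y hy
      have hyu : polar (⇑Q) u y = 0 := mem_orth.1 hy u (Submodule.mem_span_singleton_self u)
      have := congrArg (fun (m : Matrix.GeneralLinearGroup ι F) => (m : Matrix ι ι F) *ᵥ y) h3
      simp only [Units.val_mul, ← Matrix.mulVec_mulVec] at this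
      rw [← act_def r y, act_refl_of_polar_eq_zero Q u hu y hyu, negOne_coe, Matrix.neg_mulVec,
        Matrix.one_mulVec] at this
      have h4 : act r ((g.1 : Matrix ι ι F) *ᵥ y) = -((g.1 : Matrix ι ι F) *ᵥ y) := by
        rw [act_def]
        exact (neg_eq_iff_eq_neg.2 this).symm
      rw [eq_smul_of_act_refl_eq_neg h2 Q u hu _ h4]
      exact Submodule.smul_mem _ _ (Submodule.mem_span_singleton_self u)
    have hinj : Function.Injective (Matrix.toLin' (g.1 : Matrix ι ι F)) := by
      have hi := Matrix.mulVec_injective_iff_isUnit.2 (g.1).isUnit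
      intro a b hab
      apply hi
      rw [Matrix.toLin'_apply, Matrix.toLin'_apply] at hab
      exact hab
    have hle : (orth Q (F ∙ u)).map (Matrix.toLin' (g.1 : Matrix ι ι F)) ≤ F ∙ u := by
      rintro _ ⟨y, hy, rfl⟩
      rw [Matrix.toLin'_apply]
      exact hmap y hy
    have h5 := Submodule.finrank_mono hle
    rw [← (Submodule.equivMapOfInjective _ hinj (orth Q (F ∙ u))).finrank_eq, finrank_orth hQ,
      finrank_span_singleton hu0, hfr] at h5
    omega

end Cfsg.Agent.Lib.Helper19.OrthRefl
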