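-- The two characters of the similarity group of an even-dimensional quadratic form: the class of
-- the multiplier modulo squares, and the sign `det / multiplier ^ (n/2)`.
import Mathlib
import Cfsg.Agent.Lib.Helper19.OrthSimKer

set_option autoImplicit false

namespace Cfsg.Agent.Lib.Helper19.OrthRefl

open Matrix QuadraticMap Module Cfsg.Agent.Lib.Helper19.Parity

variable {ι : Type} [Fintype ι] [DecidableEq ι] {F : Type*} [Field F]

section mult

variable (Q : (ι → F) → F)

/-- The multiplier of a similarity. -/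
noncomputable def mult (g : ↥(GO Q)) : Fˣ := Classical.choose g.2

theorem mult_spec (g : ↥(GO Q)) (v : ι → F) :
    Q (((g : Matrix.GeneralLinearGroup ι F) : Matrix ι ι F) *ᵥ v) = ((mult Q g : Fˣ) : F) * Q v :=
  Classical.choose_spec g.2 v

theorem mult_unique {u : ι → F} (hu : Q u ≠ 0) (g : ↥(GO Q)) (c : Fˣ)
    (hc : ∀ v, Q (((g : Matrix.GeneralLinearGroup ι F) : Matrix ι ι F) *ᵥ v) = (c : F) * Q v) :
    mult Q g = c := by
  apply Units.ext
  have := mult_spec Q g u
  rw [hc u] at this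
  exact (mul_right_cancel₀ hu this).symm

/-- The multiplier, as a homomorphism. -/
noncomputable def multHom {u : ι → F} (hu : Q u ≠ 0) : ↥(GO Q) →* Fˣ :=
  MonoidHom.mk' (mult Q) (by
    intro g h
    apply mult_unique Q hu
    intro v
    have : (((g * h : ↥(GO Q)) : Matrix.GeneralLinearGroup ι F) : Matrix ι ι F)
        = (g.1 : Matrix ι ι F) * (h.1 : Matrix ι ι F) := rfl
    rw [this, ← Matrix.mulVec_mulVec, mult_spec Q, mult_spec Q, Units.val_mul, mul_assoc])

theorem multHom_apply {u : ι → F} (hu : Q u ≠ 0) (g : ↥(GO Q)) : multHom Q hu g = mult Q g := rfl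

theorem mult_inclO {u : ι → F} (hu : Q u ≠ 0) (x : ↥(Cfsg.isometryGroup F Q)) :
    mult Q (inclO Q x) = 1 := by
  apply mult_unique Q hu
  intro v
  rw [Units.val_one, one_mul]
  exact Q_act x v

end mult

/-- The square of the determinant of a similarity is the `n`-th power of the multiplier. -/
theorem det_sq_eq (Q : QuadraticForm F (ι → F)) (hQ : (polarBilin Q).Nondegenerate)
    (g : ↥(GO (⇑Q))) :
    ((g : Matrix.GeneralLinearGroup ι F) : Matrix ι ι F).det ^ 2
      = ((mult (⇑Q) g : Fˣ) : F) ^ Fintype.card ι := by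
  set M := LinearMap.BilinForm.toMatrix' (polarBilin Q) with hM
  have hdet : M.det ≠ 0 :=
    Matrix.nondegenerate_iff_det_ne_zero.1 (LinearMap.BilinForm.nondegenerate_toMatrix'_iff.2 hQ)
  set G : Matrix ι ι F := ((g : Matrix.GeneralLinearGroup ι F) : Matrix ι ι F) with hG
  have hpol : ∀ x y, polar (⇑Q) (G *ᵥ x) (G *ᵥ y) = ((mult (⇑Q) g : Fˣ) : F) * polar (⇑Q) x y := by
    intro x y
    unfold QuadraticMap.polar
    rw [← Matrix.mulVec_add, mult_spec (⇑Q), mult_spec (⇑Q), mult_spec (⇑Q)]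
    ring
  have hcomp : LinearMap.BilinForm.comp (polarBilin Q) (Matrix.toLin' G) (Matrix.toLin' G)
      = ((mult (⇑Q) g : Fˣ) : F) • polarBilin Q := by
    apply LinearMap.ext₂
    intro x y
    rw [LinearMap.BilinForm.comp_apply, Matrix.toLin'_apply, Matrix.toLin'_apply,
      LinearMap.smul_apply, LinearMap.smul_apply, smul_eq_mul]
    exact hpol x y
  have h1 := congrArg LinearMap.BilinForm.toMatrix' hcomp
  rw [LinearMap.BilinForm.toMatrix'_comp, LinearMap.toMatrix'_toLin', map_smul] at h1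
  have h3 := congrArg Matrix.det h1
  rw [Matrix.det_mul, Matrix.det_mul, Matrix.det_transpose, Matrix.det_smul] at h3
  apply mul_right_cancel₀ hdet
  linear_combination h3

section chars

variable [Fintype F]

open Classical in
/-- The class of the multiplier modulo squares. -/
noncomputable def psi1 {Q : (ι → F) → F} {u : ι → F} (hu : Q u ≠ 0) : ↥(GO Q) →* ℤˣ :=
  (quadraticChar F).toUnitHom.comp (multHom Q hu)

open Classical in
theorem psi1_eq_one_iff {Q : (ι → F) → F} {u : ι → F} (hu : Q u ≠ 0) (g : ↥(GO Q)) :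
    psi1 hu g = 1 ↔ IsSquare ((mult Q g : Fˣ) : F) := by
  unfold psi1
  rw [MonoidHom.comp_apply, Units.ext_iff, MulChar.coe_toUnitHom, Units.val_one,
    quadraticChar_one_iff_isSquare (Units.ne_zero _)]
  rfl

/-- The unit `det / multiplier ^ k`. -/
noncomputable def delta {Q : (ι → F) → F} {u : ι → F} (hu : Q u ≠ 0) (k : ℕ) : ↥(GO Q) →* Fˣ :=
  MonoidHom.mk' (fun g => Matrix.GeneralLinearGroup.det g.1 * ((mult Q g)⁻¹) ^ k) (by
    intro g h
    have h1 : mult Q (g * h) = mult Q g * mult Q h := map_mul (multHom Q hu) g h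
    show Matrix.GeneralLinearGroup.det (g.1 * h.1) * _ = _
    rw [map_mul, h1, mul_inv, mul_pow]
    exact mul_mul_mul_comm _ _ _ _)

theorem delta_apply {Q : (ι → F) → F} {u : ι → F} (hu : Q u ≠ 0) (k : ℕ) (g : ↥(GO Q)) :
    delta hu k g = Matrix.GeneralLinearGroup.det g.1 * ((mult Q g)⁻¹) ^ k := rfl

theorem delta_sq (Q : QuadraticForm F (ι → F)) (hQ : (polarBilin Q).Nondegenerate)
    {u : ι → F} (hu : Q u ≠ 0) (k : ℕ) (hk : Fintype.card ι = 2 * k) (g : ↥(GO (⇑Q))) :
    delta hu k g * delta hu k g = 1 := by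
  apply Units.ext
  rw [delta_apply, Units.val_mul, Units.val_mul, Units.val_pow_eq_pow_val, Units.val_one,
    Units.val_inv_eq_inv_val]
  have h1 := det_sq_eq Q hQ g
  rw [hk, pow_mul] at h1
  have hne : ((mult (⇑Q) g : Fˣ) : F) ≠ 0 := Units.ne_zero _
  have h3 : ((Matrix.GeneralLinearGroup.det g.1 : Fˣ) : F)
      = ((g : Matrix.GeneralLinearGroup ι F) : Matrix ι ι F).det := rfl
  rw [h3, inv_pow]
  field_simp
  linear_combination h1

theorem delta_eq_one_or (Q : QuadraticForm F (ι → F)) (hQ : (polarBilin Q).Nondegenerate)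
    {u : ι → F} (hu : Q u ≠ 0) (k : ℕ) (hk : Fintype.card ι = 2 * k) (g : ↥(GO (⇑Q))) :
    delta hu k g = 1 ∨ delta hu k g = -1 := by
  have h := delta_sq Q hQ hu k hk g
  have h' := congrArg Units.val h
  rw [Units.val_mul, Units.val_one] at h'
  rcases mul_self_eq_one_iff.1 h' with h1 | h1
  · left; exact Units.ext h1
  · right; apply Units.ext; rw [h1]; simp

theorem neg_one_ne_one_units (h2 : (2 : F) ≠ 0) : (-1 : Fˣ) ≠ 1 := by
  intro h
  have := congrArg Units.val h
  rw [Units.val_neg, Units.val_one] at this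
  apply h2
  linear_combination -this

open Classical in
/-- The sign `det / multiplier ^ k`. -/
noncomputable def psi2 (h2 : (2 : F) ≠ 0) (Q : QuadraticForm F (ι → F))
    (hQ : (polarBilin Q).Nondegenerate)
    {u : ι → F} (hu : Q u ≠ 0) (k : ℕ) (hk : Fintype.card ι = 2 * k) : ↥(GO (⇑Q)) →* ℤˣ :=
  MonoidHom.mk' (fun g => if delta hu k g = 1 then 1 else -1) (by
    intro g h
    have hne := neg_one_ne_one_units h2
    rw [map_mul]
    rcases delta_eq_one_or Q hQ hu k hk g with h1 | h1 <;>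
      rcases delta_eq_one_or Q hQ hu k hk h with h3 | h3 <;> rw [h1, h3] <;> simp [hne])

open Classical in
theorem psi2_eq_one_iff (h2 : (2 : F) ≠ 0) (Q : QuadraticForm F (ι → F))
    (hQ : (polarBilin Q).Nondegenerate)
    {u : ι → F} (hu : Q u ≠ 0) (k : ℕ) (hk : Fintype.card ι = 2 * k) (g : ↥(GO (⇑Q))) :
    psi2 h2 Q hQ hu k hk g = 1 ↔ delta hu k g = 1 := by
  show (if delta hu k g = 1 then (1 : ℤˣ) else -1) = 1 ↔ _
  constructor
  · intro h
    by_contra hcon
    rw [if_neg hcon] at h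
    exact absurd h (by decide)
  · intro h
    rw [if_pos h]

end chars

end Cfsg.Agent.Lib.Helper19.OrthRefl
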