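-- The image of the similarity group in `Aut(PΩ)` modulo the image of `SO` is a four-group
-- (even dimension, odd characteristic).
import Mathlib
import Cfsg.Agent.Lib.Helper19.OrthSimChar

set_option autoImplicit false

namespace Cfsg.Agent.Lib.Helper19.OrthRefl

open Matrix QuadraticMap Module Cfsg.Agent.Lib.Helper19.Parity

/-- Descending a surjection through the range of another homomorphism. -/
theorem exists_hom_range {G A K : Type*} [Group G] [Group A] [Group K] (f : G →* A) (ψ : G →* K)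
    (hψ : Function.Surjective ψ) (S : Subgroup G) (hker : ψ.ker = S ⊔ f.ker) :
    ∃ φ : ↥f.range →* K, Function.Surjective φ ∧ φ.ker = (S.map f).subgroupOf f.range := by
  have hle : f.rangeRestrict.ker ≤ ψ.ker := by
    rw [MonoidHom.ker_rangeRestrict, hker]; exact le_sup_right
  set φ := (f.rangeRestrict.liftOfSurjective f.rangeRestrict_surjective) ⟨ψ, hle⟩ with hφdef
  have hφ : ∀ x, φ (f.rangeRestrict x) = ψ x := fun x =>
    MonoidHom.liftOfRightInverse_comp_apply _ _ _ ⟨ψ, hle⟩ x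
  refine ⟨φ, ?_, ?_⟩
  · intro k
    obtain ⟨x, rfl⟩ := hψ k
    exact ⟨_, hφ x⟩
  · ext y
    obtain ⟨x, rfl⟩ := f.rangeRestrict_surjective y
    rw [MonoidHom.mem_ker, hφ, ← MonoidHom.mem_ker, hker, Subgroup.mem_subgroupOf,
      ← Subgroup.comap_map_eq, Subgroup.mem_comap]
    rfl

instance instKleinFourIntUnits : IsKleinFour (ℤˣ × ℤˣ) where
  card_four := by
    rw [Nat.card_eq_fintype_card]
    rfl
  exponent_two := by
    apply Nat.dvd_antisymm
    · apply Monoid.exponent_dvd_of_forall_pow_eq_one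
      intro g
      rcases g with ⟨a, b⟩
      rcases Int.units_eq_one_or a with rfl | rfl <;> rcases Int.units_eq_one_or b with rfl | rfl <;>
        rfl
    · have h : orderOf ((-1, 1) : ℤˣ × ℤˣ) = 2 :=
        orderOf_eq_prime (by rfl) (by decide)
      rw [← h]
      exact Monoid.order_dvd_exponent _

variable {ι : Type} [Fintype ι] [DecidableEq ι] {F : Type*} [Field F]

/-- The scalar matrix, as an invertible matrix. -/
def scal (c : Fˣ) : Matrix.GeneralLinearGroup ι F :=
  ⟨(c : F) • 1, ((c⁻¹ : Fˣ) : F) • 1, by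
    rw [Matrix.smul_mul, Matrix.mul_smul, Matrix.one_mul, smul_smul, Units.mul_inv, one_smul], by
    rw [Matrix.smul_mul, Matrix.mul_smul, Matrix.one_mul, smul_smul, Units.inv_mul, one_smul]⟩

theorem scal_coe (c : Fˣ) : ((scal c : Matrix.GeneralLinearGroup ι F) : Matrix ι ι F)
    = (c : F) • 1 := rfl

/-- The scalar similarity. -/
def scalGO (Q : QuadraticForm F (ι → F)) (c : Fˣ) : ↥(GO (⇑Q)) :=
  ⟨scal c, ⟨c * c, fun v => by
    rw [scal_coe, Matrix.smul_mulVec, Matrix.one_mulVec, QuadraticMap.map_smul, Units.val_mul,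
      smul_eq_mul]⟩⟩

theorem scalGO_coe (Q : QuadraticForm F (ι → F)) (c : Fˣ) :
    (((scalGO Q c : ↥(GO (⇑Q))) : Matrix.GeneralLinearGroup ι F) : Matrix ι ι F) = (c : F) • 1 :=
  rfl

theorem det_scal (c : Fˣ) :
    Matrix.GeneralLinearGroup.det (scal c : Matrix.GeneralLinearGroup ι F) = c ^ Fintype.card ι := by
  apply Units.ext
  show ((c : F) • (1 : Matrix ι ι F)).det = _
  rw [Matrix.det_smul, Matrix.det_one, mul_one, Units.val_pow_eq_pow_val]

section main

variable [Fintype F]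

/-- The kernel of the pair of characters. -/
theorem ker_psi (h2 : (2 : F) ≠ 0) (Q : QuadraticForm F (ι → F))
    (hQ : (polarBilin Q).Nondegenerate) (hn : 5 ≤ Fintype.card ι)
    {u : ι → F} (hu : Q u ≠ 0) (k : ℕ) (hk : Fintype.card ι = 2 * k) :
    ((psi1 hu).prod (psi2 h2 Q hQ hu k hk)).ker
      = (Cfsg.specialIsometryGroup F (⇑Q)).map (inclO (⇑Q)) ⊔ (autGO (⇑Q)).ker := by
  apply le_antisymm
  · intro g hg
    rw [MonoidHom.mem_ker, MonoidHom.prod_apply, Prod.mk_eq_one, psi1_eq_one_iff,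
      psi2_eq_one_iff] at hg
    obtain ⟨⟨c, hc⟩, hδ⟩ := hg
    have hc0 : c ≠ 0 := by
      rintro rfl
      rw [mul_zero] at hc
      exact Units.ne_zero _ hc
    set cu : Fˣ := Units.mk0 c hc0 with hcu
    have hmu : mult (⇑Q) g = cu * cu := by
      apply Units.ext
      rw [hc, Units.val_mul, hcu, Units.val_mk0]
    set z := scalGO Q cu with hz
    have hzker : z ∈ (autGO (⇑Q)).ker :=
      autGO_eq_one_of_scalar (⇑Q) z c (scalGO_coe Q cu)
    have hmz : mult (⇑Q) z = cu * cu := by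
      apply mult_unique (⇑Q) hu
      intro v
      rw [hz, scalGO_coe, Matrix.smul_mulVec, Matrix.one_mulVec, QuadraticMap.map_smul,
        Units.val_mul, smul_eq_mul]
    set s := z⁻¹ * g with hs
    have hms : mult (⇑Q) s = 1 := by
      have := map_mul (multHom (⇑Q) hu) z⁻¹ g
      rw [map_inv, multHom_apply, multHom_apply, multHom_apply, hmz, hmu, inv_mul_cancel] at this
      exact this
    have hsO : s.1 ∈ Cfsg.isometryGroup F (⇑Q) := by
      rw [mem_iso]
      intro v
      rw [mult_spec (⇑Q) s, hms, Units.val_one, one_mul]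
    have hdet : Matrix.GeneralLinearGroup.det s.1 = 1 := by
      have h1 : Matrix.GeneralLinearGroup.det g.1 = (cu * cu) ^ k := by
        have := hδ
        rw [delta_apply, hmu, inv_pow] at this
        exact mul_inv_eq_one.1 this
      show Matrix.GeneralLinearGroup.det (z.1⁻¹ * g.1) = 1
      rw [map_mul, map_inv, h1]
      have : z.1 = scal cu := rfl
      rw [this, det_scal, hk, pow_mul, ← pow_two]
      exact inv_mul_cancel _
    have hsS : s ∈ (Cfsg.specialIsometryGroup F (⇑Q)).map (inclO (⇑Q)) := by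
      refine ⟨⟨s.1, hsO⟩, ?_, ?_⟩
      · exact hdet
      · apply Subtype.ext
        rfl
    have hg : g = z * s := by rw [hs, mul_inv_cancel_left]
    rw [hg, sup_comm]
    exact Subgroup.mul_mem_sup hzker hsS
  · apply sup_le
    · rintro _ ⟨x, hx, rfl⟩
      rw [MonoidHom.mem_ker, MonoidHom.prod_apply, Prod.mk_eq_one, psi1_eq_one_iff,
        psi2_eq_one_iff, delta_apply, mult_inclO (⇑Q) hu]
      refine ⟨⟨1, by simp⟩, ?_⟩
      have hx' : Matrix.GeneralLinearGroup.det x.1 = 1 := hx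
      rw [inclO_coe, hx']
      simp
    · intro g hg
      obtain ⟨c, hc⟩ := scalar_of_autGO_eq_one h2 Q hQ hn g hg
      have hmat : ((g : Matrix.GeneralLinearGroup ι F) : Matrix ι ι F) = c • 1 := by
        apply Matrix.toLin'.injective
        apply LinearMap.ext
        intro x
        rw [Matrix.toLin'_apply, Matrix.toLin'_apply, hc, Matrix.smul_mulVec, Matrix.one_mulVec]
      have hcc : ((mult (⇑Q) g : Fˣ) : F) = c * c := by
        have h1 := mult_spec (⇑Q) g u
        rw [hc, QuadraticMap.map_smul, smul_eq_mul] at h1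
        exact (mul_right_cancel₀ hu h1).symm
      have hc0 : c ≠ 0 := by
        rintro rfl
        rw [mul_zero] at hcc
        exact Units.ne_zero _ hcc
      rw [MonoidHom.mem_ker, MonoidHom.prod_apply, Prod.mk_eq_one, psi1_eq_one_iff,
        psi2_eq_one_iff, delta_apply]
      refine ⟨⟨c, hcc⟩, ?_⟩
      apply Units.ext
      rw [Units.val_mul, Units.val_pow_eq_pow_val, Units.val_inv_eq_inv_val, hcc, Units.val_one]
      have : ((Matrix.GeneralLinearGroup.det g.1 : Fˣ) : F) = (c • (1 : Matrix ι ι F)).det := by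
        rw [← hmat]; rfl
      rw [this, Matrix.det_smul, Matrix.det_one, mul_one, hk, pow_mul, ← pow_two, inv_pow]
      exact mul_inv_cancel₀ (pow_ne_zero _ (pow_ne_zero _ hc0))

/-- The pair of characters is onto. -/
theorem psi_surjective (h2 : (2 : F) ≠ 0) (Q : QuadraticForm F (ι → F))
    (hQ : (polarBilin Q).Nondegenerate)
    {u : ι → F} (hu : Q u ≠ 0) (k : ℕ) (hk : Fintype.card ι = 2 * k)
    (hd : ∃ d : ↥(GO (⇑Q)), ¬ IsSquare ((mult (⇑Q) d : Fˣ) : F)) :
    Function.Surjective ((psi1 hu).prod (psi2 h2 Q hQ hu k hk)) := by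
  obtain ⟨d, hd⟩ := hd
  set r : ↥(GO (⇑Q)) := inclO (⇑Q) (refl Q u hu) with hr
  have hr1 : psi1 hu r = 1 := by
    rw [psi1_eq_one_iff, mult_inclO (⇑Q) hu]
    exact ⟨1, by simp⟩
  have hr2 : psi2 h2 Q hQ hu k hk r = -1 := by
    rcases Int.units_eq_one_or (psi2 h2 Q hQ hu k hk r) with h | h
    · exfalso
      rw [psi2_eq_one_iff, delta_apply, mult_inclO (⇑Q) hu, inclO_coe] at h
      have h1 : Matrix.GeneralLinearGroup.det (refl Q u hu).1 = -1 := detHom_refl Q u hu
      rw [h1] at h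
      simp at h
      exact neg_one_ne_one_units h2 h
    · exact h
  have hd1 : psi1 hu d = -1 := by
    rcases Int.units_eq_one_or (psi1 hu d) with h | h
    · exact absurd ((psi1_eq_one_iff hu d).1 h) hd
    · exact h
  rintro ⟨a, b⟩
  rcases Int.units_eq_one_or a with rfl | rfl
  · rcases Int.units_eq_one_or b with rfl | rfl
    · exact ⟨1, map_one _⟩
    · exact ⟨r, by rw [MonoidHom.prod_apply, hr1, hr2]⟩
  · by_cases hb : psi2 h2 Q hQ hu k hk d = b
    · exact ⟨d, by rw [MonoidHom.prod_apply, hd1, hb]⟩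
    · refine ⟨d * r, ?_⟩
      rw [MonoidHom.prod_apply, map_mul, map_mul, hd1, hr1, hr2, Int.units_ne_iff_eq_neg.1 hb]
      simp

/-- The image of the similarity group modulo the image of `SO` is a four-group. -/
theorem klein_of_sim (h2 : (2 : F) ≠ 0) (Q : QuadraticForm F (ι → F))
    (hQ : (polarBilin Q).Nondegenerate) (hn : 5 ≤ Fintype.card ι)
    (k : ℕ) (hk : Fintype.card ι = 2 * k)
    (hd : ∃ d : ↥(GO (⇑Q)), ¬ IsSquare ((mult (⇑Q) d : Fˣ) : F)) :
    ∃ φ : ↥(Cfsg.pgoAut F (⇑Q)) →* Multiplicative (ZMod 2 × ZMod 2), Function.Surjective φ ∧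
      φ.ker = (Cfsg.psoAut F (⇑Q)).subgroupOf (Cfsg.pgoAut F (⇑Q)) := by
  obtain ⟨u, hQu⟩ := exists_Q_eq h2 Q hQ (by omega) 1
  have hu : Q u ≠ 0 := by rw [hQu]; exact one_ne_zero
  rw [pgoAut_eq, psoAut_eq_sim]
  obtain ⟨φ, hφ1, hφ2⟩ := exists_hom_range (autGO (⇑Q)) ((psi1 hu).prod (psi2 h2 Q hQ hu k hk))
    (psi_surjective h2 Q hQ hu k hk hd) _ (ker_psi h2 Q hQ hn hu k hk)
  obtain ⟨e⟩ := IsKleinFour.nonempty_mulEquiv (G₁ := ℤˣ × ℤˣ)
    (G₂ := Multiplicative (ZMod 2 × ZMod 2))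
  refine ⟨e.toMonoidHom.comp φ, e.surjective.comp hφ1, ?_⟩
  rw [← hφ2]
  ext x
  rw [MonoidHom.mem_ker, MonoidHom.mem_ker, MonoidHom.comp_apply]
  exact e.map_eq_one_iff

end main

end Cfsg.Agent.Lib.Helper19.OrthRefl
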