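-- The image of the similarity group in `Aut(PΩ)` modulo the inner automorphisms is dihedral of
-- order eight when `-1` lies in `Ω` (even dimension, odd characteristic).
import Mathlib
import Cfsg.Agent.Lib.Helper19.OrthSimKlein
import Cfsg.Agent.Lib.Helper19.Dih8

set_option autoImplicit false

namespace Cfsg.Agent.Lib.Helper19.OrthRefl

open Matrix QuadraticMap Module Cfsg.Agent.Lib.Helper19.Parity

variable {ι : Type} [Fintype ι] [DecidableEq ι] {F : Type*} [Field F]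

theorem polar_sim (Q : QuadraticForm F (ι → F)) (g : ↥(GO (⇑Q))) (x y : ι → F) :
    polar (⇑Q) (((g : Matrix.GeneralLinearGroup ι F) : Matrix ι ι F) *ᵥ x)
      (((g : Matrix.GeneralLinearGroup ι F) : Matrix ι ι F) *ᵥ y)
      = ((mult (⇑Q) g : Fˣ) : F) * polar (⇑Q) x y := by
  unfold QuadraticMap.polar
  rw [← Matrix.mulVec_add, mult_spec (⇑Q), mult_spec (⇑Q), mult_spec (⇑Q)]
  ring

/-- Conjugating a reflection by a similarity. -/
theorem conjO_refl (Q : QuadraticForm F (ι → F)) (v : ι → F) (hv : Q v ≠ 0) (d : ↥(GO (⇑Q)))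
    (hdv : Q (((d : Matrix.GeneralLinearGroup ι F) : Matrix ι ι F) *ᵥ v) ≠ 0) :
    conjO (⇑Q) d (refl Q v hv)
      = refl Q (((d : Matrix.GeneralLinearGroup ι F) : Matrix ι ι F) *ᵥ v) hdv := by
  apply ext_act
  intro x
  set D : Matrix ι ι F := ((d : Matrix.GeneralLinearGroup ι F) : Matrix ι ι F) with hD
  set Di : Matrix ι ι F := ((d.1⁻¹ : Matrix.GeneralLinearGroup ι F) : Matrix ι ι F) with hDi
  have h1 : act (conjO (⇑Q) d (refl Q v hv)) x = D *ᵥ (act (refl Q v hv) (Di *ᵥ x)) := by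
    rw [act_def, conjO_coe, Units.val_mul, Units.val_mul, ← Matrix.mulVec_mulVec,
      ← Matrix.mulVec_mulVec, act_def]
  have hx : D *ᵥ (Di *ᵥ x) = x := by
    rw [Matrix.mulVec_mulVec, hD, hDi, ← Units.val_mul, mul_inv_cancel, Units.val_one,
      Matrix.one_mulVec]
  have hμ : ((mult (⇑Q) d : Fˣ) : F) ≠ 0 := Units.ne_zero _
  rw [h1, act_refl, act_refl, Matrix.mulVec_sub, hx, Matrix.mulVec_smul]
  congr 2
  have h3 : polar (⇑Q) (D *ᵥ v) x = ((mult (⇑Q) d : Fˣ) : F) * polar (⇑Q) v (Di *ᵥ x) := by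
    conv_lhs => rw [← hx]
    exact polar_sim Q d v (Di *ᵥ x)
  rw [h3, mult_spec (⇑Q) d v]
  field_simp

section main

variable [Fintype F]

theorem inn_le_pso (h2 : (2 : F) ≠ 0) (Q : QuadraticForm F (ι → F))
    (hQ : (polarBilin Q).Nondegenerate) (hn2 : 2 ≤ Fintype.card ι) :
    Cfsg.Inn (Cfsg.POmega F (⇑Q)) ≤ Cfsg.psoAut F (⇑Q) := by
  rw [inn_eq, psoAut_eq]
  apply Subgroup.map_mono
  rw [Omega_eq h2 Q hQ hn2 1 one_ne_zero]
  exact inf_le_left

theorem inn_eq_pso_of_relIndex (h2 : (2 : F) ≠ 0) (Q : QuadraticForm F (ι → F))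
    (hQ : (polarBilin Q).Nondegenerate) (hn2 : 2 ≤ Fintype.card ι)
    (h : (Cfsg.Inn (Cfsg.POmega F (⇑Q))).relIndex (Cfsg.psoAut F (⇑Q)) = 1) :
    Cfsg.Inn (Cfsg.POmega F (⇑Q)) = Cfsg.psoAut F (⇑Q) :=
  le_antisymm (inn_le_pso h2 Q hQ hn2) (Subgroup.relIndex_eq_one.1 h)

theorem dihedral_of_sim (h2 : (2 : F) ≠ 0) (Q : QuadraticForm F (ι → F))
    (hQ : (polarBilin Q).Nondegenerate) (hn : 5 ≤ Fintype.card ι)
    (k : ℕ) (hk : Fintype.card ι = 2 * k)
    (hd : ∃ d : ↥(GO (⇑Q)), ¬ IsSquare ((mult (⇑Q) d : Fˣ) : F))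
    (hneg : negOne Q ∈ Cfsg.Omega F (⇑Q)) :
    ∃ φ : ↥(Cfsg.pgoAut F (⇑Q)) →* DihedralGroup 4, Function.Surjective φ ∧
      φ.ker = (Cfsg.Inn (Cfsg.POmega F (⇑Q))).subgroupOf (Cfsg.pgoAut F (⇑Q)) := by
  classical
  have hn2 : 2 ≤ Fintype.card ι := by omega
  obtain ⟨u, hQu⟩ := exists_Q_eq h2 Q hQ hn2 1
  have hu : Q u ≠ 0 := by rw [hQu]; exact one_ne_zero
  have hklein := klein_of_sim h2 Q hQ hn k hk hd
  obtain ⟨d, hd⟩ := hd
  have hν0 : ((mult (⇑Q) d : Fˣ) : F) ≠ 0 := Units.ne_zero _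
  have hOm := Omega_eq h2 Q hQ hn2 1 one_ne_zero
  -- the normal subgroup
  set S := (Cfsg.Omega F (⇑Q)).map (inclO (⇑Q)) with hS
  have hSmap : S.map (autGO (⇑Q)) = Cfsg.Inn (Cfsg.POmega F (⇑Q)) := by
    rw [hS, Subgroup.map_map, inn_eq]
    congr 1
  set N := S ⊔ (autGO (⇑Q)).ker with hN
  have hNcomap : N = (Cfsg.Inn (Cfsg.POmega F (⇑Q))).comap (autGO (⇑Q)) := by
    rw [← hSmap, Subgroup.comap_map_eq]
  haveI hNn : N.Normal := by
    rw [hNcomap]
    infer_instance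
  -- the index
  have hle1 : Cfsg.Inn (Cfsg.POmega F (⇑Q)) ≤ Cfsg.psoAut F (⇑Q) := by
    rw [inn_eq, psoAut_eq]
    apply Subgroup.map_mono
    rw [hOm]
    exact inf_le_left
  have hle2 : Cfsg.psoAut F (⇑Q) ≤ Cfsg.pgoAut F (⇑Q) := by
    rw [psoAut_eq_sim, pgoAut_eq]
    exact Subgroup.map_le_range _ _
  have hidx : N.index = 8 := by
    rw [hNcomap, Subgroup.index_comap, ← pgoAut_eq]
    have h1 := relIndex_inn_pso_of_mem h2 Q hQ hn hneg
    have h3 : (Cfsg.psoAut F (⇑Q)).relIndex (Cfsg.pgoAut F (⇑Q)) = 4 := by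
      obtain ⟨φ, hφ1, hφ2⟩ := hklein
      rw [Subgroup.relIndex, ← hφ2, Subgroup.index_ker, MonoidHom.range_eq_top.2 hφ1,
        Subgroup.card_top]
      rw [Nat.card_eq_fintype_card]
      rfl
    rw [← Subgroup.relIndex_mul_relIndex _ _ _ hle1 hle2, h1, h3]
  have hcard8 : Nat.card (↥(GO (⇑Q)) ⧸ N) = 8 := by
    rw [← Subgroup.index_eq_card]
    exact hidx
  -- the elements
  set π := QuotientGroup.mk' N with hπ
  set r := refl Q u hu with hr
  have hdu : Q (((d : Matrix.GeneralLinearGroup ι F) : Matrix ι ι F) *ᵥ u) ≠ 0 := by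
    rw [mult_spec (⇑Q) d u, hQu, mul_one]
    exact hν0
  set r' := refl Q (((d : Matrix.GeneralLinearGroup ι F) : Matrix ι ι F) *ᵥ u) hdu with hr'
  have hconj : conjO (⇑Q) d r = r' := conjO_refl Q u hu d hdu
  set a : ↥(GO (⇑Q)) ⧸ N := π (inclO (⇑Q) r) with ha_def
  set t : ↥(GO (⇑Q)) ⧸ N := π d with ht_def
  have hb : t * a * t⁻¹ = π (inclO (⇑Q) r') := by
    rw [← hconj, ht_def, ha_def, ← map_inv, ← map_mul, ← map_mul]
    congr 1
  have ha : a * a = 1 := by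
    rw [ha_def, ← map_mul, ← map_mul, hr, refl_mul_self, map_one, map_one]
  have hmemN : ∀ x : ↥(Cfsg.isometryGroup F (⇑Q)), inclO (⇑Q) x ∈ N ↔ x ∈ Cfsg.Omega F (⇑Q) := by
    intro x
    rw [hNcomap, Subgroup.mem_comap, autGO_inclO, inn_eq]
    constructor
    · rintro ⟨ω, hω, hωx⟩
      have h1 : autHom (⇑Q) (ω⁻¹ * x) = 1 := by
        rw [map_mul, map_inv, hωx, inv_mul_cancel]
      rcases eq_one_or_negOne_of_autHom h2 Q hQ hn _ h1 with h | h
      · have : x = ω := by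
          rw [inv_mul_eq_one] at h
          exact h.symm
        rw [this]
        exact hω
      · have : x = ω * negOne Q := by
          rw [← h, mul_inv_cancel_left]
        rw [this]
        exact mul_mem hω hneg
    · intro hx
      exact ⟨x, hx, rfl⟩
  have hchi_r : chi (⇑Q) 1 r = -1 := by
    rw [hr, chi_refl h2 Q 1 one_ne_zero, hQu, one_mul, if_pos ⟨1, by ring⟩]
  have hchi_r' : chi (⇑Q) 1 r' = 1 := by
    rw [hr', chi_refl h2 Q 1 one_ne_zero, mult_spec (⇑Q) d u, hQu, mul_one, one_mul, if_neg hd]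
  have hne : t * a * t⁻¹ ≠ a := by
    rw [hb]
    intro h
    have h1 : inclO (⇑Q) (r⁻¹ * r') ∈ N := by
      rw [map_mul, map_inv]
      exact QuotientGroup.eq.1 h.symm
    rw [hmemN, hOm] at h1
    have h3 : chi (⇑Q) 1 (r⁻¹ * r') = 1 := h1.2
    rw [map_mul, map_inv, hchi_r, hchi_r'] at h3
    exact absurd h3 (by decide)
  have hcomm : a * (t * a * t⁻¹) = (t * a * t⁻¹) * a := by
    rw [hb, ha_def, ← map_mul, ← map_mul, ← map_mul, ← map_mul]
    apply QuotientGroup.eq.2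
    rw [← map_inv, ← map_mul, hmemN]
    have hcm := Subgroup.commutator_mem_commutator (Subgroup.mem_top r'⁻¹) (Subgroup.mem_top r⁻¹)
    rw [commutatorElement_def] at hcm
    have : (r * r')⁻¹ * (r' * r) = r'⁻¹ * r⁻¹ * r'⁻¹⁻¹ * r⁻¹⁻¹ := by group
    rw [this]
    exact hcm
  have ht : t * t = 1 ∨ t * t = a * (t * a * t⁻¹) := by
    rw [hb]
    have hdd : d * d ∈ (Cfsg.specialIsometryGroup F (⇑Q)).map (inclO (⇑Q)) ⊔ (autGO (⇑Q)).ker := by
      rw [← ker_psi h2 Q hQ hn hu k hk, MonoidHom.mem_ker, map_mul]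
      exact IsKleinFour.mul_self _
    rw [← SetLike.mem_coe, Subgroup.mul_normal, Set.mem_mul] at hdd
    obtain ⟨s, ⟨s', hs', rfl⟩, z, hz, hsz⟩ := hdd
    have htt : t * t = π (inclO (⇑Q) s') := by
      rw [ht_def, ← map_mul, ← hsz, map_mul]
      have : π z = 1 := (QuotientGroup.eq_one_iff z).2 (le_sup_right (a := S) hz)
      rw [this, mul_one]
    by_cases hsO : s' ∈ Cfsg.Omega F (⇑Q)
    · left
      rw [htt]
      exact (QuotientGroup.eq_one_iff _).2 ((hmemN s').2 hsO)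
    · right
      rw [htt, ha_def, ← map_mul, ← map_mul]
      apply QuotientGroup.eq.2
      rw [← map_inv, ← map_mul, hmemN, hOm]
      have hdets : detHom (⇑Q) s' = 1 := hs'
      constructor
      · show detHom (⇑Q) (s'⁻¹ * (r * r')) = 1
        rw [map_mul, map_mul, map_inv, hdets, hr, hr', detHom_refl, detHom_refl]
        simp
      · have hc : chi (⇑Q) 1 s' = -1 := by
          rcases Int.units_eq_one_or (chi (⇑Q) 1 s') with h | h
          · exfalso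
            apply hsO
            rw [hOm]
            exact ⟨hs', h⟩
          · exact h
        show chi (⇑Q) 1 (s'⁻¹ * (r * r')) = 1
        rw [map_mul, map_mul, map_inv, hc, hchi_r, hchi_r']
        decide
  obtain ⟨e⟩ := Cfsg.Agent.Lib.Helper19.Dih8.dihedral_of_klein_ext hcard8 a t ha hcomm hne ht
  set ψ : ↥(GO (⇑Q)) →* DihedralGroup 4 := e.toMonoidHom.comp π with hψ
  have hψs : Function.Surjective ψ := e.surjective.comp (QuotientGroup.mk'_surjective N)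
  have hψk : ψ.ker = S ⊔ (autGO (⇑Q)).ker := by
    ext x
    rw [MonoidHom.mem_ker, hψ, MonoidHom.comp_apply]
    show e (π x) = 1 ↔ _
    rw [e.map_eq_one_iff, hπ, QuotientGroup.mk'_apply, QuotientGroup.eq_one_iff]
  obtain ⟨φ, h1, h3⟩ := exists_hom_range (autGO (⇑Q)) ψ hψs S hψk
  rw [pgoAut_eq, ← hSmap]
  exact ⟨φ, h1, h3⟩

end main

end Cfsg.Agent.Lib.Helper19.OrthRefl
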