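-- Recognising the four-group and the cyclic group of order four.
import Mathlib

set_option autoImplicit false

namespace Cfsg.Agent.Lib.Helper19.SmallGroups

/-- A group of order four with two distinct involutions is a four-group. -/
theorem klein_of_card_four {H : Type*} [Group H] (hcard : Nat.card H = 4) {a b : H}
    (ha : a * a = 1) (hb : b * b = 1) (ha1 : a ≠ 1) (hb1 : b ≠ 1) (hab : a ≠ b) :
    IsKleinFour H := by
  classical
  haveI : Finite H := Nat.finite_of_card_ne_zero (by omega)
  haveI : Fintype H := Fintype.ofFinite H
  have hsq : ∀ x : H, x ^ 2 = 1 := by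
    intro x
    by_contra hx
    have hdvd : orderOf x ∣ 4 := by
      rw [← hcard]; exact orderOf_dvd_natCard x
    have hle : orderOf x ≤ 4 := Nat.le_of_dvd (by norm_num) hdvd
    have hpos : 0 < orderOf x := orderOf_pos x
    have h4 : orderOf x = 4 := by
      have h1 : orderOf x ≠ 1 := by
        intro h
        rw [orderOf_eq_one_iff] at h
        apply hx
        rw [h, one_pow]
      have h2 : orderOf x ≠ 2 := by
        intro h
        apply hx
        rw [← h]
        exact pow_orderOf_eq_one x
      have h3 : orderOf x ≠ 3 := by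
        intro h
        rw [h] at hdvd
        omega
      omega
    haveI : IsCyclic H := isCyclic_of_orderOf_eq_card x (by rw [h4, hcard])
    have hle2 := IsCyclic.card_pow_eq_one_le (α := H) (n := 2) (by norm_num)
    have hsub : ({1, a, b} : Finset H) ⊆ Finset.univ.filter (fun y : H => y ^ 2 = 1) := by
      intro y hy
      rw [Finset.mem_filter]
      refine ⟨Finset.mem_univ _, ?_⟩
      simp only [Finset.mem_insert, Finset.mem_singleton] at hy
      rcases hy with rfl | rfl | rfl
      · exact one_pow 2
      · rw [pow_two]; exact ha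
      · rw [pow_two]; exact hb
    have h3 : ({1, a, b} : Finset H).card = 3 := by
      rw [Finset.card_eq_three]
      exact ⟨1, a, b, Ne.symm ha1, Ne.symm hb1, hab, rfl⟩
    have := Finset.card_le_card hsub
    omega
  refine ⟨hcard, ?_⟩
  have hdvd : Monoid.exponent H ∣ 2 := Monoid.exponent_dvd_of_forall_pow_eq_one hsq
  rcases (Nat.dvd_prime Nat.prime_two).1 hdvd with h | h
  · exfalso
    apply ha1
    have := Monoid.pow_exponent_eq_one a
    rw [h, pow_one] at this
    exact this
  · exact h

/-- A group of order four with an element whose square is not one is cyclic of order four. -/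
theorem cyclic_four_of_sq_ne {H : Type*} [Group H] (hcard : Nat.card H = 4) {x : H}
    (hx : x * x ≠ 1) : Nonempty (H ≃* Multiplicative (ZMod 4)) := by
  haveI : Finite H := Nat.finite_of_card_ne_zero (by omega)
  have hdvd : orderOf x ∣ 4 := by
    rw [← hcard]; exact orderOf_dvd_natCard x
  have hle : orderOf x ≤ 4 := Nat.le_of_dvd (by norm_num) hdvd
  have hpos : 0 < orderOf x := orderOf_pos x
  have h4 : orderOf x = 4 := by
    have h1 : orderOf x ≠ 1 := by
      intro h
      rw [orderOf_eq_one_iff] at h
      apply hx
      rw [h, one_mul]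
    have h2 : orderOf x ≠ 2 := by
      intro h
      apply hx
      rw [← pow_two, ← h]
      exact pow_orderOf_eq_one x
    have h3 : orderOf x ≠ 3 := by
      intro h
      rw [h] at hdvd
      omega
    omega
  haveI : IsCyclic H := isCyclic_of_orderOf_eq_card x (by rw [h4, hcard])
  haveI : IsCyclic (Multiplicative (ZMod 4)) := inferInstance
  refine ⟨mulEquivOfCyclicCardEq ?_⟩
  rw [hcard, Nat.card_eq_fintype_card]
  rfl

/-- A group of order two. -/
theorem cyclic_two_of_card {H : Type*} [Group H] (hcard : Nat.card H = 2) :
    Nonempty (H ≃* Multiplicative (ZMod 2)) := by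
  haveI : Fact (Nat.Prime 2) := ⟨Nat.prime_two⟩
  refine ⟨mulEquivOfPrimeCardEq hcard ?_⟩
  rw [Nat.card_eq_fintype_card]
  rfl

end Cfsg.Agent.Lib.Helper19.SmallGroups
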