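-- The image in `Aut(PΩ)` of the similarities with `det = multiplier ^ (n/2)`, modulo the inner
-- automorphisms: cyclic of order two or four, or a four-group.
import Mathlib
import Cfsg.Agent.Lib.Helper19.OrthSimDih
import Cfsg.Agent.Lib.Helper19.SmallGroups

set_option autoImplicit false

namespace Cfsg.Agent.Lib.Helper19.OrthRefl

open Matrix QuadraticMap Module Cfsg.Agent.Lib.Helper19.Parity

variable {ι : Type} [Fintype ι] [DecidableEq ι] {F : Type*} [Field F] [Fintype F]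

section setup

/-- The subgroup of the similarity group inducing inner automorphisms. -/
noncomputable def NN (Q : QuadraticForm F (ι → F)) : Subgroup ↥(GO (⇑Q)) := (Cfsg.Omega F (⇑Q)).map (inclO (⇑Q)) ⊔ (autGO (⇑Q)).ker

theorem NN_eq_comap (Q : QuadraticForm F (ι → F)) : NN Q = (Cfsg.Inn (Cfsg.POmega F (⇑Q))).comap (autGO (⇑Q)) := by
  have hSmap : ((Cfsg.Omega F (⇑Q)).map (inclO (⇑Q))).map (autGO (⇑Q))
      = Cfsg.Inn (Cfsg.POmega F (⇑Q)) := by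
    rw [Subgroup.map_map, inn_eq]
    congr 1
  unfold NN
  rw [← hSmap, Subgroup.comap_map_eq]

instance NN_normal (Q : QuadraticForm F (ι → F)) : (NN Q).Normal := by
  rw [NN_eq_comap]
  infer_instance

theorem NN_le_ker_psi (h2 : (2 : F) ≠ 0) (Q : QuadraticForm F (ι → F)) (hQ : (polarBilin Q).Nondegenerate)
    (hn : 5 ≤ Fintype.card ι) {u : ι → F} (hu : Q u ≠ 0) (k : ℕ) (hk : Fintype.card ι = 2 * k) : NN Q ≤ ((psi1 hu).prod (psi2 h2 Q hQ hu k hk)).ker := by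
  rw [ker_psi h2 Q hQ hn hu k hk]
  unfold NN
  apply sup_le_sup_right
  apply Subgroup.map_mono
  rw [Omega_eq h2 Q hQ (by omega) 1 one_ne_zero]
  exact inf_le_left

theorem NN_le_ker_psi1 (h2 : (2 : F) ≠ 0) (Q : QuadraticForm F (ι → F)) (hQ : (polarBilin Q).Nondegenerate)
    (hn : 5 ≤ Fintype.card ι) {u : ι → F} (hu : Q u ≠ 0) (k : ℕ) (hk : Fintype.card ι = 2 * k) : NN Q ≤ (psi1 hu).ker := by
  intro g hg
  have := NN_le_ker_psi h2 Q hQ hn hu k hk hg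
  rw [MonoidHom.mem_ker, MonoidHom.prod_apply, Prod.mk_eq_one] at this
  exact this.1

theorem NN_le_ker_psi2 (h2 : (2 : F) ≠ 0) (Q : QuadraticForm F (ι → F)) (hQ : (polarBilin Q).Nondegenerate)
    (hn : 5 ≤ Fintype.card ι) {u : ι → F} (hu : Q u ≠ 0) (k : ℕ) (hk : Fintype.card ι = 2 * k) : NN Q ≤ (psi2 h2 Q hQ hu k hk).ker := by
  intro g hg
  have := NN_le_ker_psi h2 Q hQ hn hu k hk hg
  rw [MonoidHom.mem_ker, MonoidHom.prod_apply, Prod.mk_eq_one] at this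
  exact this.2

theorem psi1_inclO (Q : QuadraticForm F (ι → F)) {u : ι → F} (hu : Q u ≠ 0)
    (x : ↥(Cfsg.isometryGroup F (⇑Q))) : psi1 hu (inclO (⇑Q) x) = 1 := by
  rw [psi1_eq_one_iff, mult_inclO (⇑Q) hu]
  exact ⟨1, by simp⟩

theorem psi2_refl (h2 : (2 : F) ≠ 0) (Q : QuadraticForm F (ι → F)) (hQ : (polarBilin Q).Nondegenerate)
    {u : ι → F} (hu : Q u ≠ 0) (k : ℕ) (hk : Fintype.card ι = 2 * k) : psi2 h2 Q hQ hu k hk (inclO (⇑Q) (refl Q u hu)) = -1 := by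
  rcases Int.units_eq_one_or (psi2 h2 Q hQ hu k hk (inclO (⇑Q) (refl Q u hu))) with h | h
  · exfalso
    rw [psi2_eq_one_iff, delta_apply, mult_inclO (⇑Q) hu, inclO_coe] at h
    have h1 : Matrix.GeneralLinearGroup.det (refl Q u hu).1 = -1 := detHom_refl Q u hu
    rw [h1] at h
    simp at h
    exact neg_one_ne_one_units h2 h
  · exact h

theorem index_ker_psi2 (h2 : (2 : F) ≠ 0) (Q : QuadraticForm F (ι → F)) (hQ : (polarBilin Q).Nondegenerate)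
    {u : ι → F} (hu : Q u ≠ 0) (k : ℕ) (hk : Fintype.card ι = 2 * k) : (psi2 h2 Q hQ hu k hk).ker.index = 2 := by
  have hsurj : Function.Surjective (psi2 h2 Q hQ hu k hk) := by
    intro a
    rcases Int.units_eq_one_or a with rfl | rfl
    · exact ⟨1, map_one _⟩
    · exact ⟨_, psi2_refl h2 Q hQ hu k hk⟩
  rw [Subgroup.index_ker, MonoidHom.range_eq_top.2 hsurj, Subgroup.card_top,
    Nat.card_eq_fintype_card]
  rfl

theorem index_NN (h2 : (2 : F) ≠ 0) (Q : QuadraticForm F (ι → F)) (hQ : (polarBilin Q).Nondegenerate)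
    (hn : 5 ≤ Fintype.card ι) (k : ℕ) (hk : Fintype.card ι = 2 * k) (hd : ∃ d : ↥(GO (⇑Q)), ¬ IsSquare ((mult (⇑Q) d : Fˣ) : F)) :
    (NN Q).index
      = (Cfsg.Inn (Cfsg.POmega F (⇑Q))).relIndex (Cfsg.psoAut F (⇑Q)) * 4 := by
  rw [NN_eq_comap, Subgroup.index_comap, ← pgoAut_eq]
  have hle1 := inn_le_pso h2 Q hQ (by omega)
  have hle2 : Cfsg.psoAut F (⇑Q) ≤ Cfsg.pgoAut F (⇑Q) := by
    rw [psoAut_eq_sim, pgoAut_eq]
    exact Subgroup.map_le_range _ _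
  have h3 : (Cfsg.psoAut F (⇑Q)).relIndex (Cfsg.pgoAut F (⇑Q)) = 4 := by
    obtain ⟨φ, hφ1, hφ2⟩ := klein_of_sim h2 Q hQ hn k hk hd
    rw [Subgroup.relIndex, ← hφ2, Subgroup.index_ker, MonoidHom.range_eq_top.2 hφ1,
      Subgroup.card_top]
    rw [Nat.card_eq_fintype_card]
    rfl
  rw [← Subgroup.relIndex_mul_relIndex _ _ _ hle1 hle2, h3]

theorem relIndex_NN (h2 : (2 : F) ≠ 0) (Q : QuadraticForm F (ι → F)) (hQ : (polarBilin Q).Nondegenerate)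
    (hn : 5 ≤ Fintype.card ι) {u : ι → F} (hu : Q u ≠ 0) (k : ℕ) (hk : Fintype.card ι = 2 * k)
    (hd : ∃ d : ↥(GO (⇑Q)), ¬ IsSquare ((mult (⇑Q) d : Fˣ) : F)) :
    (NN Q).relIndex (psi2 h2 Q hQ hu k hk).ker
      = (Cfsg.Inn (Cfsg.POmega F (⇑Q))).relIndex (Cfsg.psoAut F (⇑Q)) * 2 := by
  have h1 := Subgroup.relIndex_mul_index (NN_le_ker_psi2 h2 Q hQ hn hu k hk)
  rw [index_ker_psi2 h2 Q hQ hu k hk, index_NN h2 Q hQ hn k hk hd] at h1
  omega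

/-- Isometries inducing inner automorphisms, when `-1 ∈ Ω`. -/
theorem inclO_mem_NN (h2 : (2 : F) ≠ 0) (Q : QuadraticForm F (ι → F)) (hQ : (polarBilin Q).Nondegenerate)
    (hn : 5 ≤ Fintype.card ι) (hneg : negOne Q ∈ Cfsg.Omega F (⇑Q)) (x : ↥(Cfsg.isometryGroup F (⇑Q))) :
    inclO (⇑Q) x ∈ NN Q ↔ x ∈ Cfsg.Omega F (⇑Q) := by
  rw [NN_eq_comap, Subgroup.mem_comap, autGO_inclO, inn_eq]
  constructor
  · rintro ⟨ω, hω, hωx⟩
    have h1 : autHom (⇑Q) (ω⁻¹ * x) = 1 := by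
      rw [map_mul, map_inv, hωx, inv_mul_cancel]
    rcases eq_one_or_negOne_of_autHom h2 Q hQ hn _ h1 with h | h
    · have : x = ω := by
        rw [inv_mul_eq_one] at h
        exact h.symm
      rw [this]
      exact hω
    · have : x = ω * negOne Q := by
        rw [← h, mul_inv_cancel_left]
      rw [this]
      exact mul_mem hω hneg
  · intro hx
    exact ⟨x, hx, rfl⟩

/-- Descending an isomorphism of the quotient to the image in the automorphism group. -/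
theorem exists_hom_inndiag (h2 : (2 : F) ≠ 0) (Q : QuadraticForm F (ι → F)) (hQ : (polarBilin Q).Nondegenerate)
    {u : ι → F} (hu : Q u ≠ 0) (k : ℕ) (hk : Fintype.card ι = 2 * k) {K : Type*} [Group K]
    (e : (↥(psi2 h2 Q hQ hu k hk).ker ⧸ (NN Q).subgroupOf (psi2 h2 Q hQ hu k hk).ker) ≃* K)
    (hle : NN Q ≤ (psi2 h2 Q hQ hu k hk).ker) :
    ∃ φ : ↥((psi2 h2 Q hQ hu k hk).ker.map (autGO (⇑Q))) →* K, Function.Surjective φ ∧
      φ.ker = (Cfsg.Inn (Cfsg.POmega F (⇑Q))).subgroupOf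
        ((psi2 h2 Q hQ hu k hk).ker.map (autGO (⇑Q))) := by
  set G0 := (psi2 h2 Q hQ hu k hk).ker with hG0
  set f0 : ↥G0 →* MulAut (Cfsg.POmega F (⇑Q)) := (autGO (⇑Q)).comp G0.subtype with hf0
  set S := (Cfsg.Omega F (⇑Q)).map (inclO (⇑Q)) with hS
  have hSle : S ≤ G0 := le_trans le_sup_left hle
  have hkle : (autGO (⇑Q)).ker ≤ G0 := le_trans le_sup_right hle
  set ψ0 : ↥G0 →* K := e.toMonoidHom.comp (QuotientGroup.mk' ((NN Q).subgroupOf G0)) with hψ0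
  have hψs : Function.Surjective ψ0 :=
    e.surjective.comp (QuotientGroup.mk'_surjective _)
  have hψk : ψ0.ker = S.subgroupOf G0 ⊔ f0.ker := by
    have h1 : f0.ker = (autGO (⇑Q)).ker.subgroupOf G0 := by
      rw [hf0, ← MonoidHom.comap_ker]
      rfl
    rw [h1, ← Subgroup.subgroupOf_sup hSle hkle]
    ext x
    rw [MonoidHom.mem_ker, hψ0, MonoidHom.comp_apply]
    show e (QuotientGroup.mk' _ x) = 1 ↔ _
    rw [e.map_eq_one_iff, QuotientGroup.mk'_apply, QuotientGroup.eq_one_iff]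
    rfl
  obtain ⟨φ, h1, h3⟩ := exists_hom_range f0 ψ0 hψs (S.subgroupOf G0) hψk
  have hrange : f0.range = G0.map (autGO (⇑Q)) := by
    rw [hf0, MonoidHom.range_comp, Subgroup.range_subtype]
  have hSmap : (S.subgroupOf G0).map f0 = Cfsg.Inn (Cfsg.POmega F (⇑Q)) := by
    rw [hf0, ← Subgroup.map_map, Subgroup.map_subgroupOf_eq_of_le hSle, hS, Subgroup.map_map, inn_eq]
    congr 1
  rw [← hrange, ← hSmap]
  exact ⟨φ, h1, h3⟩

/-- The values of the spinor character on a reflection and on its conjugate by a similarity with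
non-square multiplier. -/
theorem chi_pair (h2 : (2 : F) ≠ 0) (Q : QuadraticForm F (ι → F)) {u : ι → F} (hu : Q u ≠ 0)
    (G₁ : ↥(GO (⇑Q))) (hG1 : ¬ IsSquare ((mult (⇑Q) G₁ : Fˣ) : F)) :
    chi (⇑Q) (Q u) (refl Q u hu) = -1 ∧ chi (⇑Q) (Q u) (conjO (⇑Q) G₁ (refl Q u hu)) = 1 ∧
      detHom (⇑Q) (conjO (⇑Q) G₁ (refl Q u hu)) = -1 := by
  have hν0 : ((mult (⇑Q) G₁ : Fˣ) : F) ≠ 0 := Units.ne_zero _
  have hdu : Q (((G₁ : Matrix.GeneralLinearGroup ι F) : Matrix ι ι F) *ᵥ u) ≠ 0 := by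
    rw [mult_spec (⇑Q) G₁ u]
    exact mul_ne_zero hν0 hu
  rw [conjO_refl Q u hu G₁ hdu]
  refine ⟨?_, ?_, detHom_refl Q _ hdu⟩
  · rw [chi_refl h2 Q (Q u) hu, if_pos ⟨Q u, rfl⟩]
  · rw [chi_refl h2 Q (Q u) hu, if_neg]
    rintro ⟨y, hy⟩
    apply hG1
    rw [mult_spec (⇑Q) G₁ u] at hy
    refine ⟨y / Q u, ?_⟩
    field_simp
    linear_combination hy

theorem card_quot_eq (h2 : (2 : F) ≠ 0) (Q : QuadraticForm F (ι → F))
    (hQ : (polarBilin Q).Nondegenerate)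
    (hn : 5 ≤ Fintype.card ι) {u : ι → F} (hu : Q u ≠ 0) (k : ℕ) (hk : Fintype.card ι = 2 * k)
    (hd : ∃ d : ↥(GO (⇑Q)), ¬ IsSquare ((mult (⇑Q) d : Fˣ) : F)) :
    Nat.card (↥(psi2 h2 Q hQ hu k hk).ker ⧸ (NN Q).subgroupOf (psi2 h2 Q hQ hu k hk).ker)
      = (Cfsg.Inn (Cfsg.POmega F (⇑Q))).relIndex (Cfsg.psoAut F (⇑Q)) * 2 := by
  rw [← Subgroup.index_eq_card, ← relIndex_NN h2 Q hQ hn hu k hk hd]
  rfl

/-- Case `-1 ∉ Ω`: cyclic of order two. -/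
theorem inndiag_c2 (h2 : (2 : F) ≠ 0) (Q : QuadraticForm F (ι → F))
    (hQ : (polarBilin Q).Nondegenerate)
    (hn : 5 ≤ Fintype.card ι) {u : ι → F} (hu : Q u ≠ 0) (k : ℕ) (hk : Fintype.card ι = 2 * k)
    (hd : ∃ d : ↥(GO (⇑Q)), ¬ IsSquare ((mult (⇑Q) d : Fˣ) : F))
    (hneg : negOne Q ∉ Cfsg.Omega F (⇑Q)) :
    ∃ φ : ↥((psi2 h2 Q hQ hu k hk).ker.map (autGO (⇑Q))) →* Multiplicative (ZMod 2),
      Function.Surjective φ ∧ φ.ker = (Cfsg.Inn (Cfsg.POmega F (⇑Q))).subgroupOf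
        ((psi2 h2 Q hQ hu k hk).ker.map (autGO (⇑Q))) := by
  have hcard := card_quot_eq h2 Q hQ hn hu k hk hd
  rw [relIndex_inn_pso_of_not_mem h2 Q hQ hn ⟨k, by rw [hk]; ring⟩ hneg] at hcard
  obtain ⟨e⟩ := Cfsg.Agent.Lib.Helper19.SmallGroups.cyclic_two_of_card hcard
  exact exists_hom_inndiag h2 Q hQ hu k hk e (NN_le_ker_psi2 h2 Q hQ hn hu k hk)

/-- Case `-1 ∈ Ω` and a similarity with non-square multiplier, scalar square and sign `-1`: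
cyclic of order four. -/
theorem inndiag_c4 (h2 : (2 : F) ≠ 0) (Q : QuadraticForm F (ι → F))
    (hQ : (polarBilin Q).Nondegenerate)
    (hn : 5 ≤ Fintype.card ι) {u : ι → F} (hu : Q u ≠ 0) (k : ℕ) (hk : Fintype.card ι = 2 * k)
    (hneg : negOne Q ∈ Cfsg.Omega F (⇑Q))
    (G₁ : ↥(GO (⇑Q))) (hG1 : ¬ IsSquare ((mult (⇑Q) G₁ : Fˣ) : F))
    (hG2 : G₁ * G₁ ∈ (autGO (⇑Q)).ker) (hG3 : psi2 h2 Q hQ hu k hk G₁ = -1) :
    ∃ φ : ↥((psi2 h2 Q hQ hu k hk).ker.map (autGO (⇑Q))) →* Multiplicative (ZMod 4),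
      Function.Surjective φ ∧ φ.ker = (Cfsg.Inn (Cfsg.POmega F (⇑Q))).subgroupOf
        ((psi2 h2 Q hQ hu k hk).ker.map (autGO (⇑Q))) := by
  have hcard := card_quot_eq h2 Q hQ hn hu k hk ⟨G₁, hG1⟩
  rw [relIndex_inn_pso_of_mem h2 Q hQ hn hneg] at hcard
  obtain ⟨hc1, hc2, hc3⟩ := chi_pair h2 Q hu G₁ hG1
  set r0 := refl Q u hu with hr0
  set r' := conjO (⇑Q) G₁ r0 with hr'
  set r : ↥(GO (⇑Q)) := inclO (⇑Q) r0 with hr
  have hxmem : G₁ * r ∈ (psi2 h2 Q hQ hu k hk).ker := by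
    rw [MonoidHom.mem_ker, map_mul, hG3, hr, hr0, psi2_refl h2 Q hQ hu k hk]
    rfl
  set x : ↥(psi2 h2 Q hQ hu k hk).ker := ⟨G₁ * r, hxmem⟩ with hx
  have hxx : (QuotientGroup.mk x : ↥(psi2 h2 Q hQ hu k hk).ker ⧸
      (NN Q).subgroupOf (psi2 h2 Q hQ hu k hk).ker) * QuotientGroup.mk x ≠ 1 := by
    rw [← QuotientGroup.mk_mul, Ne, QuotientGroup.eq_one_iff, Subgroup.mem_subgroupOf]
    show ¬ (G₁ * r * (G₁ * r) ∈ NN Q)
    intro hmem
    have e1 : G₁ * r * (G₁ * r) = inclO (⇑Q) r' * (G₁ * G₁) * r := by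
      have : inclO (⇑Q) r' = G₁ * r * G₁⁻¹ := by
        apply Subtype.ext
        rfl
      rw [this]
      group
    rw [e1] at hmem
    have hz : G₁ * G₁ ∈ NN Q := le_sup_right (a := (Cfsg.Omega F (⇑Q)).map (inclO (⇑Q))) hG2
    have e2 : inclO (⇑Q) r' * (G₁ * G₁) * r = (inclO (⇑Q) r' * r) * (r⁻¹ * (G₁ * G₁) * r⁻¹⁻¹) := by
      group
    rw [e2] at hmem
    have hz' : r⁻¹ * (G₁ * G₁) * r⁻¹⁻¹ ∈ NN Q := (NN_normal Q).conj_mem _ hz _
    have h3 : inclO (⇑Q) r' * r ∈ NN Q := by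
      have := (NN Q).mul_mem hmem ((NN Q).inv_mem hz')
      rwa [mul_inv_cancel_right] at this
    rw [hr, ← map_mul, inclO_mem_NN h2 Q hQ hn hneg,
      Omega_eq h2 Q hQ (by omega) (Q u) hu] at h3
    have h4 : chi (⇑Q) (Q u) (r' * r0) = 1 := h3.2
    rw [map_mul, hc1, hc2] at h4
    exact absurd h4 (by decide)
  obtain ⟨e⟩ := Cfsg.Agent.Lib.Helper19.SmallGroups.cyclic_four_of_sq_ne hcard hxx
  exact exists_hom_inndiag h2 Q hQ hu k hk e (NN_le_ker_psi2 h2 Q hQ hn hu k hk)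

/-- Case `-1 ∈ Ω` and a similarity with non-square multiplier, scalar square and sign `1`:
a four-group. -/
theorem inndiag_klein (h2 : (2 : F) ≠ 0) (Q : QuadraticForm F (ι → F))
    (hQ : (polarBilin Q).Nondegenerate)
    (hn : 5 ≤ Fintype.card ι) {u : ι → F} (hu : Q u ≠ 0) (k : ℕ) (hk : Fintype.card ι = 2 * k)
    (hneg : negOne Q ∈ Cfsg.Omega F (⇑Q))
    (G₁ : ↥(GO (⇑Q))) (hG1 : ¬ IsSquare ((mult (⇑Q) G₁ : Fˣ) : F))
    (hG2 : G₁ * G₁ ∈ (autGO (⇑Q)).ker) (hG3 : psi2 h2 Q hQ hu k hk G₁ = 1) :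
    ∃ φ : ↥((psi2 h2 Q hQ hu k hk).ker.map (autGO (⇑Q))) →* Multiplicative (ZMod 2 × ZMod 2),
      Function.Surjective φ ∧ φ.ker = (Cfsg.Inn (Cfsg.POmega F (⇑Q))).subgroupOf
        ((psi2 h2 Q hQ hu k hk).ker.map (autGO (⇑Q))) := by
  have hcard := card_quot_eq h2 Q hQ hn hu k hk ⟨G₁, hG1⟩
  rw [relIndex_inn_pso_of_mem h2 Q hQ hn hneg] at hcard
  obtain ⟨hc1, hc2, hc3⟩ := chi_pair h2 Q hu G₁ hG1
  set r0 := refl Q u hu with hr0
  set r' := conjO (⇑Q) G₁ r0 with hr'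
  have hOm := Omega_eq h2 Q hQ (by omega) (Q u) hu
  have hle1 := NN_le_ker_psi1 h2 Q hQ hn hu k hk
  have hle2 := NN_le_ker_psi2 h2 Q hQ hn hu k hk
  -- the first involution
  have hsSO : r0 * r' ∈ Cfsg.specialIsometryGroup F (⇑Q) := by
    show detHom (⇑Q) (r0 * r') = 1
    rw [map_mul, hc3, hr0, detHom_refl]
    simp
  have hsmem : inclO (⇑Q) (r0 * r') ∈ (psi2 h2 Q hQ hu k hk).ker := by
    have h1 : inclO (⇑Q) (r0 * r') ∈ ((psi1 hu).prod (psi2 h2 Q hQ hu k hk)).ker := by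
      rw [ker_psi h2 Q hQ hn hu k hk]
      exact Subgroup.mem_sup_left ⟨_, hsSO, rfl⟩
    rw [MonoidHom.mem_ker, MonoidHom.prod_apply, Prod.mk_eq_one] at h1
    exact h1.2
  set a : ↥(psi2 h2 Q hQ hu k hk).ker := ⟨inclO (⇑Q) (r0 * r'), hsmem⟩ with ha
  set b : ↥(psi2 h2 Q hQ hu k hk).ker := ⟨G₁, hG3⟩ with hb
  have hchis : chi (⇑Q) (Q u) (r0 * r') = -1 := by
    rw [map_mul, hc1, hc2]; rfl
  have hsN : inclO (⇑Q) (r0 * r') ∉ NN Q := by
    rw [inclO_mem_NN h2 Q hQ hn hneg, hOm]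
    intro h
    have h4 : chi (⇑Q) (Q u) (r0 * r') = 1 := h.2
    rw [hchis] at h4
    exact absurd h4 (by decide)
  have hGN : G₁ ∉ NN Q := by
    intro h
    have h1 := hle1 h
    rw [MonoidHom.mem_ker, psi1_eq_one_iff] at h1
    exact hG1 h1
  have ha1 : (QuotientGroup.mk a : ↥(psi2 h2 Q hQ hu k hk).ker ⧸
      (NN Q).subgroupOf (psi2 h2 Q hQ hu k hk).ker) ≠ 1 := by
    rw [Ne, QuotientGroup.eq_one_iff, Subgroup.mem_subgroupOf]
    exact hsN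
  have hb1 : (QuotientGroup.mk b : ↥(psi2 h2 Q hQ hu k hk).ker ⧸
      (NN Q).subgroupOf (psi2 h2 Q hQ hu k hk).ker) ≠ 1 := by
    rw [Ne, QuotientGroup.eq_one_iff, Subgroup.mem_subgroupOf]
    exact hGN
  have haa : (QuotientGroup.mk a : ↥(psi2 h2 Q hQ hu k hk).ker ⧸
      (NN Q).subgroupOf (psi2 h2 Q hQ hu k hk).ker) * QuotientGroup.mk a = 1 := by
    rw [← QuotientGroup.mk_mul, QuotientGroup.eq_one_iff, Subgroup.mem_subgroupOf]
    show inclO (⇑Q) (r0 * r') * inclO (⇑Q) (r0 * r') ∈ NN Q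
    rw [← map_mul, inclO_mem_NN h2 Q hQ hn hneg, hOm]
    constructor
    · exact mul_mem hsSO hsSO
    · show chi (⇑Q) (Q u) (r0 * r' * (r0 * r')) = 1
      rw [map_mul, hchis]
      rfl
  have hbb : (QuotientGroup.mk b : ↥(psi2 h2 Q hQ hu k hk).ker ⧸
      (NN Q).subgroupOf (psi2 h2 Q hQ hu k hk).ker) * QuotientGroup.mk b = 1 := by
    rw [← QuotientGroup.mk_mul, QuotientGroup.eq_one_iff, Subgroup.mem_subgroupOf]
    show G₁ * G₁ ∈ NN Q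
    exact le_sup_right (a := (Cfsg.Omega F (⇑Q)).map (inclO (⇑Q))) hG2
  have hab : (QuotientGroup.mk a : ↥(psi2 h2 Q hQ hu k hk).ker ⧸
      (NN Q).subgroupOf (psi2 h2 Q hQ hu k hk).ker) ≠ QuotientGroup.mk b := by
    rw [Ne, QuotientGroup.eq, Subgroup.mem_subgroupOf]
    show ¬ ((inclO (⇑Q) (r0 * r'))⁻¹ * G₁ ∈ NN Q)
    intro h
    have h1 := hle1 h
    rw [MonoidHom.mem_ker, map_mul, map_inv, psi1_inclO Q hu, inv_one, one_mul,
      psi1_eq_one_iff] at h1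
    exact hG1 h1
  haveI := Cfsg.Agent.Lib.Helper19.SmallGroups.klein_of_card_four hcard haa hbb ha1 hb1 hab
  obtain ⟨e⟩ := IsKleinFour.nonempty_mulEquiv
    (G₁ := ↥(psi2 h2 Q hQ hu k hk).ker ⧸ (NN Q).subgroupOf (psi2 h2 Q hQ hu k hk).ker)
    (G₂ := Multiplicative (ZMod 2 × ZMod 2))
  exact exists_hom_inndiag h2 Q hQ hu k hk e hle2

end setup

end Cfsg.Agent.Lib.Helper19.OrthRefl
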