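-- Further parity theory of maximal totally singular subspaces: independence of the base
-- subspace for maps preserving singularity, and the dimension of the maximal ones.
import Mathlib
import Cfsg.Agent.Lib.Helper19.Parity

set_option autoImplicit false

namespace Cfsg.Agent.Lib.Helper19.Parity

open QuadraticMap Module

variable {F V : Type*} [Field F] [AddCommGroup V] [Module F V] {Q : QuadraticForm F V}

theorem IsTS.map_of_sing {U : Submodule F V} (hU : IsTS Q U) (e : V ≃ₗ[F] V)
    (he : ∀ v, Q v = 0 → Q (e v) = 0) : IsTS Q (U.map (e : V →ₗ[F] V)) := by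
  rintro _ ⟨u, hu, rfl⟩
  exact he u (hU u hu)

variable [FiniteDimensional F V]

/-- The parity of `U ∩ e U` does not depend on the maximal totally singular subspace `U`. -/
theorem parity_indep (hQ : (polarBilin Q).Nondegenerate) {n : ℕ} (hV : finrank F V = 2 * n)
    (e : V ≃ₗ[F] V) (he : ∀ v, Q v = 0 → Q (e v) = 0)
    {U W : Submodule F V} (hU : IsTS Q U) (hUn : finrank F U = n) (hW : IsTS Q W)
    (hWn : finrank F W = n) :
    Even ((n - finrank F ↥(U ⊓ U.map (e : V →ₗ[F] V)))
      + (n - finrank F ↥(W ⊓ W.map (e : V →ₗ[F] V)))) := by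
  have heU := hU.map_of_sing e he
  have heW := hW.map_of_sing e he
  have heUn : finrank F ↥(U.map (e : V →ₗ[F] V)) = n := by
    rw [LinearEquiv.finrank_map_eq, hUn]
  have heWn : finrank F ↥(W.map (e : V →ₗ[F] V)) = n := by
    rw [LinearEquiv.finrank_map_eq, hWn]
  have t1 := triangle_parity hQ hV _ W U (U.map (e : V →ₗ[F] V)) hW hWn hU hUn heU heUn rfl
  have t2 := triangle_parity hQ hV _ W (U.map (e : V →ₗ[F] V)) (W.map (e : V →ₗ[F] V))
    hW hWn heU heUn heW heWn rfl
  have hmid : finrank F ↥(U.map (e : V →ₗ[F] V) ⊓ W.map (e : V →ₗ[F] V))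
      = finrank F ↥(W ⊓ U) := by
    rw [← Submodule.map_inf _ e.injective, LinearEquiv.finrank_map_eq, inf_comm]
  rw [hmid] at t2
  obtain ⟨r1, hr1⟩ := t1
  obtain ⟨r2, hr2⟩ := t2
  rw [Nat.even_iff]
  omega

/-- Every totally singular subspace lies in one of dimension `n`, if there is one at all. -/
theorem exists_le_of_isTS (hQ : (polarBilin Q).Nondegenerate) {n : ℕ} (hV : finrank F V = 2 * n)
    {T : Submodule F V} (hT : IsTS Q T) :
    ∀ (j : ℕ) (X : Submodule F V), IsTS Q X → finrank F X = n →
      finrank F T - finrank F ↥(X ⊓ T) = j → ∃ X' : Submodule F V, IsTS Q X' ∧ finrank F X' = n ∧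
        T ≤ X' := by
  intro j
  induction j using Nat.strong_induction_on with
  | _ j ih =>
    intro X hX hXn hj
    by_cases hTX : T ≤ X
    · exact ⟨X, hX, hXn, hTX⟩
    · obtain ⟨w, hwT, hwX⟩ := SetLike.not_le_iff_exists.1 hTX
      obtain ⟨X', hX', hXn', _, hwX', hsub⟩ := exists_adjacent hQ hV hX hXn (hT w hwT) hwX
      have hle : X ⊓ T ≤ X' ⊓ T := by
        intro u hu
        exact ⟨hsub u hu.1 (hT.polar_zero hwT hu.2), hu.2⟩
      have hlt : X ⊓ T < X' ⊓ T := by
        apply lt_of_le_of_ne hle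
        intro heq
        apply hwX
        have : w ∈ X' ⊓ T := ⟨hwX', hwT⟩
        rw [← heq] at this
        exact this.1
      have hfr := Submodule.finrank_lt_finrank_of_lt hlt
      have hle2 : finrank F ↥(X' ⊓ T) ≤ finrank F T := Submodule.finrank_mono inf_le_right
      exact ih (finrank F T - finrank F ↥(X' ⊓ T)) (by omega) X' hX' hXn' rfl

/-- A maximal totally singular subspace has dimension `n`, if some totally singular subspace
has. -/
theorem finrank_of_maximal (hQ : (polarBilin Q).Nondegenerate) {n : ℕ} (hV : finrank F V = 2 * n)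
    {E : Submodule F V} (hE : IsTS Q E) (hEn : finrank F E = n)
    {U : Submodule F V} (hU : IsTS Q U)
    (hmax : ∀ W : Submodule F V, IsTS Q W → U ≤ W → W = U) : finrank F U = n := by
  obtain ⟨X, hX, hXn, hUX⟩ := exists_le_of_isTS hQ hV hU _ E hE hEn rfl
  rw [← hmax X hX hUX]
  exact hXn

end Cfsg.Agent.Lib.Helper19.Parity
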