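-- Similarities preserving the two classes of maximal totally singular subspaces: a determinant
-- criterion (odd characteristic).
import Mathlib
import Cfsg.Prelude.Def_Classical
import Cfsg.Prelude.Def_ClassicalGeometry
import Cfsg.Prelude.Def_GeometricClasses
import Cfsg.Prelude.Def_LieTypeDatum
import Cfsg.Agent.Lib.Helper19.ParityGen
import Cfsg.Agent.Lib.Helper19.OrthParity2

set_option autoImplicit false

namespace Cfsg.Agent.Lib.Helper19.OrthRefl

open Matrix QuadraticMap Module Cfsg.Agent.Lib.Helper19.Parity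

variable {ι : Type} [Fintype ι] [DecidableEq ι] {F : Type*} [Field F]

/-- The linear equivalence of an invertible matrix. -/
noncomputable def glEquivPSC (g : Matrix.GeneralLinearGroup ι F) : (ι → F) ≃ₗ[F] (ι → F) where
  toFun x := (g : Matrix ι ι F) *ᵥ x
  map_add' := Matrix.mulVec_add _
  map_smul' t x := Matrix.mulVec_smul _ t x
  invFun x := ((g⁻¹ : Matrix.GeneralLinearGroup ι F) : Matrix ι ι F) *ᵥ x
  left_inv x := by
    show ((g⁻¹ : Matrix.GeneralLinearGroup ι F) : Matrix ι ι F) *ᵥ ((g : Matrix ι ι F) *ᵥ x) = x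
    rw [Matrix.mulVec_mulVec, ← Units.val_mul, inv_mul_cancel, Units.val_one, Matrix.one_mulVec]
  right_inv x := by
    show (g : Matrix ι ι F) *ᵥ (((g⁻¹ : Matrix.GeneralLinearGroup ι F) : Matrix ι ι F) *ᵥ x) = x
    rw [Matrix.mulVec_mulVec, ← Units.val_mul, mul_inv_cancel, Units.val_one, Matrix.one_mulVec]

theorem glEquivPSC_coe (g : Matrix.GeneralLinearGroup ι F) :
    ((glEquivPSC g : (ι → F) ≃ₗ[F] (ι → F)) : (ι → F) →ₗ[F] (ι → F))
      = Matrix.toLin' (g : Matrix ι ι F) := by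
  apply LinearMap.ext
  intro x
  rw [Matrix.toLin'_apply]
  rfl

/-- The classes are preserved exactly when the parity with respect to one maximal totally
singular subspace is even. -/
theorem psc_iff_parity (Q : QuadraticForm F (ι → F)) (hQ : (polarBilin Q).Nondegenerate)
    {n : ℕ} (hV : finrank F (ι → F) = 2 * n) {E : Submodule F (ι → F)} (hE : IsTS Q E)
    (hEn : finrank F E = n) (g : Matrix.GeneralLinearGroup ι F) (μ : F)
    (hg : ∀ v, Q ((g : Matrix ι ι F) *ᵥ v) = μ * Q v) :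
    Cfsg.PreservesSingularClasses (⇑Q) (g : Matrix ι ι F)
      ↔ Even (n - finrank F ↥(E ⊓ E.map (Matrix.toLin' (g : Matrix ι ι F)))) := by
  have hsing : ∀ v, Q v = 0 → Q (glEquivPSC g v) = 0 := by
    intro v hv
    show Q ((g : Matrix ι ι F) *ᵥ v) = 0
    rw [hg, hv, mul_zero]
  constructor
  · intro h
    have hmax : Cfsg.IsMaxTotallySingular (⇑Q) E := by
      refine ⟨hE, ?_⟩
      intro W hW hEW
      have hW' : IsTS Q W := hW
      have h1 := hW'.finrank_le hQ
      symm
      apply Submodule.eq_of_le_of_finrank_le hEW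
      rw [hEn]
      omega
    have := h E hmax
    unfold Cfsg.SameParityClass Cfsg.imageSubmodule at this
    rw [hEn] at this
    exact this
  · intro h U hU
    obtain ⟨hU1, hU2⟩ := hU
    have hU' : IsTS Q U := hU1
    have hUn : finrank F U = n := finrank_of_maximal hQ hV hE hEn hU' (fun W hW => hU2 W hW)
    unfold Cfsg.SameParityClass Cfsg.imageSubmodule
    rw [hUn]
    have hp := parity_indep hQ hV (glEquivPSC g) hsing hU' hUn hE hEn
    rw [glEquivPSC_coe] at hp
    exact (Nat.even_add.1 hp).2 h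

/-- The determinant criterion. -/
theorem psc_iff_det (h2 : (2 : F) ≠ 0) (Q : QuadraticForm F (ι → F))
    (hQ : (polarBilin Q).Nondegenerate)
    {n : ℕ} (hV : finrank F (ι → F) = 2 * n) {E : Submodule F (ι → F)} (hE : IsTS Q E)
    (hEn : finrank F E = n) (g d : Matrix.GeneralLinearGroup ι F) (μ : F)
    (hg : ∀ v, Q ((g : Matrix ι ι F) *ᵥ v) = μ * Q v)
    (hd : ∀ v, Q ((d : Matrix ι ι F) *ᵥ v) = μ * Q v)
    (hdE : E.map (Matrix.toLin' (d : Matrix ι ι F)) = E) :
    Cfsg.PreservesSingularClasses (⇑Q) (g : Matrix ι ι F)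
      ↔ (g : Matrix ι ι F).det = (d : Matrix ι ι F).det := by
  rw [psc_iff_parity Q hQ hV hE hEn g μ hg]
  have hhO : g * d⁻¹ ∈ Cfsg.isometryGroup F (⇑Q) := by
    rw [mem_iso]
    intro u
    have h1 : ((g * d⁻¹ : Matrix.GeneralLinearGroup ι F) : Matrix ι ι F) *ᵥ u
        = (g : Matrix ι ι F) *ᵥ (((d⁻¹ : Matrix.GeneralLinearGroup ι F) : Matrix ι ι F) *ᵥ u) := by
      rw [Matrix.mulVec_mulVec, ← Units.val_mul]
    have h3 : u = (d : Matrix ι ι F) *ᵥ
        (((d⁻¹ : Matrix.GeneralLinearGroup ι F) : Matrix ι ι F) *ᵥ u) := by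
      rw [Matrix.mulVec_mulVec, ← Units.val_mul, mul_inv_cancel, Units.val_one, Matrix.one_mulVec]
    rw [h1, hg]
    conv_rhs => rw [h3, hd]
  set h : ↥(Cfsg.isometryGroup F (⇑Q)) := ⟨g * d⁻¹, hhO⟩ with hh
  have hmap : E.map (Matrix.toLin' (g : Matrix ι ι F))
      = E.map (Matrix.mulVecLin ((h : Matrix.GeneralLinearGroup ι F) : Matrix ι ι F)) := by
    have hgd : (g : Matrix ι ι F) = ((h : Matrix.GeneralLinearGroup ι F) : Matrix ι ι F)
        * (d : Matrix ι ι F) := by
      show (g : Matrix ι ι F) = ((g * d⁻¹ : Matrix.GeneralLinearGroup ι F) : Matrix ι ι F)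
        * (d : Matrix ι ι F)
      rw [← Units.val_mul, inv_mul_cancel_right]
    conv_lhs => rw [hgd, Matrix.toLin'_mul, Submodule.map_comp, hdE]
    rfl
  rw [hmap, ← parityChar_eq_one_iff Q hQ hV E hE hEn h, parityChar_eq_one_iff_detHom h2 Q hQ hV E
    hE hEn h, Units.ext_iff, detHom_val, Units.val_one]
  show ((g * d⁻¹ : Matrix.GeneralLinearGroup ι F) : Matrix ι ι F).det = 1 ↔ _
  have hdet : (d : Matrix ι ι F).det ≠ 0 := by
    have := (Matrix.isUnit_iff_isUnit_det _).1 d.isUnit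
    exact this.ne_zero
  have hmul : ((g * d⁻¹ : Matrix.GeneralLinearGroup ι F) : Matrix ι ι F).det * (d : Matrix ι ι F).det
      = (g : Matrix ι ι F).det := by
    rw [← Matrix.det_mul, ← Units.val_mul, inv_mul_cancel_right]
  constructor
  · intro h1
    rw [← hmul, h1, one_mul]
  · intro h1
    apply mul_right_cancel₀ hdet
    rw [hmul, h1, one_mul]

end Cfsg.Agent.Lib.Helper19.OrthRefl
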