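-- Similarities with non-square multiplier for the two standard even-dimensional forms.
import Mathlib
import Cfsg.Agent.Lib.Helper19.OrthSimKlein
import Cfsg.Agent.Lib.Helper19.QuadStd
import Cfsg.Agent.Lib.Helper19.QuadWitt

set_option autoImplicit false

namespace Cfsg.Agent.Lib.Helper19.OrthRefl

open Matrix QuadraticMap Module Cfsg.Agent.Lib.Helper19.QuadStd

variable {F : Type*} [Field F]

/-- The hyperbolic part of the similarity. -/
def hypDiag (m : ℕ) (ν : F) : Matrix (Fin m ⊕ Fin m) (Fin m ⊕ Fin m) F :=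
  Matrix.diagonal (Sum.elim (fun _ => ν) (fun _ => 1))

theorem hypDiag_det (m : ℕ) (ν : F) : (hypDiag m ν).det = ν ^ m := by
  unfold hypDiag
  rw [Matrix.det_diagonal, Fintype.prod_sum_type]
  simp

theorem exists_nonsq_mult_plus [Fintype F] (h2 : (2 : F) ≠ 0) (m : ℕ) {u : Fin m ⊕ Fin m → F}
    (hu : stdPlus m F u ≠ 0) :
    ∃ d : ↥(GO (⇑(stdPlus m F))), ¬ IsSquare ((mult (⇑(stdPlus m F)) d : Fˣ) : F) := by
  obtain ⟨ν, hν⟩ := FiniteField.exists_nonsquare (ringChar_ne_two h2) (F := F)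
  have hν0 : ν ≠ 0 := by
    rintro rfl
    exact hν ⟨0, by ring⟩
  have hdet : (hypDiag m ν).det ≠ 0 := by
    rw [hypDiag_det]; exact pow_ne_zero _ hν0
  set D : Matrix.GeneralLinearGroup (Fin m ⊕ Fin m) F :=
    Matrix.GeneralLinearGroup.mkOfDetNeZero (hypDiag m ν) hdet with hD
  have hDcoe : (D : Matrix (Fin m ⊕ Fin m) (Fin m ⊕ Fin m) F) = hypDiag m ν := rfl
  have hsim : ∀ v, stdPlus m F ((D : Matrix (Fin m ⊕ Fin m) (Fin m ⊕ Fin m) F) *ᵥ v)
      = ν * stdPlus m F v := by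
    intro v
    rw [hDcoe, stdPlus_apply, stdPlus_apply]
    unfold Cfsg.quadFormPlus
    rw [Finset.mul_sum]
    apply Finset.sum_congr rfl
    intro i _
    unfold hypDiag
    rw [Matrix.mulVec_diagonal, Matrix.mulVec_diagonal]
    simp only [Sum.elim_inl, Sum.elim_inr]
    ring
  have hsim' : ∀ v, (⇑(stdPlus m F)) ((D : Matrix (Fin m ⊕ Fin m) (Fin m ⊕ Fin m) F) *ᵥ v)
      = ((Units.mk0 ν hν0 : Fˣ) : F) * (⇑(stdPlus m F)) v := by
    intro v
    rw [Units.val_mk0]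
    exact hsim v
  have hmem : D ∈ GO (⇑(stdPlus m F)) := ⟨Units.mk0 ν hν0, hsim'⟩
  refine ⟨⟨D, hmem⟩, ?_⟩
  rw [mult_unique (⇑(stdPlus m F)) hu ⟨D, hmem⟩ (Units.mk0 ν hν0) hsim', Units.val_mk0]
  exact hν

/-- The anisotropic part of the similarity. -/
def normMat (a b α β : F) : Matrix (Fin 2) (Fin 2) F := !![α, -(b * β); β, α + a * β]

theorem exists_nonsq_mult_minus [Fintype F] (h2 : (2 : F) ≠ 0) (m : ℕ) (a b : F)
    (hab : ∀ z₁ z₂ : F, z₁ ^ 2 + a * z₁ * z₂ + b * z₂ ^ 2 = 0 → z₁ = 0 ∧ z₂ = 0)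
    {u : (Fin m ⊕ Fin m) ⊕ Fin 2 → F} (hu : stdMinus m F a b u ≠ 0) :
    ∃ d : ↥(GO (⇑(stdMinus m F a b))),
      ¬ IsSquare ((mult (⇑(stdMinus m F a b)) d : Fˣ) : F) := by
  obtain ⟨ν, hν⟩ := FiniteField.exists_nonsquare (ringChar_ne_two h2) (F := F)
  have hν0 : ν ≠ 0 := by
    rintro rfl
    exact hν ⟨0, by ring⟩
  obtain ⟨α, β, hαβ⟩ : ∃ α β : F, α ^ 2 + a * α * β + b * β ^ 2 = ν := by
    obtain ⟨α, β, γ, hne, hzero⟩ :=
      Cfsg.Agent.Lib.Helper19.QuadWitt.ternary_zero (1 : F) b (-ν) a 0 0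
    have hγ : γ ≠ 0 := by
      intro hγ0
      rw [hγ0] at hzero
      have := hab α β (by linear_combination hzero)
      exact hne ⟨this.1, this.2, hγ0⟩
    refine ⟨α / γ, β / γ, ?_⟩
    field_simp
    linear_combination hzero
  set M : Matrix ((Fin m ⊕ Fin m) ⊕ Fin 2) ((Fin m ⊕ Fin m) ⊕ Fin 2) F :=
    Matrix.fromBlocks (hypDiag m ν) 0 0 (normMat a b α β) with hM
  have hdet : M.det ≠ 0 := by
    rw [hM, Matrix.det_fromBlocks_zero₂₁, hypDiag_det]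
    unfold normMat
    rw [Matrix.det_fin_two_of]
    have : α * (α + a * β) - -(b * β) * β = ν := by linear_combination hαβ
    rw [this]
    exact mul_ne_zero (pow_ne_zero _ hν0) hν0
  set D : Matrix.GeneralLinearGroup ((Fin m ⊕ Fin m) ⊕ Fin 2) F :=
    Matrix.GeneralLinearGroup.mkOfDetNeZero M hdet with hD
  have hDcoe : (D : Matrix ((Fin m ⊕ Fin m) ⊕ Fin 2) ((Fin m ⊕ Fin m) ⊕ Fin 2) F) = M := rfl
  have hsim : ∀ v, stdMinus m F a b
      ((D : Matrix ((Fin m ⊕ Fin m) ⊕ Fin 2) ((Fin m ⊕ Fin m) ⊕ Fin 2) F) *ᵥ v)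
      = ν * stdMinus m F a b v := by
    intro v
    rw [hDcoe, stdMinus_apply, stdMinus_apply]
    unfold Cfsg.quadFormMinus
    rw [hM, Matrix.fromBlocks_mulVec]
    simp only [Sum.elim_inl, Sum.elim_inr, Matrix.zero_mulVec, zero_add, add_zero]
    have h1 : ∀ i : Fin m, (hypDiag m ν *ᵥ (v ∘ Sum.inl)) (Sum.inl i)
        * (hypDiag m ν *ᵥ (v ∘ Sum.inl)) (Sum.inr i)
        = ν * (v (Sum.inl (Sum.inl i)) * v (Sum.inl (Sum.inr i))) := by
      intro i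
      unfold hypDiag
      rw [Matrix.mulVec_diagonal, Matrix.mulVec_diagonal]
      simp only [Sum.elim_inl, Sum.elim_inr, Function.comp_apply]
      ring
    rw [Finset.sum_congr rfl (fun i _ => h1 i), ← Finset.mul_sum]
    have e0 : (normMat a b α β *ᵥ (v ∘ Sum.inr)) 0
        = α * v (Sum.inr 0) + -(b * β) * v (Sum.inr 1) := by
      unfold normMat
      simp [Matrix.mulVec, dotProduct, Fin.sum_univ_two]
    have e1 : (normMat a b α β *ᵥ (v ∘ Sum.inr)) 1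
        = β * v (Sum.inr 0) + (α + a * β) * v (Sum.inr 1) := by
      unfold normMat
      simp [Matrix.mulVec, dotProduct, Fin.sum_univ_two]
    rw [e0, e1, ← hαβ]
    ring
  have hsim' : ∀ v, (⇑(stdMinus m F a b))
      ((D : Matrix ((Fin m ⊕ Fin m) ⊕ Fin 2) ((Fin m ⊕ Fin m) ⊕ Fin 2) F) *ᵥ v)
      = ((Units.mk0 ν hν0 : Fˣ) : F) * (⇑(stdMinus m F a b)) v := by
    intro v
    rw [Units.val_mk0]
    exact hsim v
  have hmem : D ∈ GO (⇑(stdMinus m F a b)) := ⟨Units.mk0 ν hν0, hsim'⟩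
  refine ⟨⟨D, hmem⟩, ?_⟩
  rw [mult_unique (⇑(stdMinus m F a b)) hu ⟨D, hmem⟩ (Units.mk0 ν hν0) hsim', Units.val_mk0]
  exact hν

end Cfsg.Agent.Lib.Helper19.OrthRefl
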