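-- The hyperbolic form: the standard maximal totally singular subspace, similarities preserving
-- the two classes, and a similarity with non-square multiplier and scalar square.
import Mathlib
import Cfsg.Agent.Lib.Helper19.OrthSimInndiag
import Cfsg.Agent.Lib.Helper19.OrthSimPSC
import Cfsg.Agent.Lib.Helper19.OrthSimStd

set_option autoImplicit false

namespace Cfsg.Agent.Lib.Helper19.OrthRefl

open Matrix QuadraticMap Module Cfsg.Agent.Lib.Helper19.Parity Cfsg.Agent.Lib.Helper19.QuadStd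

variable {F : Type*} [Field F]

/-- The embedding of the first half. -/
def plusEmb (m : ℕ) (F : Type*) [Field F] : (Fin m → F) →ₗ[F] (Fin m ⊕ Fin m → F) where
  toFun c := Sum.elim c 0
  map_add' c c' := by
    funext i
    rcases i with i | i <;> simp
  map_smul' t c := by
    funext i
    rcases i with i | i <;> simp

theorem plusEmb_apply (m : ℕ) (c : Fin m → F) : plusEmb m F c = Sum.elim c 0 := rfl

theorem plusEmb_injective (m : ℕ) : Function.Injective (plusEmb m F) := by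
  intro c c' h
  funext i
  have := congrFun h (Sum.inl i)
  exact this

/-- The standard maximal totally singular subspace. -/
def plusE (m : ℕ) (F : Type*) [Field F] : Submodule F (Fin m ⊕ Fin m → F) :=
  LinearMap.range (plusEmb m F)

theorem plusE_isTS (m : ℕ) : IsTS (stdPlus m F) (plusE m F) := by
  rintro _ ⟨c, rfl⟩
  rw [stdPlus_apply, plusEmb_apply]
  unfold Cfsg.quadFormPlus
  simp

theorem plusE_finrank (m : ℕ) : finrank F (plusE m F) = m := by
  unfold plusE
  rw [LinearMap.finrank_range_of_inj (plusEmb_injective m), Module.finrank_fin_fun]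

theorem hypDiag_mulVec_emb (m : ℕ) (μ : F) (c : Fin m → F) :
    hypDiag m μ *ᵥ (plusEmb m F c) = plusEmb m F (μ • c) := by
  funext i
  unfold hypDiag
  rw [Matrix.mulVec_diagonal, plusEmb_apply, plusEmb_apply]
  rcases i with i | i <;> simp

theorem plusE_map_hypDiag (m : ℕ) (μ : F) (hμ : μ ≠ 0) :
    (plusE m F).map (Matrix.toLin' (hypDiag m μ)) = plusE m F := by
  ext v
  constructor
  · rintro ⟨_, ⟨c, rfl⟩, rfl⟩
    rw [Matrix.toLin'_apply, hypDiag_mulVec_emb]
    exact ⟨_, rfl⟩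
  · rintro ⟨c, rfl⟩
    refine ⟨plusEmb m F (μ⁻¹ • c), ⟨_, rfl⟩, ?_⟩
    rw [Matrix.toLin'_apply, hypDiag_mulVec_emb, smul_smul, mul_inv_cancel₀ hμ, one_smul]

section fin

variable [Fintype F]

/-- A similarity of the hyperbolic form preserves the two classes exactly when its sign is `1`. -/
theorem psc_iff_psi2_plus (h2 : (2 : F) ≠ 0) (m : ℕ) {u : Fin m ⊕ Fin m → F}
    (hu : stdPlus m F u ≠ 0) (hk : Fintype.card (Fin m ⊕ Fin m) = 2 * m)
    (g : ↥(GO (⇑(stdPlus m F)))) :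
    Cfsg.PreservesSingularClasses (⇑(stdPlus m F))
        ((g : Matrix.GeneralLinearGroup (Fin m ⊕ Fin m) F) : Matrix (Fin m ⊕ Fin m) (Fin m ⊕ Fin m) F)
      ↔ psi2 h2 (stdPlus m F) (stdPlus_nondeg m) hu m hk g = 1 := by
  have hQ := stdPlus_nondeg (F := F) m
  have hV : finrank F (Fin m ⊕ Fin m → F) = 2 * m := by
    rw [Module.finrank_fintype_fun_eq_card, hk]
  set μ : F := ((mult (⇑(stdPlus m F)) g : Fˣ) : F) with hμ
  have hμ0 : μ ≠ 0 := Units.ne_zero _
  have hdet : (hypDiag m μ).det ≠ 0 := by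
    rw [hypDiag_det]; exact pow_ne_zero _ hμ0
  set d : Matrix.GeneralLinearGroup (Fin m ⊕ Fin m) F :=
    Matrix.GeneralLinearGroup.mkOfDetNeZero (hypDiag m μ) hdet with hd
  have hdcoe : (d : Matrix (Fin m ⊕ Fin m) (Fin m ⊕ Fin m) F) = hypDiag m μ := rfl
  have hdsim : ∀ v, stdPlus m F ((d : Matrix (Fin m ⊕ Fin m) (Fin m ⊕ Fin m) F) *ᵥ v)
      = μ * stdPlus m F v := by
    intro v
    rw [hdcoe, stdPlus_apply, stdPlus_apply]
    unfold Cfsg.quadFormPlus
    rw [Finset.mul_sum]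
    apply Finset.sum_congr rfl
    intro i _
    unfold hypDiag
    rw [Matrix.mulVec_diagonal, Matrix.mulVec_diagonal]
    simp only [Sum.elim_inl, Sum.elim_inr]
    ring
  rw [psc_iff_det h2 (stdPlus m F) hQ hV (plusE_isTS m) (plusE_finrank m) g.1 d μ
    (mult_spec (⇑(stdPlus m F)) g) hdsim (by rw [hdcoe]; exact plusE_map_hypDiag m μ hμ0),
    psi2_eq_one_iff, delta_apply, hdcoe, hypDiag_det]
  constructor
  · intro h
    apply Units.ext
    rw [Units.val_mul, Units.val_pow_eq_pow_val, Units.val_inv_eq_inv_val, Units.val_one]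
    have h3 : ((Matrix.GeneralLinearGroup.det g.1 : Fˣ) : F)
        = ((g : Matrix.GeneralLinearGroup (Fin m ⊕ Fin m) F) : Matrix (Fin m ⊕ Fin m) (Fin m ⊕ Fin m) F).det := rfl
    rw [h3, h, inv_pow]
    exact mul_inv_cancel₀ (pow_ne_zero _ hμ0)
  · intro h
    have h' := congrArg Units.val h
    rw [Units.val_mul, Units.val_pow_eq_pow_val, Units.val_inv_eq_inv_val, Units.val_one] at h'
    have h3 : ((Matrix.GeneralLinearGroup.det g.1 : Fˣ) : F)
        = ((g : Matrix.GeneralLinearGroup (Fin m ⊕ Fin m) F) : Matrix (Fin m ⊕ Fin m) (Fin m ⊕ Fin m) F).det := rfl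
    rw [h3, inv_pow] at h'
    have := mul_inv_eq_one₀ (pow_ne_zero m hμ0) |>.1 h'
    exact this

/-- The swap similarity. -/
def swapMat (m : ℕ) (ν : F) : Matrix (Fin m ⊕ Fin m) (Fin m ⊕ Fin m) F :=
  Matrix.fromBlocks 0 (ν • (1 : Matrix (Fin m) (Fin m) F)) 1 0

omit [Fintype F] in
theorem swapMat_mul_self (m : ℕ) (ν : F) : swapMat m ν * swapMat m ν = ν • 1 := by
  unfold swapMat
  rw [Matrix.fromBlocks_multiply]
  simp only [Matrix.zero_mul, Matrix.mul_zero, Matrix.mul_one, Matrix.one_mul, zero_add, add_zero]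
  rw [← Matrix.fromBlocks_one, Matrix.fromBlocks_smul]
  simp

omit [Fintype F] in
theorem swapMat_det (m : ℕ) (ν : F) : (swapMat m ν).det = (-ν) ^ m := by
  have h1 : (Matrix.fromBlocks (1 : Matrix (Fin m) (Fin m) F) 1 0 1) * swapMat m ν
      = Matrix.fromBlocks 1 (ν • (1 : Matrix (Fin m) (Fin m) F)) 1 0 := by
    unfold swapMat
    rw [Matrix.fromBlocks_multiply]
    simp
  have h3 := congrArg Matrix.det h1
  rw [Matrix.det_mul, Matrix.det_fromBlocks_zero₂₁, Matrix.det_one, one_mul, one_mul,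
    Matrix.det_fromBlocks_one₁₁] at h3
  rw [h3]
  have : (0 : Matrix (Fin m) (Fin m) F) - 1 * ν • (1 : Matrix (Fin m) (Fin m) F)
      = (-ν) • (1 : Matrix (Fin m) (Fin m) F) := by
    rw [Matrix.one_mul, zero_sub, neg_smul]
  rw [this, Matrix.det_smul, Matrix.det_one, mul_one, Fintype.card_fin]

omit [Fintype F] in
theorem swapMat_sim (m : ℕ) (ν : F) (v : Fin m ⊕ Fin m → F) :
    stdPlus m F (swapMat m ν *ᵥ v) = ν * stdPlus m F v := by
  rw [stdPlus_apply, stdPlus_apply]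
  unfold Cfsg.quadFormPlus swapMat
  rw [Matrix.fromBlocks_mulVec, Finset.mul_sum]
  apply Finset.sum_congr rfl
  intro i _
  simp only [Sum.elim_inl, Sum.elim_inr, Matrix.zero_mulVec, zero_add, add_zero,
    Matrix.one_mulVec, Matrix.smul_mulVec, Pi.smul_apply, Function.comp_apply, smul_eq_mul]
  ring

/-- A similarity with non-square multiplier and scalar square; its sign is `(-1) ^ m`. -/
theorem exists_swap_plus (h2 : (2 : F) ≠ 0) (m : ℕ) {u : Fin m ⊕ Fin m → F}
    (hu : stdPlus m F u ≠ 0) (hk : Fintype.card (Fin m ⊕ Fin m) = 2 * m) :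
    ∃ G₁ : ↥(GO (⇑(stdPlus m F))), ¬ IsSquare ((mult (⇑(stdPlus m F)) G₁ : Fˣ) : F) ∧
      G₁ * G₁ ∈ (autGO (⇑(stdPlus m F))).ker ∧
      (psi2 h2 (stdPlus m F) (stdPlus_nondeg m) hu m hk G₁ = 1 ↔ Even m) := by
  obtain ⟨ν, hν⟩ := FiniteField.exists_nonsquare (ringChar_ne_two h2) (F := F)
  have hν0 : ν ≠ 0 := by
    rintro rfl
    exact hν ⟨0, by ring⟩
  have hdet : (swapMat m ν).det ≠ 0 := by
    rw [swapMat_det]; exact pow_ne_zero _ (neg_ne_zero.2 hν0)
  set D : Matrix.GeneralLinearGroup (Fin m ⊕ Fin m) F :=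
    Matrix.GeneralLinearGroup.mkOfDetNeZero (swapMat m ν) hdet with hD
  have hDcoe : (D : Matrix (Fin m ⊕ Fin m) (Fin m ⊕ Fin m) F) = swapMat m ν := rfl
  have hsim' : ∀ v, (⇑(stdPlus m F)) ((D : Matrix (Fin m ⊕ Fin m) (Fin m ⊕ Fin m) F) *ᵥ v)
      = ((Units.mk0 ν hν0 : Fˣ) : F) * (⇑(stdPlus m F)) v := by
    intro v
    rw [Units.val_mk0, hDcoe]
    exact swapMat_sim m ν v
  have hmem : D ∈ GO (⇑(stdPlus m F)) := ⟨Units.mk0 ν hν0, hsim'⟩
  have hmult : mult (⇑(stdPlus m F)) ⟨D, hmem⟩ = Units.mk0 ν hν0 :=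
    mult_unique (⇑(stdPlus m F)) hu ⟨D, hmem⟩ (Units.mk0 ν hν0) hsim'
  refine ⟨⟨D, hmem⟩, ?_, ?_, ?_⟩
  · rw [hmult, Units.val_mk0]
    exact hν
  · rw [MonoidHom.mem_ker]
    apply autGO_eq_one_of_scalar _ _ ν
    show ((D * D : Matrix.GeneralLinearGroup (Fin m ⊕ Fin m) F) : Matrix (Fin m ⊕ Fin m) (Fin m ⊕ Fin m) F) = _
    rw [Units.val_mul, hDcoe, swapMat_mul_self]
  · rw [psi2_eq_one_iff, delta_apply, hmult]
    have hne : (-1 : F) ≠ 1 := by
      intro h
      apply h2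
      linear_combination -h
    rw [← neg_one_pow_eq_one_iff_even hne]
    have h3 : ((Matrix.GeneralLinearGroup.det D : Fˣ) : F) = (-ν) ^ m := by
      show (D : Matrix (Fin m ⊕ Fin m) (Fin m ⊕ Fin m) F).det = _
      rw [hDcoe, swapMat_det]
    rw [Units.ext_iff, Units.val_mul, Units.val_pow_eq_pow_val, Units.val_inv_eq_inv_val,
      Units.val_mk0, Units.val_one, h3, neg_pow, inv_pow, mul_assoc,
      mul_inv_cancel₀ (pow_ne_zero _ hν0), mul_one]

end fin

end Cfsg.Agent.Lib.Helper19.OrthRefl
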