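-- In a quadratic extension of a finite field of odd order every element of the base field is a
-- square.
import Mathlib

set_option autoImplicit false

namespace Cfsg.Agent.Lib.Helper19.QuadExtSquares

open Module

theorem isSquare_algebraMap {F K : Type*} [Field F] [Fintype F] [Field K] [Algebra F K]
    (h : finrank F K = 2) (hodd : Odd (Fintype.card F)) (x : F) : IsSquare (algebraMap F K x) := by
  classical
  haveI : Module.Finite F K := Module.finite_of_finrank_pos (by rw [h]; norm_num)
  haveI : Finite K := Module.finite_of_finite F
  haveI : Fintype K := Fintype.ofFinite K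
  by_cases hx : x = 0
  · rw [hx, map_zero]
    exact ⟨0, by ring⟩
  have hx' : algebraMap F K x ≠ 0 := by
    intro h0
    apply hx
    exact (map_eq_zero (algebraMap F K)).1 h0
  set q := Fintype.card F with hq
  have hcard : Fintype.card K = q ^ 2 := by
    rw [Fintype.card_eq_nat_card, Module.natCard_eq_pow_finrank (K := F) (V := K), h,
      ← Fintype.card_eq_nat_card]
  have h2F : (2 : F) ≠ 0 := by
    intro h2
    have hchar : ringChar F = 2 := by
      apply CharP.ringChar_of_prime_eq_zero Nat.prime_two
      exact_mod_cast h2
    have := FiniteField.even_card_of_char_two hchar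
    exact (Nat.not_even_iff_odd.2 hodd) (Nat.even_iff.2 this)
  have h2K : ringChar K ≠ 2 := by
    intro hchar
    have h2 : (2 : K) = 0 := by
      have := ringChar.Nat.cast_ringChar (R := K)
      rw [hchar] at this
      exact_mod_cast this
    apply h2F
    have : algebraMap F K 2 = 0 := by rw [map_ofNat]; exact h2
    exact (map_eq_zero (algebraMap F K)).1 this
  rw [FiniteField.isSquare_iff h2K hx', hcard]
  obtain ⟨r, hr⟩ := hodd
  have hq1 : 1 ≤ q := by omega
  have e : q ^ 2 / 2 = (q - 1) * (r + 1) := by
    have : q ^ 2 = 2 * ((q - 1) * (r + 1)) + 1 := by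
      have hq' : q - 1 = 2 * r := by omega
      rw [hq', hr]
      ring
    omega
  rw [e, pow_mul, ← map_pow, FiniteField.pow_card_sub_one_eq_one x hx, map_one, one_pow]

end Cfsg.Agent.Lib.Helper19.QuadExtSquares
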