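-- The elliptic form: base change to a quadratic extension, similarities preserving the two
-- classes there, and a similarity with non-square multiplier and scalar square.
import Mathlib
import Cfsg.Agent.Lib.Helper19.OrthSimInndiag
import Cfsg.Agent.Lib.Helper19.OrthSimPSC
import Cfsg.Agent.Lib.Helper19.OrthSimStd
import Cfsg.Agent.Lib.Helper19.OrthSimPlus
import Cfsg.Agent.Lib.Helper19.OrthSimBaseChange
import Cfsg.Agent.Lib.Helper19.QuadExtSquares

set_option autoImplicit false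

namespace Cfsg.Agent.Lib.Helper19.OrthRefl

open Matrix QuadraticMap Module Cfsg.Agent.Lib.Helper19.Parity Cfsg.Agent.Lib.Helper19.QuadStd

universe u

variable {K : Type*} [Field K]

/-- The matrix of the elliptic form. -/
def minusMat (m : ℕ) (a c : K) :
    Matrix ((Fin m ⊕ Fin m) ⊕ Fin 2) ((Fin m ⊕ Fin m) ⊕ Fin 2) K :=
  Matrix.fromBlocks (Matrix.fromBlocks 0 (1 : Matrix (Fin m) (Fin m) K) 0 0) 0 0 !![1, a; 0, c]

theorem stdMinus_eq_dot (m : ℕ) (a c : K) (v : (Fin m ⊕ Fin m) ⊕ Fin 2 → K) :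
    stdMinus m K a c v = v ⬝ᵥ (minusMat m a c *ᵥ v) := by
  unfold stdMinus
  rw [LinearMap.BilinMap.toQuadraticMap_apply, Matrix.toBilin'_apply']
  rfl

theorem minusMat_map {F : Type*} [Field F] (f : F →+* K) (m : ℕ) (a c : F) :
    (minusMat m a c).map f = minusMat m (f a) (f c) := by
  unfold minusMat
  rw [Matrix.fromBlocks_map, Matrix.fromBlocks_map]
  congr 1
  · congr 1 <;> simp
  · simp
  · simp
  · ext i j
    fin_cases i <;> fin_cases j <;> simp

/-- Non-degeneracy of the elliptic form from its discriminant. -/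
theorem stdMinus_nondeg_of_disc (m : ℕ) {a c : K} (hdisc : 4 * c - a * a ≠ 0) :
    (polarBilin (stdMinus m K a c)).Nondegenerate := by
  classical
  apply nondegenerate_of_sep
  intro v hv
  have h1 : 2 * v (Sum.inr 0) + a * v (Sum.inr 1) = 0 := by
    have := hv (Pi.single (Sum.inr 0) 1)
    rw [polar_stdMinus] at this
    simpa [Pi.single_apply] using this
  have h2 : a * v (Sum.inr 0) + 2 * c * v (Sum.inr 1) = 0 := by
    have := hv (Pi.single (Sum.inr 1) 1)
    rw [polar_stdMinus] at this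
    simpa [Pi.single_apply] using this
  have hy : v (Sum.inr 1) = 0 := by
    have : (4 * c - a * a) * v (Sum.inr 1) = 0 := by linear_combination 2 * h2 - a * h1
    exact (mul_eq_zero.1 this).resolve_left hdisc
  have hx : v (Sum.inr 0) = 0 := by
    have : (4 * c - a * a) * v (Sum.inr 0) = 0 := by linear_combination 2 * c * h1 - a * h2
    exact (mul_eq_zero.1 this).resolve_left hdisc
  funext s
  rcases s with (i | i) | i
  · have := hv (Pi.single (Sum.inl (Sum.inr i)) 1)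
    rw [polar_stdMinus] at this
    simpa [Pi.single_apply] using this
  · have := hv (Pi.single (Sum.inl (Sum.inl i)) 1)
    rw [polar_stdMinus] at this
    simpa [Pi.single_apply] using this
  · fin_cases i
    · exact hx
    · exact hy

/-- The embedding of a maximal totally singular subspace, given a root of the binary form. -/
def minusEmb (m : ℕ) (ρ : K) : (Fin m ⊕ Unit → K) →ₗ[K] ((Fin m ⊕ Fin m) ⊕ Fin 2 → K) where
  toFun c := Sum.elim (Sum.elim (fun i => c (Sum.inl i)) 0)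
    ![ρ * c (Sum.inr ()), c (Sum.inr ())]
  map_add' c c' := by
    funext i
    rcases i with (i | i) | i
    · simp
    · simp
    · fin_cases i <;> simp [mul_add]
  map_smul' t c := by
    funext i
    rcases i with (i | i) | i
    · simp
    · simp
    · fin_cases i <;> simp [mul_left_comm]

theorem minusEmb_apply (m : ℕ) (ρ : K) (c : Fin m ⊕ Unit → K) :
    minusEmb m ρ c = Sum.elim (Sum.elim (fun i => c (Sum.inl i)) 0)
      ![ρ * c (Sum.inr ()), c (Sum.inr ())] := rfl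

theorem minusEmb_injective (m : ℕ) (ρ : K) : Function.Injective (minusEmb m ρ) := by
  intro c c' h
  funext i
  rcases i with i | i
  · exact congrFun h (Sum.inl (Sum.inl i))
  · have := congrFun h (Sum.inr 1)
    rw [minusEmb_apply, minusEmb_apply] at this
    simpa using this

/-- The maximal totally singular subspace. -/
def minusE (m : ℕ) (ρ : K) : Submodule K ((Fin m ⊕ Fin m) ⊕ Fin 2 → K) :=
  LinearMap.range (minusEmb m ρ)

theorem minusE_isTS (m : ℕ) {a c ρ : K} (hρ : ρ * ρ + a * ρ + c = 0) :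
    IsTS (stdMinus m K a c) (minusE m ρ) := by
  rintro _ ⟨x, rfl⟩
  rw [stdMinus_apply, minusEmb_apply]
  unfold Cfsg.quadFormMinus
  simp only [Sum.elim_inl, Sum.elim_inr, Pi.zero_apply, mul_zero, Finset.sum_const_zero, zero_add,
    Matrix.cons_val_zero, Matrix.cons_val_one]
  linear_combination (x (Sum.inr ())) ^ 2 * hρ

theorem minusE_finrank (m : ℕ) (ρ : K) : finrank K (minusE m ρ) = m + 1 := by
  unfold minusE
  rw [LinearMap.finrank_range_of_inj (minusEmb_injective m ρ), Module.finrank_fintype_fun_eq_card,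
    Fintype.card_sum, Fintype.card_fin, Fintype.card_unit]

theorem minusE_map_scalar (m : ℕ) (ρ : K) (c : K) (hc : c ≠ 0) :
    (minusE m ρ).map (Matrix.toLin' (c • (1 : Matrix ((Fin m ⊕ Fin m) ⊕ Fin 2)
      ((Fin m ⊕ Fin m) ⊕ Fin 2) K))) = minusE m ρ := by
  ext v
  constructor
  · rintro ⟨w, hw, rfl⟩
    rw [Matrix.toLin'_apply, Matrix.smul_mulVec, Matrix.one_mulVec]
    exact Submodule.smul_mem _ _ hw
  · intro hv
    refine ⟨c⁻¹ • v, Submodule.smul_mem _ _ hv, ?_⟩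
    rw [Matrix.toLin'_apply, Matrix.smul_mulVec, Matrix.one_mulVec, smul_smul,
      mul_inv_cancel₀ hc, one_smul]

section key

variable {F : Type u} [Field F] [Fintype F]

theorem disc_ne_zero (h2 : (2 : F) ≠ 0) {a b : F}
    (hab : ∀ z₁ z₂ : F, z₁ ^ 2 + a * z₁ * z₂ + b * z₂ ^ 2 = 0 → z₁ = 0 ∧ z₂ = 0) :
    4 * b - a * a ≠ 0 := by
  intro h
  have := (hab (-a) 2 (by linear_combination h)).2
  exact h2 this

/-- Over any quadratic extension, the base change of a similarity preserves the two classes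
exactly when its sign is `1`. -/
theorem psc_map_iff_psi2 (h2 : (2 : F) ≠ 0) (hodd : Odd (Fintype.card F)) (m : ℕ) (a b : F)
    (hab : ∀ z₁ z₂ : F, z₁ ^ 2 + a * z₁ * z₂ + b * z₂ ^ 2 = 0 → z₁ = 0 ∧ z₂ = 0)
    {u : (Fin m ⊕ Fin m) ⊕ Fin 2 → F} (hu : stdMinus m F a b u ≠ 0)
    (hk : Fintype.card ((Fin m ⊕ Fin m) ⊕ Fin 2) = 2 * (m + 1))
    (g : ↥(GO (⇑(stdMinus m F a b))))
    (K : Type u) [Field K] [Algebra F K] (hfr : finrank F K = 2) :
    Cfsg.PreservesSingularClasses (Cfsg.quadFormMinus m K (algebraMap F K a) (algebraMap F K b))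
        (((g : Matrix.GeneralLinearGroup ((Fin m ⊕ Fin m) ⊕ Fin 2) F) :
          Matrix ((Fin m ⊕ Fin m) ⊕ Fin 2) ((Fin m ⊕ Fin m) ⊕ Fin 2) F).map (algebraMap F K))
      ↔ psi2 h2 (stdMinus m F a b) (stdMinus_nondeg m hab) hu (m + 1) hk g = 1 := by
  classical
  set f : F →+* K := algebraMap F K with hf
  have hfinj : Function.Injective f := (algebraMap F K).injective
  have h2K : (2 : K) ≠ 0 := by
    intro h
    apply h2
    apply hfinj
    rw [map_ofNat, map_zero]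
    exact h
  -- the form over `K`
  have hdiscK : 4 * f b - f a * f a ≠ 0 := by
    have := disc_ne_zero h2 hab
    intro h
    apply this
    apply hfinj
    rw [map_sub, map_mul, map_mul, map_ofNat, map_zero]
    exact h
  have hQK := stdMinus_nondeg_of_disc m hdiscK
  have hV : finrank K ((Fin m ⊕ Fin m) ⊕ Fin 2 → K) = 2 * (m + 1) := by
    rw [Module.finrank_fintype_fun_eq_card, hk]
  -- a root of the binary form
  obtain ⟨s, hs⟩ := Cfsg.Agent.Lib.Helper19.QuadExtSquares.isSquare_algebraMap hfr hodd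
    (a * a - 4 * b)
  set ρ : K := (-(f a) + s) / 2 with hρdef
  have hρ : ρ * ρ + f a * ρ + f b = 0 := by
    have hs' : s * s = f a * f a - 4 * f b := by
      rw [← hs, map_sub, map_mul, map_mul, map_ofNat]
    rw [hρdef]
    field_simp
    linear_combination hs'
  have hE := minusE_isTS m hρ
  have hEn := minusE_finrank m ρ
  -- the multiplier is a square
  set μ : F := ((mult (⇑(stdMinus m F a b)) g : Fˣ) : F) with hμ
  have hμ0 : μ ≠ 0 := Units.ne_zero _
  obtain ⟨c, hc⟩ := Cfsg.Agent.Lib.Helper19.QuadExtSquares.isSquare_algebraMap hfr hodd μ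
  have hc0 : c ≠ 0 := by
    rintro rfl
    rw [mul_zero] at hc
    exact hμ0 ((map_eq_zero f).1 hc)
  -- the base change of `g`
  set G : Matrix ((Fin m ⊕ Fin m) ⊕ Fin 2) ((Fin m ⊕ Fin m) ⊕ Fin 2) F :=
    ((g : Matrix.GeneralLinearGroup ((Fin m ⊕ Fin m) ⊕ Fin 2) F) :
      Matrix ((Fin m ⊕ Fin m) ⊕ Fin 2) ((Fin m ⊕ Fin m) ⊕ Fin 2) F) with hG
  have hdetG : G.det ≠ 0 := by
    have := (Matrix.isUnit_iff_isUnit_det _).1 (g.1).isUnit
    exact this.ne_zero
  have hdetmap : (G.map f).det = f G.det := by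
    have : G.map f = f.mapMatrix G := rfl
    rw [this, ← RingHom.map_det]
  have hdetGK : (G.map f).det ≠ 0 := by
    rw [hdetmap]
    intro h
    exact hdetG ((map_eq_zero f).1 h)
  set gK : Matrix.GeneralLinearGroup ((Fin m ⊕ Fin m) ⊕ Fin 2) K :=
    Matrix.GeneralLinearGroup.mkOfDetNeZero (G.map f) hdetGK with hgK
  have hgKcoe : (gK : Matrix ((Fin m ⊕ Fin m) ⊕ Fin 2) ((Fin m ⊕ Fin m) ⊕ Fin 2) K)
      = G.map f := rfl
  have hgsim : ∀ w, stdMinus m K (f a) (f b)
      ((gK : Matrix ((Fin m ⊕ Fin m) ⊕ Fin 2) ((Fin m ⊕ Fin m) ⊕ Fin 2) K) *ᵥ w)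
      = f μ * stdMinus m K (f a) (f b) w := by
    intro w
    rw [hgKcoe, stdMinus_eq_dot, stdMinus_eq_dot, ← minusMat_map f m a b]
    apply Cfsg.Agent.Lib.Helper19.BaseChange.sim_map f h2K
    intro v
    rw [← stdMinus_eq_dot, ← stdMinus_eq_dot]
    exact mult_spec (⇑(stdMinus m F a b)) g v
  -- the scalar
  set d : Matrix.GeneralLinearGroup ((Fin m ⊕ Fin m) ⊕ Fin 2) K := scal (Units.mk0 c hc0) with hd
  have hdcoe : (d : Matrix ((Fin m ⊕ Fin m) ⊕ Fin 2) ((Fin m ⊕ Fin m) ⊕ Fin 2) K)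
      = c • 1 := rfl
  have hdsim : ∀ w, stdMinus m K (f a) (f b)
      ((d : Matrix ((Fin m ⊕ Fin m) ⊕ Fin 2) ((Fin m ⊕ Fin m) ⊕ Fin 2) K) *ᵥ w)
      = f μ * stdMinus m K (f a) (f b) w := by
    intro w
    rw [hdcoe, Matrix.smul_mulVec, Matrix.one_mulVec, QuadraticMap.map_smul, smul_eq_mul, hc]
  have hpsc := psc_iff_det h2K (stdMinus m K (f a) (f b)) hQK hV hE hEn gK d (f μ) hgsim hdsim
    (by rw [hdcoe]; exact minusE_map_scalar m ρ c hc0)
  rw [coe_stdMinus, hgKcoe] at hpsc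
  rw [hpsc, hdcoe, Matrix.det_smul, Matrix.det_one, mul_one, hk, hdetmap, pow_mul]
  have hcc : c ^ 2 = f μ := by rw [pow_two]; exact hc.symm
  rw [hcc, ← map_pow, hfinj.eq_iff, psi2_eq_one_iff, delta_apply]
  have h3 : ((Matrix.GeneralLinearGroup.det g.1 : Fˣ) : F) = G.det := rfl
  constructor
  · intro h
    apply Units.ext
    rw [Units.val_mul, Units.val_pow_eq_pow_val, Units.val_inv_eq_inv_val, Units.val_one, h3, h,
      inv_pow]
    exact mul_inv_cancel₀ (pow_ne_zero _ hμ0)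
  · intro h
    have h' := congrArg Units.val h
    rw [Units.val_mul, Units.val_pow_eq_pow_val, Units.val_inv_eq_inv_val, Units.val_one, h3,
      inv_pow] at h'
    exact mul_inv_eq_one₀ (pow_ne_zero (m + 1) hμ0) |>.1 h'

/-- A quadratic extension exists. -/
theorem exists_quadratic_ext {a b : F}
    (hab : ∀ z₁ z₂ : F, z₁ ^ 2 + a * z₁ * z₂ + b * z₂ ^ 2 = 0 → z₁ = 0 ∧ z₂ = 0) :
    ∃ (K : Type u) (_ : Field K) (_ : Algebra F K), finrank F K = 2 := by
  classical
  have hnoroot : ∀ x : F, x ^ 2 + a * x + b ≠ 0 := by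
    intro x hx
    have := (hab x 1 (by linear_combination hx)).2
    exact one_ne_zero this
  let g : Polynomial F := Polynomial.X ^ 2 + Polynomial.C a * Polynomial.X + Polynomial.C b
  have hgdeg : g.natDegree = 2 := by
    unfold g
    compute_degree!
  have hgmonic : g.Monic := by
    unfold g
    monicity!
  have hirr : Irreducible g := by
    apply Polynomial.irreducible_of_degree_le_three_of_not_isRoot
    · rw [hgdeg]
      simp
    · intro x hx
      apply hnoroot x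
      have : g.eval x = 0 := hx
      simpa [g] using this
  haveI : Fact (Irreducible g) := ⟨hirr⟩
  refine ⟨AdjoinRoot g, inferInstance, inferInstance, ?_⟩
  rw [(AdjoinRoot.powerBasis' hgmonic).finrank, AdjoinRoot.powerBasis'_dim, hgdeg]

/-- A similarity of the elliptic form preserves the two classes over a quadratic extension
exactly when its sign is `1`. -/
theorem pscm_iff_psi2 (h2 : (2 : F) ≠ 0) (hodd : Odd (Fintype.card F)) (m : ℕ) (a b : F)
    (hab : ∀ z₁ z₂ : F, z₁ ^ 2 + a * z₁ * z₂ + b * z₂ ^ 2 = 0 → z₁ = 0 ∧ z₂ = 0)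
    {u : (Fin m ⊕ Fin m) ⊕ Fin 2 → F} (hu : stdMinus m F a b u ≠ 0)
    (hk : Fintype.card ((Fin m ⊕ Fin m) ⊕ Fin 2) = 2 * (m + 1))
    (g : ↥(GO (⇑(stdMinus m F a b)))) :
    Cfsg.PreservesSingularClassesMinus m a b
        ((g : Matrix.GeneralLinearGroup ((Fin m ⊕ Fin m) ⊕ Fin 2) F) :
          Matrix ((Fin m ⊕ Fin m) ⊕ Fin 2) ((Fin m ⊕ Fin m) ⊕ Fin 2) F)
      ↔ psi2 h2 (stdMinus m F a b) (stdMinus_nondeg m hab) hu (m + 1) hk g = 1 := by
  constructor
  · rintro ⟨K, hK, hA, hfr, hpsc⟩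
    exact (psc_map_iff_psi2 h2 hodd m a b hab hu hk g K hfr).1 hpsc
  · intro h
    obtain ⟨K, hK, hA, hfr⟩ := exists_quadratic_ext hab
    exact ⟨K, hK, hA, hfr, (psc_map_iff_psi2 h2 hodd m a b hab hu hk g K hfr).2 h⟩

/-- The anisotropic part of the swap similarity. -/
def swapBin (a b α β : F) : Matrix (Fin 2) (Fin 2) F := !![α, a * α + b * β; β, -α]

/-- The swap similarity of the elliptic form. -/
def swapMatMinus (m : ℕ) (ν a b α β : F) :
    Matrix ((Fin m ⊕ Fin m) ⊕ Fin 2) ((Fin m ⊕ Fin m) ⊕ Fin 2) F :=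
  Matrix.fromBlocks (swapMat m ν) 0 0 (swapBin a b α β)

omit [Fintype F] in
theorem swapBin_mul_self (a b α β ν : F) (h : α ^ 2 + a * α * β + b * β ^ 2 = ν) :
    swapBin a b α β * swapBin a b α β = ν • 1 := by
  unfold swapBin
  ext i j
  fin_cases i <;> fin_cases j <;> simp [Matrix.mul_apply, Fin.sum_univ_two] <;>
    first | linear_combination h | ring

omit [Fintype F] in
theorem swapBin_det (a b α β ν : F) (h : α ^ 2 + a * α * β + b * β ^ 2 = ν) :
    (swapBin a b α β).det = -ν := by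
  unfold swapBin
  rw [Matrix.det_fin_two_of]
  linear_combination -h

omit [Fintype F] in
theorem swapMatMinus_mul_self (m : ℕ) (a b α β ν : F)
    (h : α ^ 2 + a * α * β + b * β ^ 2 = ν) :
    swapMatMinus m ν a b α β * swapMatMinus m ν a b α β = ν • 1 := by
  unfold swapMatMinus
  rw [Matrix.fromBlocks_multiply]
  simp only [Matrix.zero_mul, Matrix.mul_zero, add_zero, zero_add]
  rw [swapMat_mul_self, swapBin_mul_self a b α β ν h]
  have e : (1 : Matrix ((Fin m ⊕ Fin m) ⊕ Fin 2) ((Fin m ⊕ Fin m) ⊕ Fin 2) F)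
      = Matrix.fromBlocks 1 0 0 1 := Matrix.fromBlocks_one.symm
  rw [e, Matrix.fromBlocks_smul]
  simp only [smul_zero]

omit [Fintype F] in
theorem swapMatMinus_det (m : ℕ) (a b α β ν : F)
    (h : α ^ 2 + a * α * β + b * β ^ 2 = ν) :
    (swapMatMinus m ν a b α β).det = (-ν) ^ (m + 1) := by
  unfold swapMatMinus
  rw [Matrix.det_fromBlocks_zero₂₁, swapMat_det, swapBin_det a b α β ν h, pow_succ]

omit [Fintype F] in
theorem swapMatMinus_sim (m : ℕ) (a b α β ν : F)
    (h : α ^ 2 + a * α * β + b * β ^ 2 = ν) (v : (Fin m ⊕ Fin m) ⊕ Fin 2 → F) :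
    stdMinus m F a b (swapMatMinus m ν a b α β *ᵥ v) = ν * stdMinus m F a b v := by
  rw [stdMinus_apply, stdMinus_apply]
  unfold Cfsg.quadFormMinus swapMatMinus
  rw [Matrix.fromBlocks_mulVec]
  simp only [Sum.elim_inl, Sum.elim_inr, Matrix.zero_mulVec, zero_add, add_zero]
  have h1 : ∀ i : Fin m, (swapMat m ν *ᵥ (v ∘ Sum.inl)) (Sum.inl i)
      * (swapMat m ν *ᵥ (v ∘ Sum.inl)) (Sum.inr i)
      = ν * (v (Sum.inl (Sum.inl i)) * v (Sum.inl (Sum.inr i))) := by
    intro i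
    unfold swapMat
    rw [Matrix.fromBlocks_mulVec]
    simp only [Sum.elim_inl, Sum.elim_inr, Matrix.zero_mulVec, zero_add, add_zero,
      Matrix.one_mulVec, Matrix.smul_mulVec, Pi.smul_apply, Function.comp_apply, smul_eq_mul]
    ring
  rw [Finset.sum_congr rfl (fun i _ => h1 i), ← Finset.mul_sum]
  have e0 : (swapBin a b α β *ᵥ (v ∘ Sum.inr)) 0
      = α * v (Sum.inr 0) + (a * α + b * β) * v (Sum.inr 1) := by
    unfold swapBin
    simp [Matrix.mulVec, dotProduct, Fin.sum_univ_two]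
  have e1 : (swapBin a b α β *ᵥ (v ∘ Sum.inr)) 1
      = β * v (Sum.inr 0) + (-α) * v (Sum.inr 1) := by
    unfold swapBin
    simp [Matrix.mulVec, dotProduct, Fin.sum_univ_two]
  rw [e0, e1, ← h]
  ring

/-- A similarity of the elliptic form with non-square multiplier and scalar square; its sign is
`(-1) ^ (m + 1)`. -/
theorem exists_swap_minus (h2 : (2 : F) ≠ 0) (m : ℕ) (a b : F)
    (hab : ∀ z₁ z₂ : F, z₁ ^ 2 + a * z₁ * z₂ + b * z₂ ^ 2 = 0 → z₁ = 0 ∧ z₂ = 0)
    {u : (Fin m ⊕ Fin m) ⊕ Fin 2 → F} (hu : stdMinus m F a b u ≠ 0)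
    (hk : Fintype.card ((Fin m ⊕ Fin m) ⊕ Fin 2) = 2 * (m + 1)) :
    ∃ G₁ : ↥(GO (⇑(stdMinus m F a b))),
      ¬ IsSquare ((mult (⇑(stdMinus m F a b)) G₁ : Fˣ) : F) ∧
      G₁ * G₁ ∈ (autGO (⇑(stdMinus m F a b))).ker ∧
      (psi2 h2 (stdMinus m F a b) (stdMinus_nondeg m hab) hu (m + 1) hk G₁ = 1 ↔ Even (m + 1)) := by
  obtain ⟨ν, hν⟩ := FiniteField.exists_nonsquare (ringChar_ne_two h2) (F := F)
  have hν0 : ν ≠ 0 := by
    rintro rfl
    exact hν ⟨0, by ring⟩
  obtain ⟨α, β, hαβ⟩ : ∃ α β : F, α ^ 2 + a * α * β + b * β ^ 2 = ν := by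
    obtain ⟨α, β, γ, hne, hzero⟩ :=
      Cfsg.Agent.Lib.Helper19.QuadWitt.ternary_zero (1 : F) b (-ν) a 0 0
    have hγ : γ ≠ 0 := by
      intro hγ0
      rw [hγ0] at hzero
      have := hab α β (by linear_combination hzero)
      exact hne ⟨this.1, this.2, hγ0⟩
    refine ⟨α / γ, β / γ, ?_⟩
    field_simp
    linear_combination hzero
  have hdet : (swapMatMinus m ν a b α β).det ≠ 0 := by
    rw [swapMatMinus_det m a b α β ν hαβ]; exact pow_ne_zero _ (neg_ne_zero.2 hν0)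
  set D : Matrix.GeneralLinearGroup ((Fin m ⊕ Fin m) ⊕ Fin 2) F :=
    Matrix.GeneralLinearGroup.mkOfDetNeZero (swapMatMinus m ν a b α β) hdet with hD
  have hDcoe : (D : Matrix ((Fin m ⊕ Fin m) ⊕ Fin 2) ((Fin m ⊕ Fin m) ⊕ Fin 2) F)
      = swapMatMinus m ν a b α β := rfl
  have hsim' : ∀ v, (⇑(stdMinus m F a b))
      ((D : Matrix ((Fin m ⊕ Fin m) ⊕ Fin 2) ((Fin m ⊕ Fin m) ⊕ Fin 2) F) *ᵥ v)
      = ((Units.mk0 ν hν0 : Fˣ) : F) * (⇑(stdMinus m F a b)) v := by
    intro v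
    rw [Units.val_mk0, hDcoe]
    exact swapMatMinus_sim m a b α β ν hαβ v
  have hmem : D ∈ GO (⇑(stdMinus m F a b)) := ⟨Units.mk0 ν hν0, hsim'⟩
  have hmult : mult (⇑(stdMinus m F a b)) ⟨D, hmem⟩ = Units.mk0 ν hν0 :=
    mult_unique (⇑(stdMinus m F a b)) hu ⟨D, hmem⟩ (Units.mk0 ν hν0) hsim'
  refine ⟨⟨D, hmem⟩, ?_, ?_, ?_⟩
  · rw [hmult, Units.val_mk0]
    exact hν
  · rw [MonoidHom.mem_ker]
    apply autGO_eq_one_of_scalar _ _ ν
    show ((D * D : Matrix.GeneralLinearGroup ((Fin m ⊕ Fin m) ⊕ Fin 2) F) :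
      Matrix ((Fin m ⊕ Fin m) ⊕ Fin 2) ((Fin m ⊕ Fin m) ⊕ Fin 2) F) = _
    rw [Units.val_mul, hDcoe, swapMatMinus_mul_self m a b α β ν hαβ]
  · rw [psi2_eq_one_iff, delta_apply, hmult]
    have hne : (-1 : F) ≠ 1 := by
      intro h
      apply h2
      linear_combination -h
    rw [← neg_one_pow_eq_one_iff_even hne]
    have h3 : ((Matrix.GeneralLinearGroup.det D : Fˣ) : F) = (-ν) ^ (m + 1) := by
      show (D : Matrix ((Fin m ⊕ Fin m) ⊕ Fin 2) ((Fin m ⊕ Fin m) ⊕ Fin 2) F).det = _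
      rw [hDcoe, swapMatMinus_det m a b α β ν hαβ]
    rw [Units.ext_iff, Units.val_mul, Units.val_pow_eq_pow_val, Units.val_inv_eq_inv_val,
      Units.val_mk0, Units.val_one, h3, neg_pow, inv_pow, mul_assoc,
      mul_inv_cancel₀ (pow_ne_zero _ hν0), mul_one]

end key

end Cfsg.Agent.Lib.Helper19.OrthRefl
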