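-- A universality statement over a quadratic extension, written in coordinates over the base field.
import Mathlib
import Cfsg.Agent.Lib.Helper19.QuadExtSquares
import Cfsg.Agent.Lib.Helper19.OrthSimMinus

set_option autoImplicit false

namespace Cfsg.Agent.Lib.Helper19.QuadExtUniv

open Module

universe u

variable {F : Type u} [Field F] [Fintype F]

/-- For a non-square `μ` and two non-zero pairs `(s₁, t₁)`, `(s₂, t₂)`, the pair of quaternary
forms coming from `α κ₁² + β κ₂²` over the quadratic extension takes the value `(0, 1)`. -/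
theorem exists_coords (hodd : Odd (Fintype.card F)) (μ : F) (hμ : ¬ IsSquare μ)
    (s₁ t₁ s₂ t₂ : F) (h1 : s₁ ≠ 0 ∨ t₁ ≠ 0) (h3 : s₂ ≠ 0 ∨ t₂ ≠ 0) :
    ∃ a b c d : F,
      (t₁ * (a ^ 2 + μ * b ^ 2) + 4 * μ * s₁ * (a * b))
        + (t₂ * (c ^ 2 + μ * d ^ 2) + 4 * μ * s₂ * (c * d)) = 0 ∧
      2 * ((s₁ * (a ^ 2 + μ * b ^ 2) + t₁ * (a * b))
        + (s₂ * (c ^ 2 + μ * d ^ 2) + t₂ * (c * d))) = 1 := by
  classical
  have hab : ∀ z₁ z₂ : F, z₁ ^ 2 + 0 * z₁ * z₂ + (-μ) * z₂ ^ 2 = 0 → z₁ = 0 ∧ z₂ = 0 := by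
    intro z₁ z₂ h
    by_cases hz : z₂ = 0
    · rw [hz] at h
      have : z₁ ^ 2 = 0 := by linear_combination h
      exact ⟨pow_eq_zero_iff (two_ne_zero) |>.1 this, hz⟩
    · exfalso
      apply hμ
      refine ⟨z₁ / z₂, ?_⟩
      field_simp
      linear_combination -h
  obtain ⟨K, _, _, hfr⟩ := Cfsg.Agent.Lib.Helper19.OrthRefl.exists_quadratic_ext hab
  haveI : Module.Finite F K := Module.finite_of_finrank_pos (by rw [hfr]; norm_num)
  haveI : Finite K := Module.finite_of_finite F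
  haveI : Fintype K := Fintype.ofFinite K
  set f := algebraMap F K with hf
  obtain ⟨ω, hω⟩ := Cfsg.Agent.Lib.Helper19.QuadExtSquares.isSquare_algebraMap hfr hodd μ
  have hω2 : ω * ω = f μ := hω.symm
  -- independence of `1` and `ω`
  have hind : ∀ x y : F, f x + f y * ω = 0 → x = 0 ∧ y = 0 := by
    intro x y h
    by_cases hy : y = 0
    · rw [hy, map_zero, zero_mul, add_zero] at h
      exact ⟨(map_eq_zero f).1 h, hy⟩
    · exfalso
      apply hμ
      have hfy : f y ≠ 0 := fun h0 => hy ((map_eq_zero f).1 h0)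
      have hω' : ω = f (-x / y) := by
        rw [map_div₀, map_neg]
        field_simp
        linear_combination h
      refine ⟨-x / y, ?_⟩
      apply (algebraMap F K).injective
      rw [← hω2, hω', ← map_mul]
  -- decomposition
  have hli : LinearIndependent F ![(1 : K), ω] := by
    rw [LinearIndependent.pair_iff]
    intro s t h
    have : f s + f t * ω = 0 := by
      rw [Algebra.smul_def, Algebra.smul_def, mul_one] at h
      exact h
    exact hind s t this
  have hspan : Submodule.span F (Set.range ![(1 : K), ω]) = ⊤ := by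
    apply hli.span_eq_top_of_card_eq_finrank'
    rw [Fintype.card_fin, hfr]
  have hdec : ∀ κ : K, ∃ a b : F, κ = f a + f b * ω := by
    intro κ
    have hmem : κ ∈ Submodule.span F (Set.range ![(1 : K), ω]) := by rw [hspan]; trivial
    obtain ⟨cf, hcf⟩ := (Submodule.mem_span_range_iff_exists_fun F).1 hmem
    refine ⟨cf 0, cf 1, ?_⟩
    rw [← hcf, Fin.sum_univ_two]
    simp only [Matrix.cons_val_zero, Matrix.cons_val_one]
    rw [Algebra.smul_def, Algebra.smul_def, mul_one]
  -- the two coefficients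
  set α : K := f t₁ + f (2 * s₁) * ω with hα
  set β : K := f t₂ + f (2 * s₂) * ω with hβ
  have h2F : (2 : F) ≠ 0 := by
    intro h2
    have hchar : ringChar F = 2 := by
      apply CharP.ringChar_of_prime_eq_zero Nat.prime_two
      exact_mod_cast h2
    have := FiniteField.even_card_of_char_two hchar
    exact (Nat.not_even_iff_odd.2 hodd) (Nat.even_iff.2 this)
  have hα0 : α ≠ 0 := by
    intro h
    obtain ⟨e1, e2⟩ := hind _ _ h
    rcases h1 with h' | h'
    · exact h' ((mul_eq_zero.1 e2).resolve_left h2F)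
    · exact h' e1
  have hβ0 : β ≠ 0 := by
    intro h
    obtain ⟨e1, e2⟩ := hind _ _ h
    rcases h3 with h' | h'
    · exact h' ((mul_eq_zero.1 e2).resolve_left h2F)
    · exact h' e1
  have hcardK : Fintype.card K % 2 = 1 := by
    have hcard : Fintype.card K = Fintype.card F ^ 2 := by
      rw [Fintype.card_eq_nat_card, Module.natCard_eq_pow_finrank (K := F) (V := K), hfr,
        ← Fintype.card_eq_nat_card]
    rw [hcard]
    exact Nat.odd_iff.1 (hodd.pow)
  have hf2 : (Polynomial.C α * Polynomial.X ^ 2).degree = 2 :=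
    Polynomial.degree_C_mul_X_pow 2 hα0
  have hg2 : (Polynomial.C β * Polynomial.X ^ 2 - Polynomial.C ω).degree = 2 := by
    rw [Polynomial.degree_sub_C]
    · exact Polynomial.degree_C_mul_X_pow 2 hβ0
    · rw [Polynomial.degree_C_mul_X_pow 2 hβ0]; norm_num
  obtain ⟨κ₁, κ₂, hκ⟩ := FiniteField.exists_root_sum_quadratic hf2 hg2 hcardK
  simp only [Polynomial.eval_mul, Polynomial.eval_C, Polynomial.eval_pow, Polynomial.eval_X,
    Polynomial.eval_sub] at hκ
  obtain ⟨a, b, rfl⟩ := hdec κ₁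
  obtain ⟨c, d, rfl⟩ := hdec κ₂
  refine ⟨a, b, c, d, ?_⟩
  have key : f ((t₁ * (a ^ 2 + μ * b ^ 2) + 4 * μ * s₁ * (a * b))
        + (t₂ * (c ^ 2 + μ * d ^ 2) + 4 * μ * s₂ * (c * d)))
      + f (2 * ((s₁ * (a ^ 2 + μ * b ^ 2) + t₁ * (a * b))
        + (s₂ * (c ^ 2 + μ * d ^ 2) + t₂ * (c * d))) - 1) * ω = 0 := by
    rw [← hκ, hα, hβ]
    simp only [map_add, map_mul, map_pow, map_sub, map_one, map_ofNat]
    linear_combination (-(f t₁ * f b ^ 2 + 2 * (2 * f s₁) * f a * f b + 2 * f s₁ * f b ^ 2 * ω)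
      - (f t₂ * f d ^ 2 + 2 * (2 * f s₂) * f c * f d + 2 * f s₂ * f d ^ 2 * ω)) * hω2
  obtain ⟨e1, e2⟩ := hind _ _ key
  exact ⟨e1, by linear_combination e2⟩

end Cfsg.Agent.Lib.Helper19.QuadExtUniv
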