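-- Reflection subgroups of orthogonal groups over the field with three elements.
import Mathlib
import Cfsg.Prelude.Def_Classical
import Cfsg.Prelude.Def_ClassicalGeometry
import Cfsg.Prelude.Def_FischerSpaces
import Cfsg.Agent.Lib.Helper19.OrthSiegelGen
import Cfsg.Agent.Lib.Helper19.OrthStab
import Cfsg.Agent.Lib.Helper19.OrthLong

set_option autoImplicit false

namespace Cfsg.Agent.Lib.Helper19.ReflMod3

open Matrix QuadraticMap Module Cfsg.Agent.Lib.Helper19.Parity Cfsg.Agent.Lib.Helper19.OrthRefl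

theorem normal_closure_of_conj {G : Type*} [Group G] (S : Set G)
    (h : ∀ s ∈ S, ∀ g : G, g * s * g⁻¹ ∈ S) : (Subgroup.closure S).Normal := by
  constructor
  intro n hn g
  induction hn using Subgroup.closure_induction with
  | mem x hx => exact Subgroup.subset_closure (h x hx g)
  | one => simp
  | mul x y _ _ hx hy =>
    have : g * (x * y) * g⁻¹ = (g * x * g⁻¹) * (g * y * g⁻¹) := by group
    rw [this]; exact mul_mem hx hy
  | inv x _ hx =>
    have : g * x⁻¹ * g⁻¹ = (g * x * g⁻¹)⁻¹ := by group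
    rw [this]; exact inv_mem hx

variable {ι : Type} [Fintype ι] [DecidableEq ι] {F : Type*} [Field F]

/-- The product of the reflections in two orthogonal vectors of the same norm. -/
theorem refl_mul_refl_orth (h2 : (2 : F) ≠ 0) (Q : QuadraticForm F (ι → F)) (u w : ι → F)
    (hu : Q u ≠ 0) (hw : Q w ≠ 0) (huw : Q u = Q w) (ho : polar (⇑Q) u w = 0)
    (hp : Q (u + w) ≠ 0) (hm : Q (u - w) ≠ 0) :
    refl Q u hu * refl Q w hw = refl Q (u + w) hp * refl Q (u - w) hm := by
  have hQp : Q (u + w) = 2 * Q u := by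
    have : Q (u + w) = Q u + Q w + polar (⇑Q) u w := QuadraticMap.map_add (⇑Q) u w
    rw [this, ho, ← huw]; ring
  have hQm : Q (u - w) = 2 * Q u := by
    rw [Q_sub', ho, ← huw]; ring
  have hwu : polar (⇑Q) w u = 0 := by rw [QuadraticMap.polar_comm]; exact ho
  apply ext_act
  intro x
  rw [act_mul, act_mul, act_refl Q u hu, act_refl Q w hw, act_refl Q (u + w) hp,
    act_refl Q (u - w) hm, hQp, hQm, ← huw]
  simp only [QuadraticMap.polar_sub_right, QuadraticMap.polar_sub_left, QuadraticMap.polar_add_left,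
    QuadraticMap.polar_smul_right, QuadraticMap.polar_add_right, polar_self', ho, hwu, ← huw,
    smul_eq_mul, mul_zero, sub_zero, add_zero, zero_add, zero_sub]
  set a := polar (⇑Q) u x
  set b := polar (⇑Q) w x
  set q := Q u
  have hq2 : (2 * q) ≠ 0 := mul_ne_zero h2 hu
  ext i
  simp only [Pi.sub_apply, Pi.smul_apply, Pi.add_apply, smul_eq_mul]
  field_simp
  ring

variable [Fintype F]

/-- A vector of prescribed norm orthogonal to a non-singular vector and a singular vector
orthogonal to it. -/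
theorem exists_orth_norm (h2 : (2 : F) ≠ 0) (Q : QuadraticForm F (ι → F))
    (hQ : (polarBilin Q).Nondegenerate) (hn : 5 ≤ Fintype.card ι) (u p : ι → F)
    (hu : Q u ≠ 0) (hp0 : p ≠ 0) (hp : Q p = 0) (hpu : polar (⇑Q) p u = 0) (c : F) :
    ∃ z, polar (⇑Q) u z = 0 ∧ polar (⇑Q) p z = 0 ∧ Q z = c := by
  have hfr : finrank F (ι → F) = Fintype.card ι := Module.finrank_fintype_fun_eq_card F
  obtain ⟨p', hQp', hpp'⟩ := exists_hyp_partner Q hQ p hp0 hp
  have huu : polar (⇑Q) u u ≠ 0 := by rw [polar_self']; exact mul_ne_zero h2 hu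
  obtain ⟨α, hα⟩ : ∃ α : F, α = -(polar (⇑Q) p' u) / polar (⇑Q) u u := ⟨_, rfl⟩
  obtain ⟨y, hy⟩ : ∃ y : ι → F, y = p' + α • u := ⟨_, rfl⟩
  have hpy : polar (⇑Q) p y = 1 := by
    rw [hy, QuadraticMap.polar_add_right, QuadraticMap.polar_smul_right, hpp', hpu, smul_zero,
      add_zero]
  have hyu : polar (⇑Q) y u = 0 := by
    rw [hy, QuadraticMap.polar_add_left, QuadraticMap.polar_smul_left, smul_eq_mul, hα]
    field_simp
    ring
  obtain ⟨p'', hp''⟩ : ∃ p'' : ι → F, p'' = y - (Q y) • p := ⟨_, rfl⟩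
  have hQp'' : Q p'' = 0 := by
    rw [hp'', Q_sub', QuadraticMap.map_smul, hp, QuadraticMap.polar_smul_right,
      QuadraticMap.polar_comm (⇑Q) y p, hpy, smul_eq_mul, smul_eq_mul]
    ring
  have hpp'' : polar (⇑Q) p p'' = 1 := by
    rw [hp'', QuadraticMap.polar_sub_right, QuadraticMap.polar_smul_right, hpy,
      QuadraticMap.polar_self, hp, smul_zero, smul_zero, sub_zero]
  have hp''u : polar (⇑Q) p'' u = 0 := by
    rw [hp'', QuadraticMap.polar_sub_left, QuadraticMap.polar_smul_left, hyu, hpu, smul_zero,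
      sub_zero]
  -- the three-dimensional non-degenerate subspace
  set S : Submodule F (ι → F) := Submodule.span F (Set.range ![p, p'', u]) with hS
  have hSn : Nondeg Q S := by
    unfold Nondeg
    rw [eq_bot_iff]
    rintro x ⟨hx1, hx2⟩
    obtain ⟨cf, rfl⟩ := (Submodule.mem_span_range_iff_exists_fun F).1 hx1
    rw [Fin.sum_univ_three] at hx2 ⊢
    simp only [Matrix.cons_val_zero, Matrix.cons_val_one, Matrix.cons_val_two, Matrix.head_cons,
      Matrix.tail_cons] at hx2 ⊢
    have hpS : p ∈ S := Submodule.subset_span ⟨0, rfl⟩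
    have hp''S : p'' ∈ S := Submodule.subset_span ⟨1, rfl⟩
    have huS : u ∈ S := Submodule.subset_span ⟨2, rfl⟩
    have e1 := mem_orth.1 hx2 p hpS
    have e2 := mem_orth.1 hx2 p'' hp''S
    have e3 := mem_orth.1 hx2 u huS
    have hp''p : polar (⇑Q) p'' p = 1 := by rw [QuadraticMap.polar_comm]; exact hpp''
    have hup : polar (⇑Q) u p = 0 := by rw [QuadraticMap.polar_comm]; exact hpu
    have hup'' : polar (⇑Q) u p'' = 0 := by rw [QuadraticMap.polar_comm]; exact hp''u
    simp only [QuadraticMap.polar_add_right, QuadraticMap.polar_smul_right, QuadraticMap.polar_self,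
      hp, hQp'', hpp'', hp''p, hpu, hup, hp''u, hup'', smul_eq_mul, mul_zero, mul_one, add_zero,
      zero_add, smul_zero] at e1 e2 e3
    have h3 : cf 2 = 0 := by
      have : cf 2 * polar (⇑Q) u u = 0 := by
        rw [polar_self']; linear_combination e3
      exact (mul_eq_zero.1 this).resolve_right huu
    rw [e1, e2, h3, zero_smul, zero_smul, zero_smul, add_zero, add_zero]
    exact Submodule.zero_mem _
  have hD : Nondeg Q (orth Q S) := by
    unfold Nondeg
    rw [orth_orth hQ, inf_comm]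
    exact hSn
  have hfS : finrank F S ≤ 3 := by
    have := finrank_range_le_card (R := F) ![p, p'', u]
    rw [Fintype.card_fin] at this
    exact this
  have hDfr : 2 ≤ finrank F (orth Q S) := by
    rw [finrank_orth hQ, hfr]
    omega
  obtain ⟨z, hzD, hQz⟩ := exists_Q_eq_in h2 Q hD hDfr c
  refine ⟨z, ?_, ?_, hQz⟩
  · exact mem_orth.1 hzD u (Submodule.subset_span ⟨2, rfl⟩)
  · exact mem_orth.1 hzD p (Submodule.subset_span ⟨0, rfl⟩)

end Cfsg.Agent.Lib.Helper19.ReflMod3

namespace Cfsg.Agent.Lib.Helper19.ReflMod3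

open Matrix QuadraticMap Module Cfsg.Agent.Lib.Helper19.Parity Cfsg.Agent.Lib.Helper19.OrthRefl

variable {ι : Type} [Fintype ι] [DecidableEq ι]

theorem two_ne_zero_three : (2 : ZMod 3) ≠ 0 := by decide

theorem refl_mem_reflectionsOfNorm (Q : QuadraticForm (ZMod 3) (ι → ZMod 3)) (c : ZMod 3)
    (v : ι → ZMod 3) (hv : Q v ≠ 0) (hvc : Q v = c) :
    refl Q v hv ∈ Cfsg.reflectionsOfNorm (⇑Q) c := ⟨v, hvc, refl_coe Q v hv⟩

theorem refl_mem_reflectionSubgroup (Q : QuadraticForm (ZMod 3) (ι → ZMod 3)) (c : ZMod 3)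
    (v : ι → ZMod 3) (hv : Q v ≠ 0) (hvc : Q v = c) :
    refl Q v hv ∈ Cfsg.reflectionSubgroup (⇑Q) c :=
  Subgroup.subset_closure (refl_mem_reflectionsOfNorm Q c v hv hvc)

theorem reflectionsOfNorm_eq (Q : QuadraticForm (ZMod 3) (ι → ZMod 3)) (c : ZMod 3) (hc : c ≠ 0)
    (g : ↥(Cfsg.isometryGroup (ZMod 3) ⇑Q)) :
    g ∈ Cfsg.reflectionsOfNorm (⇑Q) c ↔ ∃ (v : ι → ZMod 3) (hv : Q v ≠ 0), Q v = c ∧ g = refl Q v hv := by
  constructor
  · rintro ⟨v, hvc, h⟩
    have hv : Q v ≠ 0 := by rw [hvc]; exact hc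
    exact ⟨v, hv, hvc, eq_refl_of_coe Q v hv g h⟩
  · rintro ⟨v, hv, hvc, rfl⟩
    exact refl_mem_reflectionsOfNorm Q c v hv hvc

instance reflectionSubgroup_normal (Q : QuadraticForm (ZMod 3) (ι → ZMod 3)) (c : ZMod 3) :
    (Cfsg.reflectionSubgroup (⇑Q) c).Normal := by
  by_cases hc : c = 0
  · -- degenerate case: the generating set is still conjugation invariant
    unfold Cfsg.reflectionSubgroup
    apply normal_closure_of_conj
    rintro s ⟨v, hvc, h⟩ g
    refine ⟨v, hvc, ?_⟩
    have hs : (((s : ↥(Cfsg.isometryGroup (ZMod 3) ⇑Q)) : Matrix.GeneralLinearGroup ι (ZMod 3)) :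
        Matrix ι ι (ZMod 3)) = 1 := by
      rw [h]
      unfold Cfsg.reflectionMatrix
      rw [hvc, hc, _root_.inv_zero, zero_smul, sub_zero]
    have hs1 : s = 1 := by
      apply Subtype.ext
      apply Units.ext
      rw [hs]; rfl
    rw [hs1, mul_one, mul_inv_cancel, ← hs1, h]
  · unfold Cfsg.reflectionSubgroup
    apply normal_closure_of_conj
    intro s hs g
    obtain ⟨v, hv, hvc, rfl⟩ := (reflectionsOfNorm_eq Q c hc s).1 hs
    have hgv : Q (act g v) ≠ 0 := by rw [Q_act g]; exact hv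
    rw [conj_refl Q v hv g hgv]
    exact refl_mem_reflectionsOfNorm Q c _ hgv (by rw [Q_act g]; exact hvc)

theorem zmod3_cases (c x : ZMod 3) (hc : c ≠ 0) : x = 0 ∨ x = c ∨ x = -c := by
  revert c x; decide

/-- Orthogonal case of the pair lemma. -/
theorem pair_mem_of_orth (Q : QuadraticForm (ZMod 3) (ι → ZMod 3)) (c : ZMod 3) (hc : c ≠ 0)
    (u w : ι → ZMod 3) (hu : Q u ≠ 0) (hw : Q w ≠ 0) (huc : Q u = -c) (hwc : Q w = -c)
    (ho : polar (⇑Q) u w = 0) :
    refl Q u hu * refl Q w hw ∈ Cfsg.reflectionSubgroup (⇑Q) c := by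
  have h3 : (3 : ZMod 3) = 0 := by decide
  have hQp : Q (u + w) = c := by
    have : Q (u + w) = Q u + Q w + polar (⇑Q) u w := QuadraticMap.map_add (⇑Q) u w
    rw [this, ho, huc, hwc]; linear_combination (-c) * h3
  have hQm : Q (u - w) = c := by
    rw [Q_sub', ho, huc, hwc]; linear_combination (-c) * h3
  have hp : Q (u + w) ≠ 0 := by rw [hQp]; exact hc
  have hm : Q (u - w) ≠ 0 := by rw [hQm]; exact hc
  rw [refl_mul_refl_orth two_ne_zero_three Q u w hu hw (huc.trans hwc.symm) ho hp hm]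
  exact mul_mem (refl_mem_reflectionSubgroup Q c _ hp hQp) (refl_mem_reflectionSubgroup Q c _ hm hQm)

/-- Pair lemma when `w - u` is singular. -/
theorem pair_mem_of_sub (Q : QuadraticForm (ZMod 3) (ι → ZMod 3))
    (hQ : (polarBilin Q).Nondegenerate) (hn : 5 ≤ Fintype.card ι) (c : ZMod 3) (hc : c ≠ 0)
    (u w : ι → ZMod 3) (hu : Q u ≠ 0) (hw : Q w ≠ 0) (huc : Q u = -c) (hwc : Q w = -c)
    (hb : polar (⇑Q) u w = c) :
    refl Q u hu * refl Q w hw ∈ Cfsg.reflectionSubgroup (⇑Q) c := by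
  have h3 : (3 : ZMod 3) = 0 := by decide
  obtain ⟨p, hp'⟩ : ∃ p : ι → ZMod 3, p = w - u := ⟨_, rfl⟩
  have hwp : w = u + p := by rw [hp']; abel
  have hp : Q p = 0 := by
    rw [hp', Q_sub', hwc, huc, QuadraticMap.polar_comm, hb]; linear_combination (-c) * h3
  have hpu : polar (⇑Q) p u = 0 := by
    rw [hp', QuadraticMap.polar_sub_left, polar_self', QuadraticMap.polar_comm, hb, huc]
    linear_combination c * h3
  by_cases hp0 : p = 0
  · have : w = u := by rw [hwp, hp0, add_zero]
    subst this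
    rw [refl_mul_self]
    exact one_mem _
  obtain ⟨z, huz, hpz, hQz⟩ :=
    exists_orth_norm two_ne_zero_three Q hQ hn u p hu hp0 hp hpu (-c)
  have hz : Q z ≠ 0 := by rw [hQz]; exact neg_ne_zero.2 hc
  have hzw : polar (⇑Q) z w = 0 := by
    rw [hwp, QuadraticMap.polar_add_right, QuadraticMap.polar_comm (⇑Q) z u, huz,
      QuadraticMap.polar_comm (⇑Q) z p, hpz, add_zero]
  have e : refl Q u hu * refl Q w hw
      = (refl Q u hu * refl Q z hz) * (refl Q z hz * refl Q w hw) := by
    rw [mul_assoc, ← mul_assoc (refl Q z hz), refl_mul_self, one_mul]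
  rw [e]
  exact mul_mem (pair_mem_of_orth Q c hc u z hu hz huc hQz huz)
    (pair_mem_of_orth Q c hc z w hz hw hQz hwc hzw)

/-- The pair lemma: the product of two reflections of norm `-c` lies in the group generated by
the reflections of norm `c`. -/
theorem pair_mem (Q : QuadraticForm (ZMod 3) (ι → ZMod 3))
    (hQ : (polarBilin Q).Nondegenerate) (hn : 5 ≤ Fintype.card ι) (c : ZMod 3) (hc : c ≠ 0)
    (u w : ι → ZMod 3) (hu : Q u ≠ 0) (hw : Q w ≠ 0) (huc : Q u = -c) (hwc : Q w = -c) :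
    refl Q u hu * refl Q w hw ∈ Cfsg.reflectionSubgroup (⇑Q) c := by
  rcases zmod3_cases c (polar (⇑Q) u w) hc with h | h | h
  · exact pair_mem_of_orth Q c hc u w hu hw huc hwc h
  · exact pair_mem_of_sub Q hQ hn c hc u w hu hw huc hwc h
  · have hnw : Q (-w) ≠ 0 := by rw [QuadraticMap.map_neg]; exact hw
    rw [← refl_neg Q w hw hnw]
    apply pair_mem_of_sub Q hQ hn c hc u (-w) hu hnw huc
    · rw [QuadraticMap.map_neg]; exact hwc
    · rw [QuadraticMap.polar_neg_right, h, neg_neg]

/-- The reflection subgroup of norm `c` is the kernel of the sign character on the vectors of norm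
`-c`. -/
theorem reflectionSubgroup_eq_ker (Q : QuadraticForm (ZMod 3) (ι → ZMod 3))
    (hQ : (polarBilin Q).Nondegenerate) (hn : 5 ≤ Fintype.card ι) (c : ZMod 3) (hc : c ≠ 0) :
    Cfsg.reflectionSubgroup (⇑Q) c = (chi (⇑Q) (-c)).ker := by
  classical
  have h2 := two_ne_zero_three
  have hnc : -c ≠ 0 := neg_ne_zero.2 hc
  have hcc : c * c = 1 := by revert c; decide
  have hchi : ∀ (v : ι → ZMod 3) (hv : Q v ≠ 0),
      chi (⇑Q) (-c) (refl Q v hv) = if Q v = -c then -1 else 1 := by
    intro v hv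
    rw [chi_refl h2 Q (-c) hnc v hv]
    have : IsSquare (-c * Q v) ↔ Q v = -c := by
      rcases zmod3_cases c (Q v) hc with h | h | h
      · exact absurd h hv
      · rw [h]
        constructor
        · intro hs
          exfalso
          have : -c * c = -1 := by linear_combination -hcc
          rw [this] at hs
          revert hs; decide
        · intro h'
          exfalso
          have : c = 0 := by
            have h3 : (2 : ZMod 3) * c = 0 := by linear_combination h'
            rcases mul_eq_zero.1 h3 with h4 | h4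
            · exact absurd h4 h2
            · exact h4
          exact hc this
      · rw [h]
        constructor
        · intro _; rfl
        · intro _
          exact ⟨1, by linear_combination hcc⟩
    by_cases h : Q v = -c
    · rw [if_pos (this.2 h), if_pos h]
    · rw [if_neg (fun h' => h (this.1 h')), if_neg h]
  obtain ⟨x₀, hx₀⟩ := exists_Q_eq h2 Q hQ (by omega) (-c)
  have hx₀0 : Q x₀ ≠ 0 := by rw [hx₀]; exact hnc
  set r₀ := refl Q x₀ hx₀0 with hr₀
  have hr₀χ : chi (⇑Q) (-c) r₀ = -1 := by rw [hr₀, hchi, if_pos hx₀]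
  set N := Cfsg.reflectionSubgroup (⇑Q) c with hN
  have hle : N ≤ (chi (⇑Q) (-c)).ker := by
    rw [hN]
    unfold Cfsg.reflectionSubgroup
    rw [Subgroup.closure_le]
    intro g hg
    obtain ⟨v, hv, hvc, rfl⟩ := (reflectionsOfNorm_eq Q c hc g).1 hg
    show _ ∈ (chi (⇑Q) (-c)).ker
    rw [MonoidHom.mem_ker, hchi, if_neg]
    rw [hvc]
    intro h'
    have h3 : (2 : ZMod 3) * c = 0 := by linear_combination h'
    rcases mul_eq_zero.1 h3 with h4 | h4
    · exact h2 h4
    · exact hc h4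
  have hall : ∀ g : ↥(Cfsg.isometryGroup (ZMod 3) ⇑Q), g ∈ N ∨ g * r₀ ∈ N := by
    intro g
    have hg : g ∈ Subgroup.closure (Rset Q) := by rw [closure_Rset h2 Q hQ]; trivial
    induction hg using Subgroup.closure_induction with
    | mem x hx =>
      obtain ⟨v, hv, rfl⟩ := hx
      rcases zmod3_cases c (Q v) hc with h | h | h
      · exact absurd h hv
      · left; exact refl_mem_reflectionSubgroup Q c v hv h
      · right; exact pair_mem Q hQ hn c hc v x₀ hv hx₀0 h hx₀
    | one => left; exact one_mem _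
    | mul x y _ _ hx hy =>
      have hr₀2 : r₀ * r₀ = 1 := refl_mul_self Q x₀ hx₀0
      have hr₀i : r₀⁻¹ = r₀ := refl_inv Q x₀ hx₀0
      rcases hx with hx | hx <;> rcases hy with hy | hy
      · left; exact mul_mem hx hy
      · right; rw [mul_assoc]; exact mul_mem hx hy
      · right
        have : x * y * r₀ = (x * r₀) * (r₀ * y * r₀⁻¹) := by
          rw [hr₀i]
          calc x * y * r₀ = x * (r₀ * r₀) * y * r₀ := by rw [hr₀2, mul_one]
            _ = _ := by group
        rw [this]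
        exact mul_mem hx ((reflectionSubgroup_normal Q c).conj_mem y hy r₀)
      · left
        have : x * y = (x * r₀) * (r₀ * (y * r₀) * r₀⁻¹) := by
          rw [hr₀i]
          calc x * y = x * (r₀ * r₀) * y * (r₀ * r₀) := by rw [hr₀2, mul_one, mul_one]
            _ = _ := by group
        rw [this]
        exact mul_mem hx ((reflectionSubgroup_normal Q c).conj_mem _ hy r₀)
    | inv x _ hx =>
      have hr₀2 : r₀ * r₀ = 1 := refl_mul_self Q x₀ hx₀0
      have hr₀i : r₀⁻¹ = r₀ := refl_inv Q x₀ hx₀0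
      rcases hx with hx | hx
      · left; exact inv_mem hx
      · right
        have : x⁻¹ * r₀ = r₀ * (x * r₀)⁻¹ * r₀⁻¹ := by
          rw [hr₀i, _root_.mul_inv_rev, hr₀i]
          calc x⁻¹ * r₀ = (r₀ * r₀) * x⁻¹ * r₀ := by rw [hr₀2, one_mul]
            _ = _ := by group
        rw [this]
        exact (reflectionSubgroup_normal Q c).conj_mem _ (inv_mem hx) r₀
  apply le_antisymm hle
  intro g hg
  rcases hall g with h | h
  · exact h
  · exfalso
    have h1 := hle h
    rw [MonoidHom.mem_ker, map_mul, (MonoidHom.mem_ker).1 hg, one_mul, hr₀χ] at h1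
    exact absurd h1 (by decide)

theorem reflectionSubgroup_index (Q : QuadraticForm (ZMod 3) (ι → ZMod 3))
    (hQ : (polarBilin Q).Nondegenerate) (hn : 5 ≤ Fintype.card ι) (c : ZMod 3) (hc : c ≠ 0) :
    (Cfsg.reflectionSubgroup (⇑Q) c).index = 2 := by
  classical
  have h2 := two_ne_zero_three
  rw [reflectionSubgroup_eq_ker Q hQ hn c hc]
  obtain ⟨x₀, hx₀⟩ := exists_Q_eq h2 Q hQ (by omega) (-c)
  have hnc : -c ≠ 0 := neg_ne_zero.2 hc
  have hx₀0 : Q x₀ ≠ 0 := by rw [hx₀]; exact hnc
  apply index_ker_of_neg_one _ (refl Q x₀ hx₀0)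
  rw [chi_refl h2 Q (-c) hnc x₀ hx₀0, if_pos]
  rw [hx₀]
  exact ⟨c, by ring⟩

end Cfsg.Agent.Lib.Helper19.ReflMod3
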