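-- The subgroup generated by one class of reflections has index two (even dimension).
import Mathlib
import Cfsg.Prelude.Def_Classical
import Cfsg.Prelude.Def_ClassicalGeometry
import Cfsg.Agent.Lib.Helper19.ReflMod3
import Cfsg.Agent.Lib.Helper19.OrthNegOne

set_option autoImplicit false

namespace Cfsg.Agent.Lib.Helper19.ReflClass

open Matrix QuadraticMap Module Cfsg.Agent.Lib.Helper19.Parity Cfsg.Agent.Lib.Helper19.OrthRefl
  Cfsg.Agent.Lib.Helper19.ReflMod3

variable {ι : Type} [Fintype ι] [DecidableEq ι] {F : Type*} [Field F]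

/-- The generating set: reflections in vectors whose norm lies in the class of `c`. -/
def genSet (Q : QuadraticForm F (ι → F)) (c : F) : Set ↥(Cfsg.isometryGroup F ⇑Q) :=
  {g | ∃ (v : ι → F) (t : F), t ≠ 0 ∧ Q v = c * t ^ 2 ∧
    ((g : Matrix.GeneralLinearGroup ι F) : Matrix ι ι F) = Cfsg.reflectionMatrix ⇑Q v}

/-- The subgroup generated by the class. -/
def H (Q : QuadraticForm F (ι → F)) (c : F) : Subgroup ↥(Cfsg.isometryGroup F ⇑Q) :=
  Subgroup.closure (genSet Q c)

theorem refl_mem_genSet (Q : QuadraticForm F (ι → F)) (c : F) (v : ι → F) (hv : Q v ≠ 0) (t : F)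
    (ht : t ≠ 0) (hvc : Q v = c * t ^ 2) : refl Q v hv ∈ genSet Q c :=
  ⟨v, t, ht, hvc, refl_coe Q v hv⟩

theorem refl_mem_H (Q : QuadraticForm F (ι → F)) (c : F) (v : ι → F) (hv : Q v ≠ 0) (t : F)
    (ht : t ≠ 0) (hvc : Q v = c * t ^ 2) : refl Q v hv ∈ H Q c :=
  Subgroup.subset_closure (refl_mem_genSet Q c v hv t ht hvc)

theorem mem_genSet_iff (Q : QuadraticForm F (ι → F)) (c : F) (hc : c ≠ 0)
    (g : ↥(Cfsg.isometryGroup F ⇑Q)) :
    g ∈ genSet Q c ↔ ∃ (v : ι → F) (hv : Q v ≠ 0) (t : F), t ≠ 0 ∧ Q v = c * t ^ 2 ∧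
      g = refl Q v hv := by
  constructor
  · rintro ⟨v, t, ht, hvc, h⟩
    have hv : Q v ≠ 0 := by rw [hvc]; exact mul_ne_zero hc (pow_ne_zero 2 ht)
    exact ⟨v, hv, t, ht, hvc, eq_refl_of_coe Q v hv g h⟩
  · rintro ⟨v, hv, t, ht, hvc, rfl⟩
    exact refl_mem_genSet Q c v hv t ht hvc

theorem H_normal (Q : QuadraticForm F (ι → F)) (c : F) (hc : c ≠ 0) : (H Q c).Normal := by
  unfold H
  apply normal_closure_of_conj
  intro s hs g
  obtain ⟨v, hv, t, ht, hvc, rfl⟩ := (mem_genSet_iff Q c hc s).1 hs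
  have hgv : Q (act g v) ≠ 0 := by rw [Q_act g]; exact hv
  rw [conj_refl Q v hv g hgv]
  exact refl_mem_genSet Q c _ hgv t ht (by rw [Q_act g]; exact hvc)

/-- Rotating an orthogonal pair of vectors of equal norm. -/
theorem refl_mul_refl_rot (Q : QuadraticForm F (ι → F)) (u w : ι → F)
    (hu : Q u ≠ 0) (hw : Q w ≠ 0) (huw : Q u = Q w) (ho : polar (⇑Q) u w = 0) (α β : F)
    (hx : Q (α • u + β • w) ≠ 0) (hy : Q ((-β) • u + α • w) ≠ 0) :
    refl Q u hu * refl Q w hw = refl Q (α • u + β • w) hx * refl Q ((-β) • u + α • w) hy := by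
  have hwu : polar (⇑Q) w u = 0 := by rw [QuadraticMap.polar_comm]; exact ho
  have hQx : Q (α • u + β • w) = (α ^ 2 + β ^ 2) * Q u := by
    have : Q (α • u + β • w) = Q (α • u) + Q (β • w) + polar (⇑Q) (α • u) (β • w) :=
      QuadraticMap.map_add (⇑Q) _ _
    rw [this, QuadraticMap.map_smul, QuadraticMap.map_smul, QuadraticMap.polar_smul_left,
      QuadraticMap.polar_smul_right, ho, ← huw, smul_eq_mul, smul_eq_mul, smul_eq_mul, smul_eq_mul]
    ring
  have hQy : Q ((-β) • u + α • w) = (α ^ 2 + β ^ 2) * Q u := by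
    have : Q ((-β) • u + α • w) = Q ((-β) • u) + Q (α • w) + polar (⇑Q) ((-β) • u) (α • w) :=
      QuadraticMap.map_add (⇑Q) _ _
    rw [this, QuadraticMap.map_smul, QuadraticMap.map_smul, QuadraticMap.polar_smul_left,
      QuadraticMap.polar_smul_right, ho, ← huw, smul_eq_mul, smul_eq_mul, smul_eq_mul, smul_eq_mul]
    ring
  have hs : (α ^ 2 + β ^ 2) ≠ 0 := by
    intro h
    apply hx
    rw [hQx, h, zero_mul]
  apply ext_act
  intro x
  rw [act_mul, act_mul, act_refl Q u hu, act_refl Q w hw, act_refl Q (α • u + β • w) hx,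
    act_refl Q ((-β) • u + α • w) hy, hQx, hQy, ← huw]
  simp only [QuadraticMap.polar_sub_right, QuadraticMap.polar_sub_left, QuadraticMap.polar_add_left,
    QuadraticMap.polar_smul_right, QuadraticMap.polar_smul_left, QuadraticMap.polar_add_right,
    polar_self', ho, hwu, ← huw, smul_eq_mul, mul_zero, sub_zero, add_zero, zero_add, zero_sub]
  set a := polar (⇑Q) u x
  set b := polar (⇑Q) w x
  set q := Q u
  ext i
  simp only [Pi.sub_apply, Pi.smul_apply, Pi.add_apply, smul_eq_mul]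
  field_simp
  ring

variable [Fintype F]

theorem exists_sq_add_sq (h2 : (2 : F) ≠ 0) (d : F) : ∃ α β : F, α ^ 2 + β ^ 2 = d := by
  have hcard : Fintype.card F % 2 = 1 :=
    FiniteField.odd_card_of_char_ne_two (ringChar_ne_two h2)
  have hf2 : (Polynomial.X ^ 2 : Polynomial F).degree = 2 := Polynomial.degree_X_pow 2
  have hg2 : (Polynomial.X ^ 2 - Polynomial.C d : Polynomial F).degree = 2 := by
    rw [Polynomial.degree_sub_C]
    · exact Polynomial.degree_X_pow 2
    · rw [Polynomial.degree_X_pow 2]; norm_num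
  obtain ⟨x, y, hxy⟩ := FiniteField.exists_root_sum_quadratic hf2 hg2 hcard
  refine ⟨x, y, ?_⟩
  simp only [Polynomial.eval_pow, Polynomial.eval_X, Polynomial.eval_sub, Polynomial.eval_C] at hxy
  linear_combination hxy

/-- Orthogonal case of the pair lemma (valid for every class). -/
theorem pair_orth (h2 : (2 : F) ≠ 0) (Q : QuadraticForm F (ι → F)) (c : F) (hc : c ≠ 0)
    (u w : ι → F) (hu : Q u ≠ 0) (hw : Q w ≠ 0) (huw : Q u = Q w) (ho : polar (⇑Q) u w = 0) :
    refl Q u hu * refl Q w hw ∈ H Q c := by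
  obtain ⟨α, β, hαβ⟩ := exists_sq_add_sq h2 (c / Q u)
  have hQx : Q (α • u + β • w) = c := by
    have : Q (α • u + β • w) = Q (α • u) + Q (β • w) + polar (⇑Q) (α • u) (β • w) :=
      QuadraticMap.map_add (⇑Q) _ _
    rw [this, QuadraticMap.map_smul, QuadraticMap.map_smul, QuadraticMap.polar_smul_left,
      QuadraticMap.polar_smul_right, ho, ← huw, smul_eq_mul, smul_eq_mul, smul_eq_mul, smul_eq_mul]
    have : (α ^ 2 + β ^ 2) * Q u = c := by rw [hαβ]; field_simp
    linear_combination this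
  have hQy : Q ((-β) • u + α • w) = c := by
    have : Q ((-β) • u + α • w) = Q ((-β) • u) + Q (α • w) + polar (⇑Q) ((-β) • u) (α • w) :=
      QuadraticMap.map_add (⇑Q) _ _
    rw [this, QuadraticMap.map_smul, QuadraticMap.map_smul, QuadraticMap.polar_smul_left,
      QuadraticMap.polar_smul_right, ho, ← huw, smul_eq_mul, smul_eq_mul, smul_eq_mul, smul_eq_mul]
    have : (α ^ 2 + β ^ 2) * Q u = c := by rw [hαβ]; field_simp
    linear_combination this
  have hx : Q (α • u + β • w) ≠ 0 := by rw [hQx]; exact hc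
  have hy : Q ((-β) • u + α • w) ≠ 0 := by rw [hQy]; exact hc
  rw [refl_mul_refl_rot Q u w hu hw huw ho α β hx hy]
  exact mul_mem (refl_mem_H Q c _ hx 1 one_ne_zero (by rw [hQx]; ring))
    (refl_mem_H Q c _ hy 1 one_ne_zero (by rw [hQy]; ring))

/-- Chain step. -/
theorem pair_chain (h2 : (2 : F) ≠ 0) (Q : QuadraticForm F (ι → F)) (c : F) (hc : c ≠ 0)
    (u w z : ι → F) (hu : Q u ≠ 0) (hw : Q w ≠ 0) (hz : Q z ≠ 0)
    (h1 : refl Q u hu * refl Q z hz ∈ H Q c) (h3 : refl Q z hz * refl Q w hw ∈ H Q c) :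
    refl Q u hu * refl Q w hw ∈ H Q c := by
  have e : refl Q u hu * refl Q w hw
      = (refl Q u hu * refl Q z hz) * (refl Q z hz * refl Q w hw) := by
    rw [mul_assoc, ← mul_assoc (refl Q z hz), refl_mul_self, one_mul]
  rw [e]
  exact mul_mem h1 h3

/-- Non-degenerate plane case of the pair lemma. -/
theorem pair_nondeg (h2 : (2 : F) ≠ 0) (Q : QuadraticForm F (ι → F))
    (hQ : (polarBilin Q).Nondegenerate) (hn : 4 ≤ Fintype.card ι) (c : F) (hc : c ≠ 0)
    (u w : ι → F) (hu : Q u ≠ 0) (hw : Q w ≠ 0) (huw : Q u = Q w)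
    (hne : polar (⇑Q) u w * polar (⇑Q) u w ≠ 4 * Q u * Q w) :
    refl Q u hu * refl Q w hw ∈ H Q c := by
  have hfr : finrank F (ι → F) = Fintype.card ι := Module.finrank_fintype_fun_eq_card F
  have hP := nondeg_plane_of_ne Q u w hne
  have hD : Nondeg Q (orth Q (plane F u w)) := by
    unfold Nondeg
    rw [orth_orth hQ, inf_comm]
    exact hP
  have hfp : finrank F (plane F u w) ≤ 2 := by
    have := finrank_range_le_card (R := F) ![u, w]
    rw [Fintype.card_fin] at this
    exact this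
  have hDfr : 2 ≤ finrank F (orth Q (plane F u w)) := by
    rw [finrank_orth hQ, hfr]
    omega
  obtain ⟨z, hzD, hQz⟩ := exists_Q_eq_in h2 Q hD hDfr (Q u)
  obtain ⟨hzu, hzw⟩ := mem_orth_plane.1 hzD
  have hz : Q z ≠ 0 := by rw [hQz]; exact hu
  refine pair_chain h2 Q c hc u w z hu hw hz ?_ ?_
  · exact pair_orth h2 Q c hc u z hu hz hQz.symm hzu
  · exact pair_orth h2 Q c hc z w hz hw (hQz.trans huw) (by rw [QuadraticMap.polar_comm]; exact hzw)

end Cfsg.Agent.Lib.Helper19.ReflClass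

namespace Cfsg.Agent.Lib.Helper19.ReflClass

open Matrix QuadraticMap Module Cfsg.Agent.Lib.Helper19.Parity Cfsg.Agent.Lib.Helper19.OrthRefl
  Cfsg.Agent.Lib.Helper19.ReflMod3

variable {ι : Type} [Fintype ι] [DecidableEq ι] {F : Type*} [Field F]

/-- A hyperbolic partner of a singular vector, orthogonal to a given non-singular vector. -/
theorem exists_partner_orth (h2 : (2 : F) ≠ 0) (Q : QuadraticForm F (ι → F))
    (hQ : (polarBilin Q).Nondegenerate) (u p : ι → F)
    (hu : Q u ≠ 0) (hp0 : p ≠ 0) (hp : Q p = 0) (hpu : polar (⇑Q) p u = 0) :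
    ∃ p'' : ι → F, Q p'' = 0 ∧ polar (⇑Q) p p'' = 1 ∧ polar (⇑Q) p'' u = 0 := by
  obtain ⟨p', hQp', hpp'⟩ := exists_hyp_partner Q hQ p hp0 hp
  have huu : polar (⇑Q) u u ≠ 0 := by rw [polar_self']; exact mul_ne_zero h2 hu
  obtain ⟨α, hα⟩ : ∃ α : F, α = -(polar (⇑Q) p' u) / polar (⇑Q) u u := ⟨_, rfl⟩
  obtain ⟨y, hy⟩ : ∃ y : ι → F, y = p' + α • u := ⟨_, rfl⟩
  have hpy : polar (⇑Q) p y = 1 := by
    rw [hy, QuadraticMap.polar_add_right, QuadraticMap.polar_smul_right, hpp', hpu, smul_zero,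
      add_zero]
  have hyu : polar (⇑Q) y u = 0 := by
    rw [hy, QuadraticMap.polar_add_left, QuadraticMap.polar_smul_left, smul_eq_mul, hα]
    field_simp
    ring
  refine ⟨y - (Q y) • p, ?_, ?_, ?_⟩
  · rw [Q_sub', QuadraticMap.map_smul, hp, QuadraticMap.polar_smul_right,
      QuadraticMap.polar_comm (⇑Q) y p, hpy, smul_eq_mul, smul_eq_mul]
    ring
  · rw [QuadraticMap.polar_sub_right, QuadraticMap.polar_smul_right, hpy,
      QuadraticMap.polar_self, hp, smul_zero, smul_zero, sub_zero]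
  · rw [QuadraticMap.polar_sub_left, QuadraticMap.polar_smul_left, hyu, hpu, smul_zero,
      sub_zero]

variable [Fintype F]

theorem exists_not_three (h5 : 5 ≤ Fintype.card F) (a b c : F) : ∃ x : F, x ≠ a ∧ x ≠ b ∧ x ≠ c := by
  classical
  by_contra hcon
  push Not at hcon
  have hsub : (Finset.univ : Finset F) ⊆ {a, b, c} := by
    intro x _
    by_cases h1 : x = a
    · simp [h1]
    by_cases h3 : x = b
    · simp [h3]
    have := hcon x h1 h3
    simp [this]
  have h1 := Finset.card_le_card hsub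
  have h3 : ({a, b, c} : Finset F).card ≤ 3 := Finset.card_le_three
  rw [Finset.card_univ] at h1
  omega

/-- Degenerate case of the pair lemma: `w - u` singular. -/
theorem pair_deg (h2 : (2 : F) ≠ 0) (Q : QuadraticForm F (ι → F))
    (hQ : (polarBilin Q).Nondegenerate) (hn : 4 ≤ Fintype.card ι)
    (hnq : 5 ≤ Fintype.card ι ∨ 5 ≤ Fintype.card F) (c : F) (hc : c ≠ 0)
    (u w : ι → F) (hu : Q u ≠ 0) (hw : Q w ≠ 0) (huw : Q u = Q w)
    (hb : polar (⇑Q) u w = 2 * Q u) :
    refl Q u hu * refl Q w hw ∈ H Q c := by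
  obtain ⟨p, hp'⟩ : ∃ p : ι → F, p = w - u := ⟨_, rfl⟩
  have hwp : w = u + p := by rw [hp']; abel
  have hp : Q p = 0 := by
    rw [hp', Q_sub', ← huw, QuadraticMap.polar_comm, hb]; ring
  have hpu : polar (⇑Q) p u = 0 := by
    rw [hp', QuadraticMap.polar_sub_left, polar_self', QuadraticMap.polar_comm, hb]
    ring
  by_cases hp0 : p = 0
  · have : w = u := by rw [hwp, hp0, add_zero]
    subst this
    rw [refl_mul_self]
    exact one_mem _
  rcases hnq with h5 | h5
  · obtain ⟨z, huz, hpz, hQz⟩ := exists_orth_norm h2 Q hQ h5 u p hu hp0 hp hpu (Q u)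
    have hz : Q z ≠ 0 := by rw [hQz]; exact hu
    have hzw : polar (⇑Q) z w = 0 := by
      rw [hwp, QuadraticMap.polar_add_right, QuadraticMap.polar_comm (⇑Q) z u, huz,
        QuadraticMap.polar_comm (⇑Q) z p, hpz, add_zero]
    exact pair_chain h2 Q c hc u w z hu hw hz (pair_orth h2 Q c hc u z hu hz hQz.symm huz)
      (pair_orth h2 Q c hc z w hz hw (hQz.trans huw) hzw)
  · obtain ⟨p'', hQp'', hpp'', hp''u⟩ := exists_partner_orth h2 Q hQ u p hu hp0 hp hpu
    obtain ⟨β, hβ0, hβ1, hβ2⟩ := exists_not_three h5 (0 : F) (2 * Q u) (-(2 * Q u))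
    obtain ⟨z, hz'⟩ : ∃ z : ι → F, z = (Q u / β) • p + β • p'' := ⟨_, rfl⟩
    have hQz : Q z = Q u := by
      have : Q z = Q ((Q u / β) • p) + Q (β • p'') + polar (⇑Q) ((Q u / β) • p) (β • p'') := by
        rw [hz']; exact QuadraticMap.map_add (⇑Q) _ _
      rw [this, QuadraticMap.map_smul, QuadraticMap.map_smul, hp, hQp'',
        QuadraticMap.polar_smul_left, QuadraticMap.polar_smul_right, hpp'', smul_eq_mul,
        smul_eq_mul, smul_eq_mul, smul_eq_mul]
      field_simp
      ring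
    have hz : Q z ≠ 0 := by rw [hQz]; exact hu
    have huz : polar (⇑Q) u z = 0 := by
      rw [hz', QuadraticMap.polar_add_right, QuadraticMap.polar_smul_right,
        QuadraticMap.polar_smul_right, QuadraticMap.polar_comm (⇑Q) u p, hpu,
        QuadraticMap.polar_comm (⇑Q) u p'', hp''u, smul_zero, smul_zero, add_zero]
    have hzp : polar (⇑Q) z p = β := by
      rw [hz', QuadraticMap.polar_add_left, QuadraticMap.polar_smul_left,
        QuadraticMap.polar_smul_left, QuadraticMap.polar_self, hp,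
        QuadraticMap.polar_comm (⇑Q) p'' p, hpp'', smul_zero, smul_zero, zero_add, smul_eq_mul,
        mul_one]
    have hzw : polar (⇑Q) z w = β := by
      rw [hwp, QuadraticMap.polar_add_right, QuadraticMap.polar_comm (⇑Q) z u, huz, zero_add, hzp]
    refine pair_chain h2 Q c hc u w z hu hw hz (pair_orth h2 Q c hc u z hu hz hQz.symm huz) ?_
    apply pair_nondeg h2 Q hQ hn c hc z w hz hw (hQz.trans huw)
    rw [hzw, hQz, ← huw]
    intro h
    have : (β - 2 * Q u) * (β + 2 * Q u) = 0 := by linear_combination h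
    rcases mul_eq_zero.1 this with h' | h'
    · exact hβ1 (by linear_combination h')
    · exact hβ2 (by linear_combination h')

/-- The pair lemma in dimension at least four. -/
theorem pair_mem (h2 : (2 : F) ≠ 0) (Q : QuadraticForm F (ι → F))
    (hQ : (polarBilin Q).Nondegenerate) (hn : 4 ≤ Fintype.card ι)
    (hnq : 5 ≤ Fintype.card ι ∨ 5 ≤ Fintype.card F) (c : F) (hc : c ≠ 0)
    (u w : ι → F) (hu : Q u ≠ 0) (hw : Q w ≠ 0) (huw : Q u = Q w) :
    refl Q u hu * refl Q w hw ∈ H Q c := by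
  by_cases hne : polar (⇑Q) u w * polar (⇑Q) u w = 4 * Q u * Q w
  · rw [← huw] at hne
    have : (polar (⇑Q) u w - 2 * Q u) * (polar (⇑Q) u w + 2 * Q u) = 0 := by
      linear_combination hne
    rcases mul_eq_zero.1 this with h' | h'
    · exact pair_deg h2 Q hQ hn hnq c hc u w hu hw huw (by linear_combination h')
    · have hnw : Q (-w) ≠ 0 := by rw [QuadraticMap.map_neg]; exact hw
      rw [← refl_neg Q w hw hnw]
      apply pair_deg h2 Q hQ hn hnq c hc u (-w) hu hnw
      · rw [QuadraticMap.map_neg]; exact huw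
      · rw [QuadraticMap.polar_neg_right]; linear_combination -h'
  · exact pair_nondeg h2 Q hQ hn c hc u w hu hw huw hne

end Cfsg.Agent.Lib.Helper19.ReflClass

namespace Cfsg.Agent.Lib.Helper19.ReflClass

open Matrix QuadraticMap Module Cfsg.Agent.Lib.Helper19.Parity Cfsg.Agent.Lib.Helper19.OrthRefl
  Cfsg.Agent.Lib.Helper19.ReflMod3

variable {ι : Type} [Fintype ι] [DecidableEq ι] {F : Type*} [Field F]

/-- Determinant of an isometry. -/
noncomputable def dt {Q : (ι → F) → F} (g : ↥(Cfsg.isometryGroup F Q)) : F :=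
  ((g : Matrix.GeneralLinearGroup ι F) : Matrix ι ι F).det

theorem dt_mul {Q : (ι → F) → F} (g h : ↥(Cfsg.isometryGroup F Q)) : dt (g * h) = dt g * dt h := by
  unfold dt
  rw [Subgroup.coe_mul, Units.val_mul, Matrix.det_mul]

theorem dt_one {Q : (ι → F) → F} : dt (1 : ↥(Cfsg.isometryGroup F Q)) = 1 := by
  unfold dt
  rw [Subgroup.coe_one, Units.val_one, Matrix.det_one]

theorem dt_refl (Q : QuadraticForm F (ι → F)) (v : ι → F) (hv : Q v ≠ 0) :
    dt (refl Q v hv) = -1 := refl_det Q v hv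

theorem dt_negOne (Q : QuadraticForm F (ι → F)) (hcard : Fintype.card ι = 2) :
    dt (negOne Q) = 1 := by
  unfold dt
  rw [negOne_coe, Matrix.det_neg, Matrix.det_one, hcard]
  norm_num

theorem negOne_mul_self (Q : QuadraticForm F (ι → F)) : negOne Q * negOne Q = 1 := by
  apply ext_act
  intro x
  rw [act_mul, act_negOne, act_negOne, neg_neg, act_one]

/-- In dimension two, an isometry fixing a non-singular vector is trivial or a reflection. -/
theorem fix2 (h2 : (2 : F) ≠ 0) (Q : QuadraticForm F (ι → F)) (hQ : (polarBilin Q).Nondegenerate)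
    (hcard : Fintype.card ι = 2) (g : ↥(Cfsg.isometryGroup F ⇑Q)) (u : ι → F) (hu : Q u ≠ 0)
    (hgu : act g u = u) : g = 1 ∨ ∃ (v : ι → F) (hv : Q v ≠ 0), g = refl Q v hv := by
  have hfr : finrank F (ι → F) = 2 := by rw [Module.finrank_fintype_fun_eq_card, hcard]
  have hu0 : u ≠ 0 := by
    rintro rfl
    exact hu (QuadraticMap.map_zero _)
  have huu : polar (⇑Q) u u ≠ 0 := by rw [polar_self']; exact mul_ne_zero h2 hu
  set W := orth Q (Submodule.span F {u}) with hW
  have hfW : finrank F W = 1 := by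
    rw [hW, finrank_orth hQ, hfr, finrank_span_singleton hu0]
  obtain ⟨v, hv0⟩ : ∃ v : W, v ≠ 0 := by
    have : 0 < finrank F W := by omega
    exact Module.finrank_pos_iff_exists_ne_zero.1 this
  have hall := (finrank_eq_one_iff_of_nonzero' v hv0).1 hfW
  have huv : polar (⇑Q) u v.1 = 0 := mem_orth.1 v.2 u (Submodule.mem_span_singleton_self u)
  have hvu : polar (⇑Q) v.1 u = 0 := by rw [QuadraticMap.polar_comm]; exact huv
  have hdec : ∀ x : ι → F, ∃ α β : F, x = α • u + β • v.1 := by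
    intro x
    obtain ⟨α, hα⟩ : ∃ α : F, α = polar (⇑Q) u x / polar (⇑Q) u u := ⟨_, rfl⟩
    have hmem : x - α • u ∈ W := by
      rw [hW, mem_orth]
      intro w hw
      obtain ⟨t, rfl⟩ := Submodule.mem_span_singleton.1 hw
      rw [QuadraticMap.polar_smul_left, QuadraticMap.polar_sub_right,
        QuadraticMap.polar_smul_right, smul_eq_mul, smul_eq_mul, hα]
      field_simp
      ring
    obtain ⟨β, hβ⟩ := hall ⟨_, hmem⟩
    refine ⟨α, β, ?_⟩
    have h1 : β • v.1 = x - α • u := congrArg Subtype.val hβ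
    rw [h1]
    abel
  have hQv : Q v.1 ≠ 0 := by
    intro h0
    apply hv0
    have : v.1 = 0 := by
      apply hQ.1 v.1
      intro y
      obtain ⟨α, β, rfl⟩ := hdec y
      rw [QuadraticMap.polarBilin_apply_apply, QuadraticMap.polar_add_right,
        QuadraticMap.polar_smul_right, QuadraticMap.polar_smul_right, hvu, polar_self', h0]
      simp
    exact Subtype.ext this
  have hgv : act g v.1 ∈ W := by
    show act g v.1 ∈ orth Q (Submodule.span F {u})
    rw [mem_orth]
    intro w hw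
    obtain ⟨t, rfl⟩ := Submodule.mem_span_singleton.1 hw
    rw [QuadraticMap.polar_smul_left]
    have : polar (⇑Q) u (act g v.1) = 0 := by
      have h1 := polar_act g u v.1
      rw [hgu] at h1
      rw [h1, huv]
    rw [this, smul_zero]
  obtain ⟨l, hl⟩ := hall ⟨_, hgv⟩
  have hl' : act g v.1 = l • v.1 := (congrArg Subtype.val hl).symm
  have hl2 : (l - 1) * (l + 1) = 0 := by
    have h1 := Q_act g v.1
    rw [hl', QuadraticMap.map_smul, smul_eq_mul] at h1
    have : (l * l - 1) * Q v.1 = 0 := by linear_combination h1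
    rcases mul_eq_zero.1 this with h | h
    · linear_combination h
    · exact absurd h hQv
  rcases mul_eq_zero.1 hl2 with h | h
  · left
    have hl1 : l = 1 := by linear_combination h
    apply ext_act
    intro x
    obtain ⟨α, β, rfl⟩ := hdec x
    rw [act_add, act_smul, act_smul, hgu, hl', hl1, one_smul, act_one]
  · right
    have hl1 : l = -1 := by linear_combination h
    refine ⟨v.1, hQv, ?_⟩
    apply ext_act
    intro x
    obtain ⟨α, β, rfl⟩ := hdec x
    rw [act_add, act_smul, act_smul, hgu, hl', hl1, act_add, act_smul, act_smul,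
      act_refl_of_polar_eq_zero Q v.1 hQv u hvu, act_refl_self, neg_one_smul]

theorem neg_one_ne_one_field (h2 : (2 : F) ≠ 0) : (-1 : F) ≠ 1 := by
  intro h
  apply h2
  linear_combination -h

/-- First step: an isometry of determinant `-1` moving `u` to a vector with `u - g u`
non-singular is a reflection. -/
theorem refl_of_det_aux (h2 : (2 : F) ≠ 0) (Q : QuadraticForm F (ι → F))
    (hQ : (polarBilin Q).Nondegenerate) (hcard : Fintype.card ι = 2)
    (g : ↥(Cfsg.isometryGroup F ⇑Q)) (hdet : dt g = -1) (u : ι → F) (hu : Q u ≠ 0)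
    (hsub : Q (u - act g u) ≠ 0) : g = refl Q (u - act g u) hsub := by
  have hQw : Q u = Q (act g u) := (Q_act g u).symm
  have hfix : act (refl Q (u - act g u) hsub * g) u = u := by
    rw [act_mul]
    have h0 := act_refl_sub Q u (act g u) hQw hsub
    have := congrArg (act (refl Q (u - act g u) hsub)) h0
    rw [← act_mul, refl_mul_self, act_one] at this
    exact this.symm
  have hg : g = refl Q (u - act g u) hsub * (refl Q (u - act g u) hsub * g) := by
    rw [← mul_assoc, refl_mul_self, one_mul]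
  rcases fix2 h2 Q hQ hcard _ u hu hfix with h1 | ⟨v, hv, h1⟩
  · rw [h1, mul_one] at hg
    exact hg
  · exfalso
    rw [h1] at hg
    have := congrArg dt hg
    rw [hdet, dt_mul, dt_refl, dt_refl] at this
    apply neg_one_ne_one_field h2
    linear_combination this

variable [Fintype F]

/-- In dimension two, an isometry of determinant `-1` is a reflection. -/
theorem refl_of_det (h2 : (2 : F) ≠ 0) (Q : QuadraticForm F (ι → F))
    (hQ : (polarBilin Q).Nondegenerate) (hcard : Fintype.card ι = 2)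
    (g : ↥(Cfsg.isometryGroup F ⇑Q)) (hdet : dt g = -1) :
    ∃ (y : ι → F) (hy : Q y ≠ 0), g = refl Q y hy := by
  obtain ⟨u, hu1⟩ := exists_Q_eq h2 Q hQ (by omega) 1
  have hu : Q u ≠ 0 := by rw [hu1]; exact one_ne_zero
  by_cases hsub : Q (u - act g u) = 0
  · have hQw : Q u = Q (act g u) := (Q_act g u).symm
    have hsum := Q_sub_add_Q_add Q u (act g u)
    rw [← hQw, hsub, zero_add] at hsum
    have hadd : Q (u + act g u) ≠ 0 := by
      rw [hsum]
      have : (2 : F) * Q u + 2 * Q u = 2 * 2 * Q u := by ring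
      rw [this]
      exact mul_ne_zero (mul_ne_zero h2 h2) hu
    have hdet' : dt (negOne Q * g) = -1 := by rw [dt_mul, dt_negOne Q hcard, hdet, one_mul]
    have hact : act (negOne Q * g) u = -(act g u) := by rw [act_mul, act_negOne]
    have hsub' : Q (u - act (negOne Q * g) u) ≠ 0 := by rw [hact, sub_neg_eq_add]; exact hadd
    have e1 := refl_of_det_aux h2 Q hQ hcard (negOne Q * g) hdet' u hu hsub'
    obtain ⟨y, hy'⟩ : ∃ y : ι → F, y = u - act (negOne Q * g) u := ⟨_, rfl⟩
    have hy : Q y ≠ 0 := by rw [hy']; exact hsub'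
    have e2 : negOne Q * g = refl Q y hy := by
      rw [e1]; exact refl_congr Q _ _ hsub' hy hy'.symm
    have hg : g = negOne Q * refl Q y hy := by
      rw [← e2, ← mul_assoc, negOne_mul_self, one_mul]
    have hk : act (negOne Q * refl Q y hy) y = y := by
      rw [act_mul, act_refl_self, act_negOne, neg_neg]
    rcases fix2 h2 Q hQ hcard _ y hy hk with h1 | ⟨v, hv, h1⟩
    · exfalso
      have := congrArg dt h1
      rw [dt_mul, dt_negOne Q hcard, dt_refl, dt_one, one_mul] at this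
      exact neg_one_ne_one_field h2 this
    · exact ⟨v, hv, hg.trans h1⟩
  · exact ⟨_, hsub, refl_of_det_aux h2 Q hQ hcard g hdet u hu hsub⟩

/-- The pair lemma in dimension two. -/
theorem pair_mem_two (h2 : (2 : F) ≠ 0) (Q : QuadraticForm F (ι → F))
    (hQ : (polarBilin Q).Nondegenerate) (hcard : Fintype.card ι = 2) (c : F) (hc : c ≠ 0)
    (u w : ι → F) (hu : Q u ≠ 0) (hw : Q w ≠ 0) (hcu : ¬IsSquare (c * Q u))
    (hcw : ¬IsSquare (c * Q w)) : refl Q u hu * refl Q w hw ∈ H Q c := by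
  classical
  obtain ⟨x, hx⟩ := exists_Q_eq h2 Q hQ (by omega) c
  have hx0 : Q x ≠ 0 := by rw [hx]; exact hc
  obtain ⟨g, hg'⟩ : ∃ g, g = refl Q x hx0 * (refl Q u hu * refl Q w hw) := ⟨_, rfl⟩
  have hdet : dt g = -1 := by
    rw [hg', dt_mul, dt_mul, dt_refl, dt_refl, dt_refl]; ring
  obtain ⟨y, hy, hg⟩ := refl_of_det h2 Q hQ hcard g hdet
  have hχ : chi (⇑Q) c g = -1 := by
    rw [hg', map_mul, map_mul, chi_refl h2 Q c hc x hx0, chi_refl h2 Q c hc u hu,
      chi_refl h2 Q c hc w hw, if_pos ⟨c, by rw [hx]⟩, if_neg hcu, if_neg hcw]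
    rfl
  rw [hg, chi_refl h2 Q c hc y hy] at hχ
  have hsq : IsSquare (c * Q y) := by
    by_contra hns
    rw [if_neg hns] at hχ
    exact absurd hχ (by decide)
  obtain ⟨s, hs⟩ := hsq
  have hs0 : s ≠ 0 := by
    rintro rfl
    rw [mul_zero] at hs
    exact (mul_ne_zero hc hy) hs
  have hyH : refl Q y hy ∈ H Q c := by
    apply refl_mem_H Q c y hy (s / c) (div_ne_zero hs0 hc)
    field_simp
    linear_combination hs
  have e : refl Q u hu * refl Q w hw = refl Q x hx0 * g := by
    rw [hg', ← mul_assoc, refl_mul_self, one_mul]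
  rw [e, hg]
  exact mul_mem (refl_mem_H Q c x hx0 1 one_ne_zero (by rw [hx]; ring)) hyH

/-- Index two from the pair lemma. -/
theorem index_H_of_pair (h2 : (2 : F) ≠ 0) (Q : QuadraticForm F (ι → F))
    (hQ : (polarBilin Q).Nondegenerate) (hn : 2 ≤ Fintype.card ι) (c : F) (hc : c ≠ 0)
    (hpair : ∀ (u w : ι → F) (hu : Q u ≠ 0) (hw : Q w ≠ 0), ¬IsSquare (c * Q u) →
      ¬IsSquare (c * Q w) → refl Q u hu * refl Q w hw ∈ H Q c) :
    (H Q c).index = 2 := by
  classical
  obtain ⟨ν, hν⟩ := FiniteField.exists_nonsquare (ringChar_ne_two h2) (F := F)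
  have hν0 : ν ≠ 0 := by
    rintro rfl
    exact hν ⟨0, by ring⟩
  have hχ : ∀ (v : ι → F) (hv : Q v ≠ 0),
      chi (⇑Q) (ν * c) (refl Q v hv) = if IsSquare (c * Q v) then 1 else -1 :=
    fun v hv => chi_refl_nonsq h2 Q c ν hc hν v hv
  obtain ⟨x₀, hx₀⟩ := exists_Q_eq h2 Q hQ hn (ν * c)
  have hx₀0 : Q x₀ ≠ 0 := by rw [hx₀]; exact mul_ne_zero hν0 hc
  have hx₀ns : ¬IsSquare (c * Q x₀) := by
    rw [hx₀]
    have : c * (ν * c) = ν * (c * c) := by ring
    rw [this, isSquare_nonsq_mul hν (mul_ne_zero hc hc)]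
    exact not_not.2 ⟨c, rfl⟩
  set r₀ := refl Q x₀ hx₀0 with hr₀
  have hr₀χ : chi (⇑Q) (ν * c) r₀ = -1 := by rw [hr₀, hχ, if_neg hx₀ns]
  have hle : H Q c ≤ (chi (⇑Q) (ν * c)).ker := by
    unfold H
    rw [Subgroup.closure_le]
    intro g hg
    obtain ⟨v, hv, t, ht, hvc, rfl⟩ := (mem_genSet_iff Q c hc g).1 hg
    show _ ∈ (chi (⇑Q) (ν * c)).ker
    rw [MonoidHom.mem_ker, hχ, if_pos]
    exact ⟨c * t, by rw [hvc]; ring⟩
  have hall : ∀ g : ↥(Cfsg.isometryGroup F ⇑Q), g ∈ H Q c ∨ g * r₀ ∈ H Q c := by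
    intro g
    have hg : g ∈ Subgroup.closure (Rset Q) := by rw [closure_Rset h2 Q hQ]; trivial
    induction hg using Subgroup.closure_induction with
    | mem x hx =>
      obtain ⟨v, hv, rfl⟩ := hx
      by_cases hsq : IsSquare (c * Q v)
      · left
        obtain ⟨s, hs⟩ := hsq
        have hs0 : s ≠ 0 := by
          rintro rfl
          rw [mul_zero] at hs
          exact (mul_ne_zero hc hv) hs
        apply refl_mem_H Q c v hv (s / c) (div_ne_zero hs0 hc)
        field_simp
        linear_combination hs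
      · right; exact hpair v x₀ hv hx₀0 hsq hx₀ns
    | one => left; exact one_mem _
    | mul x y _ _ hx hy =>
      have hr₀2 : r₀ * r₀ = 1 := refl_mul_self Q x₀ hx₀0
      have hr₀i : r₀⁻¹ = r₀ := refl_inv Q x₀ hx₀0
      rcases hx with hx | hx <;> rcases hy with hy | hy
      · left; exact mul_mem hx hy
      · right; rw [mul_assoc]; exact mul_mem hx hy
      · right
        have : x * y * r₀ = (x * r₀) * (r₀ * y * r₀⁻¹) := by
          rw [hr₀i]
          calc x * y * r₀ = x * (r₀ * r₀) * y * r₀ := by rw [hr₀2, mul_one]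
            _ = _ := by group
        rw [this]
        exact mul_mem hx ((H_normal Q c hc).conj_mem y hy r₀)
      · left
        have : x * y = (x * r₀) * (r₀ * (y * r₀) * r₀⁻¹) := by
          rw [hr₀i]
          calc x * y = x * (r₀ * r₀) * y * (r₀ * r₀) := by rw [hr₀2, mul_one, mul_one]
            _ = _ := by group
        rw [this]
        exact mul_mem hx ((H_normal Q c hc).conj_mem _ hy r₀)
    | inv x _ hx =>
      have hr₀2 : r₀ * r₀ = 1 := refl_mul_self Q x₀ hx₀0
      have hr₀i : r₀⁻¹ = r₀ := refl_inv Q x₀ hx₀0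
      rcases hx with hx | hx
      · left; exact inv_mem hx
      · right
        have : x⁻¹ * r₀ = r₀ * (x * r₀)⁻¹ * r₀⁻¹ := by
          rw [hr₀i, _root_.mul_inv_rev, hr₀i]
          calc x⁻¹ * r₀ = (r₀ * r₀) * x⁻¹ * r₀ := by rw [hr₀2, one_mul]
            _ = _ := by group
        rw [this]
        exact (H_normal Q c hc).conj_mem _ (inv_mem hx) r₀
  have heq : H Q c = (chi (⇑Q) (ν * c)).ker := by
    apply le_antisymm hle
    intro g hg
    rcases hall g with h | h
    · exact h
    · exfalso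
      have h1 := hle h
      rw [MonoidHom.mem_ker, map_mul, (MonoidHom.mem_ker).1 hg, one_mul, hr₀χ] at h1
      exact absurd h1 (by decide)
  rw [heq]
  exact index_ker_of_neg_one _ r₀ hr₀χ

/-- The pair lemma for vectors in the other class, dimension at least four. -/
theorem pair_mem_class (h2 : (2 : F) ≠ 0) (Q : QuadraticForm F (ι → F))
    (hQ : (polarBilin Q).Nondegenerate) (hn : 4 ≤ Fintype.card ι)
    (hnq : 5 ≤ Fintype.card ι ∨ 5 ≤ Fintype.card F) (c : F) (hc : c ≠ 0)
    (u w : ι → F) (hu : Q u ≠ 0) (hw : Q w ≠ 0) (hcu : ¬IsSquare (c * Q u))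
    (hcw : ¬IsSquare (c * Q w)) : refl Q u hu * refl Q w hw ∈ H Q c := by
  have hiff : IsSquare (c * Q u) ↔ IsSquare (c * Q w) :=
    ⟨fun h => absurd h hcu, fun h => absurd h hcw⟩
  obtain ⟨r, hr⟩ := isSquare_mul_of_iff (mul_ne_zero hc hu) (mul_ne_zero hc hw) hiff
  -- scale `w` to have the norm of `u`
  obtain ⟨t, ht⟩ : ∃ t : F, t = r / (c * Q w) := ⟨_, rfl⟩
  have hr0 : r ≠ 0 := by
    rintro rfl
    rw [mul_zero] at hr
    exact (mul_ne_zero (mul_ne_zero hc hu) (mul_ne_zero hc hw)) hr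
  have ht0 : t ≠ 0 := by rw [ht]; exact div_ne_zero hr0 (mul_ne_zero hc hw)
  have hQtw : Q (t • w) = Q u := by
    rw [QuadraticMap.map_smul, smul_eq_mul, ht]
    field_simp
    linear_combination -hr
  have htw : Q (t • w) ≠ 0 := by rw [hQtw]; exact hu
  rw [← refl_smul Q w hw t ht0 htw]
  exact pair_mem h2 Q hQ hn hnq c hc u (t • w) hu htw hQtw.symm

/-- Main theorem: index two. -/
theorem index_H (h2 : (2 : F) ≠ 0) (Q : QuadraticForm F (ι → F))
    (hQ : (polarBilin Q).Nondegenerate) (hn : 2 ≤ Fintype.card ι) (heven : Even (Fintype.card ι))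
    (h43 : ¬(Fintype.card ι = 4 ∧ Fintype.card F = 3)) (c : F) (hc : c ≠ 0) :
    (H Q c).index = 2 := by
  apply index_H_of_pair h2 Q hQ hn c hc
  intro u w hu hw hcu hcw
  by_cases h2' : Fintype.card ι = 2
  · exact pair_mem_two h2 Q hQ h2' c hc u w hu hw hcu hcw
  · have hn4 : 4 ≤ Fintype.card ι := by
      obtain ⟨k, hk⟩ := heven
      omega
    have hnq : 5 ≤ Fintype.card ι ∨ 5 ≤ Fintype.card F := by
      by_cases h4 : Fintype.card ι = 4
      · right
        have hodd : Fintype.card F % 2 = 1 :=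
          FiniteField.odd_card_of_char_ne_two (ringChar_ne_two h2)
        have h1 : 1 < Fintype.card F := Fintype.one_lt_card
        have h3 : Fintype.card F ≠ 3 := fun h => h43 ⟨h4, h⟩
        omega
      · left; omega
    exact pair_mem_class h2 Q hQ hn4 hnq c hc u w hu hw hcu hcw

end Cfsg.Agent.Lib.Helper19.ReflClass
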