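-- Similarities with scalar square: an element of `SO ∖ Ω` commuting with them.
import Mathlib
import Cfsg.Prelude.Def_Classical
import Cfsg.Prelude.Def_ClassicalGeometry
import Cfsg.Agent.Lib.Helper19.OrthSimInndiag
import Cfsg.Agent.Lib.Helper19.QuadExtUniv
import Cfsg.Agent.Lib.Helper19.ReflClass

set_option autoImplicit false

namespace Cfsg.Agent.Lib.Helper19.OrthRefl

open Matrix QuadraticMap Module Cfsg.Agent.Lib.Helper19.Parity

variable {ι : Type} [Fintype ι] [DecidableEq ι] {F : Type*} [Field F]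

/-- The action of a similarity on vectors. -/
def gv (Q : QuadraticForm F (ι → F)) (g : ↥(GO (⇑Q))) (x : ι → F) : ι → F :=
  ((g : Matrix.GeneralLinearGroup ι F) : Matrix ι ι F) *ᵥ x

theorem gv_add (Q : QuadraticForm F (ι → F)) (g : ↥(GO (⇑Q))) (x y : ι → F) :
    gv Q g (x + y) = gv Q g x + gv Q g y := Matrix.mulVec_add _ _ _

theorem gv_smul (Q : QuadraticForm F (ι → F)) (g : ↥(GO (⇑Q))) (t : F) (x : ι → F) :
    gv Q g (t • x) = t • gv Q g x := Matrix.mulVec_smul _ _ _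

theorem gv_sub (Q : QuadraticForm F (ι → F)) (g : ↥(GO (⇑Q))) (x y : ι → F) :
    gv Q g (x - y) = gv Q g x - gv Q g y := Matrix.mulVec_sub _ _ _

theorem Q_gv (Q : QuadraticForm F (ι → F)) (g : ↥(GO (⇑Q))) (x : ι → F) :
    Q (gv Q g x) = ((mult (⇑Q) g : Fˣ) : F) * Q x := mult_spec (⇑Q) g x

theorem polar_gv (Q : QuadraticForm F (ι → F)) (g : ↥(GO (⇑Q))) (x y : ι → F) :
    polar (⇑Q) (gv Q g x) (gv Q g y) = ((mult (⇑Q) g : Fˣ) : F) * polar (⇑Q) x y :=
  polar_sim Q g x y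

/-- Reflections in orthogonal vectors commute. -/
theorem refl_comm_of_orth (Q : QuadraticForm F (ι → F)) (v w : ι → F) (hv : Q v ≠ 0)
    (hw : Q w ≠ 0) (ho : polar (⇑Q) v w = 0) :
    refl Q v hv * refl Q w hw = refl Q w hw * refl Q v hv := by
  have hwv : polar (⇑Q) w v = 0 := by rw [QuadraticMap.polar_comm]; exact ho
  apply ext_act
  intro x
  rw [act_mul, act_mul, act_refl Q v hv, act_refl Q w hw, act_refl Q w hw, act_refl Q v hv]
  simp only [QuadraticMap.polar_sub_right, QuadraticMap.polar_smul_right, ho, hwv, smul_zero,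
    sub_zero]
  abel

variable (Q : QuadraticForm F (ι → F)) (g : ↥(GO (⇑Q))) (l : F)

/-- `polar (g x) y` in terms of `polar x (g y)` when `g² = l`. -/
theorem polar_gv_swap (hl : ∀ x, gv Q g (gv Q g x) = l • x) (x y : ι → F) :
    l * polar (⇑Q) (gv Q g x) y = ((mult (⇑Q) g : Fˣ) : F) * polar (⇑Q) x (gv Q g y) := by
  have h := polar_gv Q g x (gv Q g y)
  rw [hl, QuadraticMap.polar_smul_right, smul_eq_mul] at h
  exact h

theorem l_sq (hl : ∀ x, gv Q g (gv Q g x) = l • x) {u : ι → F} (hu : Q u ≠ 0) :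
    l * l = ((mult (⇑Q) g : Fˣ) : F) * ((mult (⇑Q) g : Fˣ) : F) := by
  have h := Q_gv Q g (gv Q g u)
  rw [hl, QuadraticMap.map_smul, Q_gv, smul_eq_mul] at h
  have : (l * l - ((mult (⇑Q) g : Fˣ) : F) * ((mult (⇑Q) g : Fˣ) : F)) * Q u = 0 := by
    linear_combination h
  rcases mul_eq_zero.1 this with h' | h'
  · linear_combination h'
  · exact absurd h' hu

/-- The product of the reflections in `w` and `g w`, for `w ⊥ g w`, commutes with `g`. -/
theorem conjO_pair (hl : ∀ x, gv Q g (gv Q g x) = l • x) (hl0 : l ≠ 0) (w : ι → F) (hw : Q w ≠ 0)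
    (hgw : Q (gv Q g w) ≠ 0) (ho : polar (⇑Q) w (gv Q g w) = 0) :
    conjO (⇑Q) g (refl Q w hw * refl Q (gv Q g w) hgw) = refl Q w hw * refl Q (gv Q g w) hgw := by
  have hggw : Q (gv Q g (gv Q g w)) ≠ 0 := by
    rw [Q_gv]; exact mul_ne_zero (Units.ne_zero _) hgw
  rw [map_mul, conjO_refl Q w hw g hgw, conjO_refl Q (gv Q g w) hgw g hggw]
  show refl Q (gv Q g w) hgw * refl Q (gv Q g (gv Q g w)) hggw = _
  have hlw : Q (l • w) ≠ 0 := by rw [← hl]; exact hggw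
  rw [refl_congr Q _ (l • w) hggw hlw (hl w), refl_smul Q w hw l hl0 hlw]
  exact (refl_comm_of_orth Q w (gv Q g w) hw hgw ho).symm

variable [Fintype F]

/-- The product of the reflections in `w` and `g w` is not in `Ω` when the multiplier is not a
square. -/
theorem pair_not_mem_Omega (h2 : (2 : F) ≠ 0) (hQ : (polarBilin Q).Nondegenerate)
    (hn : 2 ≤ Fintype.card ι) (hμ : ¬ IsSquare ((mult (⇑Q) g : Fˣ) : F)) (w : ι → F) (hw : Q w ≠ 0)
    (hgw : Q (gv Q g w) ≠ 0) :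
    refl Q w hw * refl Q (gv Q g w) hgw ∈ Cfsg.specialIsometryGroup F (⇑Q) ∧
      refl Q w hw * refl Q (gv Q g w) hgw ∉ Cfsg.Omega F (⇑Q) := by
  classical
  constructor
  · rw [mem_special_iff, Subgroup.coe_mul, Units.val_mul, Matrix.det_mul, refl_det, refl_det]
    ring
  · rw [mem_Omega_iff h2 Q hQ hn (Q w) hw]
    rintro ⟨-, h⟩
    rw [map_mul, chi_refl h2 Q (Q w) hw w hw, chi_refl h2 Q (Q w) hw _ hgw, if_pos ⟨Q w, rfl⟩,
      if_neg] at h
    · exact absurd h (by decide)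
    · rintro ⟨y, hy⟩
      apply hμ
      rw [Q_gv] at hy
      refine ⟨y / Q w, ?_⟩
      field_simp
      linear_combination hy

/-- Existence of the commuting element when the multiplier is not a square, given a non-singular
`w` with `w ⊥ g w`. -/
theorem exists_comm_of_orth (h2 : (2 : F) ≠ 0) (hQ : (polarBilin Q).Nondegenerate)
    (hn : 2 ≤ Fintype.card ι) (hl : ∀ x, gv Q g (gv Q g x) = l • x) (hl0 : l ≠ 0)
    (hμ : ¬ IsSquare ((mult (⇑Q) g : Fˣ) : F)) (w : ι → F) (hw : Q w ≠ 0)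
    (ho : polar (⇑Q) w (gv Q g w) = 0) :
    ∃ s : ↥(Cfsg.isometryGroup F (⇑Q)), s ∈ Cfsg.specialIsometryGroup F (⇑Q) ∧
      s ∉ Cfsg.Omega F (⇑Q) ∧ conjO (⇑Q) g s = s := by
  have hgw : Q (gv Q g w) ≠ 0 := by rw [Q_gv]; exact mul_ne_zero (Units.ne_zero _) hw
  obtain ⟨h1, h3⟩ := pair_not_mem_Omega Q g h2 hQ hn hμ w hw hgw
  exact ⟨_, h1, h3, conjO_pair Q g l hl hl0 w hw hgw ho⟩

/-- Case `l ≠ μ`: every vector is orthogonal to its image. -/
theorem polar_self_gv_of_ne (hl : ∀ x, gv Q g (gv Q g x) = l • x)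
    (hne : l ≠ ((mult (⇑Q) g : Fˣ) : F)) (x : ι → F) : polar (⇑Q) x (gv Q g x) = 0 := by
  have h := polar_gv_swap Q g l hl x x
  rw [QuadraticMap.polar_comm (⇑Q) (gv Q g x) x] at h
  have : (l - ((mult (⇑Q) g : Fˣ) : F)) * polar (⇑Q) x (gv Q g x) = 0 := by linear_combination h
  rcases mul_eq_zero.1 this with h' | h'
  · exact absurd (by linear_combination h') hne
  · exact h'

end Cfsg.Agent.Lib.Helper19.OrthRefl

namespace Cfsg.Agent.Lib.Helper19.OrthRefl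

open Matrix QuadraticMap Module Cfsg.Agent.Lib.Helper19.Parity

variable {ι : Type} [Fintype ι] [DecidableEq ι] {F : Type*} [Field F]

variable (Q : QuadraticForm F (ι → F)) (g : ↥(GO (⇑Q)))

/-- Self-adjointness when `g² = μ`. -/
theorem polar_gv_selfadj (hl : ∀ x, gv Q g (gv Q g x) = ((mult (⇑Q) g : Fˣ) : F) • x)
    (x y : ι → F) : polar (⇑Q) (gv Q g x) y = polar (⇑Q) x (gv Q g y) := by
  have h := polar_gv_swap Q g _ hl x y
  exact mul_left_cancel₀ (Units.ne_zero _) h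

/-- The values of `Q` and of `x ↦ polar x (g x)` on the span of `v₁, g v₁, v₂, g v₂` for two
vectors orthogonal in the strong sense. -/
theorem quad_values (hl : ∀ x, gv Q g (gv Q g x) = ((mult (⇑Q) g : Fˣ) : F) • x)
    (v₁ v₂ : ι → F) (h12 : polar (⇑Q) v₁ v₂ = 0) (hg12 : polar (⇑Q) (gv Q g v₁) v₂ = 0)
    (a b c d : F) :
    Q (a • v₁ + b • gv Q g v₁ + (c • v₂ + d • gv Q g v₂))
      = (Q v₁ * (a ^ 2 + ((mult (⇑Q) g : Fˣ) : F) * b ^ 2) + polar (⇑Q) v₁ (gv Q g v₁) * (a * b))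
        + (Q v₂ * (c ^ 2 + ((mult (⇑Q) g : Fˣ) : F) * d ^ 2)
          + polar (⇑Q) v₂ (gv Q g v₂) * (c * d)) ∧
    polar (⇑Q) (a • v₁ + b • gv Q g v₁ + (c • v₂ + d • gv Q g v₂))
        (gv Q g (a • v₁ + b • gv Q g v₁ + (c • v₂ + d • gv Q g v₂)))
      = (polar (⇑Q) v₁ (gv Q g v₁) * (a ^ 2 + ((mult (⇑Q) g : Fˣ) : F) * b ^ 2)
          + 4 * ((mult (⇑Q) g : Fˣ) : F) * Q v₁ * (a * b))
        + (polar (⇑Q) v₂ (gv Q g v₂) * (c ^ 2 + ((mult (⇑Q) g : Fˣ) : F) * d ^ 2)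
          + 4 * ((mult (⇑Q) g : Fˣ) : F) * Q v₂ * (c * d)) := by
  set μ : F := ((mult (⇑Q) g : Fˣ) : F) with hμ
  set w₁ := gv Q g v₁ with hw₁
  set w₂ := gv Q g v₂ with hw₂
  have hsa := polar_gv_selfadj Q g hl
  -- basic values
  have e11 : polar (⇑Q) v₁ v₁ = 2 * Q v₁ := polar_self' Q v₁
  have e22 : polar (⇑Q) v₂ v₂ = 2 * Q v₂ := polar_self' Q v₂
  have eQw1 : Q w₁ = μ * Q v₁ := Q_gv Q g v₁
  have eQw2 : Q w₂ = μ * Q v₂ := Q_gv Q g v₂
  have ew1w1 : polar (⇑Q) w₁ w₁ = 2 * (μ * Q v₁) := by rw [polar_self', eQw1]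
  have ew2w2 : polar (⇑Q) w₂ w₂ = 2 * (μ * Q v₂) := by rw [polar_self', eQw2]
  have ew1v1 : polar (⇑Q) w₁ v₁ = polar (⇑Q) v₁ w₁ := QuadraticMap.polar_comm _ _ _
  have ew2v2 : polar (⇑Q) w₂ v₂ = polar (⇑Q) v₂ w₂ := QuadraticMap.polar_comm _ _ _
  have e21 : polar (⇑Q) v₂ v₁ = 0 := by rw [QuadraticMap.polar_comm]; exact h12
  have ev1w2 : polar (⇑Q) v₁ w₂ = 0 := by rw [hw₂, ← hsa]; exact hg12
  have ew2v1 : polar (⇑Q) w₂ v₁ = 0 := by rw [QuadraticMap.polar_comm]; exact ev1w2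
  have ev2w1 : polar (⇑Q) v₂ w₁ = 0 := by rw [QuadraticMap.polar_comm]; exact hg12
  have ew1w2 : polar (⇑Q) w₁ w₂ = 0 := by rw [hw₁, hw₂, polar_gv, h12, mul_zero]
  have ew2w1 : polar (⇑Q) w₂ w₁ = 0 := by rw [QuadraticMap.polar_comm]; exact ew1w2
  have hgx : gv Q g (a • v₁ + b • w₁ + (c • v₂ + d • w₂))
      = a • w₁ + (b * μ) • v₁ + (c • w₂ + (d * μ) • v₂) := by
    rw [gv_add, gv_add, gv_add, gv_smul, gv_smul, gv_smul, gv_smul, hw₁, hw₂, hl, hl, smul_smul,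
      smul_smul]
  constructor
  · have hQ1 : ∀ (x y : ι → F), Q (x + y) = Q x + Q y + polar (⇑Q) x y :=
      fun x y => QuadraticMap.map_add (⇑Q) x y
    rw [hQ1, hQ1 (a • v₁), hQ1 (c • v₂)]
    simp only [QuadraticMap.map_smul, QuadraticMap.polar_add_left, QuadraticMap.polar_add_right,
      QuadraticMap.polar_smul_left, QuadraticMap.polar_smul_right, smul_eq_mul, eQw1, eQw2, h12,
      hg12, ev1w2, ew1w2, mul_zero, add_zero]
    ring
  · rw [hgx]
    simp only [QuadraticMap.polar_add_left, QuadraticMap.polar_add_right,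
      QuadraticMap.polar_smul_left, QuadraticMap.polar_smul_right, smul_eq_mul, e11, e22, ew1w1,
      ew2w2, ew1v1, ew2v2, h12, e21, hg12, ev1w2, ew2v1, ev2w1, ew1w2, ew2w1, mul_zero, add_zero,
      zero_add]
    ring

variable [Fintype F]

/-- Case `g² = μ` with `μ` a non-square: a non-singular vector orthogonal to its image. -/
theorem exists_orth_image (h2 : (2 : F) ≠ 0) (hQ : (polarBilin Q).Nondegenerate)
    (hn : 5 ≤ Fintype.card ι)
    (hl : ∀ x, gv Q g (gv Q g x) = ((mult (⇑Q) g : Fˣ) : F) • x)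
    (hμ : ¬ IsSquare ((mult (⇑Q) g : Fˣ) : F)) :
    ∃ w : ι → F, Q w ≠ 0 ∧ polar (⇑Q) w (gv Q g w) = 0 := by
  have hodd : Odd (Fintype.card F) := by
    rw [Nat.odd_iff]
    exact FiniteField.odd_card_of_char_ne_two (ringChar_ne_two h2)
  obtain ⟨v₁, hv₁⟩ := exists_Q_eq h2 Q hQ (by omega) 1
  have hv₁0 : Q v₁ ≠ 0 := by rw [hv₁]; exact one_ne_zero
  obtain ⟨v₂, hv₂0, h12, hg12⟩ := exists_nonsing_orth_pair Q hQ hn v₁ (gv Q g v₁)
  obtain ⟨a, b, c, d, e1, e2⟩ := Cfsg.Agent.Lib.Helper19.QuadExtUniv.exists_coords hodd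
    ((mult (⇑Q) g : Fˣ) : F) hμ (Q v₁) (polar (⇑Q) v₁ (gv Q g v₁)) (Q v₂)
    (polar (⇑Q) v₂ (gv Q g v₂)) (Or.inl hv₁0) (Or.inl hv₂0)
  obtain ⟨hQw, hPw⟩ := quad_values Q g hl v₁ v₂ h12 hg12 a b c d
  refine ⟨a • v₁ + b • gv Q g v₁ + (c • v₂ + d • gv Q g v₂), ?_, ?_⟩
  · rw [hQw]
    intro h0
    rw [h0, mul_zero] at e2
    exact zero_ne_one e2
  · rw [hPw]
    exact e1

end Cfsg.Agent.Lib.Helper19.OrthRefl

namespace Cfsg.Agent.Lib.Helper19.OrthRefl

open Matrix QuadraticMap Module Cfsg.Agent.Lib.Helper19.Parity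

variable {ι : Type} [Fintype ι] [DecidableEq ι] {F : Type*} [Field F]

variable (Q : QuadraticForm F (ι → F)) (g : ↥(GO (⇑Q)))

/-- Eigenspaces of a similarity. -/
def eig (ε : F) : Submodule F (ι → F) where
  carrier := {x | gv Q g x = ε • x}
  add_mem' := by
    intro x y hx hy
    show gv Q g (x + y) = ε • (x + y)
    rw [gv_add, hx, hy, smul_add]
  zero_mem' := by
    show gv Q g 0 = ε • (0 : ι → F)
    rw [smul_zero]
    exact Matrix.mulVec_zero _
  smul_mem' := by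
    intro t x hx
    show gv Q g (t • x) = ε • (t • x)
    rw [gv_smul, hx, smul_comm]

theorem mem_eig {Q : QuadraticForm F (ι → F)} {g : ↥(GO (⇑Q))} {ε : F} {x : ι → F} :
    x ∈ eig Q g ε ↔ gv Q g x = ε • x := Iff.rfl

/-- The two eigenspaces span when `g² = ε²`. -/
theorem eig_sup (h2 : (2 : F) ≠ 0) (ε : F) (hε : ε ≠ 0)
    (hl : ∀ x, gv Q g (gv Q g x) = (ε * ε) • x) : eig Q g ε ⊔ eig Q g (-ε) = ⊤ := by
  rw [eq_top_iff]
  intro x _
  have hx : x = (2 : F)⁻¹ • (x + ε⁻¹ • gv Q g x) + (2 : F)⁻¹ • (x - ε⁻¹ • gv Q g x) := by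
    rw [← smul_add]
    have : x + ε⁻¹ • gv Q g x + (x - ε⁻¹ • gv Q g x) = (2 : F) • x := by
      rw [two_smul]; abel
    rw [this, smul_smul, inv_mul_cancel₀ h2, one_smul]
  rw [hx]
  apply Submodule.add_mem_sup
  · apply Submodule.smul_mem
    rw [mem_eig, gv_add, gv_smul, hl, smul_add, smul_smul, smul_smul]
    have e1 : ε⁻¹ * (ε * ε) = ε := by field_simp
    have e2 : ε * ε⁻¹ = 1 := mul_inv_cancel₀ hε
    rw [e1, e2, one_smul, add_comm]
  · apply Submodule.smul_mem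
    rw [mem_eig, gv_sub, gv_smul, hl, smul_sub, smul_smul, smul_smul]
    have e1 : ε⁻¹ * (ε * ε) = ε := by field_simp
    have e2 : -ε * ε⁻¹ = -1 := by rw [neg_mul, mul_inv_cancel₀ hε]
    rw [e1, e2, neg_one_smul, neg_smul]
    abel

/-- The eigenspaces for `ε` and `-ε` are orthogonal when the multiplier is `ε²`. -/
theorem eig_orth (h2 : (2 : F) ≠ 0) (ε : F) (hμ : ((mult (⇑Q) g : Fˣ) : F) = ε * ε)
    {x y : ι → F} (hx : x ∈ eig Q g ε) (hy : y ∈ eig Q g (-ε)) : polar (⇑Q) x y = 0 := by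
  have h := polar_gv Q g x y
  rw [mem_eig.1 hx, mem_eig.1 hy, QuadraticMap.polar_smul_left, QuadraticMap.polar_smul_right,
    smul_eq_mul, smul_eq_mul, hμ] at h
  have hε : ε ≠ 0 := by
    rintro rfl
    rw [mul_zero] at hμ
    exact (Units.ne_zero _) hμ
  have : (2 * (ε * ε)) * polar (⇑Q) x y = 0 := by linear_combination -h
  rcases mul_eq_zero.1 this with h' | h'
  · exact absurd h' (mul_ne_zero h2 (mul_ne_zero hε hε))
  · exact h'

/-- Each eigenspace is non-degenerate. -/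
theorem eig_nondeg (h2 : (2 : F) ≠ 0) (hQ : (polarBilin Q).Nondegenerate) (ε : F)
    (hμ : ((mult (⇑Q) g : Fˣ) : F) = ε * ε)
    (hl : ∀ x, gv Q g (gv Q g x) = (ε * ε) • x) : Nondeg Q (eig Q g ε) := by
  have hε : ε ≠ 0 := by
    rintro rfl
    rw [mul_zero] at hμ
    exact (Units.ne_zero _) hμ
  unfold Nondeg
  rw [eq_bot_iff]
  rintro x ⟨hx1, hx2⟩
  rw [Submodule.mem_bot]
  apply hQ.1 x
  intro y
  rw [QuadraticMap.polarBilin_apply_apply]
  have hy : y ∈ eig Q g ε ⊔ eig Q g (-ε) := by rw [eig_sup Q g h2 ε hε hl]; trivial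
  obtain ⟨y₁, hy₁, y₂, hy₂, rfl⟩ := Submodule.mem_sup.1 hy
  rw [QuadraticMap.polar_add_right, eig_orth Q g h2 ε hμ hx1 hy₂, add_zero,
    QuadraticMap.polar_comm]
  exact mem_orth.1 hx2 y₁ hy₁

variable [Fintype F]

/-- Case `g² = μ = θ²`: the commuting element. -/
theorem exists_comm_of_eig (h2 : (2 : F) ≠ 0) (hQ : (polarBilin Q).Nondegenerate)
    (hn : 3 ≤ Fintype.card ι) (θ : F) (hμ : ((mult (⇑Q) g : Fˣ) : F) = θ * θ)
    (hl : ∀ x, gv Q g (gv Q g x) = (θ * θ) • x) :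
    ∃ s : ↥(Cfsg.isometryGroup F (⇑Q)), s ∈ Cfsg.specialIsometryGroup F (⇑Q) ∧
      s ∉ Cfsg.Omega F (⇑Q) ∧ conjO (⇑Q) g s = s := by
  classical
  have hfr : finrank F (ι → F) = Fintype.card ι := Module.finrank_fintype_fun_eq_card F
  have hθ : θ ≠ 0 := by
    rintro rfl
    rw [mul_zero] at hμ
    exact (Units.ne_zero _) hμ
  have hsup := eig_sup Q g h2 θ hθ hl
  have hdim := Submodule.finrank_sup_add_finrank_inf_eq (eig Q g θ) (eig Q g (-θ))
  rw [hsup, finrank_top, hfr] at hdim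
  have hinf : finrank F ↥(eig Q g θ ⊓ eig Q g (-θ)) ≤ finrank F ↥(eig Q g θ) :=
    Submodule.finrank_mono inf_le_left
  -- choose the eigenvalue with a large eigenspace
  obtain ⟨ε, hεε, hε0, hfin⟩ : ∃ ε : F, ε * ε = θ * θ ∧ ε ≠ 0 ∧ 2 ≤ finrank F ↥(eig Q g ε) := by
    by_cases h : 2 ≤ finrank F ↥(eig Q g θ)
    · exact ⟨θ, rfl, hθ, h⟩
    · refine ⟨-θ, by ring, neg_ne_zero.2 hθ, ?_⟩
      omega
  have hμ' : ((mult (⇑Q) g : Fˣ) : F) = ε * ε := by rw [hμ, hεε]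
  have hl' : ∀ x, gv Q g (gv Q g x) = (ε * ε) • x := by intro x; rw [hl, hεε]
  have hnd := eig_nondeg Q g h2 hQ ε hμ' hl'
  obtain ⟨ν, hν⟩ := FiniteField.exists_nonsquare (ringChar_ne_two h2) (F := F)
  have hν0 : ν ≠ 0 := by
    rintro rfl
    exact hν ⟨0, by ring⟩
  obtain ⟨x, hxE, hQx⟩ := exists_Q_eq_in h2 Q hnd hfin 1
  obtain ⟨y, hyE, hQy⟩ := exists_Q_eq_in h2 Q hnd hfin ν
  have hx : Q x ≠ 0 := by rw [hQx]; exact one_ne_zero
  have hy : Q y ≠ 0 := by rw [hQy]; exact hν0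
  refine ⟨refl Q x hx * refl Q y hy, ?_, ?_, ?_⟩
  · rw [mem_special_iff, Subgroup.coe_mul, Units.val_mul, Matrix.det_mul, refl_det, refl_det]
    ring
  · rw [mem_Omega_iff h2 Q hQ (by omega) 1 one_ne_zero]
    rintro ⟨-, h⟩
    rw [map_mul, chi_refl h2 Q 1 one_ne_zero x hx, chi_refl h2 Q 1 one_ne_zero y hy, hQx, hQy,
      if_pos ⟨1, by ring⟩, if_neg (by rw [one_mul]; exact hν)] at h
    exact absurd h (by decide)
  · have hgx : Q (gv Q g x) ≠ 0 := by rw [Q_gv]; exact mul_ne_zero (Units.ne_zero _) hx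
    have hgy : Q (gv Q g y) ≠ 0 := by rw [Q_gv]; exact mul_ne_zero (Units.ne_zero _) hy
    rw [map_mul, conjO_refl Q x hx g hgx, conjO_refl Q y hy g hgy]
    show refl Q (gv Q g x) hgx * refl Q (gv Q g y) hgy = _
    have hex : Q (ε • x) ≠ 0 := by rw [← mem_eig.1 hxE]; exact hgx
    have hey : Q (ε • y) ≠ 0 := by rw [← mem_eig.1 hyE]; exact hgy
    rw [refl_congr Q _ (ε • x) hgx hex (mem_eig.1 hxE), refl_congr Q _ (ε • y) hgy hey
      (mem_eig.1 hyE), refl_smul Q x hx ε hε0 hex, refl_smul Q y hy ε hε0 hey]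

end Cfsg.Agent.Lib.Helper19.OrthRefl

namespace Cfsg.Agent.Lib.Helper19.OrthRefl

open Matrix QuadraticMap Module Cfsg.Agent.Lib.Helper19.Parity Cfsg.Agent.Lib.Helper19.QuadStd

variable {ι : Type} [Fintype ι] [DecidableEq ι] {F : Type*} [Field F]

section general

variable (Q : QuadraticForm F (ι → F)) (g : ↥(GO (⇑Q))) [Fintype F]

/-- The commuting element, in all cases except `μ` a square and `g² = -μ`. -/
theorem exists_comm (h2 : (2 : F) ≠ 0) (hQ : (polarBilin Q).Nondegenerate)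
    (hn : 5 ≤ Fintype.card ι) (l : F) (hl : ∀ x, gv Q g (gv Q g x) = l • x)
    (h1b : ¬ (IsSquare ((mult (⇑Q) g : Fˣ) : F) ∧ l = -((mult (⇑Q) g : Fˣ) : F))) :
    ∃ s : ↥(Cfsg.isometryGroup F (⇑Q)), s ∈ Cfsg.specialIsometryGroup F (⇑Q) ∧
      s ∉ Cfsg.Omega F (⇑Q) ∧ conjO (⇑Q) g s = s := by
  obtain ⟨u, hu1⟩ := exists_Q_eq h2 Q hQ (by omega) 1
  have hu : Q u ≠ 0 := by rw [hu1]; exact one_ne_zero
  set μ : F := ((mult (⇑Q) g : Fˣ) : F) with hμ
  have hμ0 : μ ≠ 0 := Units.ne_zero _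
  have hll := l_sq Q g l hl hu
  have hl0 : l ≠ 0 := by
    rintro rfl
    rw [mul_zero] at hll
    exact (mul_ne_zero hμ0 hμ0) hll.symm
  have hcases : l = μ ∨ l = -μ := by
    have : (l - μ) * (l + μ) = 0 := by linear_combination hll
    rcases mul_eq_zero.1 this with h | h
    · left; linear_combination h
    · right; linear_combination h
  by_cases hsq : IsSquare μ
  · have hlμ : l = μ := by
      rcases hcases with h | h
      · exact h
      · exact absurd ⟨hsq, h⟩ h1b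
    obtain ⟨θ, hθ⟩ := hsq
    exact exists_comm_of_eig Q g h2 hQ (by omega) θ hθ (by intro x; rw [hl, hlμ, hθ])
  · by_cases hlμ : l = μ
    · obtain ⟨w, hw, ho⟩ := exists_orth_image Q g h2 hQ hn (by intro x; rw [hl, hlμ]) hsq
      exact exists_comm_of_orth Q g l h2 hQ (by omega) hl hl0 hsq w hw ho
    · exact exists_comm_of_orth Q g l h2 hQ (by omega) hl hl0 hsq u hu
        (polar_self_gv_of_ne Q g l hl hlμ u)

end general

/-- The excluded case does not occur for class-interchanging similarities of a form of plus type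
when `m` is even or `-1` is a square. -/
theorem psc_of_sq_neg [Fintype F] (h2 : (2 : F) ≠ 0) (Q : QuadraticForm F (ι → F))
    (hQ : (polarBilin Q).Nondegenerate) (g : ↥(GO (⇑Q))) {m : ℕ}
    (hV : finrank F (ι → F) = 2 * m) (E₀ : Submodule F (ι → F)) (hE₀ : IsTS Q E₀)
    (hE₀n : finrank F E₀ = m) (l θ : F)
    (hl : ∀ x, gv Q g (gv Q g x) = l • x)
    (hμ : ((mult (⇑Q) g : Fˣ) : F) = θ * θ)
    (hlμ : l = -((mult (⇑Q) g : Fˣ) : F))
    (hcase : Even m ∨ IsSquare (-1 : F)) :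
    Cfsg.PreservesSingularClasses (⇑Q)
      ((g : Matrix.GeneralLinearGroup ι F) : Matrix ι ι F) := by
  classical
  have hμ0 : ((mult (⇑Q) g : Fˣ) : F) ≠ 0 := Units.ne_zero _
  have hθ0 : θ ≠ 0 := by
    rintro rfl
    rw [mul_zero] at hμ
    exact hμ0 hμ
  have htl : ∀ x, Matrix.toLin' ((g : Matrix.GeneralLinearGroup ι F) : Matrix ι ι F) x
      = gv Q g x := fun x => Matrix.toLin'_apply _ x
  by_cases hneg : IsSquare (-1 : F)
  · obtain ⟨i, hi⟩ := hneg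
    obtain ⟨ε, hε⟩ : ∃ ε : F, ε = i * θ := ⟨_, rfl⟩
    have hεε : ε * ε = l := by
      rw [hlμ, hμ, hε]
      linear_combination (θ * θ) * hi.symm
    have hε0 : ε ≠ 0 := by
      rw [hε]
      apply mul_ne_zero _ hθ0
      rintro rfl
      rw [mul_zero] at hi
      exact one_ne_zero (neg_eq_zero.1 hi)
    have hl' : ∀ x, gv Q g (gv Q g x) = (ε * ε) • x := by intro x; rw [hl, hεε]
    have hTS : ∀ δ : F, δ * δ = l → IsTS Q (eig Q g δ) := by
      intro δ hδ x hx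
      have h := Q_gv Q g x
      rw [mem_eig.1 hx, QuadraticMap.map_smul, smul_eq_mul, hδ, hlμ] at h
      have : (2 * ((mult (⇑Q) g : Fˣ) : F)) * Q x = 0 := by linear_combination -h
      rcases mul_eq_zero.1 this with h' | h'
      · exact absurd h' (mul_ne_zero h2 hμ0)
      · exact h'
    have hE := hTS ε hεε
    have hE' := hTS (-ε) (by rw [← hεε]; ring)
    have hsup := eig_sup Q g h2 ε hε0 hl'
    have hdim := Submodule.finrank_sup_add_finrank_inf_eq (eig Q g ε) (eig Q g (-ε))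
    rw [hsup, finrank_top, hV] at hdim
    have hinf : finrank F ↥(eig Q g ε ⊓ eig Q g (-ε)) ≤ finrank F ↥(eig Q g (-ε)) :=
      Submodule.finrank_mono inf_le_right
    have h1 := hE.finrank_le hQ
    have h3 := hE'.finrank_le hQ
    rw [hV] at h1 h3
    have hEn : finrank F ↥(eig Q g ε) = m := by omega
    have hmap : (eig Q g ε).map
        (Matrix.toLin' ((g : Matrix.GeneralLinearGroup ι F) : Matrix ι ι F)) = eig Q g ε := by
      apply le_antisymm
      · rintro _ ⟨x, hx, rfl⟩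
        rw [htl, mem_eig.1 hx]
        exact Submodule.smul_mem _ _ hx
      · intro y hy
        refine ⟨ε⁻¹ • y, Submodule.smul_mem _ _ hy, ?_⟩
        rw [htl, gv_smul, mem_eig.1 hy, smul_smul, inv_mul_cancel₀ hε0, one_smul]
    rw [psc_iff_parity Q hQ hV hE hEn g.1 _ (mult_spec (⇑Q) g), hmap, inf_idem, hEn, Nat.sub_self]
    exact ⟨0, rfl⟩
  · have hm : Even m := by
      rcases hcase with h | h
      · exact h
      · exact absurd h hneg
    rw [psc_iff_parity Q hQ hV hE₀ hE₀n g.1 _ (mult_spec (⇑Q) g)]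
    obtain ⟨W, hW⟩ : ∃ W : Submodule F (ι → F), W = E₀ ⊓ E₀.map
        (Matrix.toLin' ((g : Matrix.GeneralLinearGroup ι F) : Matrix ι ι F)) := ⟨_, rfl⟩
    rw [← hW]
    have hWle : finrank F ↥W ≤ m := by
      rw [← hE₀n, hW]
      exact Submodule.finrank_mono inf_le_left
    have hinv : ∀ x ∈ W,
        Matrix.toLin' ((g : Matrix.GeneralLinearGroup ι F) : Matrix ι ι F) x ∈ W := by
      intro x hx
      rw [hW] at hx ⊢
      obtain ⟨hx1, y, hy, rfl⟩ := hx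
      refine ⟨?_, ⟨_, hx1, rfl⟩⟩
      rw [htl, htl, hl]
      exact Submodule.smul_mem _ _ hy
    obtain ⟨J, hJ⟩ : ∃ J : ↥W →ₗ[F] ↥W, J =
        (Matrix.toLin' ((g : Matrix.GeneralLinearGroup ι F) : Matrix ι ι F)).restrict hinv :=
      ⟨_, rfl⟩
    have hJJ : J * J = l • (1 : Module.End F ↥W) := by
      apply LinearMap.ext
      intro x
      apply Subtype.ext
      rw [hJ]
      show Matrix.toLin' ((g : Matrix.GeneralLinearGroup ι F) : Matrix ι ι F)
        (Matrix.toLin' ((g : Matrix.GeneralLinearGroup ι F) : Matrix ι ι F) x.1) = l • x.1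
      rw [htl, htl, hl]
    have hdet : LinearMap.det J * LinearMap.det J = l ^ finrank F ↥W := by
      rw [← map_mul, hJJ, LinearMap.det_smul, map_one, mul_one]
    have hevW : Even (finrank F ↥W) := by
      by_contra hodd
      rw [Nat.not_even_iff_odd] at hodd
      obtain ⟨j, hj⟩ := hodd
      apply hneg
      have hl0 : l ≠ 0 := by rw [hlμ]; exact neg_ne_zero.2 hμ0
      have hlθ : l = -(θ * θ) := by rw [hlμ, hμ]
      have hpow : l ^ (2 * j + 1) = l ^ j * l ^ j * (-(θ * θ)) := by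
        rw [pow_succ, two_mul, pow_add, ← hlθ]
      rw [hj, hpow] at hdet
      have hlj : l ^ j ≠ 0 := pow_ne_zero j hl0
      have hLθ : l ^ j * θ ≠ 0 := mul_ne_zero hlj hθ0
      refine ⟨LinearMap.det J / (l ^ j * θ), ?_⟩
      rw [div_mul_div_comm, eq_div_iff (mul_ne_zero hLθ hLθ)]
      linear_combination -hdet
    rw [Nat.even_sub hWle]
    exact ⟨fun _ => hevW, fun _ => hm⟩

end Cfsg.Agent.Lib.Helper19.OrthRefl
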