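-- Counting the classes into which a conjugacy class splits.
import Mathlib
import Cfsg.Prelude.Def_LieTypeDatum

set_option autoImplicit false

namespace Cfsg.Agent.Lib.Helper19.SplitCount

open Cfsg

variable {X : Type*} [Group X]

theorem isConjUnder_refl (K : Subgroup X) (x : X) : IsConjUnder K x x :=
  ⟨1, K.one_mem, by simp⟩

theorem isConjUnder_symm {K : Subgroup X} {x y : X} (h : IsConjUnder K x y) : IsConjUnder K y x := by
  obtain ⟨k, hk, rfl⟩ := h
  exact ⟨k⁻¹, K.inv_mem hk, by group⟩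

theorem isConjUnder_trans {K : Subgroup X} {x y z : X} (h1 : IsConjUnder K x y)
    (h2 : IsConjUnder K y z) : IsConjUnder K x z := by
  obtain ⟨k, hk, rfl⟩ := h1
  obtain ⟨l, hl, rfl⟩ := h2
  exact ⟨l * k, K.mul_mem hl hk, by group⟩

/-- If every conjugate is `K`-conjugate to one of two given ones, the count is `1` or `2`. -/
theorem splitClassCount_le_two (H K : Subgroup X) (x h₁ : X) (hh₁ : h₁ ∈ H)
    (hcover : ∀ h ∈ H, IsConjUnder K x (h * x * h⁻¹) ∨
      IsConjUnder K (h₁ * x * h₁⁻¹) (h * x * h⁻¹)) :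
    splitClassCount H K x = 1 ∨ splitClassCount H K x = 2 := by
  unfold splitClassCount
  set S := {y : X // IsConjUnder H x y} with hS
  set r : S → S → Prop := fun y z => IsConjUnder K y.1 z.1 with hr
  let p₀ : S := ⟨x, 1, H.one_mem, by simp⟩
  let p₁ : S := ⟨h₁ * x * h₁⁻¹, h₁, hh₁, rfl⟩
  let f : Bool → Quot r := fun b => if b then Quot.mk r p₁ else Quot.mk r p₀
  have hf : Function.Surjective f := by
    intro z
    induction z using Quot.ind with
    | mk y =>
      obtain ⟨y, h, hh, rfl⟩ := y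
      rcases hcover h hh with h' | h'
      · refine ⟨false, ?_⟩
        show Quot.mk r p₀ = _
        exact Quot.sound h'
      · refine ⟨true, ?_⟩
        show Quot.mk r p₁ = _
        exact Quot.sound h'
  haveI : Finite (Quot r) := Finite.of_surjective f hf
  have h1 : Nat.card (Quot r) ≤ 2 := by
    have := Nat.card_le_card_of_surjective f hf
    have hb : Nat.card Bool = 2 := by rw [Nat.card_eq_fintype_card, Fintype.card_bool]
    rwa [hb] at this
  haveI : Nonempty (Quot r) := ⟨Quot.mk r p₀⟩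
  have h0 : 0 < Nat.card (Quot r) := Nat.card_pos
  omega

/-- If moreover the two are not `K`-conjugate, the count is `2`. -/
theorem splitClassCount_eq_two (H K : Subgroup X) (x h₁ : X) (hh₁ : h₁ ∈ H)
    (hcover : ∀ h ∈ H, IsConjUnder K x (h * x * h⁻¹) ∨
      IsConjUnder K (h₁ * x * h₁⁻¹) (h * x * h⁻¹))
    (hne : ¬ IsConjUnder K x (h₁ * x * h₁⁻¹)) :
    splitClassCount H K x = 2 := by
  rcases splitClassCount_le_two H K x h₁ hh₁ hcover with h | h
  · exfalso
    unfold splitClassCount at h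
    set S := {y : X // IsConjUnder H x y} with hS
    set r : S → S → Prop := fun y z => IsConjUnder K y.1 z.1 with hr
    let p₀ : S := ⟨x, 1, H.one_mem, by simp⟩
    let p₁ : S := ⟨h₁ * x * h₁⁻¹, h₁, hh₁, rfl⟩
    have hsub : Subsingleton (Quot r) := by
      haveI : Finite (Quot r) := Nat.finite_of_card_ne_zero (by rw [h]; norm_num)
      exact (Nat.card_eq_one_iff_unique.1 h).1
    let φ : Quot r → Prop := Quot.lift (fun y : S => IsConjUnder K x y.1) (by
      intro a b hab
      apply propext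
      exact ⟨fun h' => isConjUnder_trans h' hab,
        fun h' => isConjUnder_trans h' (isConjUnder_symm hab)⟩)
    have e : Quot.mk r p₀ = Quot.mk r p₁ := Subsingleton.elim _ _
    have h0 : φ (Quot.mk r p₀) := isConjUnder_refl K x
    rw [e] at h0
    exact hne h0
  · exact h

/-- Covering from a subgroup `M` of index at most two in `H` contained in `K C_H(x)`. -/
theorem cover_of_subgroup (H K M : Subgroup X) (hKn : ∀ k ∈ K, ∀ h ∈ H, h * k * h⁻¹ ∈ K)
    (x h₁ : X) (hh₁ : h₁ ∈ H) (hM : ∀ m ∈ M, IsConjUnder K x (m * x * m⁻¹))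
    (hHM : ∀ h ∈ H, h ∈ M ∨ h₁⁻¹ * h ∈ M) :
    ∀ h ∈ H, IsConjUnder K x (h * x * h⁻¹) ∨ IsConjUnder K (h₁ * x * h₁⁻¹) (h * x * h⁻¹) := by
  intro h hh
  rcases hHM h hh with hm | hm
  · left; exact hM h hm
  · right
    obtain ⟨k, hk, e⟩ := hM _ hm
    refine ⟨h₁ * k * h₁⁻¹, hKn k hk h₁ hh₁, ?_⟩
    have e' : h * x * h⁻¹ = h₁ * ((h₁⁻¹ * h) * x * (h₁⁻¹ * h)⁻¹) * h₁⁻¹ := by group
    rw [e', e]
    group

end Cfsg.Agent.Lib.Helper19.SplitCount
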