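-- Splitting of the inner-diagonal class of an involutory graph automorphism (general form).
import Mathlib
import Cfsg.Prelude.Def_Classical
import Cfsg.Prelude.Def_ClassicalGeometry
import Cfsg.Agent.Lib.Helper19.OrthSimSplit
import Cfsg.Agent.Lib.Helper19.SplitCount

set_option autoImplicit false

namespace Cfsg.Agent.Lib.Helper19.OrthRefl

open Matrix QuadraticMap Module Cfsg.Agent.Lib.Helper19.Parity Cfsg.Agent.Lib.Helper19.SplitCount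

variable {ι : Type} [Fintype ι] [DecidableEq ι] {F : Type*} [Field F] [Fintype F]

/-- The inner-diagonal group in terms of similarities. -/
noncomputable def HH (h2 : (2 : F) ≠ 0) (Q : QuadraticForm F (ι → F))
    (hQ : (polarBilin Q).Nondegenerate) {u : ι → F} (hu : Q u ≠ 0) (k : ℕ)
    (hk : Fintype.card ι = 2 * k) : Subgroup (MulAut (Cfsg.POmega F (⇑Q))) :=
  (psi2 h2 Q hQ hu k hk).ker.map (autGO (⇑Q))

theorem inn_conj_mem (Q : QuadraticForm F (ι → F)) :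
    ∀ k ∈ Cfsg.Inn (Cfsg.POmega F (⇑Q)), ∀ h : MulAut (Cfsg.POmega F (⇑Q)),
      h * k * h⁻¹ ∈ Cfsg.Inn (Cfsg.POmega F (⇑Q)) :=
  fun k hk h => (Cfsg.innNormal (Cfsg.POmega F (⇑Q))).conj_mem k hk h

theorem autGO_mem_inn_iff (Q : QuadraticForm F (ι → F)) (d : ↥(GO (⇑Q))) :
    autGO (⇑Q) d ∈ Cfsg.Inn (Cfsg.POmega F (⇑Q)) ↔ d ∈ NN Q := by
  rw [NN_eq_comap, Subgroup.mem_comap]

/-- Case `-1 ∉ Ω`: at most two classes. -/
theorem split_le_two (h2 : (2 : F) ≠ 0) (Q : QuadraticForm F (ι → F))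
    (hQ : (polarBilin Q).Nondegenerate) (hn : 5 ≤ Fintype.card ι) {u : ι → F} (hu : Q u ≠ 0)
    (k : ℕ) (hk : Fintype.card ι = 2 * k)
    (hd : ∃ d : ↥(GO (⇑Q)), ¬ IsSquare ((mult (⇑Q) d : Fˣ) : F))
    (hneg : negOne Q ∉ Cfsg.Omega F (⇑Q)) (γ : MulAut (Cfsg.POmega F (⇑Q))) :
    Cfsg.splitClassCount (HH h2 Q hQ hu k hk) (Cfsg.Inn (Cfsg.POmega F (⇑Q))) γ = 1 ∨
      Cfsg.splitClassCount (HH h2 Q hQ hu k hk) (Cfsg.Inn (Cfsg.POmega F (⇑Q))) γ = 2 := by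
  have hrel := relIndex_NN h2 Q hQ hn hu k hk hd
  rw [relIndex_inn_pso_of_not_mem h2 Q hQ hn ⟨k, by rw [hk]; ring⟩ hneg, one_mul] at hrel
  set A := (psi2 h2 Q hQ hu k hk).ker with hA
  have hidx : ((NN Q).subgroupOf A).index = 2 := hrel
  -- an element outside
  obtain ⟨d₁, hd₁⟩ : ∃ d₁ : ↥A, d₁ ∉ (NN Q).subgroupOf A := by
    by_contra hcon
    push Not at hcon
    have : (NN Q).subgroupOf A = ⊤ := by
      rw [eq_top_iff]; intro x _; exact hcon x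
    rw [this, Subgroup.index_top] at hidx
    omega
  have hh₁ : autGO (⇑Q) d₁.1 ∈ HH h2 Q hQ hu k hk := ⟨d₁.1, d₁.2, rfl⟩
  apply splitClassCount_le_two _ _ γ (autGO (⇑Q) d₁.1) hh₁
  apply cover_of_subgroup _ _ (Cfsg.Inn (Cfsg.POmega F (⇑Q)))
    (fun k hk h _ => inn_conj_mem Q k hk h) γ _ hh₁
  · intro m hm
    exact ⟨m, hm, rfl⟩
  · rintro _ ⟨d, hdA, rfl⟩
    by_cases hdN : d ∈ NN Q
    · left; exact (autGO_mem_inn_iff Q d).2 hdN
    · right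
      rw [← map_inv, ← map_mul, autGO_mem_inn_iff]
      have h := Subgroup.mul_mem_iff_of_index_two hidx (a := d₁⁻¹) (b := ⟨d, hdA⟩)
      have h1 : d₁⁻¹ ∉ (NN Q).subgroupOf A := fun h' => hd₁ (by simpa using inv_mem h')
      have h3 : (⟨d, hdA⟩ : ↥A) ∉ (NN Q).subgroupOf A := hdN
      have := h.2 ⟨fun h' => absurd h' h1, fun h' => absurd h' h3⟩
      exact this

/-- Case `-1 ∈ Ω`: exactly two classes. -/
theorem split_eq_two (h2 : (2 : F) ≠ 0) (Q : QuadraticForm F (ι → F))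
    (hQ : (polarBilin Q).Nondegenerate) (hn : 5 ≤ Fintype.card ι) {u : ι → F} (hu : Q u ≠ 0)
    (k : ℕ) (hk : Fintype.card ι = 2 * k)
    (hd : ∃ d : ↥(GO (⇑Q)), ¬ IsSquare ((mult (⇑Q) d : Fˣ) : F))
    (hneg : negOne Q ∈ Cfsg.Omega F (⇑Q)) (g : ↥(GO (⇑Q)))
    (hg2 : psi2 h2 Q hQ hu k hk g = -1)
    (s : ↥(Cfsg.isometryGroup F (⇑Q))) (hsSO : s ∈ Cfsg.specialIsometryGroup F (⇑Q))
    (hsO : s ∉ Cfsg.Omega F (⇑Q)) (hsg : conjO (⇑Q) g s = s) :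
    Cfsg.splitClassCount (HH h2 Q hQ hu k hk) (Cfsg.Inn (Cfsg.POmega F (⇑Q))) (autGO (⇑Q) g)
      = 2 := by
  classical
  set γ := autGO (⇑Q) g with hγ
  set A := (psi2 h2 Q hQ hu k hk).ker with hA
  set K := Cfsg.Inn (Cfsg.POmega F (⇑Q)) with hK
  have hOm := Omega_eq h2 Q hQ (by omega) (Q u) hu
  -- the commuting automorphism
  set a := autHom (⇑Q) s with ha
  have hcomm : γ * a * γ⁻¹ = a := by
    rw [ha, ← autGO_inclO, hγ, ← map_inv, ← map_mul, ← map_mul]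
    congr 1
    have : inclO (⇑Q) (conjO (⇑Q) g s) = g * inclO (⇑Q) s * g⁻¹ := by
      apply Subtype.ext
      rfl
    rw [← this, hsg]
  have hcomm' : a * γ * a⁻¹ = γ := by
    have : γ * a = a * γ := by
      calc γ * a = (γ * a * γ⁻¹) * γ := by group
        _ = a * γ := by rw [hcomm]
    rw [← this]; group
  have hχs : chi (⇑Q) (Q u) s = -1 := by
    rcases Int.units_eq_one_or (chi (⇑Q) (Q u) s) with h | h
    · exfalso
      apply hsO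
      rw [hOm]
      exact ⟨hsSO, h⟩
    · exact h
  -- the element `d₁`
  obtain ⟨d₁, hd₁⟩ := psi_surjective h2 Q hQ hu k hk hd ((-1 : ℤˣ), (1 : ℤˣ))
  rw [MonoidHom.prod_apply, Prod.mk.injEq] at hd₁
  obtain ⟨hd₁1, hd₁2⟩ := hd₁
  have hh₁ : autGO (⇑Q) d₁ ∈ HH h2 Q hQ hu k hk := ⟨d₁, hd₁2, rfl⟩
  set M : Subgroup (MulAut (Cfsg.POmega F (⇑Q))) :=
    (((psi1 hu).prod (psi2 h2 Q hQ hu k hk)).ker).map (autGO (⇑Q)) with hM
  have hMconj : ∀ m ∈ M, Cfsg.IsConjUnder K γ (m * γ * m⁻¹) := by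
    rintro _ ⟨d, hdker, rfl⟩
    rw [ker_psi h2 Q hQ hn hu k hk] at hdker
    have hmul : (d : ↥(GO (⇑Q))) ∈ (((Cfsg.specialIsometryGroup F (⇑Q)).map (inclO (⇑Q)) ⊔
        (autGO (⇑Q)).ker : Subgroup ↥(GO (⇑Q))) : Set ↥(GO (⇑Q))) := hdker
    rw [Subgroup.mul_normal] at hmul
    obtain ⟨_, ⟨σ, hσ, rfl⟩, z, hz, rfl⟩ := hmul
    have hz1 : autGO (⇑Q) z = 1 := hz
    rw [map_mul, hz1, mul_one, autGO_inclO]
    by_cases hσχ : chi (⇑Q) (Q u) σ = 1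
    · have hσΩ : σ ∈ Cfsg.Omega F (⇑Q) := by rw [hOm]; exact ⟨hσ, hσχ⟩
      refine ⟨autHom (⇑Q) σ, ?_, rfl⟩
      rw [hK, inn_eq]
      exact ⟨σ, hσΩ, rfl⟩
    · have hσχ' : chi (⇑Q) (Q u) σ = -1 := by
        rcases Int.units_eq_one_or (chi (⇑Q) (Q u) σ) with h | h
        · exact absurd h hσχ
        · exact h
      have hωΩ : σ * s⁻¹ ∈ Cfsg.Omega F (⇑Q) := by
        rw [hOm]
        refine ⟨(Cfsg.specialIsometryGroup F (⇑Q)).mul_mem hσ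
          ((Cfsg.specialIsometryGroup F (⇑Q)).inv_mem hsSO), ?_⟩
        show chi (⇑Q) (Q u) (σ * s⁻¹) = 1
        rw [map_mul, map_inv, hσχ', hχs]
        rfl
      refine ⟨autHom (⇑Q) (σ * s⁻¹), ?_, ?_⟩
      · rw [hK, inn_eq]
        exact ⟨_, hωΩ, rfl⟩
      · have e : autHom (⇑Q) σ = autHom (⇑Q) (σ * s⁻¹) * a := by
          rw [ha, ← map_mul, inv_mul_cancel_right]
        rw [e]
        calc autHom (⇑Q) (σ * s⁻¹) * a * γ * (autHom (⇑Q) (σ * s⁻¹) * a)⁻¹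
            = autHom (⇑Q) (σ * s⁻¹) * (a * γ * a⁻¹) * (autHom (⇑Q) (σ * s⁻¹))⁻¹ := by group
          _ = _ := by rw [hcomm']
  have hHM : ∀ h ∈ HH h2 Q hQ hu k hk, h ∈ M ∨ (autGO (⇑Q) d₁)⁻¹ * h ∈ M := by
    rintro _ ⟨d, hdA, rfl⟩
    have hdA' : psi2 h2 Q hQ hu k hk d = 1 := hdA
    rcases Int.units_eq_one_or (psi1 hu d) with h | h
    · left
      refine ⟨d, ?_, rfl⟩
      rw [SetLike.mem_coe, MonoidHom.mem_ker, MonoidHom.prod_apply, h, hdA']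
      rfl
    · right
      refine ⟨d₁⁻¹ * d, ?_, by rw [map_mul, map_inv]⟩
      rw [SetLike.mem_coe, MonoidHom.mem_ker, MonoidHom.prod_apply, map_mul, map_mul, map_inv,
        map_inv, hd₁1, hd₁2, h, hdA']
      rfl
  have hcover := cover_of_subgroup (HH h2 Q hQ hu k hk) K M
    (fun k hk h _ => inn_conj_mem Q k hk h) γ _ hh₁ hMconj hHM
  apply splitClassCount_eq_two _ _ γ (autGO (⇑Q) d₁) hh₁ hcover
  -- the two conjugates are not conjugate under the inner automorphisms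
  rintro ⟨κ, hκ, hκe⟩
  rw [hK, inn_eq] at hκ
  obtain ⟨ω, hω, rfl⟩ := hκ
  rw [← autGO_inclO] at hκe
  set e := inclO (⇑Q) ω with he
  have heN : e ∈ NN Q := le_sup_left (b := (autGO (⇑Q)).ker) ⟨ω, hω, rfl⟩
  set d' := e⁻¹ * d₁ with hd'
  have hd'1 : psi1 hu d' = -1 := by
    have := NN_le_ker_psi1 h2 Q hQ hn hu k hk heN
    rw [MonoidHom.mem_ker] at this
    rw [hd', map_mul, map_inv, this, hd₁1]
    rfl
  have hd'2 : psi2 h2 Q hQ hu k hk d' = 1 := by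
    have := NN_le_ker_psi2 h2 Q hQ hn hu k hk heN
    rw [MonoidHom.mem_ker] at this
    rw [hd', map_mul, map_inv, this, hd₁2]
    rfl
  have hnsq : ¬ IsSquare ((mult (⇑Q) d' : Fˣ) : F) := by
    intro h
    rw [← psi1_eq_one_iff hu] at h
    rw [h] at hd'1
    exact absurd hd'1 (by decide)
  -- `d'` commutes with `g` modulo the kernel
  have hc0 : d' * g * d'⁻¹ * g⁻¹ ∈ NN Q := by
    apply le_sup_right (a := (Cfsg.Omega F (⇑Q)).map (inclO (⇑Q)))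
    rw [MonoidHom.mem_ker, map_mul, map_mul, map_mul, map_inv, map_inv, hd', map_mul, map_inv]
    have : (autGO (⇑Q) e)⁻¹ * autGO (⇑Q) d₁ * γ * ((autGO (⇑Q) e)⁻¹ * autGO (⇑Q) d₁)⁻¹ = γ := by
      calc (autGO (⇑Q) e)⁻¹ * autGO (⇑Q) d₁ * γ * ((autGO (⇑Q) e)⁻¹ * autGO (⇑Q) d₁)⁻¹
          = (autGO (⇑Q) e)⁻¹ * (autGO (⇑Q) d₁ * γ * (autGO (⇑Q) d₁)⁻¹) * autGO (⇑Q) e := by group
        _ = (autGO (⇑Q) e)⁻¹ * (autGO (⇑Q) e * γ * (autGO (⇑Q) e)⁻¹) * autGO (⇑Q) e := by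
            rw [hκe]
        _ = γ := by group
    rw [this, mul_inv_cancel]
  -- the quotient of `A` by `NN` is abelian
  have hcardq := card_quot_eq h2 Q hQ hn hu k hk hd
  rw [relIndex_inn_pso_of_mem h2 Q hQ hn hneg] at hcardq
  have hab : ∀ x y : ↥A, (x * y)⁻¹ * (y * x) ∈ (NN Q).subgroupOf A := by
    intro x y
    haveI : Fact (Nat.Prime 2) := ⟨Nat.prime_two⟩
    have hc := IsPGroup.commutative_of_card_eq_prime_sq (p := 2)
      (G := ↥A ⧸ (NN Q).subgroupOf A) (by rw [hcardq]; norm_num)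
    have := hc (QuotientGroup.mk x) (QuotientGroup.mk y)
    rw [← QuotientGroup.mk_mul, ← QuotientGroup.mk_mul, QuotientGroup.eq] at this
    exact this
  set r0 := refl Q u hu with hr0
  set r : ↥(GO (⇑Q)) := inclO (⇑Q) r0 with hr
  have hr2 : psi2 h2 Q hQ hu k hk r = -1 := psi2_refl h2 Q hQ hu k hk
  have haA : g⁻¹ * r ∈ A := by
    rw [hA, MonoidHom.mem_ker, map_mul, map_inv, hg2, hr2]
    rfl
  have hd'A : d' ∈ A := hd'2
  have hc1 : (d' * (g⁻¹ * r))⁻¹ * ((g⁻¹ * r) * d') ∈ NN Q :=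
    hab ⟨d', hd'A⟩ ⟨g⁻¹ * r, haA⟩
  -- pass to the quotient by `NN`
  have hfin : d' * r * d'⁻¹ * r⁻¹ ∈ NN Q := by
    rw [← QuotientGroup.eq_one_iff] at hc0 hc1 ⊢
    simp only [QuotientGroup.mk_mul, QuotientGroup.mk_inv] at hc0 hc1 ⊢
    set D := (QuotientGroup.mk d' : ↥(GO (⇑Q)) ⧸ NN Q) with hD
    set G := (QuotientGroup.mk g : ↥(GO (⇑Q)) ⧸ NN Q) with hG
    set R := (QuotientGroup.mk r : ↥(GO (⇑Q)) ⧸ NN Q) with hR
    have e1 : D * G = G * D := by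
      calc D * G = (D * G * D⁻¹ * G⁻¹) * G * D := by group
        _ = G * D := by rw [hc0, one_mul]
    have e2 : D * (G⁻¹ * R) = (G⁻¹ * R) * D := by
      calc D * (G⁻¹ * R) = (D * (G⁻¹ * R)) * ((D * (G⁻¹ * R))⁻¹ * (G⁻¹ * R * D)) := by
            rw [hc1, mul_one]
        _ = (G⁻¹ * R) * D := by group
    have e3 : D * R = R * D := by
      calc D * R = D * G * (G⁻¹ * R) := by group
        _ = G * D * (G⁻¹ * R) := by rw [e1]
        _ = G * (D * (G⁻¹ * R)) := by group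
        _ = G * ((G⁻¹ * R) * D) := by rw [e2]
        _ = R * D := by group
    calc D * R * D⁻¹ * R⁻¹ = (R * D) * D⁻¹ * R⁻¹ := by rw [e3]
      _ = 1 := by group
  -- contradiction with the spinor norm
  obtain ⟨hc1', hc2', hc3'⟩ := chi_pair h2 Q hu d' hnsq
  have hincl : d' * r * d'⁻¹ * r⁻¹ = inclO (⇑Q) (conjO (⇑Q) d' r0 * r0⁻¹) := by
    apply Subtype.ext
    rfl
  rw [hincl, inclO_mem_NN h2 Q hQ hn hneg, hOm] at hfin
  have h4 : chi (⇑Q) (Q u) (conjO (⇑Q) d' r0 * r0⁻¹) = 1 := hfin.2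
  rw [map_mul, map_inv, hc1', hc2'] at h4
  exact absurd h4 (by decide)

end Cfsg.Agent.Lib.Helper19.OrthRefl
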