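-- Simplicity of `PΩ` in dimension at least seven (Iwasawa's argument with Siegel transformations).
import Mathlib
import Cfsg.Prelude.Def_Classical
import Cfsg.Prelude.Def_ClassicalGeometry
import Cfsg.Agent.Lib.Helper19.OrthKernel

set_option autoImplicit false

namespace Cfsg.Agent.Lib.Helper19.OrthRefl

open Matrix QuadraticMap Module Cfsg.Agent.Lib.Helper19.Parity Cfsg.Agent.Lib.Helper19.WittQuad

variable {ι : Type} [Fintype ι] [DecidableEq ι] {F : Type*} [Field F]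

/-- `N` carries the point of `p` to the point of `z`. -/
def Reach (Q : QuadraticForm F (ι → F)) (N : Subgroup ↥(Cfsg.Omega F ⇑Q)) (p z : ι → F) : Prop :=
  ∃ n ∈ N, ∃ c : F, c ≠ 0 ∧ act (n : ↥(Cfsg.isometryGroup F ⇑Q)) p = c • z

theorem Reach.refl (Q : QuadraticForm F (ι → F)) (N : Subgroup ↥(Cfsg.Omega F ⇑Q))
    (p : ι → F) : Reach Q N p p :=
  ⟨1, N.one_mem, 1, one_ne_zero, by rw [Subgroup.coe_one, act_one, one_smul]⟩

theorem Reach.smul {Q : QuadraticForm F (ι → F)} {N : Subgroup ↥(Cfsg.Omega F ⇑Q)}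
    {p z : ι → F} (h : Reach Q N p z) (t : F) (ht : t ≠ 0) : Reach Q N p (t • z) := by
  obtain ⟨n, hn, c, hc, e⟩ := h
  exact ⟨n, hn, c * t⁻¹, mul_ne_zero hc (inv_ne_zero ht), by
    rw [e, smul_smul, mul_assoc, inv_mul_cancel₀ ht, mul_one]⟩

theorem Reach.mul {Q : QuadraticForm F (ι → F)} {N : Subgroup ↥(Cfsg.Omega F ⇑Q)}
    {p z : ι → F} (h : Reach Q N p z) (m : ↥(Cfsg.Omega F ⇑Q)) (hm : m ∈ N) :
    Reach Q N p (act (m : ↥(Cfsg.isometryGroup F ⇑Q)) z) := by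
  obtain ⟨n, hn, c, hc, e⟩ := h
  exact ⟨m * n, N.mul_mem hm hn, c, hc, by rw [Subgroup.coe_mul, act_mul, e, act_smul]⟩

theorem Reach.conj {Q : QuadraticForm F (ι → F)} {N : Subgroup ↥(Cfsg.Omega F ⇑Q)} [hN : N.Normal]
    {p z : ι → F} (h : Reach Q N p z) (g : ↥(Cfsg.isometryGroup F ⇑Q))
    (hg : g ∈ Cfsg.Omega F ⇑Q) (d : F) (hd : d ≠ 0) (hgp : act g p = d • p) :
    Reach Q N p (act g z) := by
  obtain ⟨n, hn, c, hc, e⟩ := h
  have hinv : act g⁻¹ p = d⁻¹ • p := by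
    have h1 : p = d⁻¹ • act g p := by rw [hgp, smul_smul, inv_mul_cancel₀ hd, one_smul]
    calc act g⁻¹ p = act g⁻¹ (d⁻¹ • act g p) := by rw [← h1]
      _ = d⁻¹ • p := by rw [act_smul, act_inv_act]
  refine ⟨⟨g, hg⟩ * n * ⟨g, hg⟩⁻¹, hN.conj_mem n hn ⟨g, hg⟩, d⁻¹ * c,
    mul_ne_zero (inv_ne_zero hd) hc, ?_⟩
  rw [Subgroup.coe_mul, Subgroup.coe_mul, Subgroup.coe_inv, act_mul, act_mul]
  change act g (act (n : ↥(Cfsg.isometryGroup F ⇑Q)) (act g⁻¹ p)) = _
  rw [hinv, act_smul, e, act_smul, act_smul, smul_smul]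

section fin

variable [Fintype F]

theorem reach_gamma (Q : QuadraticForm F (ι → F)) (hQ : (polarBilin Q).Nondegenerate)
    (hn : 5 ≤ Fintype.card ι) {N : Subgroup ↥(Cfsg.Omega F ⇑Q)} [hN : N.Normal] {p y : ι → F}
    (hp : Q p = 0) (hy : Q y = 0) (hpy : polar (⇑Q) p y ≠ 0) (hR : Reach Q N p y) (z : ι → F)
    (hz : Q z = 0) (hpz : polar (⇑Q) p z ≠ 0) : Reach Q N p z := by
  obtain ⟨y1, hy1⟩ : ∃ y1 : ι → F, y1 = (polar (⇑Q) p y)⁻¹ • y := ⟨_, rfl⟩
  obtain ⟨z1, hz1⟩ : ∃ z1 : ι → F, z1 = (polar (⇑Q) p z)⁻¹ • z := ⟨_, rfl⟩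
  have hQy1 : Q y1 = 0 := by rw [hy1, QuadraticMap.map_smul, hy, smul_zero]
  have hQz1 : Q z1 = 0 := by rw [hz1, QuadraticMap.map_smul, hz, smul_zero]
  have hpy1 : polar (⇑Q) p y1 = 1 := by
    rw [hy1, QuadraticMap.polar_smul_right, smul_eq_mul, inv_mul_cancel₀ hpy]
  have hpz1 : polar (⇑Q) p z1 = 1 := by
    rw [hz1, QuadraticMap.polar_smul_right, smul_eq_mul, inv_mul_cancel₀ hpz]
  have hpu : polar (⇑Q) p (y1 - z1) = 0 := by
    rw [QuadraticMap.polar_sub_right, hpy1, hpz1, sub_self]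
  have hmap := act_siegel_sub Q hQ p y1 z1 hp hQy1 hQz1 hpy1 hpz1 hpu
  have hfix : act (siegel Q hQ p (y1 - z1) hp hpu) p = (1 : F) • p := by
    rw [one_smul]
    exact act_siegel_fix Q hQ p (y1 - z1) hp hpu p (polar_self_of_singular Q hp)
      (by rw [QuadraticMap.polar_comm]; exact hpu)
  have h1 : Reach Q N p y1 := by rw [hy1]; exact hR.smul _ (inv_ne_zero hpy)
  have h2 := h1.conj (siegel Q hQ p (y1 - z1) hp hpu) (siegel_mem_Omega Q hQ hn p _ hp hpu) 1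
    one_ne_zero hfix
  rw [hmap] at h2
  have h3 := h2.smul (polar (⇑Q) p z) hpz
  rwa [hz1, smul_smul, mul_inv_cancel₀ hpz, one_smul] at h3

theorem reach_delta (Q : QuadraticForm F (ι → F)) (hQ : (polarBilin Q).Nondegenerate)
    (hn : 7 ≤ Fintype.card ι) {N : Subgroup ↥(Cfsg.Omega F ⇑Q)} [hN : N.Normal] {p y : ι → F}
    (hy : Q y = 0) (hpy : polar (⇑Q) p y = 0) (hyp : y ∉ Submodule.span F {p})
    (hR : Reach Q N p y) (z : ι → F) (hz : Q z = 0) (hpz : polar (⇑Q) p z = 0)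
    (hzp : z ∉ Submodule.span F {p}) : Reach Q N p z := by
  obtain ⟨w, hQw, hpw, hwy, hwz⟩ := exists_common_partner Q hQ hn p y z hy hz hpy hpz hyp hzp
  obtain ⟨y1, hy1⟩ : ∃ y1 : ι → F, y1 = (polar (⇑Q) w y)⁻¹ • y := ⟨_, rfl⟩
  obtain ⟨z1, hz1⟩ : ∃ z1 : ι → F, z1 = (polar (⇑Q) w z)⁻¹ • z := ⟨_, rfl⟩
  have hQy1 : Q y1 = 0 := by rw [hy1, QuadraticMap.map_smul, hy, smul_zero]
  have hQz1 : Q z1 = 0 := by rw [hz1, QuadraticMap.map_smul, hz, smul_zero]
  have hwy1 : polar (⇑Q) w y1 = 1 := by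
    rw [hy1, QuadraticMap.polar_smul_right, smul_eq_mul, inv_mul_cancel₀ hwy]
  have hwz1 : polar (⇑Q) w z1 = 1 := by
    rw [hz1, QuadraticMap.polar_smul_right, smul_eq_mul, inv_mul_cancel₀ hwz]
  have hwu : polar (⇑Q) w (y1 - z1) = 0 := by
    rw [QuadraticMap.polar_sub_right, hwy1, hwz1, sub_self]
  have hmap := act_siegel_sub Q hQ w y1 z1 hQw hQy1 hQz1 hwy1 hwz1 hwu
  have hup : polar (⇑Q) (y1 - z1) p = 0 := by
    rw [hy1, hz1, QuadraticMap.polar_sub_left, QuadraticMap.polar_smul_left,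
      QuadraticMap.polar_smul_left, QuadraticMap.polar_comm (⇑Q) y p,
      QuadraticMap.polar_comm (⇑Q) z p, hpy, hpz]
    simp
  have hfix : act (siegel Q hQ w (y1 - z1) hQw hwu) p = (1 : F) • p := by
    rw [one_smul]
    exact act_siegel_fix Q hQ w (y1 - z1) hQw hwu p
      (by rw [QuadraticMap.polar_comm]; exact hpw) hup
  have h1 : Reach Q N p y1 := by rw [hy1]; exact hR.smul _ (inv_ne_zero hwy)
  have h2 := h1.conj (siegel Q hQ w (y1 - z1) hQw hwu)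
    (siegel_mem_Omega Q hQ (by omega) w _ hQw hwu) 1 one_ne_zero hfix
  rw [hmap] at h2
  have h3 := h2.smul (polar (⇑Q) w z) hwz
  rwa [hz1, smul_smul, mul_inv_cancel₀ hwz, one_smul] at h3

/-- A normal subgroup of `Ω` moving one singular point is transitive on singular points. -/
theorem reach_all (Q : QuadraticForm F (ι → F)) (hQ : (polarBilin Q).Nondegenerate)
    (hn : 7 ≤ Fintype.card ι) {N : Subgroup ↥(Cfsg.Omega F ⇑Q)} [hN : N.Normal] {p : ι → F}
    (hp : Q p = 0) (hp0 : p ≠ 0) (n0 : ↥(Cfsg.Omega F ⇑Q)) (hn0 : n0 ∈ N)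
    (hmove : act (n0 : ↥(Cfsg.isometryGroup F ⇑Q)) p ∉ Submodule.span F {p}) (z : ι → F)
    (hz : Q z = 0) (hz0 : z ≠ 0) : Reach Q N p z := by
  obtain ⟨y, hy⟩ : ∃ y : ι → F, y = act (n0 : ↥(Cfsg.isometryGroup F ⇑Q)) p := ⟨_, rfl⟩
  have hQy : Q y = 0 := by
    rw [hy, Q_act (n0 : ↥(Cfsg.isometryGroup F ⇑Q)) p]; exact hp
  have hRy : Reach Q N p y := ⟨n0, hn0, 1, one_ne_zero, by rw [one_smul, hy]⟩
  rw [← hy] at hmove
  by_cases hzs : z ∈ Submodule.span F {p}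
  · obtain ⟨t, rfl⟩ := Submodule.mem_span_singleton.1 hzs
    have ht : t ≠ 0 := by rintro rfl; exact hz0 (zero_smul _ _)
    exact (Reach.refl Q N p).smul t ht
  by_cases hpy : polar (⇑Q) p y = 0
  · by_cases hpz : polar (⇑Q) p z = 0
    · exact reach_delta Q hQ hn hQy hpy hmove hRy z hz hpz hzs
    · obtain ⟨w, hw0, hQw, hpw, hzw⟩ := exists_singular_orth_pair Q hQ (by omega) p z
      have hws : w ∉ Submodule.span F {p} := by
        intro h
        obtain ⟨t, rfl⟩ := Submodule.mem_span_singleton.1 h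
        rw [QuadraticMap.polar_smul_right, smul_eq_mul, QuadraticMap.polar_comm] at hzw
        rcases mul_eq_zero.1 hzw with h | h
        · exact hw0 (by rw [h, zero_smul])
        · exact hpz h
      obtain ⟨n, hnN, c, hc, e⟩ := reach_delta Q hQ hn hQy hpy hmove hRy w hQw hpw hws
      have hz' : Reach Q N p (act (n : ↥(Cfsg.isometryGroup F ⇑Q))⁻¹ z) := by
        apply reach_delta Q hQ hn hQy hpy hmove hRy
        · rw [Q_act (n : ↥(Cfsg.isometryGroup F ⇑Q))⁻¹ z]; exact hz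
        · rw [← polar_act (n : ↥(Cfsg.isometryGroup F ⇑Q)) p, act_act_inv, e,
            QuadraticMap.polar_smul_left, QuadraticMap.polar_comm, hzw, smul_zero]
        · intro h
          obtain ⟨t, ht⟩ := Submodule.mem_span_singleton.1 h
          apply hpz
          have : z = act (n : ↥(Cfsg.isometryGroup F ⇑Q)) (t • p) := by rw [ht, act_act_inv]
          rw [this, act_smul, e, QuadraticMap.polar_smul_right, QuadraticMap.polar_smul_right,
            hpw, smul_zero, smul_zero]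
      have h4 := hz'.mul n hnN
      rwa [act_act_inv] at h4
  · by_cases hpz : polar (⇑Q) p z = 0
    · have hp0' : p ∉ Submodule.span F {(0 : ι → F)} := by
        rw [Submodule.span_zero_singleton, Submodule.mem_bot]; exact hp0
      have hz0' : z ∉ Submodule.span F {(0 : ι → F)} := by
        rw [Submodule.span_zero_singleton, Submodule.mem_bot]; exact hz0
      obtain ⟨w, hQw, -, hwp, hwz⟩ := exists_common_partner Q hQ hn 0 p z hp hz
        (QuadraticMap.polar_zero_left _ _) (QuadraticMap.polar_zero_left _ _) hp0' hz0'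
      obtain ⟨n, hnN, c, hc, e⟩ := reach_gamma Q hQ (by omega) hp hQy hpy hRy w hQw
        (by rw [QuadraticMap.polar_comm]; exact hwp)
      have hz' : Reach Q N p (act (n : ↥(Cfsg.isometryGroup F ⇑Q))⁻¹ z) := by
        apply reach_gamma Q hQ (by omega) hp hQy hpy hRy
        · rw [Q_act (n : ↥(Cfsg.isometryGroup F ⇑Q))⁻¹ z]; exact hz
        · rw [← polar_act (n : ↥(Cfsg.isometryGroup F ⇑Q)) p, act_act_inv, e,
            QuadraticMap.polar_smul_left, smul_eq_mul]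
          exact mul_ne_zero hc hwz
      have h4 := hz'.mul n hnN
      rwa [act_act_inv] at h4
    · exact reach_gamma Q hQ (by omega) hp hQy hpy hRy z hz hpz

/-- The abelian group of Siegel transformations at a singular vector, inside `Ω`. -/
def rootSubgroup (Q : QuadraticForm F (ι → F)) (hQ : (polarBilin Q).Nondegenerate)
    (p : ι → F) (hp : Q p = 0) : Subgroup ↥(Cfsg.Omega F ⇑Q) where
  carrier := {g | ∃ (u : ι → F) (hpu : polar (⇑Q) p u = 0),
    (g : ↥(Cfsg.isometryGroup F ⇑Q)) = siegel Q hQ p u hp hpu}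
  mul_mem' := by
    rintro a b ⟨u, hu, ha⟩ ⟨u', hu', hb⟩
    have hs : polar (⇑Q) p (u + u') = 0 := by rw [QuadraticMap.polar_add_right, hu, hu', add_zero]
    exact ⟨u + u', hs, by rw [Subgroup.coe_mul, ha, hb, siegel_mul Q hQ p u u' hp hu hu' hs]⟩
  one_mem' := ⟨0, QuadraticMap.polar_zero_right _ _, by rw [Subgroup.coe_one, siegel_zero]⟩
  inv_mem' := by
    rintro a ⟨u, hu, ha⟩
    have hs : polar (⇑Q) p (-u) = 0 := by rw [QuadraticMap.polar_neg_right, hu, neg_zero]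
    exact ⟨-u, hs, by rw [Subgroup.coe_inv, ha, siegel_inv Q hQ p u hp hu hs]⟩

theorem rootSubgroup_comm (Q : QuadraticForm F (ι → F)) (hQ : (polarBilin Q).Nondegenerate)
    (p : ι → F) (hp : Q p = 0) : IsMulCommutative (rootSubgroup Q hQ p hp) := by
  rw [isMulCommutative_iff]
  rintro ⟨a, u, hu, ha⟩ ⟨b, u', hu', hb⟩
  apply Subtype.ext
  apply Subtype.ext
  change (a : ↥(Cfsg.isometryGroup F ⇑Q)) * (b : ↥(Cfsg.isometryGroup F ⇑Q))
    = (b : ↥(Cfsg.isometryGroup F ⇑Q)) * (a : ↥(Cfsg.isometryGroup F ⇑Q))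
  have hs : polar (⇑Q) p (u + u') = 0 := by rw [QuadraticMap.polar_add_right, hu, hu', add_zero]
  have hs' : polar (⇑Q) p (u' + u) = 0 := by rw [add_comm]; exact hs
  rw [ha, hb, siegel_mul Q hQ p u u' hp hu hu' hs, siegel_mul Q hQ p u' u hp hu' hu hs']
  exact siegel_congr Q hQ hp hs hp hs' rfl (add_comm u u')

theorem sup_rootSubgroup_eq_top (Q : QuadraticForm F (ι → F))
    (hQ : (polarBilin Q).Nondegenerate) (hn : 5 ≤ Fintype.card ι)
    {N : Subgroup ↥(Cfsg.Omega F ⇑Q)} [hN : N.Normal] (p : ι → F) (hp : Q p = 0)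
    (hall : ∀ z, Q z = 0 → z ≠ 0 → Reach Q N p z) :
    N ⊔ rootSubgroup Q hQ p hp = ⊤ := by
  have hle : Cfsg.Omega F ⇑Q ≤ (N ⊔ rootSubgroup Q hQ p hp).map (Subgroup.subtype _) := by
    conv_lhs => rw [Omega_eq_closure_SiegelSet Q hQ hn]
    rw [Subgroup.closure_le]
    rintro _ ⟨z, u, hz, hzu, rfl⟩
    by_cases hz0 : z = 0
    · subst hz0
      rw [siegel_zero_left]
      exact Subgroup.one_mem _
    obtain ⟨n, hnN, c, hc, e⟩ := hall z hz hz0
    obtain ⟨v, hv⟩ : ∃ v : ι → F, v = act (n : ↥(Cfsg.isometryGroup F ⇑Q))⁻¹ (c⁻¹ • u) := ⟨_, rfl⟩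
    have hnv : act (n : ↥(Cfsg.isometryGroup F ⇑Q)) v = c⁻¹ • u := by rw [hv, act_act_inv]
    have hpv : polar (⇑Q) p v = 0 := by
      rw [← polar_act (n : ↥(Cfsg.isometryGroup F ⇑Q)) p v, hnv, e, QuadraticMap.polar_smul_left,
        QuadraticMap.polar_smul_right, hzu, smul_zero, smul_zero]
    have hp' : Q (act (n : ↥(Cfsg.isometryGroup F ⇑Q)) p) = 0 := by
      rw [Q_act (n : ↥(Cfsg.isometryGroup F ⇑Q)) p]; exact hp
    have hpu' : polar (⇑Q) (act (n : ↥(Cfsg.isometryGroup F ⇑Q)) p)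
        (act (n : ↥(Cfsg.isometryGroup F ⇑Q)) v) = 0 := by rw [polar_act]; exact hpv
    have hc1 := conj_siegel Q hQ p v hp hpv (n : ↥(Cfsg.isometryGroup F ⇑Q)) hp' hpu'
    have hcz : Q (c • z) = 0 := by rw [QuadraticMap.map_smul, hz, smul_zero]
    have hczu : polar (⇑Q) (c • z) (c⁻¹ • u) = 0 := by
      rw [QuadraticMap.polar_smul_left, QuadraticMap.polar_smul_right, hzu, smul_zero, smul_zero]
    have hzu2 : polar (⇑Q) z (c • c⁻¹ • u) = 0 := by
      rw [QuadraticMap.polar_smul_right, QuadraticMap.polar_smul_right, hzu, smul_zero, smul_zero]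
    rw [siegel_congr Q hQ hp' hpu' hcz hczu e hnv,
      siegel_smul_left Q hQ z (c⁻¹ • u) c hcz hczu hz hzu2,
      siegel_congr Q hQ hz hzu2 hz hzu rfl
        (by rw [smul_smul, mul_inv_cancel₀ hc, one_smul])] at hc1
    obtain ⟨A, hA⟩ : ∃ A : ↥(Cfsg.Omega F ⇑Q), A = ⟨siegel Q hQ p v hp hpv,
      siegel_mem_Omega Q hQ hn p v hp hpv⟩ := ⟨_, rfl⟩
    have hAr : A ∈ rootSubgroup Q hQ p hp := ⟨v, hpv, by rw [hA]⟩
    refine ⟨n * A * n⁻¹, ?_, ?_⟩
    · have e2 : n * A * n⁻¹ = (n * (A * n⁻¹ * A⁻¹)) * A := by group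
      rw [e2]
      exact Subgroup.mul_mem _
        (Subgroup.mem_sup_left (N.mul_mem hnN (hN.conj_mem n⁻¹ (N.inv_mem hnN) A)))
        (Subgroup.mem_sup_right hAr)
    · rw [← hc1, hA]
      rfl
  rw [eq_top_iff]
  intro g _
  obtain ⟨g', hg', e⟩ := hle g.2
  have : g' = g := Subtype.ext e
  rwa [this] at hg'

/-- A normal subgroup of `Ω` that moves a singular point is everything. -/
theorem eq_top_of_moves (Q : QuadraticForm F (ι → F)) (hQ : (polarBilin Q).Nondegenerate)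
    (hn : 7 ≤ Fintype.card ι) (N : Subgroup ↥(Cfsg.Omega F ⇑Q)) [hN : N.Normal] (p : ι → F)
    (hp : Q p = 0) (hp0 : p ≠ 0) (n0 : ↥(Cfsg.Omega F ⇑Q)) (hn0 : n0 ∈ N)
    (hmove : act (n0 : ↥(Cfsg.isometryGroup F ⇑Q)) p ∉ Submodule.span F {p}) : N = ⊤ := by
  have hall := reach_all Q hQ hn hp hp0 n0 hn0 hmove
  have hsup := sup_rootSubgroup_eq_top Q hQ (by omega) p hp hall
  have hle := Subgroup.Normal.commutator_le_of_self_sup_commutative_eq_top hsup
    (rootSubgroup_comm Q hQ p hp)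
  rw [commutator_Omega_eq_top Q hQ (by omega)] at hle
  exact top_le_iff.1 hle

theorem mem_center_of_fix (Q : QuadraticForm F (ι → F)) (hQ : (polarBilin Q).Nondegenerate)
    (hn : 5 ≤ Fintype.card ι) (g : ↥(Cfsg.Omega F ⇑Q))
    (hfix : ∀ v, Q v = 0 → ∃ c : F, act (g : ↥(Cfsg.isometryGroup F ⇑Q)) v = c • v) :
    g ∈ Subgroup.center ↥(Cfsg.Omega F ⇑Q) := by
  obtain ⟨c, hc⟩ := scalar_of_fix_singular Q hQ hn (g : ↥(Cfsg.isometryGroup F ⇑Q)) hfix
  rw [Subgroup.mem_center_iff]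
  intro h
  apply Subtype.ext
  apply ext_act
  intro v
  rw [Subgroup.coe_mul, Subgroup.coe_mul, act_mul, act_mul, hc, hc, act_smul]

theorem exists_ne_one_mem_Omega (Q : QuadraticForm F (ι → F))
    (hQ : (polarBilin Q).Nondegenerate) (hn : 5 ≤ Fintype.card ι) :
    ∃ g ∈ Cfsg.Omega F ⇑Q, g ≠ 1 := by
  obtain ⟨p, hp0, hp, -, -⟩ := exists_singular_orth_pair Q hQ hn 0 0
  obtain ⟨p', hQp', hpp'⟩ := exists_hyp_partner Q hQ p hp0 hp
  obtain ⟨s, s', hQs, hQs', hss', hps, hps', -, -⟩ := exists_hyp_pair_orth Q hQ hn p p' hp hpp'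
  refine ⟨siegel Q hQ p s hp hps, siegel_mem_Omega Q hQ hn p s hp hps, ?_⟩
  intro h
  have h1 : act (siegel Q hQ p s hp hps) s' = s' := by rw [h, act_one]
  rw [act_siegel, hss', hps', hQs] at h1
  simp only [one_smul, zero_smul, smul_zero, sub_zero] at h1
  exact hp0 (by simpa using h1)

/-- `PΩ` is simple in dimension at least seven. -/
theorem isSimpleGroup_POmega (Q : QuadraticForm F (ι → F)) (hQ : (polarBilin Q).Nondegenerate)
    (hn : 7 ≤ Fintype.card ι) : IsSimpleGroup (Cfsg.POmega F ⇑Q) := by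
  have hZ : Subgroup.center ↥(Cfsg.Omega F ⇑Q) ≠ ⊤ := by
    intro h
    rw [← commutator_eq_bot_iff_center_eq_top, commutator_Omega_eq_top Q hQ (by omega)] at h
    obtain ⟨g, hg, hg1⟩ := exists_ne_one_mem_Omega Q hQ (by omega)
    have hm : (⟨g, hg⟩ : ↥(Cfsg.Omega F ⇑Q)) ∈ (⊤ : Subgroup ↥(Cfsg.Omega F ⇑Q)) :=
      Subgroup.mem_top _
    rw [h, Subgroup.mem_bot] at hm
    exact hg1 (congrArg Subtype.val hm)
  haveI : Nontrivial (Cfsg.POmega F ⇑Q) :=
    not_subsingleton_iff_nontrivial.1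
      (fun h => hZ (QuotientGroup.subgroup_eq_top_of_subsingleton _ h))
  refine ⟨fun M hM => ?_⟩
  obtain ⟨N, hNdef⟩ : ∃ N : Subgroup ↥(Cfsg.Omega F ⇑Q),
      N = M.comap (QuotientGroup.mk' (Subgroup.center ↥(Cfsg.Omega F ⇑Q))) := ⟨_, rfl⟩
  haveI hNn : N.Normal := by rw [hNdef]; exact hM.comap _
  have hmemN : ∀ g : ↥(Cfsg.Omega F ⇑Q), g ∈ N ↔
      (QuotientGroup.mk g : Cfsg.POmega F ⇑Q) ∈ M := by
    intro g; rw [hNdef]; rfl
  by_cases hNZ : N ≤ Subgroup.center ↥(Cfsg.Omega F ⇑Q)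
  · left
    rw [eq_bot_iff]
    intro x hx
    obtain ⟨g, rfl⟩ := QuotientGroup.mk_surjective x
    have h1 := hNZ ((hmemN g).2 hx)
    rw [Subgroup.mem_bot, QuotientGroup.eq_one_iff]
    exact h1
  · right
    obtain ⟨n, hnN, hnZ⟩ := SetLike.not_le_iff_exists.1 hNZ
    have hex : ∃ v, Q v = 0 ∧ ¬ ∃ c : F, act (n : ↥(Cfsg.isometryGroup F ⇑Q)) v = c • v := by
      by_contra hcon
      push Not at hcon
      exact hnZ (mem_center_of_fix Q hQ (by omega) n hcon)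
    obtain ⟨v, hv, hmv⟩ := hex
    have hv0 : v ≠ 0 := by
      rintro rfl
      exact hmv ⟨0, by rw [act_zero, smul_zero]⟩
    have hmove : act (n : ↥(Cfsg.isometryGroup F ⇑Q)) v ∉ Submodule.span F {v} := by
      intro h
      obtain ⟨c, hc⟩ := Submodule.mem_span_singleton.1 h
      exact hmv ⟨c, hc.symm⟩
    have hNtop := eq_top_of_moves Q hQ hn N v hv hv0 n hnN hmove
    rw [eq_top_iff]
    intro x _
    obtain ⟨g, rfl⟩ := QuotientGroup.mk_surjective x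
    have : g ∈ N := by rw [hNtop]; exact Subgroup.mem_top _
    exact (hmemN g).1 this

end fin

end Cfsg.Agent.Lib.Helper19.OrthRefl
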