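-- Orthogonal direct sums of quadratic forms on coordinate spaces, and the block embeddings of
-- the isometry groups.
import Mathlib
import Cfsg.Prelude.Def_Classical
import Cfsg.Prelude.Def_ClassicalGeometry
import Cfsg.Agent.Lib.Helper19.OrthRefl

set_option autoImplicit false

namespace Cfsg.Agent.Lib.Helper19.OrthRefl

open Matrix QuadraticMap Module

variable {ι₁ ι₂ : Type} [Fintype ι₁] [DecidableEq ι₁] [Fintype ι₂] [DecidableEq ι₂]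
  {F : Type*} [Field F]

/-- The orthogonal direct sum of two quadratic forms. -/
noncomputable def sumForm (Q₁ : QuadraticForm F (ι₁ → F)) (Q₂ : QuadraticForm F (ι₂ → F)) :
    QuadraticForm F (ι₁ ⊕ ι₂ → F) :=
  Q₁.comp (LinearMap.funLeft F F Sum.inl) + Q₂.comp (LinearMap.funLeft F F Sum.inr)

theorem sumForm_apply (Q₁ : QuadraticForm F (ι₁ → F)) (Q₂ : QuadraticForm F (ι₂ → F))
    (v : ι₁ ⊕ ι₂ → F) : sumForm Q₁ Q₂ v = Q₁ (v ∘ Sum.inl) + Q₂ (v ∘ Sum.inr) := rfl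

theorem coe_sumForm (Q₁ : QuadraticForm F (ι₁ → F)) (Q₂ : QuadraticForm F (ι₂ → F)) :
    ⇑(sumForm Q₁ Q₂) = fun v : ι₁ ⊕ ι₂ → F => Q₁ (v ∘ Sum.inl) + Q₂ (v ∘ Sum.inr) := rfl

theorem polar_sumForm (Q₁ : QuadraticForm F (ι₁ → F)) (Q₂ : QuadraticForm F (ι₂ → F))
    (x y : ι₁ ⊕ ι₂ → F) :
    polar (⇑(sumForm Q₁ Q₂)) x y
      = polar (⇑Q₁) (x ∘ Sum.inl) (y ∘ Sum.inl) + polar (⇑Q₂) (x ∘ Sum.inr) (y ∘ Sum.inr) := by
  unfold QuadraticMap.polar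
  rw [sumForm_apply, sumForm_apply, sumForm_apply]
  have h1 : (x + y) ∘ Sum.inl = x ∘ Sum.inl + y ∘ (Sum.inl : ι₁ → ι₁ ⊕ ι₂) := rfl
  have h3 : (x + y) ∘ Sum.inr = x ∘ Sum.inr + y ∘ (Sum.inr : ι₂ → ι₁ ⊕ ι₂) := rfl
  rw [h1, h3]
  ring

theorem sumForm_nondeg (Q₁ : QuadraticForm F (ι₁ → F)) (Q₂ : QuadraticForm F (ι₂ → F))
    (h₁ : (polarBilin Q₁).Nondegenerate) (h₂ : (polarBilin Q₂).Nondegenerate) :
    (polarBilin (sumForm Q₁ Q₂)).Nondegenerate := by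
  have hleft : ∀ x : ι₁ ⊕ ι₂ → F, (∀ y, polarBilin (sumForm Q₁ Q₂) x y = 0) → x = 0 := by
    intro x hx
    have e1 : x ∘ Sum.inl = 0 := by
      apply h₁.1
      intro y
      have := hx (Sum.elim y 0)
      rw [polarBilin_apply_apply, polar_sumForm] at this
      have h0 : (Sum.elim y (0 : ι₂ → F)) ∘ Sum.inr = 0 := rfl
      have h1 : (Sum.elim y (0 : ι₂ → F)) ∘ Sum.inl = y := rfl
      rw [h0, h1, QuadraticMap.polar_zero_right, add_zero] at this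
      exact this
    have e2 : x ∘ Sum.inr = 0 := by
      apply h₂.1
      intro y
      have := hx (Sum.elim 0 y)
      rw [polarBilin_apply_apply, polar_sumForm] at this
      have h0 : (Sum.elim (0 : ι₁ → F) y) ∘ Sum.inl = 0 := rfl
      have h1 : (Sum.elim (0 : ι₁ → F) y) ∘ Sum.inr = y := rfl
      rw [h0, h1, QuadraticMap.polar_zero_right, zero_add] at this
      exact this
    funext s
    rcases s with i | j
    · exact congrFun e1 i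
    · exact congrFun e2 j
  constructor
  · exact hleft
  · intro y hy
    apply hleft
    intro x
    have := hy x
    rw [polarBilin_apply_apply, QuadraticMap.polar_comm] at this
    exact this

/-- The block embedding `A ↦ diag(A, 1)` of general linear groups. -/
noncomputable def blockL (ι₁ ι₂ : Type) [Fintype ι₁] [DecidableEq ι₁] [Fintype ι₂] [DecidableEq ι₂]
    (F : Type*) [Field F] :
    Matrix.GeneralLinearGroup ι₁ F →* Matrix.GeneralLinearGroup (ι₁ ⊕ ι₂) F :=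
  MonoidHom.mk' (fun A =>
    ⟨Matrix.fromBlocks (A : Matrix ι₁ ι₁ F) 0 0 1,
      Matrix.fromBlocks ((A⁻¹ : Matrix.GeneralLinearGroup ι₁ F) : Matrix ι₁ ι₁ F) 0 0 1, by
        rw [Matrix.fromBlocks_multiply]
        simp [Matrix.fromBlocks_one], by
        rw [Matrix.fromBlocks_multiply]
        simp [Matrix.fromBlocks_one]⟩) (by
    intro A B
    apply Units.ext
    show Matrix.fromBlocks ((A * B : Matrix.GeneralLinearGroup ι₁ F) : Matrix ι₁ ι₁ F) 0 0 1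
      = Matrix.fromBlocks (A : Matrix ι₁ ι₁ F) 0 0 1 * Matrix.fromBlocks (B : Matrix ι₁ ι₁ F) 0 0 1
    rw [Matrix.fromBlocks_multiply]
    simp)

theorem blockL_coe (A : Matrix.GeneralLinearGroup ι₁ F) :
    ((blockL ι₁ ι₂ F A : Matrix.GeneralLinearGroup (ι₁ ⊕ ι₂) F) : Matrix (ι₁ ⊕ ι₂) (ι₁ ⊕ ι₂) F)
      = Matrix.fromBlocks (A : Matrix ι₁ ι₁ F) 0 0 1 := rfl

/-- The block embedding `A ↦ diag(1, A)` of general linear groups. -/
noncomputable def blockR (ι₁ ι₂ : Type) [Fintype ι₁] [DecidableEq ι₁] [Fintype ι₂] [DecidableEq ι₂]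
    (F : Type*) [Field F] :
    Matrix.GeneralLinearGroup ι₂ F →* Matrix.GeneralLinearGroup (ι₁ ⊕ ι₂) F :=
  MonoidHom.mk' (fun A =>
    ⟨Matrix.fromBlocks 1 0 0 (A : Matrix ι₂ ι₂ F),
      Matrix.fromBlocks 1 0 0 ((A⁻¹ : Matrix.GeneralLinearGroup ι₂ F) : Matrix ι₂ ι₂ F), by
        rw [Matrix.fromBlocks_multiply]
        simp [Matrix.fromBlocks_one], by
        rw [Matrix.fromBlocks_multiply]
        simp [Matrix.fromBlocks_one]⟩) (by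
    intro A B
    apply Units.ext
    show Matrix.fromBlocks 1 0 0 ((A * B : Matrix.GeneralLinearGroup ι₂ F) : Matrix ι₂ ι₂ F)
      = Matrix.fromBlocks 1 0 0 (A : Matrix ι₂ ι₂ F) * Matrix.fromBlocks 1 0 0 (B : Matrix ι₂ ι₂ F)
    rw [Matrix.fromBlocks_multiply]
    simp)

theorem blockR_coe (A : Matrix.GeneralLinearGroup ι₂ F) :
    ((blockR ι₁ ι₂ F A : Matrix.GeneralLinearGroup (ι₁ ⊕ ι₂) F) : Matrix (ι₁ ⊕ ι₂) (ι₁ ⊕ ι₂) F)
      = Matrix.fromBlocks 1 0 0 (A : Matrix ι₂ ι₂ F) := rfl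

theorem blockL_mulVec (A : Matrix ι₁ ι₁ F) (x : ι₁ ⊕ ι₂ → F) :
    (Matrix.fromBlocks A 0 0 (1 : Matrix ι₂ ι₂ F)) *ᵥ x
      = Sum.elim (A *ᵥ (x ∘ Sum.inl)) (x ∘ Sum.inr) := by
  rw [Matrix.fromBlocks_mulVec]
  simp

theorem blockR_mulVec (A : Matrix ι₂ ι₂ F) (x : ι₁ ⊕ ι₂ → F) :
    (Matrix.fromBlocks (1 : Matrix ι₁ ι₁ F) 0 0 A) *ᵥ x
      = Sum.elim (x ∘ Sum.inl) (A *ᵥ (x ∘ Sum.inr)) := by
  rw [Matrix.fromBlocks_mulVec]
  simp

/-- The embedding of the isometry group of the first summand. -/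
noncomputable def embL (Q₁ : QuadraticForm F (ι₁ → F)) (Q₂ : QuadraticForm F (ι₂ → F)) :
    ↥(Cfsg.isometryGroup F ⇑Q₁) →* ↥(Cfsg.isometryGroup F ⇑(sumForm Q₁ Q₂)) :=
  ((blockL ι₁ ι₂ F).comp (Cfsg.isometryGroup F ⇑Q₁).subtype).codRestrict _ (by
    intro g
    rw [mem_iso]
    intro x
    show sumForm Q₁ Q₂ ((Matrix.fromBlocks ((g : Matrix.GeneralLinearGroup ι₁ F) :
      Matrix ι₁ ι₁ F) 0 0 1) *ᵥ x) = sumForm Q₁ Q₂ x
    rw [blockL_mulVec, sumForm_apply, sumForm_apply]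
    have h1 : (Sum.elim (((g : Matrix.GeneralLinearGroup ι₁ F) : Matrix ι₁ ι₁ F) *ᵥ
      (x ∘ Sum.inl)) (x ∘ Sum.inr)) ∘ Sum.inl
        = ((g : Matrix.GeneralLinearGroup ι₁ F) : Matrix ι₁ ι₁ F) *ᵥ (x ∘ Sum.inl) := rfl
    have h3 : (Sum.elim (((g : Matrix.GeneralLinearGroup ι₁ F) : Matrix ι₁ ι₁ F) *ᵥ
      (x ∘ Sum.inl)) (x ∘ Sum.inr)) ∘ Sum.inr = x ∘ (Sum.inr : ι₂ → ι₁ ⊕ ι₂) := rfl
    rw [h1, h3]
    congr 1
    exact Q_act g (x ∘ Sum.inl))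

theorem embL_coe (Q₁ : QuadraticForm F (ι₁ → F)) (Q₂ : QuadraticForm F (ι₂ → F))
    (g : ↥(Cfsg.isometryGroup F ⇑Q₁)) :
    (((embL Q₁ Q₂ g : ↥(Cfsg.isometryGroup F ⇑(sumForm Q₁ Q₂))) :
      Matrix.GeneralLinearGroup (ι₁ ⊕ ι₂) F) : Matrix (ι₁ ⊕ ι₂) (ι₁ ⊕ ι₂) F)
      = Matrix.fromBlocks ((g : Matrix.GeneralLinearGroup ι₁ F) : Matrix ι₁ ι₁ F) 0 0 1 := rfl

theorem act_embL (Q₁ : QuadraticForm F (ι₁ → F)) (Q₂ : QuadraticForm F (ι₂ → F))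
    (g : ↥(Cfsg.isometryGroup F ⇑Q₁)) (x : ι₁ ⊕ ι₂ → F) :
    act (embL Q₁ Q₂ g) x = Sum.elim (act g (x ∘ Sum.inl)) (x ∘ Sum.inr) := by
  rw [act_def, embL_coe, blockL_mulVec]
  rfl

/-- The embedding of the isometry group of the second summand. -/
noncomputable def embR (Q₁ : QuadraticForm F (ι₁ → F)) (Q₂ : QuadraticForm F (ι₂ → F)) :
    ↥(Cfsg.isometryGroup F ⇑Q₂) →* ↥(Cfsg.isometryGroup F ⇑(sumForm Q₁ Q₂)) :=
  ((blockR ι₁ ι₂ F).comp (Cfsg.isometryGroup F ⇑Q₂).subtype).codRestrict _ (by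
    intro g
    rw [mem_iso]
    intro x
    show sumForm Q₁ Q₂ ((Matrix.fromBlocks 1 0 0 ((g : Matrix.GeneralLinearGroup ι₂ F) :
      Matrix ι₂ ι₂ F)) *ᵥ x) = sumForm Q₁ Q₂ x
    rw [blockR_mulVec, sumForm_apply, sumForm_apply]
    have h1 : (Sum.elim (x ∘ Sum.inl) (((g : Matrix.GeneralLinearGroup ι₂ F) : Matrix ι₂ ι₂ F) *ᵥ
      (x ∘ Sum.inr))) ∘ Sum.inl = x ∘ (Sum.inl : ι₁ → ι₁ ⊕ ι₂) := rfl
    have h3 : (Sum.elim (x ∘ Sum.inl) (((g : Matrix.GeneralLinearGroup ι₂ F) : Matrix ι₂ ι₂ F) *ᵥ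
      (x ∘ Sum.inr))) ∘ Sum.inr
        = ((g : Matrix.GeneralLinearGroup ι₂ F) : Matrix ι₂ ι₂ F) *ᵥ (x ∘ Sum.inr) := rfl
    rw [h1, h3]
    congr 1
    exact Q_act g (x ∘ Sum.inr))

theorem embR_coe (Q₁ : QuadraticForm F (ι₁ → F)) (Q₂ : QuadraticForm F (ι₂ → F))
    (g : ↥(Cfsg.isometryGroup F ⇑Q₂)) :
    (((embR Q₁ Q₂ g : ↥(Cfsg.isometryGroup F ⇑(sumForm Q₁ Q₂))) :
      Matrix.GeneralLinearGroup (ι₁ ⊕ ι₂) F) : Matrix (ι₁ ⊕ ι₂) (ι₁ ⊕ ι₂) F)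
      = Matrix.fromBlocks 1 0 0 ((g : Matrix.GeneralLinearGroup ι₂ F) : Matrix ι₂ ι₂ F) := rfl

theorem act_embR (Q₁ : QuadraticForm F (ι₁ → F)) (Q₂ : QuadraticForm F (ι₂ → F))
    (g : ↥(Cfsg.isometryGroup F ⇑Q₂)) (x : ι₁ ⊕ ι₂ → F) :
    act (embR Q₁ Q₂ g) x = Sum.elim (x ∘ Sum.inl) (act g (x ∘ Sum.inr)) := by
  rw [act_def, embR_coe, blockR_mulVec]
  rfl

theorem sumForm_elim_zero (Q₁ : QuadraticForm F (ι₁ → F)) (Q₂ : QuadraticForm F (ι₂ → F))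
    (v : ι₁ → F) : sumForm Q₁ Q₂ (Sum.elim v 0) = Q₁ v := by
  rw [sumForm_apply]
  have h0 : (Sum.elim v (0 : ι₂ → F)) ∘ Sum.inr = 0 := rfl
  have h1 : (Sum.elim v (0 : ι₂ → F)) ∘ Sum.inl = v := rfl
  rw [h0, h1, QuadraticMap.map_zero, add_zero]

/-- The embedding maps reflections to reflections. -/
theorem embL_refl (Q₁ : QuadraticForm F (ι₁ → F)) (Q₂ : QuadraticForm F (ι₂ → F))
    (v : ι₁ → F) (hv : Q₁ v ≠ 0) (hv' : sumForm Q₁ Q₂ (Sum.elim v 0) ≠ 0) :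
    embL Q₁ Q₂ (refl Q₁ v hv) = refl (sumForm Q₁ Q₂) (Sum.elim v 0) hv' := by
  apply ext_act
  intro x
  rw [act_embL, act_refl, act_refl, sumForm_elim_zero, polar_sumForm]
  have h0 : (Sum.elim v (0 : ι₂ → F)) ∘ Sum.inr = 0 := rfl
  have h1 : (Sum.elim v (0 : ι₂ → F)) ∘ Sum.inl = v := rfl
  rw [h0, h1, QuadraticMap.polar_zero_left, add_zero]
  funext s
  rcases s with i | j
  · simp
  · simp

end Cfsg.Agent.Lib.Helper19.OrthRefl

namespace Cfsg.Agent.Lib.Helper19.OrthRefl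

open Matrix QuadraticMap Module

variable {ι : Type} [Fintype ι] [DecidableEq ι] {F : Type*} [Field F]

theorem swap_mulVec (x : ι ⊕ ι → F) :
    (Matrix.fromBlocks (0 : Matrix ι ι F) 1 1 0) *ᵥ x = Sum.elim (x ∘ Sum.inr) (x ∘ Sum.inl) := by
  rw [Matrix.fromBlocks_mulVec]
  simp

/-- The isometry of `Q ⊕ Q` interchanging the two summands. -/
noncomputable def swapIso (Q : QuadraticForm F (ι → F)) :
    ↥(Cfsg.isometryGroup F ⇑(sumForm Q Q)) :=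
  ⟨⟨Matrix.fromBlocks 0 1 1 0, Matrix.fromBlocks 0 1 1 0, by
      rw [Matrix.fromBlocks_multiply]; simp [Matrix.fromBlocks_one], by
      rw [Matrix.fromBlocks_multiply]; simp [Matrix.fromBlocks_one]⟩, by
    rw [mem_iso]
    intro x
    show sumForm Q Q ((Matrix.fromBlocks (0 : Matrix ι ι F) 1 1 0) *ᵥ x) = sumForm Q Q x
    rw [swap_mulVec, sumForm_apply, sumForm_apply]
    have h1 : (Sum.elim (x ∘ Sum.inr) (x ∘ Sum.inl)) ∘ Sum.inl = x ∘ (Sum.inr : ι → ι ⊕ ι) := rfl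
    have h3 : (Sum.elim (x ∘ Sum.inr) (x ∘ Sum.inl)) ∘ Sum.inr = x ∘ (Sum.inl : ι → ι ⊕ ι) := rfl
    rw [h1, h3, add_comm]⟩

theorem swapIso_coe (Q : QuadraticForm F (ι → F)) :
    (((swapIso Q : ↥(Cfsg.isometryGroup F ⇑(sumForm Q Q))) :
      Matrix.GeneralLinearGroup (ι ⊕ ι) F) : Matrix (ι ⊕ ι) (ι ⊕ ι) F)
      = Matrix.fromBlocks 0 1 1 0 := rfl

theorem swapIso_mul_embL (Q : QuadraticForm F (ι → F)) (g : ↥(Cfsg.isometryGroup F ⇑Q)) :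
    swapIso Q * embL Q Q g = embR Q Q g * swapIso Q := by
  apply Subtype.ext
  apply Units.ext
  rw [Subgroup.coe_mul, Units.val_mul, Subgroup.coe_mul, Units.val_mul, swapIso_coe, embL_coe,
    embR_coe, Matrix.fromBlocks_multiply, Matrix.fromBlocks_multiply]
  simp

/-- Any homomorphism to a commutative group takes the same value on the two embeddings. -/
theorem hom_embR_eq {A : Type*} [CommGroup A] (Q : QuadraticForm F (ι → F))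
    (φ : ↥(Cfsg.isometryGroup F ⇑(sumForm Q Q)) →* A) (g : ↥(Cfsg.isometryGroup F ⇑Q)) :
    φ (embR Q Q g) = φ (embL Q Q g) := by
  have h := congrArg φ (swapIso_mul_embL Q g)
  rw [map_mul, map_mul, mul_comm] at h
  exact (mul_right_cancel h).symm

theorem embL_mul_embR_coe (Q : QuadraticForm F (ι → F)) (g : ↥(Cfsg.isometryGroup F ⇑Q)) :
    (((embL Q Q g * embR Q Q g : ↥(Cfsg.isometryGroup F ⇑(sumForm Q Q))) :
      Matrix.GeneralLinearGroup (ι ⊕ ι) F) : Matrix (ι ⊕ ι) (ι ⊕ ι) F)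
      = Matrix.fromBlocks ((g : Matrix.GeneralLinearGroup ι F) : Matrix ι ι F) 0 0
        ((g : Matrix.GeneralLinearGroup ι F) : Matrix ι ι F) := by
  rw [Subgroup.coe_mul, Units.val_mul, embL_coe, embR_coe, Matrix.fromBlocks_multiply]
  simp

end Cfsg.Agent.Lib.Helper19.OrthRefl
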