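-- The isometry of the hyperbolic form interchanging the two standard maximal totally singular
-- subspaces, as a product of reflections.
import Mathlib
import Cfsg.Prelude.Def_Classical
import Cfsg.Prelude.Def_ClassicalGeometry
import Cfsg.Agent.Lib.Helper19.OrthRefl
import Cfsg.Agent.Lib.Helper19.QuadStd

set_option autoImplicit false

namespace Cfsg.Agent.Lib.Helper19.OrthRefl

open Matrix QuadraticMap Module Cfsg.Agent.Lib.Helper19.QuadStd

variable {F : Type*} [Field F]

/-- The vector `e_j - f_j`. -/
def swapVec (m : ℕ) (F : Type*) [Field F] (j : Fin m) : Fin m ⊕ Fin m → F :=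
  Pi.single (Sum.inl j) 1 - Pi.single (Sum.inr j) 1

theorem swapVec_inl (m : ℕ) (j i : Fin m) :
    swapVec m F j (Sum.inl i) = if i = j then 1 else 0 := by
  unfold swapVec
  simp [Pi.single_apply]

theorem swapVec_inr (m : ℕ) (j i : Fin m) :
    swapVec m F j (Sum.inr i) = -(if i = j then 1 else 0) := by
  unfold swapVec
  simp [Pi.single_apply]

theorem Q_swapVec (m : ℕ) (j : Fin m) : stdPlus m F (swapVec m F j) = -1 := by
  rw [stdPlus_apply]
  unfold Cfsg.quadFormPlus
  simp only [swapVec_inl, swapVec_inr]
  rw [Finset.sum_eq_single j]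
  · simp
  · intro i _ hij
    simp [hij]
  · intro h; exact absurd (Finset.mem_univ j) h

theorem Q_swapVec_ne (m : ℕ) (j : Fin m) : stdPlus m F (swapVec m F j) ≠ 0 := by
  rw [Q_swapVec]
  exact neg_ne_zero.2 one_ne_zero

theorem polar_swapVec (m : ℕ) (j : Fin m) (x : Fin m ⊕ Fin m → F) :
    polar (⇑(stdPlus m F)) (swapVec m F j) x = x (Sum.inr j) - x (Sum.inl j) := by
  rw [polar_stdPlus]
  simp only [swapVec_inl, swapVec_inr]
  rw [Finset.sum_eq_single j]
  · simp
    ring
  · intro i _ hij
    simp [hij]
  · intro h; exact absurd (Finset.mem_univ j) h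

theorem act_refl_swapVec (m : ℕ) (j : Fin m) (x : Fin m ⊕ Fin m → F) (s : Fin m ⊕ Fin m) :
    act (refl (stdPlus m F) (swapVec m F j) (Q_swapVec_ne m j)) x s
      = if Sum.elim id id s = j then x (Sum.swap s) else x s := by
  rw [act_refl, Q_swapVec, polar_swapVec]
  have hinv : ((-1 : F))⁻¹ = -1 := by rw [inv_neg, inv_one]
  rw [hinv]
  rcases s with i | i
  · simp only [Pi.sub_apply, Pi.smul_apply, swapVec_inl, Sum.elim_inl, id, Sum.swap_inl, smul_eq_mul]
    split_ifs with h1
    · subst h1; ring_nf; simp
    · ring_nf; simp [h1]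
  · simp only [Pi.sub_apply, Pi.smul_apply, swapVec_inr, Sum.elim_inr, id, Sum.swap_inr, smul_eq_mul]
    split_ifs with h1
    · subst h1; ring_nf; simp
    · ring_nf; simp [h1]

/-- The product of the reflections `r_{e_j - f_j}` over a list. -/
noncomputable def swapProd (m : ℕ) (F : Type*) [Field F] (l : List (Fin m)) :
    ↥(Cfsg.isometryGroup F ⇑(stdPlus m F)) :=
  (l.map (fun j => refl (stdPlus m F) (swapVec m F j) (Q_swapVec_ne m j))).prod

theorem act_swapProd (m : ℕ) (l : List (Fin m)) (hl : l.Nodup) (x : Fin m ⊕ Fin m → F)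
    (s : Fin m ⊕ Fin m) :
    act (swapProd m F l) x s = if Sum.elim id id s ∈ l then x (Sum.swap s) else x s := by
  induction l generalizing x s with
  | nil => simp [swapProd, act_one]
  | cons j l ih =>
    have hj : j ∉ l := (List.nodup_cons.1 hl).1
    have hl' : l.Nodup := (List.nodup_cons.1 hl).2
    have hcons : swapProd m F (j :: l)
        = refl (stdPlus m F) (swapVec m F j) (Q_swapVec_ne m j) * swapProd m F l := by
      unfold swapProd
      rw [List.map_cons, List.prod_cons]
    rw [hcons, act_mul, act_refl_swapVec]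
    have hidx : Sum.elim id id (Sum.swap s) = (Sum.elim id id s : Fin m) := by
      rcases s with i | i <;> rfl
    by_cases hsj : Sum.elim id id s = j
    · rw [if_pos hsj, ih hl', hidx, hsj, if_neg hj, if_pos (by rw [← hsj]; exact List.mem_cons_self)]
    · rw [if_neg hsj, ih hl']
      by_cases hsl : Sum.elim id id s ∈ l
      · rw [if_pos hsl, if_pos (List.mem_cons_of_mem _ hsl)]
      · rw [if_neg hsl, if_neg]
        intro h
        rcases List.mem_cons.1 h with h | h
        · exact hsj h
        · exact hsl h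

theorem act_swapProd_all (m : ℕ) (x : Fin m ⊕ Fin m → F) (s : Fin m ⊕ Fin m) :
    act (swapProd m F (List.finRange m)) x s = x (Sum.swap s) := by
  rw [act_swapProd m _ (List.nodup_finRange m), if_pos (List.mem_finRange _)]

theorem hom_swapProd {A : Type*} [Monoid A] (m : ℕ)
    (φ : ↥(Cfsg.isometryGroup F ⇑(stdPlus m F)) →* A) (c : A)
    (hφ : ∀ j, φ (refl (stdPlus m F) (swapVec m F j) (Q_swapVec_ne m j)) = c) (l : List (Fin m)) :
    φ (swapProd m F l) = c ^ l.length := by
  induction l with
  | nil => simp [swapProd]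
  | cons j l ih =>
    have hcons : swapProd m F (j :: l)
        = refl (stdPlus m F) (swapVec m F j) (Q_swapVec_ne m j) * swapProd m F l := by
      unfold swapProd
      rw [List.map_cons, List.prod_cons]
    rw [hcons, map_mul, hφ, ih, List.length_cons, pow_succ']

end Cfsg.Agent.Lib.Helper19.OrthRefl
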