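import Mathlib
import Cfsg.Agent.Lib.Helper19.AutPSL24
import Cfsg.Agent.Lib.Helper19.PSLSplit1

/-!
# The outer automorphism group of `PSL_n(q)`, `n ≥ 3` (helper19)
-/

set_option autoImplicit false

namespace Cfsg.Agent.Lib.Helper19.AutPSL

open Matrix Cfsg Cfsg.Agent.Lib.Helper19.PSLGraph

section conj

variable {n : ℕ} {F : Type*} [Field F]

lemma conj_fieldAut_Phi (τ : F ≃+* F) (h : GL (Fin n) F) :
    fieldAut (N := n) τ * Phi h * (fieldAut τ)⁻¹ = Phi (mapGL τ h) := by
  rw [fieldAut_Phi, mul_assoc, mul_inv_cancel, mul_one]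

lemma conj_iota0_Phi (h : GL (Fin n) F) :
    (iota0 : MulAut (Matrix.ProjectiveSpecialLinearGroup (Fin n) F)) * Phi h * iota0⁻¹ =
      Phi (tGL h)⁻¹ := by
  rw [iota0_Phi, mul_assoc, mul_inv_cancel, mul_one]

/-- the graph automorphism as a homomorphism from the group of order two -/
def iotaHom : Multiplicative (ZMod 2) →*
    MulAut (Matrix.ProjectiveSpecialLinearGroup (Fin n) F) where
  toFun x := iota0 ^ (Multiplicative.toAdd x).val
  map_one' := by
    show iota0 ^ (0 : ZMod 2).val = 1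
    rw [ZMod.val_zero, pow_zero]
  map_mul' x y := by
    show iota0 ^ (Multiplicative.toAdd x + Multiplicative.toAdd y).val =
      iota0 ^ (Multiplicative.toAdd x).val * iota0 ^ (Multiplicative.toAdd y).val
    have h2 : (iota0 : MulAut (Matrix.ProjectiveSpecialLinearGroup (Fin n) F)) ^ 2 = 1 := by
      rw [pow_two, iota0_sq]
    rw [← pow_add, ZMod.val_add, ← pow_eq_pow_mod _ h2]

lemma iotaHom_apply (x : Multiplicative (ZMod 2)) :
    iotaHom (n := n) (F := F) x = iota0 ^ (Multiplicative.toAdd x).val := rfl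

lemma iotaHom_cases (x : Multiplicative (ZMod 2)) :
    (x = 1 ∧ iotaHom (n := n) (F := F) x = 1) ∨
      (x = Multiplicative.ofAdd 1 ∧ iotaHom (n := n) (F := F) x = iota0) := by
  have hx : Multiplicative.toAdd x = 0 ∨ Multiplicative.toAdd x = 1 := by
    generalize Multiplicative.toAdd x = y
    fin_cases y
    · left; rfl
    · right; rfl
  rcases hx with h | h
  · left
    refine ⟨?_, ?_⟩
    · exact Multiplicative.toAdd.injective h
    · rw [iotaHom_apply, h, ZMod.val_zero, pow_zero]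
  · right
    refine ⟨?_, ?_⟩
    · exact Multiplicative.toAdd.injective h
    · rw [iotaHom_apply, h]
      show iota0 ^ 1 = iota0
      rw [pow_one]

lemma comm_fieldAut_iotaHom (τ : RingAut F) (x : Multiplicative (ZMod 2)) :
    Commute (fieldAutHom (n := n) τ) (iotaHom x) := by
  rw [iotaHom_apply]
  apply Commute.pow_right
  exact fieldAut_iota0 τ

/-- the field and graph automorphisms together -/
def fgHom : RingAut F × Multiplicative (ZMod 2) →*
    MulAut (Matrix.ProjectiveSpecialLinearGroup (Fin n) F) :=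
  MonoidHom.noncommCoprod fieldAutHom iotaHom comm_fieldAut_iotaHom

lemma fgHom_apply (τ : RingAut F) (x : Multiplicative (ZMod 2)) :
    fgHom (n := n) (τ, x) = fieldAut τ * iotaHom x := rfl

end conj

section out

variable {F : Type*} [Field F] [Fintype F] (p : ℕ) [Fact p.Prime] [CharP F p] {m : ℕ}

include p in
theorem range_Phi_normal : (Phi (n := m + 3) (F := F)).range.Normal := by
  constructor
  rintro _ ⟨h, rfl⟩ β
  obtain ⟨g, τ, e | e⟩ := main_aut p β
  · refine ⟨g * mapGL τ h * g⁻¹, ?_⟩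
    rw [e, map_mul, map_mul, map_inv Phi g, ← conj_fieldAut_Phi τ h]
    group
  · refine ⟨g * mapGL τ ((tGL h)⁻¹) * g⁻¹, ?_⟩
    rw [e, map_mul, map_mul, map_inv Phi g, ← conj_fieldAut_Phi τ ((tGL h)⁻¹), ← conj_iota0_Phi h]
    group

include p in
lemma fgHom_mem_range (τ : RingAut F) (x : Multiplicative (ZMod 2))
    (h : fgHom (n := m + 3) (τ, x) ∈ (Phi (n := m + 3) (F := F)).range) : τ = 1 ∧ x = 1 := by
  obtain ⟨g, hg⟩ := h
  rw [fgHom_apply] at hg
  rcases iotaHom_cases (n := m + 3) (F := F) x with ⟨hx, hi⟩ | ⟨hx, hi⟩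
  · rw [hi, mul_one] at hg
    exact ⟨(Phi_eq_fieldAut (by omega) hg).2, hx⟩
  · exfalso
    rw [hi] at hg
    apply not_ptToPt_and_ptToHy (Phi g)
    refine ⟨ptToPt_Phi g, ?_⟩
    rw [hg]
    have h1 : PtToPt (fieldAut (N := m + 3) τ) := by
      have := ptToPt_std p (1 : GL (Fin (m + 3)) F) τ
      rwa [map_one, one_mul] at this
    exact ptToHy_mul_iota0 (hyToHy_of_ptToPt p h1)

end out

end Cfsg.Agent.Lib.Helper19.AutPSL
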