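import Mathlib
import Cfsg.Agent.Lib.Helper19.OutPSL1
import Cfsg.Agent.Lib.Helper19.PSLSplit2

/-!
# The outer automorphism group of `PSL_n(q)`, part 2: the diagonal part (helper19)
-/

set_option autoImplicit false

namespace Cfsg.Agent.Lib.Helper19.AutPSL

open Matrix Cfsg Cfsg.Agent.Lib.Helper19.PSLGraph

section diag

variable {n : ℕ} {F : Type*} [Field F]

/-- diagonal matrices `diag(u, 1, …, 1)` as a homomorphism -/
noncomputable def dgHom (i0 : Fin n) : Fˣ →* GL (Fin n) F where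
  toFun u := Dg n i0 (u : F) u.ne_zero
  map_one' := by
    apply Units.ext
    rw [Dg_coe, Units.val_one]
    ext i j
    by_cases hij : i = j
    · subst hij
      by_cases hi : i = i0
      · subst hi; simp
      · simp [hi]
    · simp [hij]
  map_mul' u v := by
    apply Units.ext
    show (Dg n i0 ((u * v : Fˣ) : F) (u * v).ne_zero).1 =
      (Dg n i0 (u : F) u.ne_zero).1 * (Dg n i0 (v : F) v.ne_zero).1
    rw [Dg_coe, Dg_coe, Dg_coe, Matrix.diagonal_mul_diagonal]
    congr 1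
    funext i
    by_cases hi : i = i0
    · subst hi; simp
    · simp [hi]

lemma det_dgHom (i0 : Fin n) (u : Fˣ) : Matrix.GeneralLinearGroup.det (dgHom i0 u) = u := by
  apply Units.ext
  exact Dg_det n i0 (u : F) u.ne_zero

/-- the outer class of the diagonal automorphism -/
noncomputable def rhoOut (i0 : Fin n) :
    Fˣ →* Cfsg.Out (Matrix.ProjectiveSpecialLinearGroup (Fin n) F) :=
  (QuotientGroup.mk' (Cfsg.Inn (Matrix.ProjectiveSpecialLinearGroup (Fin n) F))).comp
    (Phi.comp (dgHom i0))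

lemma rhoOut_apply (i0 : Fin n) (u : Fˣ) :
    rhoOut i0 u = (QuotientGroup.mk (Phi (dgHom i0 u)) :
      Cfsg.Out (Matrix.ProjectiveSpecialLinearGroup (Fin n) F)) := rfl

lemma Phi_det_one_mem_Inn (s : GL (Fin n) F) (hs : Matrix.GeneralLinearGroup.det s = 1) :
    Phi s ∈ Cfsg.Inn (Matrix.ProjectiveSpecialLinearGroup (Fin n) F) :=
  (mem_Inn_iff _).2 ⟨s, hs, rfl⟩

lemma mk_Phi_eq_rhoOut (i0 : Fin n) (g : GL (Fin n) F) :
    (QuotientGroup.mk (Phi g) : Cfsg.Out (Matrix.ProjectiveSpecialLinearGroup (Fin n) F)) =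
      rhoOut i0 (Matrix.GeneralLinearGroup.det g) := by
  rw [rhoOut_apply, QuotientGroup.eq]
  rw [← map_inv, ← map_mul]
  apply Phi_det_one_mem_Inn
  rw [map_mul, map_inv, det_dgHom, inv_mul_cancel]

lemma rhoOut_range (i0 : Fin n) :
    (rhoOut (F := F) i0).range =
      (Phi (n := n) (F := F)).range.map
        (QuotientGroup.mk' (Cfsg.Inn (Matrix.ProjectiveSpecialLinearGroup (Fin n) F))) := by
  ext y
  constructor
  · rintro ⟨u, rfl⟩
    exact ⟨Phi (dgHom i0 u), ⟨_, rfl⟩, rfl⟩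
  · rintro ⟨_, ⟨g, rfl⟩, rfl⟩
    exact ⟨Matrix.GeneralLinearGroup.det g, (mk_Phi_eq_rhoOut i0 g).symm⟩

lemma rhoOut_ker (i0 : Fin n) :
    (rhoOut (F := F) i0).ker = (powMonoidHom n : Fˣ →* Fˣ).range := by
  ext u
  rw [MonoidHom.mem_ker, rhoOut_apply, QuotientGroup.eq_one_iff, mem_Inn_iff]
  constructor
  · rintro ⟨s, hs, e⟩
    have h1 : Phi (dgHom i0 u * s⁻¹) = 1 := by
      rw [map_mul, map_inv, e, mul_inv_cancel]
    rw [Phi_eq_one_iff] at h1
    obtain ⟨c, hc⟩ := h1
    have h2 := congrArg Matrix.GeneralLinearGroup.det hc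
    rw [map_mul, map_inv, det_dgHom, hs, inv_one, mul_one] at h2
    refine ⟨c, ?_⟩
    rw [← h2]
    exact (det_scalGL (n := n) c).symm
  · rintro ⟨c, rfl⟩
    refine ⟨(scalGL (Fin n) c)⁻¹ * dgHom i0 (powMonoidHom n c), ?_, ?_⟩
    · rw [map_mul, map_inv, det_dgHom, det_scalGL]
      exact inv_mul_cancel _
    · rw [map_mul, map_inv, (Phi_eq_one_iff _).2 (scalGL_mem c), inv_one, one_mul]

theorem diag_cyclic_card [Fintype F] (i0 : Fin n) :
    IsCyclic ↥((Phi (n := n) (F := F)).range.map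
        (QuotientGroup.mk' (Cfsg.Inn (Matrix.ProjectiveSpecialLinearGroup (Fin n) F)))) ∧
    Nat.card ↥((Phi (n := n) (F := F)).range.map
        (QuotientGroup.mk' (Cfsg.Inn (Matrix.ProjectiveSpecialLinearGroup (Fin n) F)))) =
      Nat.gcd n (Fintype.card F - 1) := by
  classical
  rw [← rhoOut_range i0]
  constructor
  · exact isCyclic_of_surjective (rhoOut (F := F) i0).rangeRestrict
      (rhoOut (F := F) i0).rangeRestrict_surjective
  · rw [← Nat.card_congr (QuotientGroup.quotientKerEquivRange (rhoOut (F := F) i0)).toEquiv,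
      rhoOut_ker, ← Subgroup.index_eq_card, IsCyclic.index_powMonoidHom_range,
      Nat.card_eq_fintype_card, Fintype.card_units, Nat.gcd_comm]

end diag

end Cfsg.Agent.Lib.Helper19.AutPSL
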