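import Mathlib
import Cfsg.Prelude.Def_LieTypeDatum
import Cfsg.Agent.Lib.Helper19.PSLSplit3

/-!
# Helper19: characters of order two of projective similarity groups
-/

set_option autoImplicit false

namespace Cfsg.Agent.Lib.Helper19.PSLGraph

open Matrix Cfsg
open scoped MatrixGroups

/-- The group has two distinct non-trivial characters of exponent two with values in `Fˣ`. -/
def TwoChars (G : Type*) [Group G] (F : Type*) [Field F] : Prop :=
  ∃ φ ψ : G →* Fˣ, (∀ g, φ g ^ 2 = 1) ∧ (∀ g, ψ g ^ 2 = 1) ∧ φ ≠ 1 ∧ ψ ≠ 1 ∧ φ ≠ ψ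

lemma TwoChars.of_equiv {G G' : Type*} [Group G] [Group G'] {F : Type*} [Field F] (e : G ≃* G')
    (h : TwoChars G' F) : TwoChars G F := by
  obtain ⟨φ, ψ, h1, h2, h3, h4, h5⟩ := h
  refine ⟨φ.comp e.toMonoidHom, ψ.comp e.toMonoidHom, fun g => h1 _, fun g => h2 _, ?_, ?_, ?_⟩
  · intro h
    apply h3
    ext g
    have := congrArg (fun f : G →* Fˣ => f (e.symm g)) h
    simpa using congrArg Units.val this
  · intro h
    apply h4
    ext g
    have := congrArg (fun f : G →* Fˣ => f (e.symm g)) h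
    simpa using congrArg Units.val this
  · intro h
    apply h5
    ext g
    have := congrArg (fun f : G →* Fˣ => f (e.symm g)) h
    simpa using congrArg Units.val this

section orthchars

variable {n : ℕ} {F : Type*} [Field F]

lemma mult_unique (hn : 1 ≤ n) (A : GL (Fin n) F) (c c' : Fˣ)
    (h : (c : F) • A.1 = (c' : F) • A.1) : c = c' := by
  apply Units.ext
  by_contra hne
  have h1 : ((c : F) - c') • A.1 = 0 := by rw [sub_smul, h, sub_self]
  rcases smul_eq_zero.1 h1 with h2 | h2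
  · exact hne (sub_eq_zero.1 h2)
  · have hdet := (Matrix.isUnit_iff_isUnit_det _).1 A.isUnit
    have hne' : Nonempty (Fin n) := ⟨⟨0, by omega⟩⟩
    rw [h2, Matrix.det_zero] at hdet
    exact not_isUnit_zero hdet

/-- The multiplier of a similitude. -/
noncomputable def muSim (A : GL (Fin n) F) (h : ↥(SimGL A)) : Fˣ :=
  Classical.choose ((mem_SimGL_iff A h.1).1 h.2)

lemma muSim_spec (A : GL (Fin n) F) (h : ↥(SimGL A)) :
    h.1.1ᵀ * A.1 * h.1.1 = (muSim A h : F) • A.1 :=
  Classical.choose_spec ((mem_SimGL_iff A h.1).1 h.2)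

lemma muSim_eq (hn : 1 ≤ n) (A : GL (Fin n) F) (h : ↥(SimGL A)) (c : Fˣ)
    (hc : h.1.1ᵀ * A.1 * h.1.1 = (c : F) • A.1) : muSim A h = c := by
  apply mult_unique hn A
  rw [← hc, muSim_spec]

/-- The multiplier homomorphism. -/
noncomputable def muHom (hn : 1 ≤ n) (A : GL (Fin n) F) : ↥(SimGL A) →* Fˣ :=
  MonoidHom.mk' (muSim A) (by
    intro a b
    apply muSim_eq hn
    show (a.1 * b.1 : GL (Fin n) F).1ᵀ * A.1 * (a.1 * b.1 : GL (Fin n) F).1 = _
    rw [Units.val_mul, Matrix.transpose_mul, Units.val_mul]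
    calc b.1.1ᵀ * a.1.1ᵀ * A.1 * (a.1.1 * b.1.1)
        = b.1.1ᵀ * (a.1.1ᵀ * A.1 * a.1.1) * b.1.1 := by simp only [Matrix.mul_assoc]
      _ = _ := by
          rw [muSim_spec, Matrix.mul_smul, Matrix.smul_mul, muSim_spec, smul_smul])

lemma muHom_apply (hn : 1 ≤ n) (A : GL (Fin n) F) (h : ↥(SimGL A)) : muHom hn A h = muSim A h := rfl

end orthchars

section orth2

variable {F : Type*} [Field F] [Fintype F]

/-- The projective similarity group of a symmetric matrix in even dimension, odd characteristic,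
has two distinct characters of order two. -/
theorem twoChars_symm (h2 : (2 : F) ≠ 0) (m : ℕ) (hm : 1 ≤ m) (A : GL (Fin (2 * m)) F)
    (hA : A.1ᵀ = A.1) : TwoChars (Cfsg.projQuot (SimGL A)) F := by
  classical
  have hn : 1 ≤ 2 * m := by omega
  have hchar : ringChar F ≠ 2 := by
    intro h
    apply h2
    have := CharP.cast_eq_zero F (ringChar F)
    rw [h] at this
    exact_mod_cast this
  have hoddc := FiniteField.odd_card_of_char_ne_two hchar
  have hq : Fintype.card F / 2 * 2 = Fintype.card F - 1 := by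
    omega
  -- the two characters on the similitude group
  let φ0 : ↥(SimGL A) →* Fˣ := (powMonoidHom (Fintype.card F / 2)).comp (muHom hn A)
  let ψ0 : ↥(SimGL A) →* Fˣ :=
    (Matrix.GeneralLinearGroup.det.comp (SimGL A).subtype) *
      ((powMonoidHom m).comp (muHom hn A))⁻¹
  have hφ0 : ∀ h, φ0 h = muSim A h ^ (Fintype.card F / 2) := fun h => rfl
  have hψ0 : ∀ h, ψ0 h = Matrix.GeneralLinearGroup.det h.1 * (muSim A h ^ m)⁻¹ := fun h => rfl
  have hcard : ∀ x : Fˣ, x ^ (Fintype.card F - 1) = 1 := by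
    intro x
    rw [← Fintype.card_units, pow_card_eq_one]
  have hker : ∀ (χ : ↥(SimGL A) →* Fˣ), (∀ (h : ↥(SimGL A)) (e : Fˣ), h.1.1 = (e : F) • 1 → χ h = 1) →
      (Cfsg.Geo.scalars (Fin (2 * m)) F).subgroupOf (SimGL A) ≤ χ.ker := by
    intro χ hχ h hh
    rw [Subgroup.mem_subgroupOf, Cfsg.Geo.mem_scalars_iff] at hh
    obtain ⟨e, he⟩ := hh
    exact hχ h e he
  have hscal_mu : ∀ (h : ↥(SimGL A)) (e : Fˣ), h.1.1 = (e : F) • 1 → muSim A h = e * e := by
    intro h e he
    apply muSim_eq hn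
    rw [he, Matrix.transpose_smul, Matrix.transpose_one, Matrix.smul_mul, one_mul, Matrix.mul_smul,
      mul_one, smul_smul, Units.val_mul]
  have hφk : (Cfsg.Geo.scalars (Fin (2 * m)) F).subgroupOf (SimGL A) ≤ φ0.ker := by
    apply hker
    intro h e he
    rw [hφ0, hscal_mu h e he, ← pow_two, ← pow_mul, mul_comm, hq, hcard]
  have hψk : (Cfsg.Geo.scalars (Fin (2 * m)) F).subgroupOf (SimGL A) ≤ ψ0.ker := by
    apply hker
    intro h e he
    rw [hψ0, hscal_mu h e he]
    have : Matrix.GeneralLinearGroup.det h.1 = e ^ (2 * m) := by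
      apply Units.ext
      show h.1.1.det = _
      rw [he, Matrix.det_smul, Matrix.det_one, mul_one, Fintype.card_fin, Units.val_pow_eq_pow_val]
    rw [this, ← pow_two, ← pow_mul, mul_inv_cancel]
  let φ : Cfsg.projQuot (SimGL A) →* Fˣ := QuotientGroup.lift _ φ0 hφk
  let ψ : Cfsg.projQuot (SimGL A) →* Fˣ := QuotientGroup.lift _ ψ0 hψk
  have hφmk : ∀ h : ↥(SimGL A), φ (QuotientGroup.mk h) = φ0 h := fun h => rfl
  have hψmk : ∀ h : ↥(SimGL A), ψ (QuotientGroup.mk h) = ψ0 h := fun h => rfl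
  -- the reflection
  obtain ⟨ρ, hρA, hρd⟩ := exists_refl h2 hn A hA
  have hρS : ρ ∈ SimGL A := (mem_SimGL_iff A ρ).2 ⟨1, by rw [Units.val_one, one_smul, hρA]⟩
  have hρmu : muSim A ⟨ρ, hρS⟩ = 1 := by
    apply muSim_eq hn
    rw [Units.val_one, one_smul]
    exact hρA
  have hneg : (-1 : Fˣ) ≠ 1 := by
    intro h
    apply h2
    have := congrArg Units.val h
    rw [Units.val_neg, Units.val_one] at this
    linear_combination -this
  have hψρ : ψ0 ⟨ρ, hρS⟩ = -1 := by
    rw [hψ0, hρmu, one_pow, inv_one, mul_one]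
    exact hρd
  have hφρ : φ0 ⟨ρ, hρS⟩ = 1 := by
    rw [hφ0, hρmu, one_pow]
  -- a similitude with non-square multiplier
  obtain ⟨ν, hν⟩ := FiniteField.exists_nonsquare hchar
  have hν0 : ν ≠ 0 := fun h => hν (h ▸ IsSquare.zero)
  let y : Fˣ := Units.mk0 ν hν0
  have hAy : (scalGL (Fin (2 * m)) y * A).1 = (y : F) • A.1 := by
    rw [Units.val_mul]
    show (Matrix.scalar (Fin (2 * m)) (y : F)) * A.1 = _
    rw [Matrix.scalar_apply, ← Matrix.smul_one_eq_diagonal, Matrix.smul_mul, one_mul]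
  obtain ⟨g, hg⟩ := exists_congr_symm h2 hn (scalGL (Fin (2 * m)) y * A) A
    (by rw [hAy, Matrix.transpose_smul, hA]) hA (by
      rw [hAy, Matrix.det_smul, Fintype.card_fin]
      exact ⟨(y : F) ^ m * A.1.det, by ring⟩)
  rw [hAy] at hg
  have hgS : g ∈ SimGL A := (mem_SimGL_iff A g).2 ⟨y, hg⟩
  have hgmu : muSim A ⟨g, hgS⟩ = y := muSim_eq hn A _ y hg
  have hφg : φ0 ⟨g, hgS⟩ ≠ 1 := by
    rw [hφ0, hgmu]
    intro h
    have := (FiniteField.unit_isSquare_iff hchar y).2 h
    apply hν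
    obtain ⟨r, hr⟩ := this
    exact ⟨r, by have := congrArg Units.val hr; simpa [y] using this⟩
  refine ⟨φ, ψ, ?_, ?_, ?_, ?_, ?_⟩
  · intro x
    induction x using QuotientGroup.induction_on with
    | H h =>
      rw [hφmk, hφ0, ← pow_mul, hq, hcard]
  · intro x
    induction x using QuotientGroup.induction_on with
    | H h =>
      rw [hψmk, hψ0, mul_pow, det_sq_of_sim A h.1 (muSim A h) (muSim_spec A h), inv_pow, ← pow_mul,
        mul_comm m 2, mul_inv_cancel]
  · intro h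
    apply hφg
    rw [← hφmk, h]
    rfl
  · intro h
    apply hneg
    rw [← hψρ, ← hψmk, h]
    rfl
  · intro h
    apply hneg
    rw [← hψρ, ← hψmk, ← h, hφmk, hφρ]

end orth2

end Cfsg.Agent.Lib.Helper19.PSLGraph
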