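import Mathlib
import Cfsg.Prelude.Def_LieTypeDatum
import Cfsg.Agent.Lib.Helper19.PSLSplit4
import Cfsg.Agent.Lib.Helper19.PSLGraph7
import Cfsg.Agent.Lib.Helper19.PSLGraph10
import Cfsg.Agent.S0765

/-!
# Helper19: the projective conformal symplectic group has a single character of order two
-/

set_option autoImplicit false

namespace Cfsg.Agent.Lib.Helper19.PSLGraph

open Matrix Cfsg
open scoped MatrixGroups
open Cfsg.Agent.Lib.Helper27.SympTransv

section sympchar

variable {F : Type*} [Field F] {m : ℕ}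

/-- The symplectic group inside the conformal symplectic group. -/
def spToGSp : Matrix.symplecticGroup (Fin m) F →* ↥(Cfsg.GSp m F) where
  toFun A := ⟨spGL2 A, ⟨1, fun u v => by
    rw [Units.val_one, one_mul]
    exact sp_preserves A.1 A.2 u v⟩⟩
  map_one' := by
    apply Subtype.ext
    apply Units.ext
    rfl
  map_mul' A B := by
    apply Subtype.ext
    apply Units.ext
    rfl

lemma spToGSp_coe (A : Matrix.symplecticGroup (Fin m) F) :
    ((spToGSp A : ↥(Cfsg.GSp m F)).1 : Matrix (Fin m ⊕ Fin m) (Fin m ⊕ Fin m) F) = A.1 := rfl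

/-- In odd characteristic, the symplectic group has no character of order two. -/
theorem char_symp_trivial (h2 : (2 : F) ≠ 0) (χ : Matrix.symplecticGroup (Fin m) F →* Fˣ)
    (hχ : ∀ g, χ g ^ 2 = 1) : ∀ g, χ g = 1 := by
  have hgen := Cfsg.Agent.S0765.result (F := F) m
  have hle : (⊤ : Subgroup (Matrix.symplecticGroup (Fin m) F)) ≤ χ.ker := by
    rw [← hgen, Subgroup.closure_le]
    rintro A ⟨w, c, hA⟩
    have hA' : A = Cfsg.Agent.Lib.Helper27.SympTransv.tv w (c / 2) *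
        Cfsg.Agent.Lib.Helper27.SympTransv.tv w (c / 2) := by
      rw [tv_mul]
      apply Subtype.ext
      rw [hA]
      show _ = sympTransvection m w (c / 2 + c / 2)
      congr 1
      field_simp
      ring
    show χ A = 1
    rw [hA', map_mul, ← pow_two, hχ]
  intro g
  exact hle (Subgroup.mem_top g)

end sympchar

section pgsp

variable {F : Type*} [Field F] [Fintype F] {m : ℕ}

lemma scal_mem_GSp (e : Fˣ) : scalGL (Fin m ⊕ Fin m) e ∈ Cfsg.GSp m F := by
  refine ⟨e * e, fun u v => ?_⟩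
  rw [scalGL_mulVec, scalGL_mulVec, sf_smul_left, sf_smul_right, Units.val_mul]
  ring

/-- A character of exponent two of `PGSp` kills the similitudes with square multiplier. -/
lemma char_PGSp_square (h2 : (2 : F) ≠ 0) (χ : Cfsg.PGSp m F →* Fˣ) (hχ : ∀ x, χ x ^ 2 = 1)
    (g : ↥(Cfsg.GSp m F)) (e : Fˣ)
    (he : ∀ u v, Cfsg.sympForm m F (g.1.1 *ᵥ u) (g.1.1 *ᵥ v) = ((e : F) * e) * Cfsg.sympForm m F u v) :
    χ (QuotientGroup.mk g) = 1 := by
  have hg' : ((e⁻¹ : Fˣ) : F) • g.1.1 ∈ Matrix.symplecticGroup (Fin m) F := by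
    apply mem_symp_of_preserves
    intro u v
    rw [Matrix.smul_mulVec, Matrix.smul_mulVec, sf_smul_left, sf_smul_right, he,
      Units.val_inv_eq_inv_val]
    have := e.ne_zero
    field_simp
  obtain ⟨A, hA⟩ : ∃ A : Matrix.symplecticGroup (Fin m) F, A.1 = ((e⁻¹ : Fˣ) : F) • g.1.1 :=
    ⟨⟨_, hg'⟩, rfl⟩
  have hg : g = ⟨scalGL (Fin m ⊕ Fin m) e, scal_mem_GSp e⟩ * spToGSp A := by
    apply Subtype.ext
    apply Units.ext
    show g.1.1 = (scalGL (Fin m ⊕ Fin m) e).1 * A.1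
    rw [hA]
    show _ = (Matrix.scalar (Fin m ⊕ Fin m) (e : F)) * _
    rw [Matrix.scalar_apply, ← Matrix.smul_one_eq_diagonal, Matrix.smul_mul, one_mul, smul_smul,
      Units.val_inv_eq_inv_val, mul_inv_cancel₀ e.ne_zero, one_smul]
  have h1 : (QuotientGroup.mk (⟨scalGL (Fin m ⊕ Fin m) e, scal_mem_GSp e⟩ : ↥(Cfsg.GSp m F)) :
      Cfsg.PGSp m F) = 1 := by
    rw [QuotientGroup.eq_one_iff, Subgroup.mem_subgroupOf]
    exact scalGL_mem e
  have h3 := char_symp_trivial h2 ((χ.comp (QuotientGroup.mk' _)).comp spToGSp)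
    (fun g => hχ _) A
  rw [hg, QuotientGroup.mk_mul, map_mul, h1, map_one, one_mul]
  exact h3

/-- The values of a non-trivial character of exponent two of `PGSp`. -/
lemma char_PGSp_values (h2 : (2 : F) ≠ 0) (χ : Cfsg.PGSp m F →* Fˣ) (hχ : ∀ x, χ x ^ 2 = 1)
    (hχ1 : χ ≠ 1) (g : ↥(Cfsg.GSp m F)) (c : Fˣ)
    (hc : ∀ u v, Cfsg.sympForm m F (g.1.1 *ᵥ u) (g.1.1 *ᵥ v) = (c : F) * Cfsg.sympForm m F u v) :
    (IsSquare (c : F) → χ (QuotientGroup.mk g) = 1) ∧
      (¬ IsSquare (c : F) → χ (QuotientGroup.mk g) = -1) := by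
  have hsq : ∀ (g : ↥(Cfsg.GSp m F)) (c : Fˣ),
      (∀ u v, Cfsg.sympForm m F (g.1.1 *ᵥ u) (g.1.1 *ᵥ v) = (c : F) * Cfsg.sympForm m F u v) →
      IsSquare (c : F) → χ (QuotientGroup.mk g) = 1 := by
    intro g c hc hs
    obtain ⟨r, hr⟩ := hs
    have hr0 : r ≠ 0 := by
      intro h
      rw [h, mul_zero] at hr
      exact c.ne_zero hr
    apply char_PGSp_square h2 χ hχ g (Units.mk0 r hr0)
    intro u v
    rw [hc, Units.val_mk0, hr]
  -- a witness of non-triviality
  obtain ⟨x₀, hx₀⟩ : ∃ x, χ x ≠ 1 := by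
    by_contra h
    push Not at h
    apply hχ1
    exact MonoidHom.ext fun x => by rw [h x]; rfl
  induction x₀ using QuotientGroup.induction_on with
  | H g₀ =>
    obtain ⟨c₀, hc₀⟩ := g₀.2
    have hns₀ : ¬ IsSquare (c₀ : F) := fun hs => hx₀ (hsq g₀ c₀ hc₀ hs)
    have hval₀ : χ (QuotientGroup.mk g₀) = -1 := by
      have h := hχ (QuotientGroup.mk g₀)
      have h' : ((χ (QuotientGroup.mk g₀) : Fˣ) : F) ^ 2 = 1 := by
        rw [← Units.val_pow_eq_pow_val, h, Units.val_one]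
      have h'' : (((χ (QuotientGroup.mk g₀) : Fˣ) : F) - 1) * (((χ (QuotientGroup.mk g₀) : Fˣ) : F) + 1) = 0 := by
        linear_combination h'
      rcases mul_eq_zero.1 h'' with h4 | h4
      · exact absurd (Units.ext (by rw [sub_eq_zero.1 h4, Units.val_one])) hx₀
      · exact Units.ext (by rw [eq_neg_of_add_eq_zero_left h4, Units.val_neg, Units.val_one])
    refine ⟨fun hs => hsq g c hc hs, fun hs => ?_⟩
    · have hprod : χ (QuotientGroup.mk (g * g₀)) = 1 := by
        apply hsq (g * g₀) (c * c₀)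
        · intro u v
          show Cfsg.sympForm m F ((g.1 * g₀.1 : GL _ F).1 *ᵥ u) ((g.1 * g₀.1 : GL _ F).1 *ᵥ v) = _
          rw [Units.val_mul, ← Matrix.mulVec_mulVec, ← Matrix.mulVec_mulVec, hc, hc₀, Units.val_mul,
            mul_assoc]
        · rw [Units.val_mul]
          exact isSquare_mul_of_not hs hns₀
      rw [QuotientGroup.mk_mul, map_mul, hval₀] at hprod
      have : χ (QuotientGroup.mk g) = (-1 : Fˣ)⁻¹ := eq_inv_of_mul_eq_one_left hprod
      rw [this, inv_neg, inv_one]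

/-- `PGSp` does not have two distinct characters of order two. -/
theorem not_twoChars_PGSp (h2 : (2 : F) ≠ 0) (m : ℕ) : ¬ TwoChars (Cfsg.PGSp m F) F := by
  classical
  rintro ⟨φ, ψ, hφ2, hψ2, hφ1, hψ1, hne⟩
  apply hne
  refine MonoidHom.ext fun x => ?_
  induction x using QuotientGroup.induction_on with
  | H g =>
    obtain ⟨c, hc⟩ := g.2
    have h1 := char_PGSp_values h2 φ hφ2 hφ1 g c hc
    have h3 := char_PGSp_values h2 ψ hψ2 hψ1 g c hc
    by_cases hs : IsSquare (c : F)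
    · rw [h1.1 hs, h3.1 hs]
    · rw [h1.2 hs, h3.2 hs]

end pgsp

end Cfsg.Agent.Lib.Helper19.PSLGraph
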