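import Mathlib
import Cfsg.Prelude.Def_LieTypeDatum
import Cfsg.Agent.Lib.Helper19.PSUGraph2
import Cfsg.Agent.Lib.Helper27.UIwasawa

/-!
# Helper19: field automorphisms of `PSU_n` that are inner-diagonal
-/

set_option autoImplicit false

namespace Cfsg.Agent.Lib.Helper19.PSUGraph

open Matrix Cfsg
open Cfsg.Agent.Lib.Helper27.Unitary
open Cfsg.Agent.Lib.Helper19.PSLGraph (conjFun conjFun_coe tGL tGL_coe tGL_inv_coe)
open scoped MatrixGroups

section level2

variable {n : ℕ} {F : Type*} [Field F] [Fintype F] {q : ℕ}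

lemma gact_map (τ : F ≃+* F) (g : GL (Fin n) F) (x : Fin n → F) :
    gact (Matrix.GeneralLinearGroup.map (τ : F →+* F) g) x = mapV τ (gact g (mapV τ.symm x)) := by
  unfold gact
  rw [mapV_mulVec, mapV_symm]
  rfl

lemma mapV_symm' (τ : F ≃+* F) (v : Fin n → F) : mapV τ.symm (mapV τ v) = v := by
  funext i
  simp [mapV]

lemma mapV_add (τ : F ≃+* F) (u v : Fin n → F) : mapV τ (u + v) = mapV τ u + mapV τ v := by
  funext i
  simp [mapV]

lemma mapV_smul (τ : F ≃+* F) (a : F) (v : Fin n → F) : mapV τ (a • v) = τ a • mapV τ v := by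
  funext i
  simp [mapV]

lemma mapV_eq_zero (τ : F ≃+* F) {v : Fin n → F} (h : mapV τ v = 0) : v = 0 := by
  funext i
  have := congrFun h i
  simpa [mapV] using this

lemma map_tv (τ : F ≃+* F) {v : Fin n → F} (hv : hermForm n F q v v = 0) (c : F) :
    Matrix.GeneralLinearGroup.map (τ : F →+* F) (tv q v c) = tv q (mapV τ v) (τ c) := by
  have hv' : hermForm n F q (mapV τ v) (mapV τ v) = 0 := by
    rw [hermForm_mapV, hv, map_zero]
  apply gact_ext
  intro x
  rw [gact_map, tv_gact hv, tv_gact hv', mapV_add, mapV_smul, mapV_symm, map_mul]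
  congr 3
  rw [← hermForm_mapV, mapV_symm]

/-- If the field automorphism of `τ` is induced by the unitary matrix `k`, then `k` conjugates
transvections as `τ` does. -/
lemma field_eq_PhiU_tv (hF : Fintype.card F = q ^ 2) (hn : 2 ≤ n) (τ : F ≃+* F) (k : ↥(GU n F q))
    (hτk : (fieldPSU τ : MulAut (PSU n F q)) = PhiU k) {v : Fin n → F}
    (hv : hermForm n F q v v = 0) {c : F} (hc : c + c ^ q = 0) :
    tv q (mapV τ v) (τ c) = tv q (gact k.1 v) c := by
  rw [← map_tv τ hv, ← conj_tv hF k.2 hv]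
  have h1 := congrFun (congrArg DFunLike.coe hτk) (QuotientGroup.mk (tvSU hF v c hc))
  rw [PhiU_mk, fieldPSU_mk, QuotientGroup.eq] at h1
  obtain ⟨μ, hμ⟩ := center_SU_scalar hF hn _ h1
  have h2 : (conjSU k (tvSU hF v c hc)).1.1 =
      (fieldSU τ (tvSU hF v c hc)).1.1 * (μ • (1 : Matrix (Fin n) (Fin n) F)) := by
    rw [← hμ]
    have : conjSU k (tvSU hF v c hc) = fieldSU τ (tvSU hF v c hc) *
        ((fieldSU τ (tvSU hF v c hc))⁻¹ * conjSU k (tvSU hF v c hc)) := by group
    conv_lhs => rw [this]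
    rfl
  rw [conjSU_coe, conjFun_coe, fieldSU_coe, tvSU_coe, tv_mat v hv c, Matrix.mul_smul, mul_one] at h2
  have hmap : (1 + c • Matrix.vecMulVec v (fun j => v j ^ q)).map τ =
      1 + (c • Matrix.vecMulVec v (fun j => v j ^ q)).map τ := by
    ext i j
    simp only [Matrix.map_apply, Matrix.add_apply, map_add]
    congr 1
    by_cases hij : i = j
    · subst hij
      simp
    · simp [Matrix.one_apply_ne hij]
  have hnil : (c • Matrix.vecMulVec v (fun j => v j ^ q)).map τ *
      (c • Matrix.vecMulVec v (fun j => v j ^ q)).map τ = 0 := by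
    have := Matrix.map_mul (f := (τ : F →+* F)) (L := c • Matrix.vecMulVec v (fun j => v j ^ q))
      (M := c • Matrix.vecMulVec v (fun j => v j ^ q))
    rw [tv_nil v hv c] at this
    rw [← RingEquiv.coe_toRingHom, ← this]
    ext i j
    simp
  rw [hmap] at h2
  have hμ1 := unip_scalar2 (by omega) k.1 _ _ (tv_nil v hv c) hnil μ h2
  rw [hμ1, one_smul, ← hmap] at h2
  apply Units.ext
  rw [Units.val_mul, Units.val_mul, tv_mat v hv c, h2, ← tv_mat v hv c]
  rfl

/-- Consequence: `k v` is a multiple of `τ v`, and `τ c = c N(λ)`. -/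
lemma field_eq_PhiU_vec (hF : Fintype.card F = q ^ 2) (hn : 2 ≤ n) (τ : F ≃+* F) (k : ↥(GU n F q))
    (hτk : (fieldPSU τ : MulAut (PSU n F q)) = PhiU k) {v : Fin n → F} (hv0 : v ≠ 0)
    (hv : hermForm n F q v v = 0) {c : F} (hc0 : c ≠ 0) (hc : c + c ^ q = 0) :
    ∃ lam : F, gact k.1 v = lam • mapV τ v ∧ τ c = c * (lam * lam ^ q) := by
  have key := field_eq_PhiU_tv hF hn τ k hτk hv hc
  set w := mapV τ v with hw
  set u := gact k.1 v with hu
  have hw0 : w ≠ 0 := fun h => hv0 (mapV_eq_zero τ h)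
  have hw' : hermForm n F q w w = 0 := by rw [hw, hermForm_mapV, hv, map_zero]
  have hu' : hermForm n F q u u = 0 := by rw [hu, GU_preserves k.2, hv]
  have hτc : τ c ≠ 0 := (map_ne_zero τ).2 hc0
  have hx : ∃ x, hermForm n F q x w ≠ 0 := by
    by_contra hcon
    push Not at hcon
    exact hw0 (hf_nondeg' hF w hcon)
  obtain ⟨x, hx⟩ := hx
  have hall : ∀ y, (τ c * hermForm n F q y w) • w = (c * hermForm n F q y u) • u := by
    intro y
    have := congrArg (fun g => gact g y) key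
    simp only [tv_gact hw', tv_gact hu'] at this
    exact add_left_cancel this
  have h1 := hall x
  have hxu : c * hermForm n F q x u ≠ 0 := by
    intro h0
    rw [h0, zero_smul] at h1
    rcases smul_eq_zero.1 h1 with h | h
    · exact mul_ne_zero hτc hx h
    · exact hw0 h
  set lam : F := (τ c * hermForm n F q x w) / (c * hermForm n F q x u) with hlam
  have hlam0 : lam ≠ 0 := div_ne_zero (mul_ne_zero hτc hx) hxu
  have hu_eq : u = lam • w := by
    rw [hlam, div_eq_mul_inv, mul_comm, mul_smul, h1, smul_smul, inv_mul_cancel₀ hxu,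
      one_smul]
  refine ⟨lam, hu_eq, ?_⟩
  have h2 := h1
  rw [hu_eq, hf_smul_right, smul_smul] at h2
  have h3 : τ c * hermForm n F q x w = c * (lam ^ q * hermForm n F q x w) * lam := by
    by_contra hne
    have : (τ c * hermForm n F q x w - c * (lam ^ q * hermForm n F q x w) * lam) • w = 0 := by
      rw [sub_smul, h2, sub_self]
    rcases smul_eq_zero.1 this with h | h
    · exact hne (sub_eq_zero.1 h)
    · exact hw0 h
  have h4 : (τ c - c * (lam * lam ^ q)) * hermForm n F q x w = 0 := by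
    linear_combination h3
  rcases mul_eq_zero.1 h4 with h | h
  · exact sub_eq_zero.1 h
  · exact absurd h hx

/-- `τ` fixes the fixed field of the `q`-th power map. -/
lemma field_eq_PhiU_fix (hF : Fintype.card F = q ^ 2) (hn : 2 ≤ n) (τ : F ≃+* F) (k : ↥(GU n F q))
    (hτk : (fieldPSU τ : MulAut (PSU n F q)) = PhiU k) (a : F) (ha : a ^ q = a) : τ a = a := by
  obtain ⟨v, hv0, hv⟩ := exists_isotropic (q := q) (F := F) hF hn
  obtain ⟨θ, hθ0, hθ⟩ := exists_theta hF
  by_cases ha0 : a = 0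
  · rw [ha0, map_zero]
  have haθ : a * θ + (a * θ) ^ q = 0 := by
    rw [mul_pow, ha]
    linear_combination a * hθ
  obtain ⟨l1, hl1, hτ1⟩ := field_eq_PhiU_vec hF hn τ k hτk hv0 hv hθ0 hθ
  obtain ⟨l2, hl2, hτ2⟩ := field_eq_PhiU_vec hF hn τ k hτk hv0 hv (mul_ne_zero ha0 hθ0) haθ
  have hw0 : mapV τ v ≠ 0 := fun h => hv0 (mapV_eq_zero τ h)
  have hl : l1 = l2 := by
    rw [hl1] at hl2
    by_contra hne
    have : (l1 - l2) • mapV τ v = 0 := by rw [sub_smul, hl2, sub_self]
    rcases smul_eq_zero.1 this with h | h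
    · exact hne (sub_eq_zero.1 h)
    · exact hw0 h
  subst hl
  rw [map_mul, hτ1] at hτ2
  have hτθ : θ * (l1 * l1 ^ q) ≠ 0 := by
    rw [← hτ1]
    exact (map_ne_zero τ).2 hθ0
  have : (τ a - a) * (θ * (l1 * l1 ^ q)) = 0 := by linear_combination hτ2
  rcases mul_eq_zero.1 this with h | h
  · exact sub_eq_zero.1 h
  · exact absurd h hτθ

/-- An automorphism fixing the fixed field of the `q`-th power map is trivial or that map. -/
lemma aut_of_fix (hF : Fintype.card F = q ^ 2) (τ : F ≃+* F) (hτ : ∀ a : F, a ^ q = a → τ a = a) :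
    τ = 1 ∨ τ = cjE hF := by
  obtain ⟨ω, hω⟩ := exists_not_fixed hF
  have hne : ω - ω ^ q ≠ 0 := sub_ne_zero.2 (Ne.symm hω)
  have ht : τ (ω + ω ^ q) = ω + ω ^ q := hτ _ (tr_fixed hF ω)
  have hN : τ (ω * ω ^ q) = ω * ω ^ q := hτ _ (nm_fixed hF ω)
  have hroot : (τ ω - ω) * (τ ω - ω ^ q) = 0 := by
    rw [map_add] at ht
    rw [map_mul] at hN
    have hq : τ (ω ^ q) = ω + ω ^ q - τ ω := by linear_combination ht
    rw [hq] at hN
    linear_combination -hN
  have hdecomp : ∀ x : F, ∃ a b : F, a ^ q = a ∧ b ^ q = b ∧ x = a + b * ω := by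
    intro x
    have hb : ((x - x ^ q) / (ω - ω ^ q)) ^ q = (x - x ^ q) / (ω - ω ^ q) := by
      rw [div_pow, cj_sub hF, cj_sub hF, cj_cj hF, cj_cj hF, ← neg_sub x, ← neg_sub ω, neg_div_neg_eq]
    refine ⟨x - (x - x ^ q) / (ω - ω ^ q) * ω, (x - x ^ q) / (ω - ω ^ q), ?_, hb, by ring⟩
    rw [cj_sub hF, mul_pow, hb]
    field_simp
    ring
  rcases mul_eq_zero.1 hroot with h | h
  · left
    apply RingEquiv.ext
    intro x
    obtain ⟨a, b, ha, hb, rfl⟩ := hdecomp x
    rw [map_add, map_mul, hτ a ha, hτ b hb, sub_eq_zero.1 h]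
    rfl
  · right
    apply RingEquiv.ext
    intro x
    obtain ⟨a, b, ha, hb, rfl⟩ := hdecomp x
    rw [map_add, map_mul, hτ a ha, hτ b hb, sub_eq_zero.1 h, cjE_apply, cj_add hF, mul_pow, ha, hb]

end level2

end Cfsg.Agent.Lib.Helper19.PSUGraph
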