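import Mathlib
import Cfsg.Prelude.Def_LieTypeDatum
import Cfsg.Agent.Lib.Helper19.PSUGraph6

/-!
# Helper19: involutory graph automorphisms of `PSU_n` are of the form `gamU A`
-/

set_option autoImplicit false

namespace Cfsg.Agent.Lib.Helper19.PSUGraph

open Matrix Cfsg
open Cfsg.Agent.Lib.Helper27.Unitary
open Cfsg.Agent.Lib.Helper19.PSLGraph (conjFun conjFun_coe tGL tGL_coe tGL_inv_coe)
open scoped MatrixGroups

section notinner

variable {n : ℕ} {F : Type*} [Field F] [Fintype F] {q : ℕ}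

lemma iso_pair (hF : Fintype.card F = q ^ 2) (i j : Fin n) (hij : i ≠ j) (ζ : F)
    (hζ : ζ * ζ ^ q = -1) :
    hermForm n F q (Pi.single i 1 + ζ • Pi.single j 1) (Pi.single i 1 + ζ • Pi.single j 1) = 0 := by
  rw [hf_add_right hF, hf_smul_right, hf_single_right hF, hf_single_right hF]
  simp only [Pi.add_apply, Pi.smul_apply, Pi.single_eq_same, smul_eq_mul, mul_one]
  rw [Pi.single_eq_of_ne hij.symm, Pi.single_eq_of_ne hij]
  linear_combination hζ

lemma iso_pair_ne (i j : Fin n) (hij : i ≠ j) (ζ : F) :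
    (Pi.single i 1 + ζ • Pi.single j 1 : Fin n → F) ≠ 0 := by
  intro h
  have := congrFun h i
  simp only [Pi.add_apply, Pi.smul_apply, Pi.single_eq_same, smul_eq_mul, Pi.zero_apply] at this
  rw [Pi.single_eq_of_ne hij] at this
  simp at this

lemma iotaU_key (hF : Fintype.card F = q ^ 2) (hn : 2 ≤ n) (k : ↥(GU n F q))
    (h : (iotaU hF : MulAut (PSU n F q)) = PhiU k) (i j : Fin n) (hij : i ≠ j) (ζ : F)
    (hζ : ζ * ζ ^ q = -1) :
    ∃ lam : F, lam * lam ^ q = -1 ∧ ∀ l, k.1.1 l i + ζ * k.1.1 l j =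
      lam * ((Pi.single i 1 + ζ ^ q • Pi.single j 1 : Fin n → F) l) := by
  obtain ⟨θ, hθ0, hθ⟩ := exists_theta hF
  obtain ⟨lam, hl, hτ⟩ := field_eq_PhiU_vec hF hn (cjE hF) k h (iso_pair_ne i j hij ζ)
    (iso_pair hF i j hij ζ hζ) hθ0 hθ
  refine ⟨lam, ?_, ?_⟩
  · rw [cjE_apply] at hτ
    have : θ * (lam * lam ^ q + 1) = 0 := by linear_combination hθ - hτ
    rcases mul_eq_zero.1 this with h' | h'
    · exact absurd h' hθ0
    · linear_combination h'
  · intro l
    have := congrFun hl l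
    unfold gact at this
    rw [Matrix.mulVec_add, Matrix.mulVec_smul, Matrix.mulVec_single_one, Matrix.mulVec_single_one] at this
    simp only [Pi.add_apply, Pi.smul_apply, smul_eq_mul, Matrix.col_apply] at this
    rw [this]
    congr 1
    show (Pi.single i 1 + ζ • Pi.single j 1 : Fin n → F) l ^ q = _
    simp only [Pi.add_apply, Pi.smul_apply, smul_eq_mul]
    rw [cj_add hF, mul_pow]
    congr 1
    · by_cases hl : l = i
      · subst hl
        simp
      · rw [Pi.single_eq_of_ne hl, cj_zero hF]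
    · by_cases hl : l = j
      · subst hl
        simp
      · rw [Pi.single_eq_of_ne hl, cj_zero hF]

/-- The standard graph automorphism is not inner-diagonal when `n ≥ 3`. -/
theorem iotaU_not_inner (hF : Fintype.card F = q ^ 2) (hn : 3 ≤ n) (k : ↥(GU n F q)) :
    (iotaU hF : MulAut (PSU n F q)) ≠ PhiU k := by
  intro h
  have key := iotaU_key hF (by omega) k h
  obtain ⟨ζ₁, hζ₁⟩ := nm_surj hF (-1 : F) (by rw [cj_neg hF, one_pow])
  obtain ⟨ζ₀, hζ₀1, hζ₀⟩ := exists_norm_one_ne_one hF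
  have hζ₂ : (ζ₁ * ζ₀) * (ζ₁ * ζ₀) ^ q = -1 := by
    rw [mul_pow]
    linear_combination ζ₀ * ζ₀ ^ q * hζ₁ - hζ₀
  have hζ₁0 : ζ₁ ≠ 0 := by
    rintro rfl
    rw [zero_mul] at hζ₁
    exact one_ne_zero (neg_eq_zero.1 hζ₁.symm)
  have hζne : ζ₁ ≠ ζ₁ * ζ₀ := by
    intro h'
    apply hζ₀1
    have : ζ₁ * (ζ₀ - 1) = 0 := by linear_combination -h'
    rcases mul_eq_zero.1 this with h'' | h''
    · exact absurd h'' hζ₁0
    · linear_combination h''
  -- off-diagonal entries vanish
  have hoff : ∀ l j : Fin n, l ≠ j → k.1.1 l j = 0 := by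
    intro l j hlj
    obtain ⟨i, hil, hij⟩ : ∃ i : Fin n, i ≠ l ∧ i ≠ j := by
      by_contra hcon
      push Not at hcon
      have hsub : (Finset.univ : Finset (Fin n)) ⊆ {l, j} := by
        intro i _
        by_cases hil : i = l
        · simp [hil]
        · simp [hcon i hil]
      have := Finset.card_le_card hsub
      rw [Finset.card_univ, Fintype.card_fin] at this
      have h2 : ({l, j} : Finset (Fin n)).card ≤ 2 := Finset.card_le_two
      omega
    obtain ⟨lam1, -, h1⟩ := key i j hij ζ₁ hζ₁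
    obtain ⟨lam2, -, h2⟩ := key i j hij (ζ₁ * ζ₀) hζ₂
    have e1 := h1 l
    have e2 := h2 l
    simp only [Pi.add_apply, Pi.smul_apply, smul_eq_mul] at e1 e2
    rw [Pi.single_eq_of_ne hil.symm, Pi.single_eq_of_ne hlj] at e1 e2
    have : (ζ₁ - ζ₁ * ζ₀) * k.1.1 l j = 0 := by linear_combination e1 - e2
    rcases mul_eq_zero.1 this with h' | h'
    · exact absurd (sub_eq_zero.1 h') hζne
    · exact h'
  let i : Fin n := ⟨0, by omega⟩
  let j : Fin n := ⟨1, by omega⟩
  have hij : i ≠ j := by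
    intro h'
    have := congrArg Fin.val h'
    simp [i, j] at this
  -- diagonal entries have norm one
  have hU := (mat_mem_GU_iff hF k.1).1 k.2
  have hdiag : k.1.1 i i * k.1.1 i i ^ q = 1 := by
    have := congrFun (congrFun hU i) i
    rw [Matrix.mul_apply, Matrix.one_apply_eq, Finset.sum_eq_single i] at this
    · exact this
    · intro l _ hl
      rw [Matrix.transpose_apply, hoff l i hl, zero_mul]
    · intro h'
      exact absurd (Finset.mem_univ i) h'
  -- characteristic two
  have hrel : ∀ ζ : F, ζ * ζ ^ q = -1 → k.1.1 i i * k.1.1 i i ^ q = -1 ∧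
      ζ * k.1.1 j j = k.1.1 i i * ζ ^ q := by
    intro ζ hζ
    obtain ⟨lam, hlam, hl⟩ := key i j hij ζ hζ
    have e1 := hl i
    have e2 := hl j
    simp only [Pi.add_apply, Pi.smul_apply, smul_eq_mul, Pi.single_eq_same] at e1 e2
    rw [Pi.single_eq_of_ne hij, hoff i j hij] at e1
    rw [Pi.single_eq_of_ne hij.symm, hoff j i hij.symm] at e2
    have hlam' : lam = k.1.1 i i := by linear_combination -e1
    subst hlam'
    exact ⟨hlam, by linear_combination e2⟩
  have h11 : (1 : F) = -1 := hdiag.symm.trans (hrel ζ₁ hζ₁).1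
  have h2 : (2 : F) = 0 := by linear_combination h11
  have hone : (1 : F) * 1 ^ q = -1 := by rw [one_pow, one_mul]; exact h11
  have hζ₀' : ζ₀ * ζ₀ ^ q = -1 := by rw [hζ₀]; exact h11
  have e1 := (hrel 1 hone).2
  have e2 := (hrel ζ₀ hζ₀').2
  rw [one_pow, one_mul, mul_one] at e1
  rw [e1] at e2
  have hk0 : k.1.1 i i ≠ 0 := by
    intro h'
    rw [h', zero_mul] at hdiag
    exact zero_ne_one hdiag
  have hfix : ζ₀ = ζ₀ ^ q := by
    have : k.1.1 i i * (ζ₀ - ζ₀ ^ q) = 0 := by linear_combination e2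
    rcases mul_eq_zero.1 this with h' | h'
    · exact absurd h' hk0
    · linear_combination h'
  rw [← hfix] at hζ₀
  apply hζ₀1
  have : (ζ₀ - 1) * (ζ₀ - 1) = 0 := by linear_combination hζ₀ + (1 - ζ₀) * h2
  have := mul_self_eq_zero.1 this
  linear_combination this

end notinner

section invol

variable {F : Type*} [Field F] [Fintype F]

/-- A finite field has at most one involutory automorphism. -/
theorem ringAut_invol_unique (σ₁ σ₂ : F ≃+* F) (h1 : σ₁ * σ₁ = 1) (h1' : σ₁ ≠ 1) (h2 : σ₂ * σ₂ = 1)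
    (h2' : σ₂ ≠ 1) : σ₁ = σ₂ := by
  classical
  obtain ⟨p, hp⟩ := CharP.exists F
  haveI := hp
  haveI hpp : Fact p.Prime := ⟨CharP.char_is_prime F p⟩
  letI := ZMod.algebra F p
  let toAlg : (F ≃+* F) → (F ≃ₐ[ZMod p] F) := fun σ =>
    AlgEquiv.ofRingEquiv (f := σ) (fun x =>
      RingHom.congr_fun (Subsingleton.elim ((σ : F →+* F).comp (algebraMap (ZMod p) F))
        (algebraMap (ZMod p) F)) x)
  have happ : ∀ σ x, toAlg σ x = σ x := fun σ x => rfl
  have hinj : Function.Injective toAlg := by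
    intro a b hab
    apply RingEquiv.ext
    intro x
    rw [← happ, ← happ, hab]
  have hsq : ∀ σ : F ≃+* F, σ * σ = 1 → toAlg σ ^ 2 = 1 := by
    intro σ hσ
    apply AlgEquiv.ext
    intro x
    rw [pow_two, AlgEquiv.mul_apply, happ, happ, AlgEquiv.one_apply]
    exact RingEquiv.congr_fun hσ x
  have hone : toAlg 1 = 1 := by
    apply AlgEquiv.ext
    intro x
    rfl
  by_contra hne
  haveI : Fintype (F ≃ₐ[ZMod p] F) := Fintype.ofFinite _
  have hcard := IsCyclic.card_pow_eq_one_le (α := F ≃ₐ[ZMod p] F) (n := 2) (by norm_num)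
  have hsub : ({1, toAlg σ₁, toAlg σ₂} : Finset (F ≃ₐ[ZMod p] F)) ⊆
      Finset.univ.filter (fun a => a ^ 2 = 1) := by
    intro a ha
    simp only [Finset.mem_insert, Finset.mem_singleton] at ha
    rw [Finset.mem_filter]
    refine ⟨Finset.mem_univ _, ?_⟩
    rcases ha with rfl | rfl | rfl
    · exact one_pow 2
    · exact hsq σ₁ h1
    · exact hsq σ₂ h2
  have h3 : ({1, toAlg σ₁, toAlg σ₂} : Finset (F ≃ₐ[ZMod p] F)).card = 3 := by
    rw [Finset.card_insert_of_notMem, Finset.card_insert_of_notMem, Finset.card_singleton]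
    · simp only [Finset.mem_singleton]
      intro h
      exact hne (hinj h)
    · simp only [Finset.mem_insert, Finset.mem_singleton, not_or]
      constructor
      · intro h
        rw [← hone] at h
        exact h1' (hinj h).symm
      · intro h
        rw [← hone] at h
        exact h2' (hinj h).symm
  have := Finset.card_le_card hsub
  omega

end invol

end Cfsg.Agent.Lib.Helper19.PSUGraph
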