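import Mathlib
import Cfsg.Prelude.Def_LieTypeDatum
import Cfsg.Agent.Lib.Helper19.PSUGraph7

/-!
# Helper19: involutory graph automorphisms of `PSU_n` are exactly the `gamU A` with `Aᵀ = ± A`
-/

set_option autoImplicit false

namespace Cfsg.Agent.Lib.Helper19.PSUGraph

open Matrix Cfsg
open Cfsg.Agent.Lib.Helper27.Unitary
open Cfsg.Agent.Lib.Helper19.PSLGraph (conjFun conjFun_coe tGL tGL_coe tGL_inv_coe)
open scoped MatrixGroups

section graphaut

variable {n : ℕ} {F : Type*} [Field F] [Fintype F] {q : ℕ}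

lemma cjE_ne_one (hF : Fintype.card F = q ^ 2) : cjE hF ≠ 1 := by
  obtain ⟨x, hx⟩ := exists_not_fixed hF
  intro h
  apply hx
  have := RingEquiv.congr_fun h x
  rw [cjE_apply] at this
  exact this

lemma orderOf_cjE (hF : Fintype.card F = q ^ 2) : orderOf (cjE hF) = 2 := by
  apply orderOf_eq_prime
  · rw [pow_two]
    exact cjE_mul_self hF
  · exact cjE_ne_one hF

theorem gamU_isGraphAut (hF : Fintype.card F = q ^ 2) (hn : 3 ≤ n) (A : ↥(GU n F q)) :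
    Cfsg.IsGraphAutClassPSU (gamU hF A) := by
  refine ⟨hn, PhiU A⁻¹, iotaU hF, cjE hF, ?_, ?_, ?_, rfl⟩
  · rw [orderOf_cjE]
    exact even_two
  · exact (isInnerDiagU_iff _).2 ⟨A⁻¹, rfl⟩
  · exact (isFieldAutU_iff _ _).2 rfl

theorem gamU_ne_one (hF : Fintype.card F = q ^ 2) (hn : 3 ≤ n) (A : ↥(GU n F q)) :
    gamU hF A ≠ 1 := by
  intro h
  unfold gamU at h
  apply iotaU_not_inner hF hn A
  have : iotaU hF = (PhiU A⁻¹)⁻¹ := eq_inv_of_mul_eq_one_right h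
  rw [this, map_inv, inv_inv]

theorem orderOf_gamU (hF : Fintype.card F = q ^ 2) (hn : 3 ≤ n) (A : ↥(GU n F q)) (c : F)
    (hc : c ≠ 0) (hA : A.1.1ᵀ = c • A.1.1) : orderOf (gamU hF A) = 2 := by
  apply orderOf_eq_prime
  · rw [pow_two, gamU_sq, PhiU_eq_one_iff hF (by omega), Cfsg.Geo.mem_scalars_iff]
    refine ⟨Units.mk0 c hc, ?_⟩
    show (A.1⁻¹).1 * A.1.1ᵀ = _
    rw [hA, Matrix.mul_smul, Units.inv_mul]
    rfl
  · exact gamU_ne_one hF hn A

theorem transposeU_of_order_two (hF : Fintype.card F = q ^ 2) (hn : 2 ≤ n) (A : ↥(GU n F q))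
    (h : gamU hF A * gamU hF A = 1) : ∃ c : F, c * c = 1 ∧ A.1.1ᵀ = c • A.1.1 := by
  rw [gamU_sq, PhiU_eq_one_iff hF hn, Cfsg.Geo.mem_scalars_iff] at h
  obtain ⟨c, hc⟩ := h
  have hc' : (A.1⁻¹).1 * A.1.1ᵀ = (c : F) • (1 : Matrix (Fin n) (Fin n) F) := hc
  have hAt : A.1.1ᵀ = (c : F) • A.1.1 := by
    calc A.1.1ᵀ = A.1.1 * ((A.1⁻¹).1 * A.1.1ᵀ) := by rw [← mul_assoc, Units.mul_inv, one_mul]
      _ = (c : F) • A.1.1 := by rw [hc', Matrix.mul_smul, mul_one]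
  refine ⟨c, ?_, hAt⟩
  have h1 : A.1.1 = ((c : F) * c) • A.1.1 := by
    conv_lhs => rw [← Matrix.transpose_transpose A.1.1, hAt, Matrix.transpose_smul, hAt, smul_smul]
  have h2 : ((c : F) * c - 1) • A.1.1 = 0 := by
    rw [sub_smul, one_smul, ← h1, sub_self]
  rcases smul_eq_zero.1 h2 with h3 | h3
  · linear_combination h3
  · exfalso
    have hdet := (Matrix.isUnit_iff_isUnit_det _).1 A.1.isUnit
    have hne : Nonempty (Fin n) := ⟨⟨0, by omega⟩⟩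
    rw [h3, Matrix.det_zero] at hdet
    exact not_isUnit_zero hdet

theorem graphAut_eq_gamU (hF : Fintype.card F = q ^ 2) (β : MulAut (PSU n F q))
    (hβ : Cfsg.IsGraphAutClassPSU β) (h2 : orderOf β = 2) :
    ∃ A : ↥(GU n F q), β = gamU hF A ∧ ∃ c : F, c * c = 1 ∧ A.1.1ᵀ = c • A.1.1 := by
  obtain ⟨hn, δ, φ, σ, hσ, hδ, hφ, rfl⟩ := hβ
  obtain ⟨g, rfl⟩ := (isInnerDiagU_iff δ).1 hδ
  have hφ' := (isFieldAutU_iff σ φ).1 hφ
  subst hφ'
  have hsq : (PhiU g * fieldPSU σ) * (PhiU g * fieldPSU σ) = (1 : MulAut (PSU n F q)) := by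
    rw [← pow_two, ← h2]
    exact pow_orderOf_eq_one _
  have hsq' : (PhiU g * fieldPSU σ) * (PhiU g * fieldPSU σ) =
      PhiU (g * fieldGU σ g) * (fieldPSU (σ * σ) : MulAut (PSU n F q)) := by
    rw [mul_assoc, ← mul_assoc (fieldPSU σ), fieldPSU_PhiU, mul_assoc, fieldPSU_mul, ← mul_assoc,
      ← map_mul]
  rw [hsq'] at hsq
  have hk : (fieldPSU (σ * σ) : MulAut (PSU n F q)) = PhiU (g * fieldGU σ g)⁻¹ := by
    rw [map_inv]
    exact eq_inv_of_mul_eq_one_right hsq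
  have hfix := field_eq_PhiU_fix hF (by omega) (σ * σ) _ hk
  have hσσ : σ * σ = 1 := by
    rcases aut_of_fix hF (σ * σ) hfix with h | h
    · exact h
    · exfalso
      rw [h] at hk
      exact iotaU_not_inner hF hn _ hk
  have hσ1 : σ ≠ 1 := by
    rintro rfl
    rw [orderOf_one] at hσ
    exact absurd hσ (by decide)
  have hσE : σ = cjE hF := ringAut_invol_unique σ (cjE hF) hσσ hσ1 (cjE_mul_self hF) (cjE_ne_one hF)
  subst hσE
  have hβ : PhiU g * fieldPSU (cjE hF) = gamU hF g⁻¹ := by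
    unfold gamU iotaU
    rw [inv_inv]
  refine ⟨g⁻¹, hβ, ?_⟩
  apply transposeU_of_order_two hF (by omega)
  rw [← hβ, ← pow_two, ← h2]
  exact pow_orderOf_eq_one _

end graphaut

end Cfsg.Agent.Lib.Helper19.PSUGraph
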