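import Mathlib
import Cfsg.Prelude.Def_LieTypeDatum
import Cfsg.Agent.Lib.Helper19.PSUSplit4

/-!
# Helper19: determinants of unitary similitudes, even dimension and odd characteristic
-/

set_option autoImplicit false

namespace Cfsg.Agent.Lib.Helper19.PSUGraph

open Matrix Cfsg
open Cfsg.Agent.Lib.Helper27.Unitary
open Cfsg.Agent.Lib.Helper19.PSLGraph (scalGL scalGL_mem det_scalGL det_sq_of_sim)
open scoped MatrixGroups

section cases

variable {m : ℕ} {F : Type*} [Field F] [Fintype F] {q : ℕ} {F₀ : Type*} [Field F₀] [Fintype F₀]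

omit [Fintype F₀] in
/-- A norm-one element as a quotient `ν / ν^q`, together with the inverse norm of `ν`. -/
lemma exists_nu (hF : Fintype.card F = q ^ 2) (j : F₀ →+* F)
    (hsurj : ∀ x : F, x ^ q = x → ∃ y, j y = x) (y : ↥(U1 F q)) :
    ∃ (ν : Fˣ) (d : F₀), d ≠ 0 ∧ ((ν : F) ^ q * (ν : F)) * j d = 1 ∧
      (ν : F) * (ν : F) * j d = ((y : Fˣ) : F) := by
  have hy := (val_mem_U1 (y : Fˣ)).1 y.2
  have hy0 : ((y : Fˣ) : F) ≠ 0 := (y : Fˣ).ne_zero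
  have hc : ((y : Fˣ) : F)⁻¹ * (((y : Fˣ) : F)⁻¹) ^ q = 1 := by
    rw [inv_pow, ← mul_inv, hy, inv_one]
  obtain ⟨ν, hν0, hν⟩ := hilbert90_scalar hF _ hc
  have hνq : ν ^ q ≠ 0 := pow_ne_zero _ hν0
  have hfixd : ((ν ^ q * ν)⁻¹) ^ q = (ν ^ q * ν)⁻¹ := by
    rw [inv_pow, mul_pow, cj_cj hF, mul_comm]
  obtain ⟨d, hd⟩ := hsurj _ hfixd
  have hd0 : d ≠ 0 := by
    rintro rfl
    rw [map_zero] at hd
    exact inv_ne_zero (mul_ne_zero hνq hν0) hd.symm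
  refine ⟨Units.mk0 ν hν0, d, hd0, ?_, ?_⟩
  · rw [Units.val_mk0, hd, mul_inv_cancel₀ (mul_ne_zero hνq hν0)]
  · rw [Units.val_mk0, hd, hν]
    field_simp

omit [Fintype F₀] in
lemma norm_mult_mem_U1 (j : F₀ →+* F) (hfix : ∀ y, (j y) ^ q = j y) (ν : Fˣ) (d : F₀)
    (hN : ((ν : F) ^ q * (ν : F)) * j d = 1) :
    (ν : F) * (ν : F) * j d * ((ν : F) * (ν : F) * j d) ^ q = 1 := by
  rw [mul_pow, mul_pow, hfix]
  linear_combination (((ν : F) ^ q * (ν : F)) * j d + 1) * hN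

/-- Alternating type. -/
theorem detSimU_alt (hF : Fintype.card F = q ^ 2) (hm : 1 ≤ m) (j : F₀ →+* F)
    (hfix : ∀ y, (j y) ^ q = j y) (hsurj : ∀ x : F, x ^ q = x → ∃ y, j y = x) (h2 : (2 : F₀) ≠ 0)
    (A : ↥(GU (2 * m) F q)) (a : GL (Fin (2 * m)) F) (S : GL (Fin (2 * m)) F₀) (hS : S.1ᵀ = -S.1)
    {κ μ : F} (hκ : κ ≠ 0) (hμ : μ ≠ 0) (dA : Desc j q A.1.1 a.1 S.1 κ μ) :
    detSimU hF A = (powMonoidHom m : ↥(U1 F q) →* ↥(U1 F q)).range := by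
  ext x
  rw [detSimU_desc_iff hF (by omega) j hfix hsurj A a S hκ hμ dA x]
  constructor
  · rintro ⟨t, d, ν, hd0, ht, hN, hx⟩
    have hdet := det_sim_alt h2 S hS t d hd0 ht
    have hjd : j d ≠ 0 := (map_ne_zero j).2 hd0
    have hy0 : (ν : F) * (ν : F) * j d ≠ 0 := mul_ne_zero (mul_ne_zero ν.ne_zero ν.ne_zero) hjd
    have hyU : Units.mk0 _ hy0 ∈ U1 F q := by
      rw [val_mem_U1, Units.val_mk0]
      exact norm_mult_mem_U1 j hfix ν d hN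
    refine ⟨⟨Units.mk0 _ hy0, hyU⟩, ?_⟩
    apply Subtype.ext
    apply Units.ext
    show ((Units.mk0 _ hy0 ^ m : Fˣ) : F) = ((x : Fˣ) : F)
    rw [Units.val_pow_eq_pow_val, Units.val_mk0, hx, hdet, map_pow]
    ring
  · rintro ⟨y, rfl⟩
    obtain ⟨ν, d, hd0, hN, hy⟩ := exists_nu hF j hsurj y
    obtain ⟨t, ht⟩ := exists_sim_alt h2 S hS (Units.mk0 d hd0)
    rw [Units.val_mk0] at ht
    have hdet := det_sim_alt h2 S hS t d hd0 ht
    refine ⟨t, d, ν, hd0, ht, hN, ?_⟩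
    show (((y ^ m : ↥(U1 F q)) : Fˣ) : F) = _
    rw [Subgroup.coe_pow, Units.val_pow_eq_pow_val, ← hy, hdet, map_pow]
    ring

/-- Symmetric type. -/
theorem detSimU_symm (hF : Fintype.card F = q ^ 2) (hm : 1 ≤ m) (j : F₀ →+* F)
    (hfix : ∀ y, (j y) ^ q = j y) (hsurj : ∀ x : F, x ^ q = x → ∃ y, j y = x) (h2 : (2 : F₀) ≠ 0)
    (A : ↥(GU (2 * m) F q)) (a : GL (Fin (2 * m)) F) (S : GL (Fin (2 * m)) F₀) (hS : S.1ᵀ = S.1)
    {κ μ : F} (hκ : κ ≠ 0) (hμ : μ ≠ 0) (dA : Desc j q A.1.1 a.1 S.1 κ μ) :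
    detSimU hF A = ((powMonoidHom (2 * m) : ↥(U1 F q) →* ↥(U1 F q)).range).comap
      (powMonoidHom 2 : ↥(U1 F q) →* ↥(U1 F q)) := by
  ext x
  rw [detSimU_desc_iff hF (by omega) j hfix hsurj A a S hκ hμ dA x, Subgroup.mem_comap]
  constructor
  · rintro ⟨t, d, ν, hd0, ht, hN, hx⟩
    have hdet := det_sq_of_sim S t (Units.mk0 d hd0) (by rw [Units.val_mk0]; exact ht)
    have hdet' : t.1.det ^ 2 = d ^ (2 * m) := by
      have := congrArg Units.val hdet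
      rwa [Units.val_pow_eq_pow_val, Units.val_pow_eq_pow_val, Units.val_mk0] at this
    have hjd : j d ≠ 0 := (map_ne_zero j).2 hd0
    have hy0 : (ν : F) * (ν : F) * j d ≠ 0 := mul_ne_zero (mul_ne_zero ν.ne_zero ν.ne_zero) hjd
    have hyU : Units.mk0 _ hy0 ∈ U1 F q := by
      rw [val_mem_U1, Units.val_mk0]
      exact norm_mult_mem_U1 j hfix ν d hN
    refine ⟨⟨Units.mk0 _ hy0, hyU⟩, ?_⟩
    apply Subtype.ext
    apply Units.ext
    show ((Units.mk0 _ hy0 ^ (2 * m) : Fˣ) : F) = (((x : Fˣ) ^ 2 : Fˣ) : F)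
    rw [Units.val_pow_eq_pow_val, Units.val_pow_eq_pow_val, Units.val_mk0, hx]
    have e : (j t.1.det) ^ 2 = (j d) ^ (2 * m) := by rw [← map_pow, hdet', map_pow]
    calc ((ν : F) * (ν : F) * j d) ^ (2 * m) = ((ν : F) ^ (2 * m)) ^ 2 * (j d) ^ (2 * m) := by ring
      _ = ((ν : F) ^ (2 * m) * j t.1.det) ^ 2 := by rw [← e]; ring
  · rintro ⟨y, hy2⟩
    have hy2' : ((y : Fˣ) : F) ^ (2 * m) = ((x : Fˣ) : F) ^ 2 := by
      have h1 := congrArg (fun u : ↥(U1 F q) => ((u : Fˣ) : F)) hy2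
      simpa [Subgroup.coe_pow, Units.val_pow_eq_pow_val] using h1
    obtain ⟨ν, d, hd0, hN, hy⟩ := exists_nu hF j hsurj y
    have hν0 : (ν : F) ^ (2 * m) ≠ 0 := pow_ne_zero _ ν.ne_zero
    have hz0 : (((x : Fˣ) : F) / (ν : F) ^ (2 * m)) ^ 2 = (j d ^ m) ^ 2 := by
      rw [div_pow, ← hy2', ← hy]
      field_simp
      ring
    have e2 : (((x : Fˣ) : F) / (ν : F) ^ (2 * m) - j d ^ m) *
        (((x : Fˣ) : F) / (ν : F) ^ (2 * m) + j d ^ m) = 0 := by linear_combination hz0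
    rcases mul_eq_zero.1 e2 with h | h
    · obtain ⟨t, ht, htd⟩ := exists_sim_symm_det h2 hm S hS (Units.mk0 d hd0) (d ^ m) (by
        rw [Units.val_mk0, ← pow_mul, mul_comm])
      rw [Units.val_mk0] at ht
      refine ⟨t, d, ν, hd0, ht, hN, ?_⟩
      rw [htd, map_pow]
      have : ((x : Fˣ) : F) / (ν : F) ^ (2 * m) = j d ^ m := by linear_combination h
      rw [← this]
      field_simp
    · obtain ⟨t, ht, htd⟩ := exists_sim_symm_det h2 hm S hS (Units.mk0 d hd0) (-(d ^ m)) (by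
        rw [Units.val_mk0, neg_sq, ← pow_mul, mul_comm])
      rw [Units.val_mk0] at ht
      refine ⟨t, d, ν, hd0, ht, hN, ?_⟩
      rw [htd, map_neg, map_pow]
      have : ((x : Fˣ) : F) / (ν : F) ^ (2 * m) = -(j d ^ m) := by linear_combination h
      rw [← this]
      field_simp

end cases

end Cfsg.Agent.Lib.Helper19.PSUGraph
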