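import Mathlib
import Cfsg.Agent.Lib.Helper19.PrimeGraphPSL9

set_option autoImplicit false

namespace Cfsg.Agent.Lib.Helper19.PrimeGraphPSL

open Matrix Module Cfsg.Agent.Lib.Helper19.UnitaryEig

variable {F : Type*} [Field F] [Fintype F] {n : ℕ}

/-- No matrix of determinant one whose scalar powers are exactly the multiples of `r s`, when
`n < k + l` and `k ∤ l`. -/
theorem core_rs (p : ℕ) [Fact p.Prime] [CharP F p] (hn : 1 ≤ n) (r s : ℕ) (hr : r.Prime)
    (hs : s.Prime) (hrp : r ≠ p) (hsp : s ≠ p)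
    (k l : ℕ) (hk : ∀ j, r ∣ Fintype.card F ^ j - 1 ↔ k ∣ j)
    (hl : ∀ j, s ∣ Fintype.card F ^ j - 1 ↔ l ∣ j)
    (h2k : 2 ≤ k) (hkl : k ≤ l) (hnkl : n < k + l) (hndvd : ¬ k ∣ l)
    (X : Matrix (Fin n) (Fin n) F) (hdet : X.det = 1)
    (hX : ∀ j, (∃ c : F, X ^ j = c • 1) ↔ r * s ∣ j) : False := by
  classical
  have hp : p.Prime := Fact.out
  set q := Fintype.card F with hq
  have hq2 : 2 ≤ q := Fintype.one_lt_card
  have hr1 : ¬ r ∣ q - 1 := by
    intro h
    have h1 := (hk 1).1 (by rwa [pow_one])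
    have := Nat.le_of_dvd (by norm_num) h1
    omega
  have hs1 : ¬ s ∣ q - 1 := by
    intro h
    have h1 := (hl 1).1 (by rwa [pow_one])
    have := Nat.le_of_dvd (by norm_num) h1
    omega
  have hcop : (Nat.card Fˣ).Coprime (r * s) := by
    rw [Nat.card_eq_fintype_card, Fintype.card_units]
    apply Nat.Coprime.mul_right
    · exact Nat.Coprime.symm ((Nat.Prime.coprime_iff_not_dvd hr).2 hr1)
    · exact Nat.Coprime.symm ((Nat.Prime.coprime_iff_not_dvd hs).2 hs1)
  obtain ⟨nu, hnu⟩ := (hX (r * s)).2 dvd_rfl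
  have hnu0 : nu ≠ 0 := by
    rintro rfl
    have h1 := congrArg Matrix.det hnu
    rw [Matrix.det_pow, hdet, one_pow, zero_smul] at h1
    haveI : Nonempty (Fin n) := ⟨⟨0, hn⟩⟩
    rw [Matrix.det_zero] at h1
    exact one_ne_zero h1
  obtain ⟨nu', hnu'r, hnu'0⟩ : ∃ nu' : F, nu' ^ (r * s) = nu⁻¹ ∧ nu' ≠ 0 := by
    let u : Fˣ := Units.mk0 nu⁻¹ (inv_ne_zero hnu0)
    obtain ⟨w, hw⟩ := (powCoprime hcop).surjective u
    refine ⟨(w : F), ?_, w.ne_zero⟩
    have : (w ^ (r * s) : Fˣ) = u := hw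
    have := congrArg (fun x : Fˣ => (x : F)) this
    simpa [u] using this
  set X₁ : Matrix (Fin n) (Fin n) F := nu' • X with hX₁
  have hX₁rs : X₁ ^ (r * s) = 1 := by
    rw [hX₁, smul_pow, hnu, smul_smul, hnu'r, inv_mul_cancel₀ hnu0, one_smul]
  have hnot : ∀ j, X₁ ^ j = 1 → r * s ∣ j := by
    intro j hj
    apply (hX j).1
    refine ⟨(nu' ^ j)⁻¹, ?_⟩
    rw [hX₁, smul_pow] at hj
    rw [← hj, smul_smul, inv_mul_cancel₀ (pow_ne_zero _ hnu'0), one_smul]
  have hX₁s : X₁ ^ s ≠ 1 := by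
    intro h
    have h1 := Nat.le_of_dvd hs.pos (hnot s h)
    have h2 : 2 * s ≤ r * s := Nat.mul_le_mul_right s hr.two_le
    have := hs.pos
    omega
  have hX₁r : X₁ ^ r ≠ 1 := by
    intro h
    have h1 := Nat.le_of_dvd hr.pos (hnot r h)
    have h2 : r * 2 ≤ r * s := Nat.mul_le_mul_left r hs.two_le
    have := hr.pos
    omega
  let E := AlgebraicClosure F
  let ι : F →+* E := algebraMap F E
  haveI : CharP E p := charP_of_injective_algebraMap ι.injective p
  have hrsE : ((r * s : ℕ) : E) ≠ 0 := by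
    intro h
    rw [CharP.cast_eq_zero_iff E p (r * s)] at h
    rcases hp.dvd_mul.1 h with h1 | h1
    · exact hrp ((Nat.prime_dvd_prime_iff_eq hp hr).1 h1).symm
    · exact hsp ((Nat.prime_dvd_prime_iff_eq hp hs).1 h1).symm
  let Φ : Matrix (Fin n) (Fin n) F →+* Matrix (Fin n) (Fin n) E := ι.mapMatrix
  have hΦinj : Function.Injective Φ := by
    intro A B h
    ext i j
    have := congrArg (fun Z : Matrix (Fin n) (Fin n) E => Z i j) h
    exact ι.injective this
  obtain ⟨e, -, he⟩ := FiniteField.card F p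
  set σ : E →+* E := iterateFrobenius E p (e : ℕ) with hσ
  have hσq : ∀ z, σ z = z ^ q := by
    intro z
    rw [hσ, iterateFrobenius_def, hq, he]
  have hσsurj : Function.Surjective σ := by
    intro z
    obtain ⟨t, ht⟩ := IsAlgClosed.exists_pow_nat_eq z (by omega : 0 < q)
    exact ⟨t, by rw [hσq, ht]⟩
  have hMσ : (Φ X₁).map σ = Φ X₁ := by
    ext i j
    show σ (ι (X₁ i j)) = ι (X₁ i j)
    rw [hσq, ← map_pow, hq, FiniteField.pow_card]
  exact closed_core σ hσsurj q (by omega) hσq (Φ X₁) hMσ r s hr hs hrsE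
    (by rw [← map_pow, hX₁rs, map_one])
    (by
      intro h
      apply hX₁s
      apply hΦinj
      rw [map_pow, h, map_one])
    (by
      intro h
      apply hX₁r
      apply hΦinj
      rw [map_pow, h, map_one])
    k l (fun j h => (hk j).1 h) (fun j h => (hl j).1 h) (by omega) hkl hnkl hndvd

end Cfsg.Agent.Lib.Helper19.PrimeGraphPSL
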