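import Mathlib
import Cfsg.Agent.S2364

set_option autoImplicit false

/-!
Block matrices `J ⊕ C` and their powers, for constructing elements of order `r p` in `PSL_n`.
-/

namespace Cfsg.Agent.Lib.Helper19.PrimeGraphPSL

open Matrix

variable {F : Type*} [Field F] {m : ℕ}

/-- The unipotent `2 × 2` Jordan block. -/
def Jm (F : Type*) [Field F] : Matrix (Fin 2) (Fin 2) F := !![1, 1; 0, 1]

lemma Jm_pow (j : ℕ) : (Jm F) ^ j = !![1, (j : F); 0, 1] := by
  induction j with
  | zero =>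
    rw [pow_zero]
    ext a b
    fin_cases a <;> fin_cases b <;> simp
  | succ j ih =>
    rw [pow_succ, ih, Jm, Matrix.mul_fin_two]
    ext a b
    fin_cases a <;> fin_cases b <;> simp [add_comm]

lemma fromBlocks_pow' (A : Matrix (Fin 2) (Fin 2) F) (C : Matrix (Fin m) (Fin m) F) (j : ℕ) :
    (fromBlocks A 0 0 C) ^ j = fromBlocks (A ^ j) 0 0 (C ^ j) := by
  induction j with
  | zero => rw [pow_zero, pow_zero, pow_zero, fromBlocks_one]
  | succ j ih =>
    rw [pow_succ, ih, fromBlocks_multiply, pow_succ, pow_succ]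
    simp

/-- The block-diagonal matrix on `Fin (2 + m)`. -/
noncomputable def blk (A : Matrix (Fin 2) (Fin 2) F) (C : Matrix (Fin m) (Fin m) F) :
    Matrix (Fin (2 + m)) (Fin (2 + m)) F :=
  Matrix.reindexAlgEquiv F F finSumFinEquiv (fromBlocks A 0 0 C)

lemma blk_pow (A : Matrix (Fin 2) (Fin 2) F) (C : Matrix (Fin m) (Fin m) F) (j : ℕ) :
    (blk A C) ^ j = blk (A ^ j) (C ^ j) := by
  unfold blk
  rw [← map_pow, fromBlocks_pow']

lemma blk_smul_one (c : F) :
    blk (c • (1 : Matrix (Fin 2) (Fin 2) F)) (c • (1 : Matrix (Fin m) (Fin m) F)) = c • 1 := by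
  unfold blk
  have h : fromBlocks (c • (1 : Matrix (Fin 2) (Fin 2) F)) 0 0
      (c • (1 : Matrix (Fin m) (Fin m) F)) = c • 1 := by
    rw [← fromBlocks_one, fromBlocks_smul, smul_zero, smul_zero]
  rw [h, map_smul, map_one]

lemma blk_inj {A A' : Matrix (Fin 2) (Fin 2) F} {C C' : Matrix (Fin m) (Fin m) F}
    (h : blk A C = blk A' C') : A = A' ∧ C = C' := by
  unfold blk at h
  have h1 := (Matrix.reindexAlgEquiv F F finSumFinEquiv).injective h
  rw [fromBlocks_inj] at h1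
  exact ⟨h1.1, h1.2.2.2⟩

lemma det_blk (A : Matrix (Fin 2) (Fin 2) F) (C : Matrix (Fin m) (Fin m) F) :
    (blk A C).det = A.det * C.det := by
  unfold blk
  rw [Matrix.det_reindexAlgEquiv, Matrix.det_fromBlocks_zero₂₁]

/-- Powers of `blk (α • J) C` that are scalar. -/
lemma blk_pow_scalar (α : F) (hα : α ≠ 0) (C : Matrix (Fin m) (Fin m) F) (j : ℕ) (c : F)
    (h : (blk (α • Jm F) C) ^ j = c • 1) : (j : F) = 0 ∧ C ^ j = α ^ j • 1 := by
  rw [blk_pow, ← blk_smul_one] at h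
  obtain ⟨h1, h2⟩ := blk_inj h
  rw [smul_pow, Jm_pow] at h1
  have h00 := congrArg (fun X : Matrix (Fin 2) (Fin 2) F => X 0 0) h1
  have h01 := congrArg (fun X : Matrix (Fin 2) (Fin 2) F => X 0 1) h1
  simp at h00 h01
  refine ⟨?_, ?_⟩
  · rcases h01 with h | h
    · exact absurd h.1 hα
    · exact h
  · rw [h2, h00]

lemma blk_pow_of (α : F) (C : Matrix (Fin m) (Fin m) F) (j : ℕ) (hj : (j : F) = 0)
    (hC : C ^ j = α ^ j • 1) : (blk (α • Jm F) C) ^ j = α ^ j • 1 := by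
  rw [blk_pow, ← blk_smul_one, smul_pow, Jm_pow, hC, hj]
  congr 2
  ext a b
  fin_cases a <;> fin_cases b <;> simp

end Cfsg.Agent.Lib.Helper19.PrimeGraphPSL
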