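import Mathlib
import Cfsg.Agent.S2364

set_option autoImplicit false

/-!
General block-diagonal matrices and "good" matrices: determinant one, `t`-th power one, and
scalar powers only at multiples of `t`.
-/

namespace Cfsg.Agent.Lib.Helper19.PrimeGraphPSL

open Matrix

variable {F : Type*} [Field F] {a b : ℕ}

lemma fromBlocks_powG (A : Matrix (Fin a) (Fin a) F) (C : Matrix (Fin b) (Fin b) F) (j : ℕ) :
    (fromBlocks A 0 0 C) ^ j = fromBlocks (A ^ j) 0 0 (C ^ j) := by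
  induction j with
  | zero => rw [pow_zero, pow_zero, pow_zero, fromBlocks_one]
  | succ j ih =>
    rw [pow_succ, ih, fromBlocks_multiply, pow_succ, pow_succ]
    simp

/-- The block-diagonal matrix on `Fin (a + b)`. -/
noncomputable def blkG (A : Matrix (Fin a) (Fin a) F) (C : Matrix (Fin b) (Fin b) F) :
    Matrix (Fin (a + b)) (Fin (a + b)) F :=
  Matrix.reindexAlgEquiv F F finSumFinEquiv (fromBlocks A 0 0 C)

lemma blkG_pow (A : Matrix (Fin a) (Fin a) F) (C : Matrix (Fin b) (Fin b) F) (j : ℕ) :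
    (blkG A C) ^ j = blkG (A ^ j) (C ^ j) := by
  unfold blkG
  rw [← map_pow, fromBlocks_powG]

lemma blkG_smul_one (c : F) :
    blkG (c • (1 : Matrix (Fin a) (Fin a) F)) (c • (1 : Matrix (Fin b) (Fin b) F)) = c • 1 := by
  unfold blkG
  have h : fromBlocks (c • (1 : Matrix (Fin a) (Fin a) F)) 0 0
      (c • (1 : Matrix (Fin b) (Fin b) F)) = c • 1 := by
    rw [← fromBlocks_one, fromBlocks_smul, smul_zero, smul_zero]
  rw [h, map_smul, map_one]

lemma blkG_one : blkG (1 : Matrix (Fin a) (Fin a) F) (1 : Matrix (Fin b) (Fin b) F) = 1 := by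
  have := blkG_smul_one (F := F) (a := a) (b := b) 1
  rwa [one_smul, one_smul, one_smul] at this

lemma blkG_inj {A A' : Matrix (Fin a) (Fin a) F} {C C' : Matrix (Fin b) (Fin b) F}
    (h : blkG A C = blkG A' C') : A = A' ∧ C = C' := by
  unfold blkG at h
  have h1 := (Matrix.reindexAlgEquiv F F finSumFinEquiv).injective h
  rw [fromBlocks_inj] at h1
  exact ⟨h1.1, h1.2.2.2⟩

lemma det_blkG (A : Matrix (Fin a) (Fin a) F) (C : Matrix (Fin b) (Fin b) F) :
    (blkG A C).det = A.det * C.det := by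
  unfold blkG
  rw [Matrix.det_reindexAlgEquiv, Matrix.det_fromBlocks_zero₂₁]

/-- Determinant one, order dividing `t`, and scalar powers only at multiples of `t`. -/
def Good {d : ℕ} (t : ℕ) (A : Matrix (Fin d) (Fin d) F) : Prop :=
  A.det = 1 ∧ A ^ t = 1 ∧ ∀ (j : ℕ) (c : F), A ^ j = c • 1 → t ∣ j

lemma good_pad {t : ℕ} {A : Matrix (Fin a) (Fin a) F} (hA : Good t A) :
    Good t (blkG A (1 : Matrix (Fin b) (Fin b) F)) := by
  obtain ⟨h1, h2, h3⟩ := hA
  refine ⟨?_, ?_, ?_⟩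
  · rw [det_blkG, h1, Matrix.det_one, mul_one]
  · rw [blkG_pow, h2, one_pow, blkG_one]
  · intro j c hc
    rw [blkG_pow, ← blkG_smul_one] at hc
    exact h3 j c (blkG_inj hc).1

lemma good_prod {t₁ t₂ : ℕ} (hcop : Nat.Coprime t₁ t₂) {A : Matrix (Fin a) (Fin a) F}
    {B : Matrix (Fin b) (Fin b) F} (hA : Good t₁ A) (hB : Good t₂ B) :
    Good (t₁ * t₂) (blkG A B) := by
  obtain ⟨h1, h2, h3⟩ := hA
  obtain ⟨g1, g2, g3⟩ := hB
  refine ⟨?_, ?_, ?_⟩
  · rw [det_blkG, h1, g1, mul_one]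
  · rw [blkG_pow, pow_mul, h2, one_pow, mul_comm, pow_mul, g2, one_pow, blkG_one]
  · intro j c hc
    rw [blkG_pow, ← blkG_smul_one] at hc
    obtain ⟨e1, e2⟩ := blkG_inj hc
    exact hcop.mul_dvd_of_dvd_of_dvd (h3 j c e1) (g3 j c e2)

end Cfsg.Agent.Lib.Helper19.PrimeGraphPSL
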