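import Mathlib
import Cfsg.Agent.Lib.Helper19.PrimeGraphPSL6

set_option autoImplicit false

namespace Cfsg.Agent.Lib.Helper19.PrimeGraphPSL

open Matrix

variable {F : Type*} [Field F] [Fintype F]

/-- A Singer-type matrix: from an element of order `t` in the degree-`d` extension field. -/
lemma good_singer (p : ℕ) [Fact p.Prime] [CharP F p] (d : ℕ) (hd : 1 ≤ d) (t : ℕ) (ht : 0 < t)
    (hcop : Nat.Coprime t (Fintype.card F - 1)) (hdvd : t ∣ Fintype.card F ^ d - 1) :
    ∃ A : Matrix (Fin d) (Fin d) F, Good t A := by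
  classical
  haveI : NeZero d := ⟨by omega⟩
  let K := FiniteField.Extension F p d
  have hcard : Nat.card K = Nat.card F ^ d := FiniteField.natCard_extension F p d
  have hfr : Module.finrank F K = d := FiniteField.finrank_extension F p d
  haveI : Fintype K := Fintype.ofFinite K
  have hcardu : Nat.card Kˣ = Fintype.card F ^ d - 1 := by
    rw [Nat.card_eq_fintype_card, Fintype.card_units, ← Nat.card_eq_fintype_card, hcard,
      Nat.card_eq_fintype_card]
  obtain ⟨g, hg⟩ := IsCyclic.exists_ofOrder_eq_natCard (α := Kˣ)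
  rw [hcardu] at hg
  have hq2 : 2 ≤ Fintype.card F := Fintype.one_lt_card
  have hg0 : orderOf g ≠ 0 := by
    rw [hg]
    have : 2 ^ d ≤ Fintype.card F ^ d := Nat.pow_le_pow_left hq2 d
    have : 2 ≤ 2 ^ d := by
      calc 2 = 2 ^ 1 := by norm_num
        _ ≤ 2 ^ d := Nat.pow_le_pow_right (by norm_num) hd
    omega
  set ζu : Kˣ := g ^ (orderOf g / t) with hζu
  have hζord : orderOf ζu = t := orderOf_pow_orderOf_div hg0 (by rw [hg]; exact hdvd)
  set ζ : K := (ζu : K) with hζ
  have hζord' : orderOf ζ = t := by rw [hζ, orderOf_units, hζord]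
  let b : Module.Basis (Fin d) F K := Module.finBasisOfFinrankEq F K hfr
  let φ : K →ₐ[F] Matrix (Fin d) (Fin d) F := Algebra.leftMulMatrix b
  have hφinj : Function.Injective φ := Algebra.leftMulMatrix_injective b
  have hpow1 : ∀ c : F, c ≠ 0 → c ^ (Fintype.card F - 1) = 1 :=
    fun c hc => FiniteField.pow_card_sub_one_eq_one c hc
  have hAt : (φ ζ) ^ t = 1 := by
    rw [← map_pow, ← hζord', pow_orderOf_eq_one, map_one]
  refine ⟨φ ζ, ?_, hAt, ?_⟩
  · -- determinant
    set δ := (φ ζ).det with hδ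
    have hδt : δ ^ t = 1 := by
      rw [hδ, ← Matrix.det_pow, hAt, Matrix.det_one]
    have hδ0 : δ ≠ 0 := by
      rintro h
      rw [h, zero_pow ht.ne'] at hδt
      exact zero_ne_one hδt
    have h1 : orderOf δ ∣ t := orderOf_dvd_of_pow_eq_one hδt
    have h2 : orderOf δ ∣ Fintype.card F - 1 := orderOf_dvd_of_pow_eq_one (hpow1 δ hδ0)
    have h3 : orderOf δ ∣ 1 := by
      have := Nat.dvd_gcd h1 h2
      rwa [hcop] at this
    have h4 : orderOf δ = 1 := Nat.dvd_one.1 h3
    exact orderOf_eq_one_iff.1 h4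
  · intro j c hc
    have h1 : φ (ζ ^ j) = φ (algebraMap F K c) := by
      rw [map_pow, hc, AlgHom.commutes, Algebra.algebraMap_eq_smul_one]
    have h2 : ζ ^ j = algebraMap F K c := hφinj h1
    have hc0 : c ≠ 0 := by
      rintro rfl
      rw [map_zero] at h2
      exact (pow_ne_zero j ζu.ne_zero) h2
    have h3 : ζ ^ (j * (Fintype.card F - 1)) = 1 := by
      rw [pow_mul, h2, ← map_pow, hpow1 c hc0, map_one]
    have h4 : t ∣ j * (Fintype.card F - 1) := by
      rw [← hζord']
      exact orderOf_dvd_of_pow_eq_one h3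
    exact hcop.dvd_of_dvd_mul_right h4

end Cfsg.Agent.Lib.Helper19.PrimeGraphPSL
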