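import Mathlib
import Cfsg.Agent.Lib.Helper19.PrimeGraphPSL9

set_option autoImplicit false

/-!
Symplectic-type matrices over an algebraically closed field: eigenvalue pairing `z ↔ z⁻¹`, and the
main lemma on commuting nilpotent matrices.
-/

namespace Cfsg.Agent.Lib.Helper19.PrimeGraphPSL

open Matrix Module Cfsg.Agent.Lib.Helper19.UnitaryEig

variable {E : Type*} [Field E] {m : ℕ}

lemma nul_mul_unit (A U : Matrix (Fin m) (Fin m) E) (hU : IsUnit U.det) :
    nul (A * U) = nul A := by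
  have h1 := nul_add_rank A
  have h2 := nul_add_rank (A * U)
  rw [Matrix.rank_mul_eq_left_of_isUnit_det U A hU] at h2
  omega

/-- Eigenvalue pairing for `Mᵀ J M = J`. -/
lemma nul_inv_pair (M J' : Matrix (Fin m) (Fin m) E) (hJ : IsUnit J'.det)
    (hMJ : Mᵀ * J' * M = J') (x : E) (hx : x ≠ 0) :
    finrank E ((toEnd M).eigenspace x) ≤ finrank E ((toEnd M).eigenspace x⁻¹) := by
  rw [← nul_eq, ← nul_eq]
  have hMdet : IsUnit (Mᵀ * J').det := by
    have h1 := congrArg Matrix.det hMJ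
    rw [Matrix.det_mul] at h1
    have h2 : IsUnit ((Mᵀ * J').det * M.det) := by rw [h1]; exact hJ
    exact (IsUnit.mul_iff.1 h2).1
  have h3 : Mᵀ * J' * (M - x • 1) = (-x) • ((M - x⁻¹ • 1)ᵀ * J') := by
    rw [Matrix.mul_sub, hMJ, Matrix.mul_smul, mul_one, Matrix.transpose_sub,
      Matrix.transpose_smul, Matrix.transpose_one, Matrix.sub_mul, Matrix.smul_mul, one_mul,
      smul_sub, smul_smul, neg_mul, mul_inv_cancel₀ hx, neg_smul, neg_smul, one_smul]
    abel
  calc nul (M - x • 1) = nul (Mᵀ * J' * (M - x • 1)) := (nul_unit_mul _ _ hMdet).symm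
    _ = nul ((-x) • ((M - x⁻¹ • 1)ᵀ * J')) := by rw [h3]
    _ = nul ((M - x⁻¹ • 1)ᵀ * J') := nul_smul _ (neg_ne_zero.2 hx) _
    _ = nul ((M - x⁻¹ • 1)ᵀ) := nul_mul_unit _ _ hJ
    _ = nul (M - x⁻¹ • 1) := nul_transpose _
    _ ≤ nul (M - x⁻¹ • 1) := le_refl _

end Cfsg.Agent.Lib.Helper19.PrimeGraphPSL
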