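import Mathlib
import Cfsg.Agent.Lib.Helper19.PrimeGraphPSp1

set_option autoImplicit false

namespace Cfsg.Agent.Lib.Helper19.PrimeGraphPSL

open Matrix Module Cfsg.Agent.Lib.Helper19.UnitaryEig

variable {E : Type*} [Field E] {m : ℕ}

/-- Arithmetic: `r ∣ q^i + q^j` with `i, j < η` is impossible. -/
lemma no_sum_dvd (r q k ηk : ℕ) (hr : r.Prime) (hr2 : r ≠ 2) (hrq : ¬ r ∣ q) (hq1 : 1 ≤ q)
    (hk : ∀ j, r ∣ q ^ j - 1 → k ∣ j) (hη : (Odd k ∧ ηk = k) ∨ (Even k ∧ 2 * ηk = k))
    (i j : ℕ) (hij : i ≤ j) (hj : j < ηk) : ¬ r ∣ q ^ i + q ^ j := by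
  intro h
  have hfac : q ^ i + q ^ j = q ^ i * (1 + q ^ (j - i)) := by
    rw [mul_add, mul_one, ← pow_add]
    congr 2
    omega
  rw [hfac] at h
  have h1 : r ∣ 1 + q ^ (j - i) := by
    rcases hr.dvd_mul.1 h with h' | h'
    · exact absurd (hr.dvd_of_dvd_pow h') hrq
    · exact h'
  set d := j - i with hd
  by_cases hd0 : d = 0
  · rw [hd0, pow_zero] at h1
    have : r ≤ 2 := Nat.le_of_dvd (by norm_num) h1
    have := hr.two_le
    omega
  have hqd : 1 ≤ q ^ d := Nat.one_le_pow _ _ hq1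
  have h2 : r ∣ q ^ (2 * d) - 1 := by
    have : q ^ (2 * d) - 1 = (q ^ d - 1) * (1 + q ^ d) := by
      have h3 : q ^ (2 * d) = q ^ d * q ^ d := by rw [two_mul, pow_add]
      rw [h3]
      zify [hqd, Nat.one_le_pow 2 (q ^ d) hqd, (by nlinarith : 1 ≤ q ^ d * q ^ d)]
      ring
    rw [this]
    exact Dvd.dvd.mul_left h1 _
  have h3 := hk _ h2
  rcases hη with ⟨hodd, he⟩ | ⟨hev, he⟩
  · have hc : Nat.Coprime k 2 := Nat.Coprime.symm (Nat.coprime_two_left.2 hodd)
    have h4 : k ∣ d := hc.dvd_of_dvd_mul_left h3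
    have := Nat.le_of_dvd (by omega) h4
    omega
  · have := Nat.le_of_dvd (by omega) h3
    omega

theorem sp_main [IsAlgClosed E] (σ : E →+* E) (hσ : Function.Surjective σ) (q : ℕ) (hq1 : 1 ≤ q)
    (hσq : ∀ z, σ z = z ^ q) (M N J' : Matrix (Fin m) (Fin m) E) (hJ : IsUnit J'.det)
    (hMJ : Mᵀ * J' * M = J') (hMσ : M.map σ = M)
    (r : ℕ) [Fact r.Prime] (hr2 : r ≠ 2) (hrq : ¬ r ∣ q) (hrE : (r : E) ≠ 0) (hMr : M ^ r = 1)
    (hNM : N * M = M * N) (hN0 : N ≠ 0) (hNnil : ∃ e, N ^ e = 0)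
    (k ηk : ℕ) (hk : ∀ j, r ∣ q ^ j - 1 → k ∣ j) (hk0 : 0 < k)
    (hη : (Odd k ∧ ηk = k) ∨ (Even k ∧ 2 * ηk = k)) (hm : m < 2 * ηk + 2) : M = 1 := by
  classical
  have hr : r.Prime := Fact.out
  have hη1 : 1 ≤ ηk := by
    rcases hη with ⟨-, he⟩ | ⟨hev, he⟩
    · omega
    · obtain ⟨c, hc⟩ := hev
      omega
  have hηk : ηk ≤ k := by
    rcases hη with ⟨-, he⟩ | ⟨-, he⟩ <;> omega
  set f := toEnd M with hf
  have htop : ⨆ x : E, f.eigenspace x = ⊤ :=
    htop_of_pow r hrE M 1 one_ne_zero (by rw [one_smul]; exact hMr)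
  have hfg : toEnd N * f = f * toEnd N := by rw [hf, ← toEnd_mul, ← toEnd_mul, hNM]
  have hg0 : toEnd N ≠ 0 := by
    intro h
    apply hN0
    apply toEnd_injective
    rw [toEnd_zero]
    exact h
  have hgnil : ∃ e, toEnd N ^ e = 0 := by
    obtain ⟨e, he⟩ := hNnil
    exact ⟨e, by rw [← toEnd_pow, he, toEnd_zero]⟩
  obtain ⟨lam, hlam⟩ := exists_two f (toEnd N) htop hfg hg0 hgnil
  have hroot : ∀ z : E, f.eigenspace z ≠ ⊥ → z ^ r = 1 := by
    intro z hz
    exact eig_pow r M 1 (by rw [one_smul]; exact hMr) hz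
  -- the family attached to a nontrivial eigenvalue
  have fam : ∀ z : E, z ^ r = 1 → z ≠ 1 →
      Function.Injective (Sum.elim (fun i : Fin ηk => z ^ (q ^ (i : ℕ)))
        (fun i : Fin ηk => (z ^ (q ^ (i : ℕ)))⁻¹)) ∧
      (∀ i : Fin ηk, z ^ (q ^ (i : ℕ)) ≠ 1) ∧
      (∀ i : ℕ, finrank E (f.eigenspace z) ≤ finrank E (f.eigenspace (z ^ (q ^ i)))) ∧
      (∀ i : ℕ, finrank E (f.eigenspace z) ≤ finrank E (f.eigenspace (z ^ (q ^ i))⁻¹)) := by
    intro z hzr hz1
    have hz0 : z ≠ 0 := by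
      rintro rfl
      rw [zero_pow hr.ne_zero] at hzr
      exact zero_ne_one hzr
    have hord : orderOf z = r := orderOf_eq_prime hzr hz1
    have key1 : ∀ a b : ℕ, a < b → b < ηk → z ^ (q ^ a) ≠ z ^ (q ^ b) := by
      intro a b hab hb h
      have h1 := orbit_rel σ q hq1 hσq z hz0 hab h
      have h2 : r ∣ q ^ (b - a) - 1 := by
        rw [← hord]
        exact orderOf_dvd_of_pow_eq_one h1
      have := Nat.le_of_dvd (by omega) (hk _ h2)
      omega
    have key3 : ∀ a b : ℕ, a < ηk → b < ηk → z ^ (q ^ a) ≠ (z ^ (q ^ b))⁻¹ := by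
      intro a b ha hb h
      have h1 : z ^ (q ^ a + q ^ b) = 1 := by
        rw [pow_add, h, inv_mul_cancel₀ (pow_ne_zero _ hz0)]
      have h2 : r ∣ q ^ a + q ^ b := by
        rw [← hord]
        exact orderOf_dvd_of_pow_eq_one h1
      rcases le_total a b with hab | hab
      · exact no_sum_dvd r q k ηk hr hr2 hrq hq1 hk hη a b hab hb h2
      · rw [add_comm] at h2
        exact no_sum_dvd r q k ηk hr hr2 hrq hq1 hk hη b a hab ha h2
    refine ⟨?_, ?_, ?_, ?_⟩
    · intro u v huv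
      rcases u with i | i <;> rcases v with j | j
      · simp only [Sum.elim_inl] at huv
        congr 1
        apply Fin.ext
        rcases Nat.lt_trichotomy (i : ℕ) (j : ℕ) with h | h | h
        · exact absurd huv (key1 _ _ h j.2)
        · exact h
        · exact absurd huv.symm (key1 _ _ h i.2)
      · simp only [Sum.elim_inl, Sum.elim_inr] at huv
        exact absurd huv (key3 _ _ i.2 j.2)
      · simp only [Sum.elim_inl, Sum.elim_inr] at huv
        exact absurd huv.symm (key3 _ _ j.2 i.2)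
      · simp only [Sum.elim_inr] at huv
        have huv' := inv_injective huv
        congr 1
        apply Fin.ext
        rcases Nat.lt_trichotomy (i : ℕ) (j : ℕ) with h | h | h
        · exact absurd huv' (key1 _ _ h j.2)
        · exact h
        · exact absurd huv'.symm (key1 _ _ h i.2)
    · intro i h
      apply hz1
      apply pow_q_inj σ q hσq i
      rw [one_pow]
      exact h
    · intro i
      exact frob_chain σ hσ q hσq M hMσ z i
    · intro i
      exact le_trans (frob_chain σ hσ q hσq M hMσ z i)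
        (nul_inv_pair M J' hJ hMJ _ (pow_ne_zero _ hz0))
  have hlam_ne : f.eigenspace lam ≠ ⊥ := by
    intro h
    rw [h, finrank_bot] at hlam
    omega
  by_contra hM1
  by_cases hl1 : lam = 1
  · obtain ⟨mu, hmu1, hmu⟩ : ∃ mu : E, mu ≠ 1 ∧ f.eigenspace mu ≠ ⊥ := by
      by_contra hcon
      push Not at hcon
      apply hM1
      apply toEnd_injective
      rw [toEnd_one]
      have hle : (⨆ x : E, f.eigenspace x) ≤ f.eigenspace 1 := by
        apply iSup_le
        intro x
        by_cases hx : x = 1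
        · rw [hx]
        · rw [hcon x hx]
          exact bot_le
      rw [htop] at hle
      apply LinearMap.ext
      intro v
      have := hle (Submodule.mem_top : v ∈ ⊤)
      rw [Module.End.mem_eigenspace_iff, one_smul] at this
      rw [Module.End.one_apply]
      exact this
    obtain ⟨hinj, hne1, hd1, hd2⟩ := fam mu (hroot mu hmu) hmu1
    have hmu1' : 1 ≤ finrank E (f.eigenspace mu) := by
      rw [Nat.one_le_iff_ne_zero]
      intro h0
      exact hmu (Submodule.finrank_eq_zero.1 h0)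
    let c : Option (Fin ηk ⊕ Fin ηk) → E := fun o => o.elim 1
      (Sum.elim (fun i : Fin ηk => mu ^ (q ^ (i : ℕ))) (fun i : Fin ηk => (mu ^ (q ^ (i : ℕ)))⁻¹))
    have hc : Function.Injective c := by
      intro a b hab
      cases a with
      | none =>
        cases b with
        | none => rfl
        | some v =>
          exfalso
          rcases v with j | j
          · exact hne1 j hab.symm
          · have : (mu ^ (q ^ (j : ℕ)))⁻¹ = 1 := hab.symm
            exact hne1 j (inv_eq_one.1 this)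
      | some u =>
        cases b with
        | none =>
          exfalso
          rcases u with j | j
          · exact hne1 j hab
          · have : (mu ^ (q ^ (j : ℕ)))⁻¹ = 1 := hab
            exact hne1 j (inv_eq_one.1 this)
        | some v =>
          have : u = v := hinj hab
          rw [this]
    have hsum := sum_le f c hc
    rw [Fintype.sum_option, Fintype.sum_sum_type] at hsum
    have h1 : ∑ i : Fin ηk, 1 ≤ ∑ i : Fin ηk, finrank E (f.eigenspace (c (some (Sum.inl i)))) :=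
      Finset.sum_le_sum (fun i _ => le_trans hmu1' (hd1 i))
    have h2 : ∑ i : Fin ηk, 1 ≤ ∑ i : Fin ηk, finrank E (f.eigenspace (c (some (Sum.inr i)))) :=
      Finset.sum_le_sum (fun i _ => le_trans hmu1' (hd2 i))
    rw [Finset.sum_const, Finset.card_univ, Fintype.card_fin, smul_eq_mul, mul_one] at h1 h2
    have h3 : 2 ≤ finrank E (f.eigenspace (c none)) := by
      show 2 ≤ finrank E (f.eigenspace 1)
      rw [← hl1]
      exact hlam
    omega
  · obtain ⟨hinj, -, hd1, hd2⟩ := fam lam (hroot lam hlam_ne) hl1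
    have hsum := sum_le f _ hinj
    rw [Fintype.sum_sum_type] at hsum
    have h1 : ∑ i : Fin ηk, 2 ≤ ∑ i : Fin ηk, finrank E (f.eigenspace
        (Sum.elim (fun i : Fin ηk => lam ^ (q ^ (i : ℕ)))
          (fun i : Fin ηk => (lam ^ (q ^ (i : ℕ)))⁻¹) (Sum.inl i))) :=
      Finset.sum_le_sum (fun i _ => le_trans hlam (hd1 i))
    have h2 : ∑ i : Fin ηk, 2 ≤ ∑ i : Fin ηk, finrank E (f.eigenspace
        (Sum.elim (fun i : Fin ηk => lam ^ (q ^ (i : ℕ)))
          (fun i : Fin ηk => (lam ^ (q ^ (i : ℕ)))⁻¹) (Sum.inr i))) :=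
      Finset.sum_le_sum (fun i _ => le_trans hlam (hd2 i))
    rw [Finset.sum_const, Finset.card_univ, Fintype.card_fin, smul_eq_mul] at h1 h2
    omega

end Cfsg.Agent.Lib.Helper19.PrimeGraphPSL
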