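import Mathlib
import Cfsg.Agent.Lib.Helper19.PrimeGraphPSp2
import Cfsg.Agent.S0246

set_option autoImplicit false

namespace Cfsg.Agent.Lib.Helper19.PrimeGraphPSL

open Matrix Module Cfsg.Agent.Lib.Helper19.UnitaryEig

variable {F : Type*} [Field F] [Fintype F] {n : ℕ}

lemma center_scalar_sp (hn : 1 ≤ n) (z : Matrix.symplecticGroup (Fin n) F)
    (hz : z ∈ Subgroup.center (Matrix.symplecticGroup (Fin n) F)) :
    ∃ c : F, c * c = 1 ∧ (z : Matrix (Fin n ⊕ Fin n) (Fin n ⊕ Fin n) F) = c • 1 := by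
  rcases (Cfsg.Agent.S0246.mem_center_iff hn z).1 hz with rfl | rfl
  · exact ⟨1, one_mul 1, by rw [one_smul]; rfl⟩
  · refine ⟨-1, by ring, ?_⟩
    rw [neg_smul, one_smul]
    rfl

lemma scalar_center_sp (z : Matrix.symplecticGroup (Fin n) F) (c : F)
    (hz : (z : Matrix (Fin n ⊕ Fin n) (Fin n ⊕ Fin n) F) = c • 1) :
    z ∈ Subgroup.center (Matrix.symplecticGroup (Fin n) F) := by
  rw [Subgroup.mem_center_iff]
  intro g
  apply Subtype.ext
  show (g : Matrix (Fin n ⊕ Fin n) (Fin n ⊕ Fin n) F) * z.1 = z.1 * g.1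
  rw [hz, Matrix.mul_smul, Matrix.smul_mul, mul_one, one_mul]

theorem sp_core (p : ℕ) [Fact p.Prime] [CharP F p] (hn : 1 ≤ n) (r : ℕ) [Fact r.Prime]
    (hr2 : r ≠ 2) (hrp : r ≠ p) (k ηk : ℕ)
    (hk : ∀ j, r ∣ Fintype.card F ^ j - 1 → k ∣ j) (hk0 : 0 < k)
    (hη : (Odd k ∧ ηk = k) ∨ (Even k ∧ 2 * ηk = k)) (hnη : n < ηk + 1)
    (A₀ B₀ : Matrix.symplecticGroup (Fin n) F)
    (hA : A₀ ^ p ∈ Subgroup.center (Matrix.symplecticGroup (Fin n) F))
    (hAnc : A₀ ∉ Subgroup.center (Matrix.symplecticGroup (Fin n) F))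
    (hB : B₀ ^ r ∈ Subgroup.center (Matrix.symplecticGroup (Fin n) F))
    (hcomm : (B₀ * A₀)⁻¹ * (A₀ * B₀) ∈ Subgroup.center (Matrix.symplecticGroup (Fin n) F)) :
    B₀ ∈ Subgroup.center (Matrix.symplecticGroup (Fin n) F) := by
  classical
  have hp : p.Prime := Fact.out
  have hr : r.Prime := Fact.out
  set q := Fintype.card F with hq
  have hq2 : 2 ≤ q := Fintype.one_lt_card
  let ρ : Matrix (Fin n ⊕ Fin n) (Fin n ⊕ Fin n) F ≃ₐ[F] Matrix (Fin (n + n)) (Fin (n + n)) F :=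
    Matrix.reindexAlgEquiv F F finSumFinEquiv
  have hρT : ∀ X, ρ Xᵀ = (ρ X)ᵀ := by
    intro X
    show Matrix.reindexAlgEquiv F F finSumFinEquiv Xᵀ =
      (Matrix.reindexAlgEquiv F F finSumFinEquiv X)ᵀ
    rw [Matrix.reindexAlgEquiv_apply, Matrix.reindexAlgEquiv_apply, Matrix.transpose_reindex]
  have hρs : ∀ c : F, ρ (c • 1) = c • 1 := by
    intro c
    rw [map_smul, map_one]
  obtain ⟨lam, hlam1, hlam⟩ := center_scalar_sp hn _ hA
  obtain ⟨nu, hnu1, hnu⟩ := center_scalar_sp hn _ hB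
  obtain ⟨zeta, hzeta1, hzeta⟩ := center_scalar_sp hn _ hcomm
  have hunit : ∀ c : F, c * c = 1 → c ≠ 0 := by
    rintro c hc rfl
    rw [mul_zero] at hc
    exact zero_ne_one hc
  set Am := ρ A₀.1 with hAm
  set Bm := ρ B₀.1 with hBm
  have hAmp : Am ^ p = lam • 1 := by
    rw [hAm, ← map_pow, ← hρs]
    congr 1
  have hBmr : Bm ^ r = nu • 1 := by
    rw [hBm, ← map_pow, ← hρs]
    congr 1
  have hAB : Am * Bm = zeta • (Bm * Am) := by
    have h1 : A₀ * B₀ = (B₀ * A₀) * ((B₀ * A₀)⁻¹ * (A₀ * B₀)) := by group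
    have h2 : A₀.1 * B₀.1 = (B₀.1 * A₀.1) * ((B₀ * A₀)⁻¹ * (A₀ * B₀) :
        Matrix.symplecticGroup (Fin n) F).1 := by
      have := congrArg (fun X : Matrix.symplecticGroup (Fin n) F => X.1) h1
      exact this
    rw [hzeta, Matrix.mul_smul, mul_one] at h2
    rw [hAm, hBm, ← map_mul, h2, map_smul, map_mul]
  have hAns : ∀ c : F, Am ≠ c • 1 := by
    intro c hc
    apply hAnc
    apply scalar_center_sp A₀ c
    apply ρ.injective
    rw [hρs]
    exact hc
  have hBm0 : Bm ≠ 0 := by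
    intro h
    have h1 : Bm ^ r = 0 := by rw [h, zero_pow hr.ne_zero]
    rw [hBmr] at h1
    have h2 := congrArg (fun X : Matrix (Fin (n + n)) (Fin (n + n)) F =>
      X ⟨0, by omega⟩ ⟨0, by omega⟩) h1
    simp only [Matrix.smul_apply, Matrix.one_apply_eq, smul_eq_mul, mul_one,
      Matrix.zero_apply] at h2
    exact hunit nu hnu1 h2
  obtain ⟨N, hN0, hNp, hNB⟩ := reduce_N (F := F) p (by omega) Am Bm lam zeta (hunit lam hlam1)
    hAmp hAns hBm0 hAB
  -- normalise B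
  set B₁ := nu • Bm with hB₁
  have hB₁r : B₁ ^ r = 1 := by
    rw [hB₁, smul_pow, hBmr, smul_smul]
    obtain ⟨t, ht⟩ := hr.odd_of_ne_two hr2
    have : nu ^ r * nu = 1 := by
      rw [ht, ← pow_succ]
      have : 2 * t + 1 + 1 = 2 * (t + 1) := by ring
      rw [this, pow_mul, pow_two, hnu1, one_pow]
    rw [this, one_smul]
  have hNB₁ : N * B₁ = B₁ * N := by
    rw [hB₁, Matrix.mul_smul, Matrix.smul_mul, hNB]
  set J' := ρ (Matrix.J (Fin n) F) with hJ'
  have hBJ : Bmᵀ * J' * Bm = J' := by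
    have h := SymplecticGroup.mem_iff'.mp B₀.2
    rw [hBm, hJ', ← hρT, ← map_mul, ← map_mul, h]
  have hB₁J : B₁ᵀ * J' * B₁ = J' := by
    rw [hB₁, Matrix.transpose_smul, Matrix.smul_mul, Matrix.smul_mul, Matrix.mul_smul, smul_smul,
      hnu1, one_smul, hBJ]
  have hJu : IsUnit J'.det := by
    have h1 : J' * ρ (-Matrix.J (Fin n) F) = 1 := by
      rw [hJ', ← map_mul, Matrix.mul_neg, Matrix.J_squared, neg_neg, map_one]
    have h2 := congrArg Matrix.det h1
    rw [Matrix.det_mul, Matrix.det_one] at h2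
    exact IsUnit.of_mul_eq_one _ h2
  -- extend scalars
  let E := AlgebraicClosure F
  let ι : F →+* E := algebraMap F E
  haveI : CharP E p := charP_of_injective_algebraMap ι.injective p
  have hrE : (r : E) ≠ 0 := by
    intro h
    rw [CharP.cast_eq_zero_iff E p r] at h
    exact hrp ((Nat.prime_dvd_prime_iff_eq hp hr).1 h).symm
  have hrq : ¬ r ∣ q := by
    intro h
    obtain ⟨e, -, he⟩ := FiniteField.card F p
    rw [hq, he] at h
    exact hrp ((Nat.prime_dvd_prime_iff_eq hr hp).1 (hr.dvd_of_dvd_pow h))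
  let Φ : Matrix (Fin (n + n)) (Fin (n + n)) F →+* Matrix (Fin (n + n)) (Fin (n + n)) E :=
    ι.mapMatrix
  have hΦinj : Function.Injective Φ := by
    intro X Y h
    ext i j
    have := congrArg (fun Z : Matrix (Fin (n + n)) (Fin (n + n)) E => Z i j) h
    exact ι.injective this
  have hΦT : ∀ X, Φ Xᵀ = (Φ X)ᵀ := by
    intro X
    ext i j
    rfl
  obtain ⟨e, -, he⟩ := FiniteField.card F p
  set σ : E →+* E := iterateFrobenius E p (e : ℕ) with hσ
  have hσq : ∀ z, σ z = z ^ q := by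
    intro z
    rw [hσ, iterateFrobenius_def, hq, he]
  have hσsurj : Function.Surjective σ := by
    intro z
    obtain ⟨t, ht⟩ := IsAlgClosed.exists_pow_nat_eq z (by omega : 0 < q)
    exact ⟨t, by rw [hσq, ht]⟩
  have hMσ : (Φ B₁).map σ = Φ B₁ := by
    ext i j
    show σ (ι (B₁ i j)) = ι (B₁ i j)
    rw [hσq, ← map_pow, hq, FiniteField.pow_card]
  have hM1 := sp_main σ hσsurj q (by omega) hσq (Φ B₁) (Φ N) (Φ J')
    (by
      have : (Φ J').det = ι J'.det := by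
        show (ι.mapMatrix J').det = ι J'.det
        rw [← RingHom.map_det]
      rw [this]
      exact hJu.map ι)
    (by rw [← hΦT, ← map_mul, ← map_mul, hB₁J])
    hMσ r hr2 hrq hrE (by rw [← map_pow, hB₁r, map_one])
    (by rw [← map_mul, ← map_mul, hNB₁])
    (by
      intro h
      apply hN0
      apply hΦinj
      rw [h, map_zero])
    ⟨p, by rw [← map_pow, hNp, map_zero]⟩
    k ηk hk hk0 hη (by omega)
  have hB₁1 : B₁ = 1 := by
    apply hΦinj
    rw [hM1, map_one]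
  apply scalar_center_sp B₀ nu
  apply ρ.injective
  rw [hρs]
  have : Bm = nu • B₁ := by
    rw [hB₁, smul_smul, hnu1, one_smul]
  rw [← hBm, this, hB₁1]

end Cfsg.Agent.Lib.Helper19.PrimeGraphPSL
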