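import Mathlib
import Cfsg.Agent.Lib.Helper27.SympOrder
import Cfsg.Agent.S0246

set_option autoImplicit false

/-!
An element of order `r p` in `PSp_{2n}(q)`: a transvection times an element of order `r` fixing a
hyperbolic pair.
-/

namespace Cfsg.Agent.Lib.Helper19.PrimeGraphPSL

open Matrix Cfsg Cfsg.Agent.Lib.Helper27.SympTransv

lemma orderOf_mk_center {G : Type*} [Group G] (X : G) (N : ℕ)
    (h : ∀ j, X ^ j ∈ Subgroup.center G ↔ N ∣ j) :
    orderOf (QuotientGroup.mk X : G ⧸ Subgroup.center G) = N := by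
  apply Nat.dvd_antisymm
  · apply orderOf_dvd_of_pow_eq_one
    rw [← QuotientGroup.mk_pow, QuotientGroup.eq_one_iff]
    exact (h N).2 dvd_rfl
  · apply (h _).1
    rw [← QuotientGroup.eq_one_iff, QuotientGroup.mk_pow]
    exact pow_orderOf_eq_one _

variable {F : Type*} [Field F] [Fintype F] {n : ℕ}

theorem sp_exists (p : ℕ) [Fact p.Prime] [CharP F p] (hn : 2 ≤ n) (r : ℕ) [Fact r.Prime]
    (hrp : r ≠ p) (ηk : ℕ) (hη1 : 1 ≤ ηk) (hηn : ηk + 1 ≤ n)
    (hrdvd : r ∣ Fintype.card F ^ (2 * ηk) - 1) :
    ∃ x : Cfsg.PSp n F, orderOf x = r * p := by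
  classical
  have hp : p.Prime := Fact.out
  have hr : r.Prime := Fact.out
  set q := Fintype.card F with hq
  have hq2 : 2 ≤ q := Fintype.one_lt_card
  let i0 : Fin n := ⟨0, by omega⟩
  set u : Fin n ⊕ Fin n → F := Pi.single (Sum.inr i0) 1 with hu
  set v : Fin n ⊕ Fin n → F := Pi.single (Sum.inl i0) 1 with hv
  have huv : sympForm n F u v = 1 := by
    rw [hv, sf_single_inl, hu, Pi.single_eq_same]
  have hvu : sympForm n F v u = -1 := by rw [sf_swap, huv]
  set W := Wperp (⊤ : Submodule F (Fin n ⊕ Fin n → F)) u v with hW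
  have hWnd : NondegOn W :=
    nondegOn_Wperp ⊤ nondegOn_top u v Submodule.mem_top Submodule.mem_top huv
  have hcardW : Nat.card W = q ^ (2 * (n - 1)) := by
    have h1 := card_eq_sq_mul (⊤ : Submodule F (Fin n ⊕ Fin n → F)) u v Submodule.mem_top
      Submodule.mem_top huv
    have h2 : Nat.card (⊤ : Submodule F (Fin n ⊕ Fin n → F)) = q ^ (2 * n) := by
      rw [Nat.card_congr (Submodule.topEquiv (R := F) (M := Fin n ⊕ Fin n → F)).toEquiv,
        Nat.card_eq_fintype_card, Fintype.card_fun, Fintype.card_sum, Fintype.card_fin]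
      congr 1
      ring
    rw [h2] at h1
    have h3 : q ^ (2 * n) = q ^ 2 * q ^ (2 * (n - 1)) := by
      rw [← pow_add]
      congr 1
      omega
    rw [h3] at h1
    exact (Nat.eq_of_mul_eq_mul_left (by positivity) h1).symm
  have hGW := card_GW (F := F) (m := n) (q := q) rfl (n - 1) W hWnd hcardW
  have hdvd : r ∣ Nat.card (GW W) := by
    rw [hGW]
    apply Dvd.dvd.mul_left
    have hmem : ηk - 1 ∈ Finset.range (n - 1) := by
      rw [Finset.mem_range]
      omega
    refine dvd_trans ?_ (Finset.dvd_prod_of_mem _ hmem)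
    have : ηk - 1 + 1 = ηk := by omega
    rw [this]
    exact hrdvd
  obtain ⟨C, hC⟩ := exists_prime_orderOf_dvd_card' r hdvd
  have hCfix := (GW_Wperp_iff (⊤ : Submodule F (Fin n ⊕ Fin n → F)) u v Submodule.mem_top
    Submodule.mem_top huv C.1).1 C.2
  obtain ⟨-, hCu, hCv⟩ := hCfix
  have hCord : orderOf (C : Matrix.symplecticGroup (Fin n) F) = r := by
    rw [Subgroup.orderOf_coe, hC]
  set c : Matrix.symplecticGroup (Fin n) F := (C : Matrix.symplecticGroup (Fin n) F) with hc
  set t : Matrix.symplecticGroup (Fin n) F := tv u 1 with ht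
  have htpow : ∀ (j : ℕ) (x : Fin n ⊕ Fin n → F),
      act (t ^ j) x = x + ((j : F) * sympForm n F x u) • u := by
    intro j
    induction j with
    | zero =>
      intro x
      rw [pow_zero, act_one, Nat.cast_zero, zero_mul, zero_smul, add_zero]
    | succ j ih =>
      intro x
      rw [pow_succ, act_mul, ih, ht, act_tv, sf_add_left, sf_smul_left, sf_self, mul_zero,
        add_zero, one_mul, add_assoc, ← add_smul]
      congr 2
      push_cast
      ring
  have hcpow_v : ∀ j : ℕ, act (c ^ j) v = v := by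
    intro j
    induction j with
    | zero => rw [pow_zero, act_one]
    | succ j ih => rw [pow_succ, act_mul, hCv, ih]
  have hcomm : Commute t c := by
    show t * c = c * t
    apply act_ext
    intro x
    rw [act_mul, act_mul, ht, act_tv, act_tv, act_add, act_smul, hCu, one_mul, one_mul]
    congr 2
    conv_lhs => rw [← hCu]
    exact act_preserves c x u
  have hpj : ∀ j : ℕ, ((j : F) = 0 ↔ p ∣ j) := fun j => CharP.cast_eq_zero_iff F p j
  have htone : ∀ j : ℕ, (j : F) = 0 → t ^ j = 1 := by
    intro j hj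
    apply act_ext
    intro x
    rw [htpow, hj, zero_mul, zero_smul, add_zero, act_one]
  have hcop : Nat.Coprime r p := (Nat.coprime_primes hr hp).2 hrp
  refine ⟨QuotientGroup.mk (t * c), ?_⟩
  apply orderOf_mk_center
  intro j
  rw [hcomm.mul_pow]
  constructor
  · intro hz
    -- the central element acts on v by a sign
    have hact : act (t ^ j * c ^ j) v = v + ((j : F) * (-1)) • u := by
      rw [act_mul, hcpow_v, htpow, hvu]
    have hsign : ∃ ε : F, (∀ x, act (t ^ j * c ^ j) x = ε • x) ∧
        (ε = 1 → t ^ j * c ^ j = 1) := by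
      rcases (Cfsg.Agent.S0246.mem_center_iff (by omega) _).1 hz with h1 | h1
      · refine ⟨1, ?_, fun _ => h1⟩
        intro x
        rw [h1, act_one, one_smul]
      · refine ⟨-1, ?_, ?_⟩
        · intro x
          rw [h1]
          unfold act Cfsg.Agent.S0246.negOne
          simp [Matrix.neg_mulVec]
        · intro hneg
          rw [h1]
          apply Subtype.ext
          show (-1 : Matrix (Fin n ⊕ Fin n) (Fin n ⊕ Fin n) F) = 1
          have : (-1 : Matrix (Fin n ⊕ Fin n) (Fin n ⊕ Fin n) F) = (-1 : F) • 1 := by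
            rw [neg_smul, one_smul]
          rw [this, hneg, one_smul]
    obtain ⟨ε, hε, hε1⟩ := hsign
    have heq : v + ((j : F) * (-1)) • u = ε • v := by rw [← hact, hε]
    have h1 := congrFun heq (Sum.inl i0)
    have h2 := congrFun heq (Sum.inr i0)
    simp only [hu, hv, Pi.add_apply, Pi.smul_apply, Pi.single_eq_same, smul_eq_mul, mul_one,
      ne_eq, reduceCtorEq, not_false_eq_true, Pi.single_eq_of_ne, mul_zero, add_zero,
      zero_add] at h1 h2
    have hj0 : (j : F) = 0 := by
      have : (j : F) * (-1) = 0 := h2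
      simpa using this
    have hone := hε1 h1.symm
    rw [htone j hj0, one_mul] at hone
    have hrj : r ∣ j := by
      rw [← hCord]
      exact orderOf_dvd_of_pow_eq_one hone
    exact hcop.mul_dvd_of_dvd_of_dvd hrj ((hpj j).1 hj0)
  · intro hj
    have hpj' : p ∣ j := dvd_trans (dvd_mul_left p r) hj
    have hrj : r ∣ j := dvd_trans (dvd_mul_right r p) hj
    rw [htone j ((hpj j).2 hpj'), one_mul]
    have : c ^ j = 1 := by
      rw [← hCord] at hrj
      exact orderOf_dvd_iff_pow_eq_one.1 hrj
    rw [this]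
    exact Subgroup.one_mem _

end Cfsg.Agent.Lib.Helper19.PrimeGraphPSL
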