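import Mathlib
import Cfsg.Agent.Lib.Helper19.PrimeGraphPSp2

set_option autoImplicit false

/-!
Symplectic matrices of order `r s` over the algebraic closure: the eigenvalue count.
-/

namespace Cfsg.Agent.Lib.Helper19.PrimeGraphPSL

open Matrix Module Cfsg.Agent.Lib.Helper19.UnitaryEig

variable {E : Type*} [Field E] {m : ℕ}

lemma arith_alpha (r q k : ℕ) (hr : r.Prime) (hr2 : r ≠ 2) (hq1 : 1 ≤ q)
    (hk : ∀ j, r ∣ q ^ j - 1 ↔ k ∣ j) (d : ℕ) (h : r ∣ q ^ d + 1) :
    k ∣ 2 * d ∧ ¬ k ∣ d := by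
  have hqd : 1 ≤ q ^ d := Nat.one_le_pow _ _ hq1
  constructor
  · apply (hk _).1
    have : q ^ (2 * d) - 1 = (q ^ d - 1) * (q ^ d + 1) := by
      have h3 : q ^ (2 * d) = q ^ d * q ^ d := by rw [two_mul, pow_add]
      rw [h3]
      zify [hqd, (by nlinarith : 1 ≤ q ^ d * q ^ d)]
      ring
    rw [this]
    exact Dvd.dvd.mul_left h _
  · intro hkd
    have h1 := (hk d).2 hkd
    have h2 : r ∣ (q ^ d + 1) - (q ^ d - 1) := Nat.dvd_sub h h1
    have h3 : (q ^ d + 1) - (q ^ d - 1) = 2 := by omega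
    rw [h3] at h2
    exact hr2 ((Nat.prime_dvd_prime_iff_eq hr Nat.prime_two).1 h2)

/-- The orbit family of an eigenvalue of prime order. -/
lemma fam_inj (σ : E →+* E) (q : ℕ) (hq1 : 1 ≤ q) (hσq : ∀ z, σ z = z ^ q)
    (r : ℕ) (hr : r.Prime) (hr2 : r ≠ 2) (hrq : ¬ r ∣ q) (k ηk : ℕ)
    (hk : ∀ j, r ∣ q ^ j - 1 → k ∣ j) (hη : (Odd k ∧ ηk = k) ∨ (Even k ∧ 2 * ηk = k))
    (z : E) (hzr : z ^ r = 1) (hz1 : z ≠ 1) :
    Function.Injective (Sum.elim (fun i : Fin ηk => z ^ (q ^ (i : ℕ)))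
        (fun i : Fin ηk => (z ^ (q ^ (i : ℕ)))⁻¹)) := by
  have hz0 : z ≠ 0 := by
    rintro rfl
    rw [zero_pow hr.ne_zero] at hzr
    exact zero_ne_one hzr
  haveI : Fact r.Prime := ⟨hr⟩
  have hord : orderOf z = r := orderOf_eq_prime hzr hz1
  have hηk : ηk ≤ k := by
    rcases hη with ⟨-, he⟩ | ⟨-, he⟩ <;> omega
  have key1 : ∀ a b : ℕ, a < b → b < ηk → z ^ (q ^ a) ≠ z ^ (q ^ b) := by
    intro a b hab hb h
    have h1 := orbit_rel σ q hq1 hσq z hz0 hab h
    have h2 : r ∣ q ^ (b - a) - 1 := by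
      rw [← hord]
      exact orderOf_dvd_of_pow_eq_one h1
    have := Nat.le_of_dvd (by omega) (hk _ h2)
    omega
  have key3 : ∀ a b : ℕ, a < ηk → b < ηk → z ^ (q ^ a) ≠ (z ^ (q ^ b))⁻¹ := by
    intro a b ha hb h
    have h1 : z ^ (q ^ a + q ^ b) = 1 := by
      rw [pow_add, h, inv_mul_cancel₀ (pow_ne_zero _ hz0)]
    have h2 : r ∣ q ^ a + q ^ b := by
      rw [← hord]
      exact orderOf_dvd_of_pow_eq_one h1
    rcases le_total a b with hab | hab
    · exact no_sum_dvd r q k ηk hr hr2 hrq hq1 hk hη a b hab hb h2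
    · rw [add_comm] at h2
      exact no_sum_dvd r q k ηk hr hr2 hrq hq1 hk hη b a hab ha h2
  intro u v huv
  rcases u with i | i <;> rcases v with j | j
  · simp only [Sum.elim_inl] at huv
    congr 1
    apply Fin.ext
    rcases Nat.lt_trichotomy (i : ℕ) (j : ℕ) with h | h | h
    · exact absurd huv (key1 _ _ h j.2)
    · exact h
    · exact absurd huv.symm (key1 _ _ h i.2)
  · simp only [Sum.elim_inl, Sum.elim_inr] at huv
    exact absurd huv (key3 _ _ i.2 j.2)
  · simp only [Sum.elim_inl, Sum.elim_inr] at huv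
    exact absurd huv.symm (key3 _ _ j.2 i.2)
  · simp only [Sum.elim_inr] at huv
    have huv' := inv_injective huv
    congr 1
    apply Fin.ext
    rcases Nat.lt_trichotomy (i : ℕ) (j : ℕ) with h | h | h
    · exact absurd huv' (key1 _ _ h j.2)
    · exact h
    · exact absurd huv'.symm (key1 _ _ h i.2)

/-- No common multiple of `k` and `l` up to `n` (the inverse-free case). -/
lemma arith_beta (k l ηk ηl n : ℕ) (hk0 : 0 < k) (hl0 : 0 < l)
    (hηk : (Odd k ∧ ηk = k) ∨ (Even k ∧ 2 * ηk = k))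
    (hηl : (Odd l ∧ ηl = l) ∨ (Even l ∧ 2 * ηl = l)) (hkl : ηk ≤ ηl) (hn : n < ηk + ηl)
    (hnot : ¬ ∃ t : ℕ, Odd t ∧ l = k * t) (j : ℕ) (hj1 : 1 ≤ j) (hjn : j ≤ n) :
    ¬ (k ∣ j ∧ l ∣ j) := by
  rintro ⟨hkj, hlj⟩
  rcases hηl with ⟨hodd, he⟩ | ⟨hev, he⟩
  · obtain ⟨c, hc⟩ := hlj
    have hc1 : c = 1 := by
      rcases Nat.lt_or_ge c 2 with h | h
      · interval_cases c
        · omega
        · rfl
      · have : l * 2 ≤ l * c := Nat.mul_le_mul_left l h
        omega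
    rw [hc1, mul_one] at hc
    rw [hc] at hkj
    obtain ⟨t, ht⟩ := hkj
    apply hnot
    refine ⟨t, ?_, ht⟩
    rw [ht] at hodd
    exact (Nat.odd_mul.1 hodd).2
  · have := Nat.le_of_dvd (by omega) hlj
    omega

/-- No common multiple of `k` and `l` up to `2 n` (the case `-1 ∈ ⟨q⟩`). -/
lemma arith_alpha2 (k l ηk ηl n d : ℕ) (hk0 : 0 < k) (hl0 : 0 < l)
    (hηk : (Odd k ∧ ηk = k) ∨ (Even k ∧ 2 * ηk = k))
    (hηl : (Odd l ∧ ηl = l) ∨ (Even l ∧ 2 * ηl = l)) (hkl : ηk ≤ ηl) (hn : n < ηk + ηl)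
    (hnot : ¬ ∃ t : ℕ, Odd t ∧ l = k * t)
    (hk1 : k ∣ 2 * d) (hk2 : ¬ k ∣ d) (hl1 : l ∣ 2 * d) (hl2 : ¬ l ∣ d)
    (j : ℕ) (hj1 : 1 ≤ j) (hjn : j ≤ 2 * n) : ¬ (k ∣ j ∧ l ∣ j) := by
  rintro ⟨hkj, hlj⟩
  have hkev : 2 * ηk = k := by
    rcases hηk with ⟨hodd, -⟩ | ⟨-, he⟩
    · exfalso
      apply hk2
      have hc : Nat.Coprime k 2 := Nat.Coprime.symm (Nat.coprime_two_left.2 hodd)
      exact hc.dvd_of_dvd_mul_left hk1
    · exact he
  have hlev : 2 * ηl = l := by
    rcases hηl with ⟨hodd, -⟩ | ⟨-, he⟩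
    · exfalso
      apply hl2
      have hc : Nat.Coprime l 2 := Nat.Coprime.symm (Nat.coprime_two_left.2 hodd)
      exact hc.dvd_of_dvd_mul_left hl1
    · exact he
  obtain ⟨c, hc⟩ := hlj
  have hc1 : c = 1 := by
    rcases Nat.lt_or_ge c 2 with h | h
    · interval_cases c
      · omega
      · rfl
    · have : l * 2 ≤ l * c := Nat.mul_le_mul_left l h
      omega
  rw [hc1, mul_one] at hc
  rw [hc] at hkj
  obtain ⟨t, ht⟩ := hkj
  rcases Nat.even_or_odd t with hte | hto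
  · obtain ⟨t', ht'⟩ := hte
    apply hk2
    obtain ⟨e, he⟩ := hl1
    refine ⟨t' * e, ?_⟩
    have : 2 * d = 2 * (k * (t' * e)) := by
      rw [he, ht, ht']
      ring
    omega
  · exact hnot ⟨t, hto, ht⟩

theorem sp_rs_closed [IsAlgClosed E] (σ : E →+* E) (hσ : Function.Surjective σ) (q : ℕ)
    (hq1 : 1 ≤ q) (hσq : ∀ z, σ z = z ^ q) (M J' : Matrix (Fin m) (Fin m) E)
    (hJ : IsUnit J'.det) (hMJ : Mᵀ * J' * M = J') (hMσ : M.map σ = M)
    (r s : ℕ) (hr : r.Prime) (hs : s.Prime) (hr2 : r ≠ 2) (hs2 : s ≠ 2) (hrs : r ≠ s)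
    (hrq : ¬ r ∣ q) (hsq : ¬ s ∣ q) (hrsE : ((r * s : ℕ) : E) ≠ 0)
    (hMrs : M ^ (r * s) = 1) (hMs : M ^ s ≠ 1) (hMr : M ^ r ≠ 1)
    (k l ηk ηl : ℕ) (hk : ∀ j, r ∣ q ^ j - 1 ↔ k ∣ j) (hl : ∀ j, s ∣ q ^ j - 1 ↔ l ∣ j)
    (hk0 : 0 < k) (hl0 : 0 < l)
    (hηk : (Odd k ∧ ηk = k) ∨ (Even k ∧ 2 * ηk = k))
    (hηl : (Odd l ∧ ηl = l) ∨ (Even l ∧ 2 * ηl = l))
    (hkl : ηk ≤ ηl) (n : ℕ) (hm : m = 2 * n) (hn : n < ηk + ηl)
    (hnot : ¬ ∃ t : ℕ, Odd t ∧ l = k * t) : False := by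
  classical
  have hcop : Nat.Coprime r s := (Nat.coprime_primes hr hs).2 hrs
  have htop : ⨆ x : E, (toEnd M).eigenspace x = ⊤ :=
    htop_of_pow (r * s) hrsE M 1 one_ne_zero (by rw [one_smul]; exact hMrs)
  have hroot : ∀ z : E, (toEnd M).eigenspace z ≠ ⊥ → z ^ (r * s) = 1 := by
    intro z hz
    exact eig_pow (r * s) M 1 (by rw [one_smul]; exact hMrs) hz
  have hne0 : ∀ z : E, (toEnd M).eigenspace z ≠ ⊥ → z ≠ 0 := by
    intro z hz h0
    have := hroot z hz
    rw [h0, zero_pow (Nat.mul_ne_zero hr.ne_zero hs.ne_zero)] at this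
    exact zero_ne_one this
  have hone : ∀ z : E, (toEnd M).eigenspace z ≠ ⊥ →
      1 ≤ finrank E ((toEnd M).eigenspace z) := by
    intro z hz
    rw [Nat.one_le_iff_ne_zero]
    intro h0
    exact hz (Submodule.finrank_eq_zero.1 h0)
  have hfr : ∀ (z : E) (i : ℕ), 1 ≤ finrank E ((toEnd M).eigenspace z) →
      1 ≤ finrank E ((toEnd M).eigenspace (z ^ (q ^ i))) := by
    intro z i h
    exact le_trans h (frob_chain σ hσ q hσq M hMσ z i)
  have hinv : ∀ z : E, z ≠ 0 → 1 ≤ finrank E ((toEnd M).eigenspace z) →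
      1 ≤ finrank E ((toEnd M).eigenspace z⁻¹) := by
    intro z hz h
    exact le_trans h (nul_inv_pair M J' hJ hMJ z hz)
  obtain ⟨z₁, hz₁, hz₁s⟩ : ∃ z : E, (toEnd M).eigenspace z ≠ ⊥ ∧ z ^ s ≠ 1 := by
    by_contra hcon
    push Not at hcon
    exact hMs (pow_eq_one_of_eigen M htop s hcon)
  obtain ⟨z₂, hz₂, hz₂r⟩ : ∃ z : E, (toEnd M).eigenspace z ≠ ⊥ ∧ z ^ r ≠ 1 := by
    by_contra hcon
    push Not at hcon
    exact hMr (pow_eq_one_of_eigen M htop r hcon)
  by_cases hA : ∃ z : E, (toEnd M).eigenspace z ≠ ⊥ ∧ z ^ s ≠ 1 ∧ z ^ r ≠ 1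
  · obtain ⟨z, hz, hzs, hzr⟩ := hA
    have hz0 := hne0 z hz
    have hord : orderOf z = r * s := by
      have h1 : orderOf z ∣ r * s := orderOf_dvd_of_pow_eq_one (hroot z hz)
      have h3 : r ∣ orderOf z := by
        by_contra hnd
        have hc : Nat.Coprime (orderOf z) r :=
          (Nat.Coprime.symm ((Nat.Prime.coprime_iff_not_dvd hr).2 hnd))
        have h4 : orderOf z ∣ s := hc.dvd_of_dvd_mul_left h1
        exact hzs (orderOf_dvd_iff_pow_eq_one.1 h4)
      have h4 : s ∣ orderOf z := by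
        by_contra hnd
        have hc : Nat.Coprime (orderOf z) s :=
          (Nat.Coprime.symm ((Nat.Prime.coprime_iff_not_dvd hs).2 hnd))
        have h4 : orderOf z ∣ r := hc.dvd_of_dvd_mul_right h1
        exact hzr (orderOf_dvd_iff_pow_eq_one.1 h4)
      exact Nat.dvd_antisymm h1 (hcop.mul_dvd_of_dvd_of_dvd h3 h4)
    have hrel : ∀ a b : ℕ, a < b → z ^ (q ^ a) = z ^ (q ^ b) → k ∣ b - a ∧ l ∣ b - a := by
      intro a b hab h
      have h1 := orbit_rel σ q hq1 hσq z hz0 hab h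
      have h2 : r * s ∣ q ^ (b - a) - 1 := by
        rw [← hord]
        exact orderOf_dvd_of_pow_eq_one h1
      exact ⟨(hk _).1 (dvd_trans (dvd_mul_right r s) h2),
        (hl _).1 (dvd_trans (dvd_mul_left s r) h2)⟩
    by_cases hB : ∃ d, r * s ∣ q ^ d + 1
    · obtain ⟨d, hd⟩ := hB
      obtain ⟨hk1, hk2⟩ := arith_alpha r q k hr hr2 hq1 hk d (dvd_trans (dvd_mul_right r s) hd)
      obtain ⟨hl1, hl2⟩ := arith_alpha s q l hs hs2 hq1 hl d (dvd_trans (dvd_mul_left s r) hd)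
      have hbound := arith_alpha2 k l ηk ηl n d hk0 hl0 hηk hηl hkl hn hnot hk1 hk2 hl1 hl2
      have hinj : Function.Injective (fun i : Fin (m + 1) => z ^ (q ^ (i : ℕ))) := by
        have key : ∀ a b : ℕ, a < b → b < m + 1 → z ^ (q ^ a) ≠ z ^ (q ^ b) := by
          intro a b hab hb h
          exact hbound (b - a) (by omega) (by omega) (hrel a b hab h)
        intro i j hij
        simp only at hij
        apply Fin.ext
        rcases Nat.lt_trichotomy (i : ℕ) (j : ℕ) with h | h | h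
        · exact absurd hij (key _ _ h j.2)
        · exact h
        · exact absurd hij.symm (key _ _ h i.2)
      have hsum := sum_le (toEnd M) _ hinj
      have h1 : ∑ i : Fin (m + 1), 1 ≤
          ∑ i : Fin (m + 1), finrank E ((toEnd M).eigenspace (z ^ (q ^ (i : ℕ)))) := by
        apply Finset.sum_le_sum
        intro i _
        exact hfr z i (hone z hz)
      rw [Finset.sum_const, Finset.card_univ, Fintype.card_fin, smul_eq_mul, mul_one] at h1
      omega
    · push Not at hB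
      have hbound := arith_beta k l ηk ηl n hk0 hl0 hηk hηl hkl hn hnot
      have key1 : ∀ a b : ℕ, a < b → b < n + 1 → z ^ (q ^ a) ≠ z ^ (q ^ b) := by
        intro a b hab hb h
        exact hbound (b - a) (by omega) (by omega) (hrel a b hab h)
      have key3 : ∀ a b : ℕ, z ^ (q ^ a) ≠ (z ^ (q ^ b))⁻¹ := by
        have aux : ∀ a b : ℕ, a ≤ b → ¬ r * s ∣ q ^ a + q ^ b := by
          intro a b hab h
          have hfac : q ^ a + q ^ b = q ^ a * (q ^ (b - a) + 1) := by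
            rw [mul_add, mul_one, ← pow_add, add_comm]
            congr 2
            omega
          rw [hfac] at h
          have hc : Nat.Coprime (r * s) (q ^ a) := by
            apply Nat.Coprime.pow_right
            apply Nat.Coprime.mul_left
            · exact (Nat.Prime.coprime_iff_not_dvd hr).2 hrq
            · exact (Nat.Prime.coprime_iff_not_dvd hs).2 hsq
          exact hB _ (hc.dvd_of_dvd_mul_left h)
        intro a b h
        have h1 : z ^ (q ^ a + q ^ b) = 1 := by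
          rw [pow_add, h, inv_mul_cancel₀ (pow_ne_zero _ hz0)]
        have h2 : r * s ∣ q ^ a + q ^ b := by
          rw [← hord]
          exact orderOf_dvd_of_pow_eq_one h1
        rcases le_total a b with hab | hab
        · exact aux a b hab h2
        · rw [add_comm] at h2
          exact aux b a hab h2
      let c : Fin (n + 1) ⊕ Fin (n + 1) → E :=
        Sum.elim (fun i => z ^ (q ^ (i : ℕ))) (fun i => (z ^ (q ^ (i : ℕ)))⁻¹)
      have hinj : Function.Injective c := by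
        intro u v huv
        rcases u with i | i <;> rcases v with j | j
        · simp only [c, Sum.elim_inl] at huv
          congr 1
          apply Fin.ext
          rcases Nat.lt_trichotomy (i : ℕ) (j : ℕ) with h | h | h
          · exact absurd huv (key1 _ _ h j.2)
          · exact h
          · exact absurd huv.symm (key1 _ _ h i.2)
        · simp only [c, Sum.elim_inl, Sum.elim_inr] at huv
          exact absurd huv (key3 _ _)
        · simp only [c, Sum.elim_inl, Sum.elim_inr] at huv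
          exact absurd huv.symm (key3 _ _)
        · simp only [c, Sum.elim_inr] at huv
          have huv' := inv_injective huv
          congr 1
          apply Fin.ext
          rcases Nat.lt_trichotomy (i : ℕ) (j : ℕ) with h | h | h
          · exact absurd huv' (key1 _ _ h j.2)
          · exact h
          · exact absurd huv'.symm (key1 _ _ h i.2)
      have hsum := sum_le (toEnd M) c hinj
      have hge : ∀ u, 1 ≤ finrank E ((toEnd M).eigenspace (c u)) := by
        intro u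
        rcases u with i | i
        · exact hfr z i (hone z hz)
        · exact hinv _ (pow_ne_zero _ hz0) (hfr z i (hone z hz))
      have h1 : ∑ u : Fin (n + 1) ⊕ Fin (n + 1), 1 ≤
          ∑ u, finrank E ((toEnd M).eigenspace (c u)) :=
        Finset.sum_le_sum (fun u _ => hge u)
      simp only [Finset.sum_const, Finset.card_univ, Fintype.card_sum, Fintype.card_fin,
        smul_eq_mul, mul_one] at h1
      omega
  · push Not at hA
    have hz₁r : z₁ ^ r = 1 := by
      by_contra h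
      exact h (hA z₁ hz₁ hz₁s)
    have hz₂s : z₂ ^ s = 1 := by
      by_contra h
      exact hz₂r (hA z₂ hz₂ h)
    have hz₁1 : z₁ ≠ 1 := by
      rintro rfl
      exact hz₁s (one_pow s)
    have hz₂1 : z₂ ≠ 1 := by
      rintro rfl
      exact hz₂r (one_pow r)
    have hi1 := fam_inj σ q hq1 hσq r hr hr2 hrq k ηk (fun j h => (hk j).1 h) hηk z₁ hz₁r hz₁1
    have hi2 := fam_inj σ q hq1 hσq s hs hs2 hsq l ηl (fun j h => (hl j).1 h) hηl z₂ hz₂s hz₂1
    let c₁ : Fin ηk ⊕ Fin ηk → E := Sum.elim (fun i : Fin ηk => z₁ ^ (q ^ (i : ℕ)))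
        (fun i : Fin ηk => (z₁ ^ (q ^ (i : ℕ)))⁻¹)
    let c₂ : Fin ηl ⊕ Fin ηl → E := Sum.elim (fun i : Fin ηl => z₂ ^ (q ^ (i : ℕ)))
        (fun i : Fin ηl => (z₂ ^ (q ^ (i : ℕ)))⁻¹)
    have hc₁r : ∀ u, (c₁ u) ^ r = 1 := by
      intro u
      rcases u with i | i
      · show (z₁ ^ (q ^ (i : ℕ))) ^ r = 1
        rw [← pow_mul, mul_comm, pow_mul, hz₁r, one_pow]
      · show ((z₁ ^ (q ^ (i : ℕ)))⁻¹) ^ r = 1
        rw [inv_pow, ← pow_mul, mul_comm, pow_mul, hz₁r, one_pow, inv_one]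
    have hc₂s : ∀ u, (c₂ u) ^ s = 1 := by
      intro u
      rcases u with i | i
      · show (z₂ ^ (q ^ (i : ℕ))) ^ s = 1
        rw [← pow_mul, mul_comm, pow_mul, hz₂s, one_pow]
      · show ((z₂ ^ (q ^ (i : ℕ)))⁻¹) ^ s = 1
        rw [inv_pow, ← pow_mul, mul_comm, pow_mul, hz₂s, one_pow, inv_one]
    have hc₂1 : ∀ u, c₂ u ≠ 1 := by
      intro u
      rcases u with i | i
      · show z₂ ^ (q ^ (i : ℕ)) ≠ 1
        intro h
        apply hz₂1
        apply pow_q_inj σ q hσq i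
        rw [one_pow]
        exact h
      · show (z₂ ^ (q ^ (i : ℕ)))⁻¹ ≠ 1
        intro h
        apply hz₂1
        apply pow_q_inj σ q hσq i
        rw [one_pow]
        exact inv_eq_one.1 h
    let c : (Fin ηk ⊕ Fin ηk) ⊕ (Fin ηl ⊕ Fin ηl) → E := Sum.elim c₁ c₂
    have hcross : ∀ u v, c₁ u ≠ c₂ v := by
      intro u v h
      apply hc₂1 v
      have h1 : orderOf (c₂ v) ∣ r := by
        apply orderOf_dvd_of_pow_eq_one
        rw [← h]
        exact hc₁r u
      have h2 : orderOf (c₂ v) ∣ s := orderOf_dvd_of_pow_eq_one (hc₂s v)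
      have h3 : orderOf (c₂ v) ∣ Nat.gcd r s := Nat.dvd_gcd h1 h2
      rw [hcop.gcd_eq_one, Nat.dvd_one] at h3
      exact orderOf_eq_one_iff.1 h3
    have hinj : Function.Injective c := by
      intro u v huv
      rcases u with u | u <;> rcases v with v | v
      · simp only [c, Sum.elim_inl] at huv
        rw [hi1 huv]
      · simp only [c, Sum.elim_inl, Sum.elim_inr] at huv
        exact absurd huv (hcross u v)
      · simp only [c, Sum.elim_inl, Sum.elim_inr] at huv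
        exact absurd huv.symm (hcross v u)
      · simp only [c, Sum.elim_inr] at huv
        rw [hi2 huv]
    have hsum := sum_le (toEnd M) c hinj
    have hge : ∀ u, 1 ≤ finrank E ((toEnd M).eigenspace (c u)) := by
      intro u
      rcases u with (i | i) | (i | i)
      · exact hfr z₁ i (hone z₁ hz₁)
      · exact hinv _ (pow_ne_zero _ (hne0 z₁ hz₁)) (hfr z₁ i (hone z₁ hz₁))
      · exact hfr z₂ i (hone z₂ hz₂)
      · exact hinv _ (pow_ne_zero _ (hne0 z₂ hz₂)) (hfr z₂ i (hone z₂ hz₂))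
    have h1 : ∑ u : (Fin ηk ⊕ Fin ηk) ⊕ (Fin ηl ⊕ Fin ηl), 1 ≤
        ∑ u, finrank E ((toEnd M).eigenspace (c u)) :=
      Finset.sum_le_sum (fun u _ => hge u)
    simp only [Finset.sum_const, Finset.card_univ, Fintype.card_sum, Fintype.card_fin,
      smul_eq_mul, mul_one] at h1
    omega

end Cfsg.Agent.Lib.Helper19.PrimeGraphPSL
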