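import Mathlib
import Cfsg.Agent.Lib.Helper19.PrimeGraphPSp3
import Cfsg.Agent.Lib.Helper19.PrimeGraphPSp5

set_option autoImplicit false

namespace Cfsg.Agent.Lib.Helper19.PrimeGraphPSL

open Matrix Module Cfsg.Agent.Lib.Helper19.UnitaryEig

variable {F : Type*} [Field F] [Fintype F] {n : ℕ}

theorem sp_rs_core (p : ℕ) [Fact p.Prime] [CharP F p] (hn : 1 ≤ n) (r s : ℕ)
    (hr : r.Prime) (hs : s.Prime) (hr2 : r ≠ 2) (hs2 : s ≠ 2) (hrs : r ≠ s)
    (hrp : r ≠ p) (hsp : s ≠ p) (k l ηk ηl : ℕ)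
    (hk : ∀ j, r ∣ Fintype.card F ^ j - 1 ↔ k ∣ j)
    (hl : ∀ j, s ∣ Fintype.card F ^ j - 1 ↔ l ∣ j) (hk0 : 0 < k) (hl0 : 0 < l)
    (hηk : (Odd k ∧ ηk = k) ∨ (Even k ∧ 2 * ηk = k))
    (hηl : (Odd l ∧ ηl = l) ∨ (Even l ∧ 2 * ηl = l))
    (hkl : ηk ≤ ηl) (hnη : n < ηk + ηl) (hnot : ¬ ∃ t : ℕ, Odd t ∧ l = k * t)
    (A₀ : Matrix.symplecticGroup (Fin n) F)
    (hA : ∀ j, A₀ ^ j ∈ Subgroup.center (Matrix.symplecticGroup (Fin n) F) ↔ r * s ∣ j) :
    False := by
  classical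
  have hp : p.Prime := Fact.out
  set q := Fintype.card F with hq
  have hq2 : 2 ≤ q := Fintype.one_lt_card
  let ρ : Matrix (Fin n ⊕ Fin n) (Fin n ⊕ Fin n) F ≃ₐ[F] Matrix (Fin (n + n)) (Fin (n + n)) F :=
    Matrix.reindexAlgEquiv F F finSumFinEquiv
  have hρT : ∀ X, ρ Xᵀ = (ρ X)ᵀ := by
    intro X
    show Matrix.reindexAlgEquiv F F finSumFinEquiv Xᵀ =
      (Matrix.reindexAlgEquiv F F finSumFinEquiv X)ᵀ
    rw [Matrix.reindexAlgEquiv_apply, Matrix.reindexAlgEquiv_apply, Matrix.transpose_reindex]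
  have hρs : ∀ c : F, ρ (c • 1) = c • 1 := by
    intro c
    rw [map_smul, map_one]
  obtain ⟨c, hc1, hc⟩ := center_scalar_sp hn _ ((hA (r * s)).2 dvd_rfl)
  have hcpow : ∀ j : ℕ, c ^ j * c ^ j = 1 := by
    intro j
    rw [← mul_pow, hc1, one_pow]
  set Am := ρ A₀.1 with hAm
  have hAmrs : Am ^ (r * s) = c • 1 := by
    rw [hAm, ← map_pow, ← hρs]
    congr 1
  have hscal : ∀ j : ℕ, (∃ e : F, Am ^ j = e • 1) → r * s ∣ j := by
    rintro j ⟨e, he⟩
    apply (hA j).1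
    apply scalar_center_sp (A₀ ^ j) e
    apply ρ.injective
    rw [hρs, ← he, hAm, ← map_pow]
    rfl
  set B₁ := c • Am with hB₁
  have hodd : Odd (r * s) := (hr.odd_of_ne_two hr2).mul (hs.odd_of_ne_two hs2)
  have hB₁rs : B₁ ^ (r * s) = 1 := by
    rw [hB₁, smul_pow, hAmrs, smul_smul]
    obtain ⟨t, ht⟩ := hodd
    have : c ^ (r * s) * c = 1 := by
      rw [ht, ← pow_succ]
      have : 2 * t + 1 + 1 = 2 * (t + 1) := by ring
      rw [this, pow_mul, pow_two, hc1, one_pow]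
    rw [this, one_smul]
  have hnotpow : ∀ j : ℕ, B₁ ^ j = 1 → r * s ∣ j := by
    intro j hj
    apply hscal
    refine ⟨c ^ j, ?_⟩
    rw [hB₁, smul_pow] at hj
    have := congrArg (fun X => c ^ j • X) hj
    simp only [smul_smul, hcpow, one_smul] at this
    exact this
  have hB₁s : B₁ ^ s ≠ 1 := by
    intro h
    have h1 := Nat.le_of_dvd hs.pos (hnotpow s h)
    have := hr.two_le
    nlinarith [hs.pos]
  have hB₁r : B₁ ^ r ≠ 1 := by
    intro h
    have h1 := Nat.le_of_dvd hr.pos (hnotpow r h)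
    have := hs.two_le
    nlinarith [hr.pos]
  set J' := ρ (Matrix.J (Fin n) F) with hJ'
  have hBJ : Amᵀ * J' * Am = J' := by
    have h := SymplecticGroup.mem_iff'.mp A₀.2
    rw [hAm, hJ', ← hρT, ← map_mul, ← map_mul, h]
  have hB₁J : B₁ᵀ * J' * B₁ = J' := by
    rw [hB₁, Matrix.transpose_smul, Matrix.smul_mul, Matrix.smul_mul, Matrix.mul_smul, smul_smul,
      hc1, one_smul, hBJ]
  have hJu : IsUnit J'.det := by
    have h1 : J' * ρ (-Matrix.J (Fin n) F) = 1 := by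
      rw [hJ', ← map_mul, Matrix.mul_neg, Matrix.J_squared, neg_neg, map_one]
    have h2 := congrArg Matrix.det h1
    rw [Matrix.det_mul, Matrix.det_one] at h2
    exact IsUnit.of_mul_eq_one _ h2
  -- extend scalars
  let E := AlgebraicClosure F
  let ι : F →+* E := algebraMap F E
  haveI : CharP E p := charP_of_injective_algebraMap ι.injective p
  have hnotdvd : ∀ t : ℕ, t.Prime → t ≠ p → ¬ t ∣ q := by
    intro t ht htp h
    obtain ⟨e, -, he⟩ := FiniteField.card F p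
    rw [hq, he] at h
    exact htp ((Nat.prime_dvd_prime_iff_eq ht hp).1 (ht.dvd_of_dvd_pow h))
  have hrsE : ((r * s : ℕ) : E) ≠ 0 := by
    intro h
    rw [CharP.cast_eq_zero_iff E p (r * s)] at h
    rcases hp.dvd_mul.1 h with h | h
    · exact hrp ((Nat.prime_dvd_prime_iff_eq hp hr).1 h).symm
    · exact hsp ((Nat.prime_dvd_prime_iff_eq hp hs).1 h).symm
  let Φ : Matrix (Fin (n + n)) (Fin (n + n)) F →+* Matrix (Fin (n + n)) (Fin (n + n)) E :=
    ι.mapMatrix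
  have hΦinj : Function.Injective Φ := by
    intro X Y h
    ext i j
    have := congrArg (fun Z : Matrix (Fin (n + n)) (Fin (n + n)) E => Z i j) h
    exact ι.injective this
  have hΦT : ∀ X, Φ Xᵀ = (Φ X)ᵀ := by
    intro X
    ext i j
    rfl
  obtain ⟨e, -, he⟩ := FiniteField.card F p
  set σ : E →+* E := iterateFrobenius E p (e : ℕ) with hσ
  have hσq : ∀ z, σ z = z ^ q := by
    intro z
    rw [hσ, iterateFrobenius_def, hq, he]
  have hσsurj : Function.Surjective σ := by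
    intro z
    obtain ⟨t, ht⟩ := IsAlgClosed.exists_pow_nat_eq z (by omega : 0 < q)
    exact ⟨t, by rw [hσq, ht]⟩
  have hMσ : (Φ B₁).map σ = Φ B₁ := by
    ext i j
    show σ (ι (B₁ i j)) = ι (B₁ i j)
    rw [hσq, ← map_pow, hq, FiniteField.pow_card]
  exact sp_rs_closed σ hσsurj q (by omega) hσq (Φ B₁) (Φ J')
    (by
      have : (Φ J').det = ι J'.det := by
        show (ι.mapMatrix J').det = ι J'.det
        rw [← RingHom.map_det]
      rw [this]
      exact hJu.map ι)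
    (by rw [← hΦT, ← map_mul, ← map_mul, hB₁J])
    hMσ r s hr hs hr2 hs2 hrs (hnotdvd r hr hrp) (hnotdvd s hs hsp) hrsE
    (by rw [← map_pow, hB₁rs, map_one])
    (by
      intro h
      apply hB₁s
      apply hΦinj
      rw [map_pow, h, map_one])
    (by
      intro h
      apply hB₁r
      apply hΦinj
      rw [map_pow, h, map_one])
    k l ηk ηl hk hl hk0 hl0 hηk hηl hkl n (by ring) hnη hnot

end Cfsg.Agent.Lib.Helper19.PrimeGraphPSL
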