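import Mathlib
import Cfsg.Agent.Lib.Helper27.SympWitt
import Cfsg.Agent.Lib.Helper27.SympOrder
import Cfsg.Agent.S0752

set_option autoImplicit false

/-!
Transfer of an isometry of an abstract symplectic space of dimension at most `2 n` to an element
of `Sp_{2n}(F)` of the same order.
-/

namespace Cfsg.Agent.Lib.Helper19.PrimeGraphPSL

open Matrix Module Cfsg Cfsg.Agent.Lib.Helper27.SympTransv

variable {F : Type*} [Field F] [Fintype F] {n : ℕ}

theorem sp_transfer {V : Type*} [AddCommGroup V] [Module F V] [FiniteDimensional F V]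
    (B : LinearMap.BilinForm F V) (hA : B.IsAlt) (hB : B.Nondegenerate)
    (hdim : finrank F V ≤ 2 * n) (g : V →ₗ[F] V) (hg : ∀ u v, B (g u) (g v) = B u v)
    (N : ℕ) (hN : 0 < N) (hgN : ∀ j : ℕ, g ^ j = 1 → N ∣ j) :
    ∃ A : Matrix.symplecticGroup (Fin n) F, orderOf A = N := by
  classical
  obtain ⟨m, k', b, r1, r2, r3, r4⟩ := Cfsg.Agent.S0752.result B hA
  have hk' : IsEmpty (Fin k') := by
    constructor
    intro j
    have h0 : b (Sum.inr j) = 0 := hB.1 _ (fun v => r4 j v)
    exact b.ne_zero (Sum.inr j) h0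
  have hmn : m ≤ n := by
    have h1 := Module.finrank_eq_card_basis b
    rw [Fintype.card_sum, Fintype.card_sum, Fintype.card_fin, Fintype.card_fin] at h1
    omega
  let e : (Fin m ⊕ Fin m) ⊕ Fin k' → (Fin n ⊕ Fin n → F) :=
    Sum.elim (Sum.elim (fun i => Pi.single (Sum.inr (Fin.castLE hmn i)) 1)
      (fun i => Pi.single (Sum.inl (Fin.castLE hmn i)) 1)) (fun _ => 0)
  let φ : V →ₗ[F] (Fin n ⊕ Fin n → F) := b.constr F e
  have hφb : ∀ idx, φ (b idx) = e idx := fun idx => b.constr_basis F e idx
  have hcast : ∀ i j : Fin m, Fin.castLE hmn i = Fin.castLE hmn j ↔ i = j := by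
    intro i j
    constructor
    · intro h
      apply Fin.ext
      have := congrArg Fin.val h
      simpa using this
    · rintro rfl
      rfl
  have hφB : ∀ u v, sympForm n F (φ u) (φ v) = B u v := by
    have h1 : (sympB n F).comp φ φ = B := by
      apply LinearMap.BilinForm.ext_basis b
      intro i j
      rw [LinearMap.BilinForm.comp_apply, sympB_apply, hφb, hφb]
      rcases i with (i | i) | i
      · rcases j with (j | j) | j
        · simp only [e, Sum.elim_inl]
          rw [sf_single_inr, r2]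
          simp
        · simp only [e, Sum.elim_inl, Sum.elim_inr]
          rw [sf_single_inl, r1]
          simp only [Pi.single_apply, Sum.inr.injEq, hcast]
          by_cases hij : i = j
          · rw [if_pos hij, if_pos hij.symm]
          · rw [if_neg hij, if_neg (fun h => hij h.symm)]
        · exact (hk'.false j).elim
      · rcases j with (j | j) | j
        · simp only [e, Sum.elim_inl, Sum.elim_inr]
          rw [sf_single_inr, ← hA.neg_eq (b (Sum.inl (Sum.inl j))) (b (Sum.inl (Sum.inr i))), r1]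
          simp only [Pi.single_apply, Sum.inl.injEq, hcast]
        · simp only [e, Sum.elim_inl, Sum.elim_inr]
          rw [sf_single_inl, r3]
          simp
        · exact (hk'.false j).elim
      · exact (hk'.false i).elim
    intro u v
    rw [← h1, LinearMap.BilinForm.comp_apply, sympB_apply]
  have hφinj : ∀ u, φ u = 0 → u = 0 := by
    intro u hu
    apply hB.1
    intro v
    rw [← hφB, hu, sf_zero_left]
  have hginj : ∀ u, g u = 0 → u = 0 := by
    intro u hu
    apply hB.1
    intro v
    rw [← hg, hu, map_zero, LinearMap.zero_apply]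
  obtain ⟨ψ, hψ⟩ := LinearMap.exists_leftInverse_of_injective φ
    (LinearMap.ker_eq_bot'.2 hφinj)
  let f : (Fin n ⊕ Fin n → F) →ₗ[F] (Fin n ⊕ Fin n → F) := φ ∘ₗ g ∘ₗ ψ
  have hfφ : ∀ u, f (φ u) = φ (g u) := by
    intro u
    show φ (g (ψ (φ u))) = φ (g u)
    have : ψ (φ u) = u := LinearMap.congr_fun hψ u
    rw [this]
  obtain ⟨A, hAact⟩ := witt_sp_submodule (LinearMap.range φ) f
    (by
      rintro x ⟨u, rfl⟩ x' ⟨u', rfl⟩
      rw [hfφ, hfφ, hφB, hφB, hg])
    (by
      rintro x ⟨u, rfl⟩ h
      rw [hfφ] at h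
      rw [hginj u (hφinj _ h), map_zero])
  have hAφ : ∀ u, act A (φ u) = φ (g u) := by
    intro u
    rw [hAact _ ⟨u, rfl⟩, hfφ]
  have hpow : ∀ (j : ℕ) (u : V), act (A ^ j) (φ u) = φ ((g ^ j) u) := by
    intro j
    induction j with
    | zero =>
      intro u
      rw [pow_zero, pow_zero, act_one, Module.End.one_apply]
    | succ j ih =>
      intro u
      rw [pow_succ, pow_succ, act_mul, hAφ, ih, Module.End.mul_apply]
  have hdiv : N ∣ orderOf A := by
    apply hgN
    apply LinearMap.ext
    intro u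
    have h1 := hpow (orderOf A) u
    rw [pow_orderOf_eq_one, act_one] at h1
    have h2 : φ ((g ^ orderOf A) u - u) = 0 := by rw [map_sub, ← h1, sub_self]
    have h3 := hφinj _ h2
    rw [Module.End.one_apply]
    exact sub_eq_zero.1 h3
  have hpos : 0 < orderOf A := (isOfFinOrder_of_finite A).orderOf_pos
  refine ⟨A ^ (orderOf A / N), ?_⟩
  have hne : orderOf A / N ≠ 0 := by
    intro h
    rcases (Nat.div_eq_zero_iff).1 h with h | h
    · omega
    · have := Nat.le_of_dvd hpos hdiv
      omega
  rw [orderOf_pow_of_dvd hne (Nat.div_dvd_of_dvd hdiv), Nat.div_div_self hdiv hpos.ne']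

end Cfsg.Agent.Lib.Helper19.PrimeGraphPSL
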