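import Mathlib
import Cfsg.Agent.Lib.Helper19.PrimeGraphPSp4
import Cfsg.Agent.Lib.Helper19.PrimeGraphPSp7
import Cfsg.Agent.Lib.Helper27.SympStab

set_option autoImplicit false

/-!
Elements of `Sp_{2n}(F)`: images in `PSp`, orthogonal products, Cauchy elements.
-/

namespace Cfsg.Agent.Lib.Helper19.PrimeGraphPSL

open Matrix Module Cfsg Cfsg.Agent.Lib.Helper27.SympTransv

variable {F : Type*} [Field F] [Fintype F] {n : ℕ}

/-- An element of odd order of `Sp` keeps its order in `PSp`. -/
theorem psp_of_sp (hn : 1 ≤ n) (A : Matrix.symplecticGroup (Fin n) F) (N : ℕ) (hN : Odd N)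
    (hA : orderOf A = N) : ∃ x : Cfsg.PSp n F, orderOf x = N := by
  refine ⟨QuotientGroup.mk A, ?_⟩
  apply orderOf_mk_center
  intro j
  constructor
  · intro hz
    have hsq : (A ^ j) * (A ^ j) = 1 := by
      rcases (Cfsg.Agent.S0246.mem_center_iff hn _).1 hz with h | h
      · rw [h, one_mul]
      · rw [h]
        apply Subtype.ext
        show (-1 : Matrix (Fin n ⊕ Fin n) (Fin n ⊕ Fin n) F) * (-1) = 1
        simp
    rw [← pow_add] at hsq
    have h1 : N ∣ j + j := by
      rw [← hA]
      exact orderOf_dvd_of_pow_eq_one hsq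
    have hc : Nat.Coprime N 2 := Nat.Coprime.symm (Nat.coprime_two_left.2 hN)
    rw [← two_mul] at h1
    exact hc.dvd_of_dvd_mul_left h1
  · intro hj
    rw [← hA] at hj
    rw [orderOf_dvd_iff_pow_eq_one.1 hj]
    exact Subgroup.one_mem _

/-- Orthogonal product of two symplectic elements of coprime orders. -/
theorem sp_prod {a b : ℕ} (hab : a + b ≤ n) (A₁ : Matrix.symplecticGroup (Fin a) F)
    (A₂ : Matrix.symplecticGroup (Fin b) F) (N₁ N₂ : ℕ) (h₁ : orderOf A₁ = N₁)
    (h₂ : orderOf A₂ = N₂) (hcop : Nat.Coprime N₁ N₂) (hN₁ : 0 < N₁) (hN₂ : 0 < N₂) :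
    ∃ A : Matrix.symplecticGroup (Fin n) F, orderOf A = N₁ * N₂ := by
  classical
  let V₁ := Fin a ⊕ Fin a → F
  let V₂ := Fin b ⊕ Fin b → F
  let B : LinearMap.BilinForm F (V₁ × V₂) :=
    (sympB a F).comp (LinearMap.fst F V₁ V₂) (LinearMap.fst F V₁ V₂) +
      (sympB b F).comp (LinearMap.snd F V₁ V₂) (LinearMap.snd F V₁ V₂)
  have hBapp : ∀ x y : V₁ × V₂, B x y = sympForm a F x.1 y.1 + sympForm b F x.2 y.2 := by
    intro x y
    show (sympB a F) x.1 y.1 + (sympB b F) x.2 y.2 = _
    rw [sympB_apply, sympB_apply]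
  let g : (V₁ × V₂) →ₗ[F] (V₁ × V₂) :=
    LinearMap.prodMap (Matrix.toLin' A₁.1) (Matrix.toLin' A₂.1)
  have hgapp : ∀ x : V₁ × V₂, g x = (act A₁ x.1, act A₂ x.2) := by
    intro x
    show (Matrix.toLin' A₁.1 x.1, Matrix.toLin' A₂.1 x.2) = _
    rw [Matrix.toLin'_apply, Matrix.toLin'_apply]
    rfl
  have hgpow : ∀ (j : ℕ) (x : V₁ × V₂), (g ^ j) x = (act (A₁ ^ j) x.1, act (A₂ ^ j) x.2) := by
    intro j
    induction j with
    | zero =>
      intro x
      rw [pow_zero, pow_zero, pow_zero, act_one, act_one, Module.End.one_apply]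
    | succ j ih =>
      intro x
      rw [pow_succ, Module.End.mul_apply, hgapp, ih, pow_succ, pow_succ, act_mul, act_mul]
  apply sp_transfer B
  · intro x
    rw [hBapp, sf_self, sf_self, add_zero]
  · constructor
    · intro x hx
      have h1 : x.1 = 0 := by
        apply (sympB_nondegenerate (m := a) (F := F)).1
        intro y
        have := hx (y, 0)
        rw [hBapp, sf_zero_right, add_zero] at this
        rw [sympB_apply]
        exact this
      have h2 : x.2 = 0 := by
        apply (sympB_nondegenerate (m := b) (F := F)).1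
        intro y
        have := hx (0, y)
        rw [hBapp, sf_zero_right, zero_add] at this
        rw [sympB_apply]
        exact this
      exact Prod.ext h1 h2
    · intro x hx
      have h1 : x.1 = 0 := by
        apply (sympB_nondegenerate (m := a) (F := F)).2
        intro y
        have := hx (y, 0)
        rw [hBapp, sf_zero_left, add_zero] at this
        rw [sympB_apply]
        exact this
      have h2 : x.2 = 0 := by
        apply (sympB_nondegenerate (m := b) (F := F)).2
        intro y
        have := hx (0, y)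
        rw [hBapp, sf_zero_left, zero_add] at this
        rw [sympB_apply]
        exact this
      exact Prod.ext h1 h2
  · rw [Module.finrank_prod, Cfsg.Agent.Lib.Helper27.SympTransv.finrank_space,
      Cfsg.Agent.Lib.Helper27.SympTransv.finrank_space]
    omega
  · intro u v
    rw [hBapp, hBapp, hgapp, hgapp, act_preserves, act_preserves]
  · exact Nat.mul_pos hN₁ hN₂
  · intro j hj
    have h3 : A₁ ^ j = 1 := by
      apply act_ext
      intro x
      have := hgpow j (x, 0)
      rw [hj, Module.End.one_apply] at this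
      rw [act_one]
      exact (congrArg Prod.fst this).symm
    have h4 : A₂ ^ j = 1 := by
      apply act_ext
      intro x
      have := hgpow j (0, x)
      rw [hj, Module.End.one_apply] at this
      rw [act_one]
      exact (congrArg Prod.snd this).symm
    apply hcop.mul_dvd_of_dvd_of_dvd
    · rw [← h₁]
      exact orderOf_dvd_of_pow_eq_one h3
    · rw [← h₂]
      exact orderOf_dvd_of_pow_eq_one h4

/-- Cauchy elements of `Sp_{2a}(F)`. -/
theorem sp_cauchy (a : ℕ) (ha : 1 ≤ a) (r : ℕ) [Fact r.Prime]
    (hr : r ∣ Fintype.card F ^ (2 * a) - 1) :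
    ∃ A : Matrix.symplecticGroup (Fin a) F, orderOf A = r := by
  have hcard := card_symplecticGroup (F := F) (q := Fintype.card F) rfl a
  have hdvd : r ∣ Nat.card (Matrix.symplecticGroup (Fin a) F) := by
    rw [hcard]
    apply Dvd.dvd.mul_left
    have hmem : a - 1 ∈ Finset.range a := by
      rw [Finset.mem_range]
      omega
    refine dvd_trans ?_ (Finset.dvd_prod_of_mem _ hmem)
    have : a - 1 + 1 = a := by omega
    rw [this]
    exact hr
  obtain ⟨C, hC⟩ := exists_prime_orderOf_dvd_card' r hdvd
  exact ⟨C, hC⟩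

end Cfsg.Agent.Lib.Helper19.PrimeGraphPSL
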