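import Mathlib
import Cfsg.Agent.Lib.Helper19.PrimeGraphPSp7

set_option autoImplicit false

/-!
Cyclic tori of `Sp_{2n}(F)` coming from extension fields: the split type (order dividing
`q^l - 1`) and the twisted type (order dividing `q^a + 1`).
-/

namespace Cfsg.Agent.Lib.Helper19.PrimeGraphPSL

open Matrix Module Cfsg

variable {F : Type*} [Field F] [Fintype F] {n : ℕ}

lemma two_le_pow_of (q a : ℕ) (hq : 2 ≤ q) (ha : 1 ≤ a) : 2 ≤ q ^ a := by
  calc 2 ≤ q := hq
    _ = q ^ 1 := (pow_one q).symm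
    _ ≤ q ^ a := Nat.pow_le_pow_right (by omega) ha

theorem sp_split_torus (p : ℕ) [Fact p.Prime] [CharP F p] (l : ℕ) (hl : 1 ≤ l) (hln : l ≤ n)
    (N : ℕ) (hN : 0 < N) (hdvd : N ∣ Fintype.card F ^ l - 1) :
    ∃ A : Matrix.symplecticGroup (Fin n) F, orderOf A = N := by
  classical
  set q := Fintype.card F with hq
  have hq2 : 2 ≤ q := Fintype.one_lt_card
  have hql := two_le_pow_of q l hq2 hl
  haveI : NeZero l := ⟨by omega⟩
  let K := FiniteField.Extension F p l
  have hfr : Module.finrank F K = l := FiniteField.finrank_extension F p l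
  have hcard : Nat.card K = q ^ l := by
    rw [FiniteField.natCard_extension, Nat.card_eq_fintype_card]
  haveI : Fintype K := Fintype.ofFinite K
  haveI : FiniteDimensional F K := Module.finite_of_finrank_pos (by rw [hfr]; omega)
  obtain ⟨ξ, hξ⟩ := IsCyclic.exists_ofOrder_eq_natCard (α := Kˣ)
  rw [Nat.card_units, hcard] at hξ
  have hξ' : orderOf (ξ : K) = q ^ l - 1 := by rw [orderOf_units, hξ]
  obtain ⟨c, hc⟩ := hdvd
  have hc0 : c ≠ 0 := by
    rintro rfl
    omega
  set ζ : K := (ξ : K) ^ c with hζ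
  have hζord : orderOf ζ = N := by
    rw [hζ, orderOf_pow_of_dvd hc0 (by rw [hξ', hc]; exact dvd_mul_left c N), hξ', hc,
      Nat.mul_div_cancel _ (Nat.pos_of_ne_zero hc0)]
  have hζ0 : ζ ≠ 0 := pow_ne_zero _ ξ.ne_zero
  let B : LinearMap.BilinForm F (K × K) :=
    (Algebra.traceForm F K).comp (LinearMap.fst F K K) (LinearMap.snd F K K) -
      (Algebra.traceForm F K).comp (LinearMap.snd F K K) (LinearMap.fst F K K)
  have hBapp : ∀ x y : K × K, B x y =
      Algebra.trace F K (x.1 * y.2) - Algebra.trace F K (x.2 * y.1) := by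
    intro x y
    show (Algebra.traceForm F K) x.1 y.2 - (Algebra.traceForm F K) x.2 y.1 = _
    rw [Algebra.traceForm_apply, Algebra.traceForm_apply]
  let g : (K × K) →ₗ[F] (K × K) :=
    LinearMap.prodMap (LinearMap.mulLeft F ζ) (LinearMap.mulLeft F ζ⁻¹)
  have hgapp : ∀ x : K × K, g x = (ζ * x.1, ζ⁻¹ * x.2) := fun x => rfl
  have hgpow : ∀ (j : ℕ) (x : K × K), (g ^ j) x = (ζ ^ j * x.1, ζ⁻¹ ^ j * x.2) := by
    intro j
    induction j with
    | zero =>
      intro x
      rw [pow_zero, pow_zero, pow_zero, one_mul, one_mul, Module.End.one_apply]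
    | succ j ih =>
      intro x
      rw [pow_succ, Module.End.mul_apply, hgapp, ih, pow_succ, pow_succ, mul_assoc, mul_assoc]
  have hnd := _root_.traceForm_nondegenerate F K
  apply sp_transfer B
  · intro x
    rw [hBapp, mul_comm, sub_self]
  · constructor
    · intro x hx
      have h1 : x.1 = 0 := by
        apply hnd.1
        intro y
        have := hx (0, y)
        rw [hBapp, mul_zero, map_zero, sub_zero] at this
        rw [Algebra.traceForm_apply]
        exact this
      have h2 : x.2 = 0 := by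
        apply hnd.1
        intro y
        have := hx (y, 0)
        rw [hBapp, mul_zero, map_zero, zero_sub, neg_eq_zero] at this
        rw [Algebra.traceForm_apply]
        exact this
      exact Prod.ext h1 h2
    · intro x hx
      have h1 : x.1 = 0 := by
        apply hnd.2
        intro y
        have := hx (0, y)
        rw [hBapp, zero_mul, map_zero, zero_sub, neg_eq_zero] at this
        rw [Algebra.traceForm_apply]
        exact this
      have h2 : x.2 = 0 := by
        apply hnd.2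
        intro y
        have := hx (y, 0)
        rw [hBapp, zero_mul, map_zero, sub_zero] at this
        rw [Algebra.traceForm_apply]
        exact this
      exact Prod.ext h1 h2
  · rw [Module.finrank_prod, hfr]
    omega
  · intro u v
    rw [hBapp, hBapp, hgapp, hgapp]
    have e1 : ζ * u.1 * (ζ⁻¹ * v.2) = u.1 * v.2 := by
      calc ζ * u.1 * (ζ⁻¹ * v.2) = (ζ * ζ⁻¹) * (u.1 * v.2) := by ring
        _ = u.1 * v.2 := by rw [mul_inv_cancel₀ hζ0, one_mul]
    have e2 : ζ⁻¹ * u.2 * (ζ * v.1) = u.2 * v.1 := by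
      calc ζ⁻¹ * u.2 * (ζ * v.1) = (ζ * ζ⁻¹) * (u.2 * v.1) := by ring
        _ = u.2 * v.1 := by rw [mul_inv_cancel₀ hζ0, one_mul]
    show Algebra.trace F K (ζ * u.1 * (ζ⁻¹ * v.2)) - Algebra.trace F K (ζ⁻¹ * u.2 * (ζ * v.1)) = _
    rw [e1, e2]
  · exact hN
  · intro j hj
    have h1 := hgpow j (1, 0)
    rw [hj, Module.End.one_apply] at h1
    have h2 := congrArg Prod.fst h1
    simp only [mul_one] at h2
    rw [← hζord]
    exact orderOf_dvd_of_pow_eq_one h2.symm

theorem sp_nonsplit_torus (p : ℕ) [Fact p.Prime] [CharP F p] (a : ℕ) (ha : 1 ≤ a) (han : a ≤ n)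
    (N : ℕ) (hN : 0 < N) (hdvd : N ∣ Fintype.card F ^ a + 1) :
    ∃ A : Matrix.symplecticGroup (Fin n) F, orderOf A = N := by
  classical
  set q := Fintype.card F with hq
  have hq2 : 2 ≤ q := Fintype.one_lt_card
  have hqa := two_le_pow_of q a hq2 ha
  haveI : NeZero (2 * a) := ⟨by omega⟩
  let K := FiniteField.Extension F p (2 * a)
  have hfr : Module.finrank F K = 2 * a := FiniteField.finrank_extension F p (2 * a)
  have hcard : Nat.card K = q ^ (2 * a) := by
    rw [FiniteField.natCard_extension, Nat.card_eq_fintype_card]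
  haveI : Fintype K := Fintype.ofFinite K
  have hcard' : Fintype.card K = q ^ (2 * a) := by rw [← Nat.card_eq_fintype_card, hcard]
  haveI : FiniteDimensional F K := Module.finite_of_finrank_pos (by rw [hfr]; omega)
  have hfac : q ^ (2 * a) - 1 = (q ^ a - 1) * (q ^ a + 1) := by
    have h3 : q ^ (2 * a) = q ^ a * q ^ a := by rw [two_mul, pow_add]
    rw [h3]
    zify [(by omega : 1 ≤ q ^ a), (by nlinarith : 1 ≤ q ^ a * q ^ a)]
    ring
  let ψ : K ≃ₐ[F] K := (FiniteField.frobeniusAlgEquivOfAlgebraic F K) ^ a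
  have hψq : ∀ x, ψ x = x ^ (q ^ a) := by
    intro x
    show ((FiniteField.frobeniusAlgEquivOfAlgebraic F K) ^ a) x = _
    rw [AlgEquiv.coe_pow, FiniteField.coe_frobeniusAlgEquivOfAlgebraic_iterate]
  have hψψ : ∀ x, ψ (ψ x) = x := by
    intro x
    rw [hψq, hψq, ← pow_mul, ← pow_add, ← two_mul, ← hcard', FiniteField.pow_card]
  obtain ⟨ξ, hξ⟩ := IsCyclic.exists_ofOrder_eq_natCard (α := Kˣ)
  rw [Nat.card_units, hcard] at hξ
  have hξ' : orderOf (ξ : K) = q ^ (2 * a) - 1 := by rw [orderOf_units, hξ]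
  obtain ⟨c, hc⟩ := hdvd
  have hc0 : c ≠ 0 := by
    rintro rfl
    omega
  set e := (q ^ a - 1) * c with he
  have he0 : e ≠ 0 := Nat.mul_ne_zero (by omega) hc0
  have hNe : q ^ (2 * a) - 1 = N * e := by
    rw [hfac, hc, he]
    ring
  set ζ : K := (ξ : K) ^ e with hζ
  have hζord : orderOf ζ = N := by
    rw [hζ, orderOf_pow_of_dvd he0 (by rw [hξ', hNe]; exact dvd_mul_left e N), hξ', hNe,
      Nat.mul_div_cancel _ (Nat.pos_of_ne_zero he0)]
  have hζψ : ζ * ψ ζ = 1 := by
    rw [hψq, ← pow_succ', hζ, ← pow_mul]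
    have : e * (q ^ a + 1) = (q ^ (2 * a) - 1) * c := by
      rw [hfac, he]
      ring
    rw [this, pow_mul, ← hξ', pow_orderOf_eq_one, one_pow]
  set w₀ : K := (ξ : K) with hw₀
  set θ : K := w₀ - ψ w₀ with hθ
  have hθ0 : θ ≠ 0 := by
    intro h
    have h1 : ψ w₀ = w₀ := (sub_eq_zero.1 h).symm
    rw [hψq] at h1
    have h2 : w₀ ^ (q ^ a - 1) = 1 := by
      have h3 : w₀ ^ (q ^ a - 1) * w₀ = 1 * w₀ := by
        rw [← pow_succ, Nat.sub_add_cancel (by omega), h1, one_mul]
      exact mul_right_cancel₀ ξ.ne_zero h3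
    have h4 := orderOf_dvd_of_pow_eq_one h2
    rw [hξ', hfac] at h4
    have h5 := Nat.le_of_dvd (by omega) h4
    have : (q ^ a - 1) * 2 ≤ (q ^ a - 1) * (q ^ a + 1) := Nat.mul_le_mul_left _ (by omega)
    omega
  let T₁ : LinearMap.BilinForm F K :=
    (Algebra.traceForm F K).comp (LinearMap.mulLeft F w₀) ψ.toLinearMap
  have hT₁ : ∀ x y, T₁ x y = Algebra.trace F K (w₀ * x * ψ y) := by
    intro x y
    show (Algebra.traceForm F K) (w₀ * x) (ψ y) = _
    rw [Algebra.traceForm_apply]
  let B : LinearMap.BilinForm F K := T₁ - LinearMap.flip T₁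
  have hBapp : ∀ x y, B x y =
      Algebra.trace F K (w₀ * x * ψ y) - Algebra.trace F K (w₀ * y * ψ x) := by
    intro x y
    show T₁ x y - T₁ y x = _
    rw [hT₁, hT₁]
  have hBθ : ∀ x y, B x y = Algebra.trace F K (θ * x * ψ y) := by
    intro x y
    rw [hBapp, ← Algebra.trace_eq_of_algEquiv ψ (w₀ * y * ψ x), map_mul ψ, map_mul ψ, hψψ,
      ← map_sub]
    congr 1
    rw [hθ]
    ring
  have hBalt : ∀ x, B x x = 0 := by
    intro x
    rw [hBapp, sub_self]
  have hBskew : ∀ x y, B x y = - B y x := by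
    intro x y
    rw [hBapp, hBapp]
    ring
  let g : K →ₗ[F] K := LinearMap.mulLeft F ζ
  have hgapp : ∀ x : K, g x = ζ * x := fun x => rfl
  have hgpow : ∀ (j : ℕ) (x : K), (g ^ j) x = ζ ^ j * x := by
    intro j
    induction j with
    | zero =>
      intro x
      rw [pow_zero, pow_zero, one_mul, Module.End.one_apply]
    | succ j ih =>
      intro x
      rw [pow_succ, Module.End.mul_apply, hgapp, ih, pow_succ, mul_assoc]
  have hnd := _root_.traceForm_nondegenerate F K
  have hleft : ∀ x, (∀ y, B x y = 0) → x = 0 := by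
    intro x hx
    have h1 : θ * x = 0 := by
      apply hnd.1
      intro z
      have := hx (ψ z)
      rw [hBθ, hψψ] at this
      rw [Algebra.traceForm_apply]
      exact this
    rcases mul_eq_zero.1 h1 with h | h
    · exact absurd h hθ0
    · exact h
  apply sp_transfer B
  · exact hBalt
  · constructor
    · exact hleft
    · intro y hy
      apply hleft
      intro x
      rw [hBskew, hy, neg_zero]
  · rw [hfr]
    omega
  · intro u v
    rw [hBθ, hBθ, hgapp, hgapp, map_mul ψ]
    congr 1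
    calc θ * (ζ * u) * (ψ ζ * ψ v) = (ζ * ψ ζ) * (θ * u * ψ v) := by ring
      _ = θ * u * ψ v := by rw [hζψ, one_mul]
  · exact hN
  · intro j hj
    have h1 := hgpow j 1
    rw [hj, Module.End.one_apply, mul_one] at h1
    rw [← hζord]
    exact orderOf_dvd_of_pow_eq_one h1.symm

end Cfsg.Agent.Lib.Helper19.PrimeGraphPSL
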