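-- A quadratic extension of finite fields with a basis `1, θ` adapted to an anisotropic binary form.
import Mathlib
import Cfsg.Agent.Lib.Helper19.UnitaryOrth

set_option autoImplicit false

namespace Cfsg.Agent.Lib.Helper19.QuadExtSetup

open Cfsg.Agent.Lib.Helper19.UnitaryOrth

theorem exists_setup {K F : Type*} [Field K] [Fintype K] [Field F] [Fintype F] {q : ℕ}
    (hK : Fintype.card K = q ^ 2) (hF : Fintype.card F = q) (a b : F)
    (hab : ∀ z₁ z₂ : F, z₁ ^ 2 + a * z₁ * z₂ + b * z₂ ^ 2 = 0 → z₁ = 0 ∧ z₂ = 0) :
    ∃ (_ : Algebra F K) (b' : Module.Basis (Fin 2) F K) (θ : K), b' 0 = 1 ∧ b' 1 = θ ∧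
      θ ^ 2 - algebraMap F K a * θ + algebraMap F K b = 0 := by
  classical
  have hnoroot : ∀ x : F, x ^ 2 - a * x + b ≠ 0 := by
    intro x hx
    have := (hab (-x) 1 (by linear_combination hx)).2
    exact one_ne_zero this
  let g : Polynomial F := Polynomial.X ^ 2 - Polynomial.C a * Polynomial.X + Polynomial.C b
  have hgdeg : g.natDegree = 2 := by
    unfold g
    compute_degree!
  have hgmonic : g.Monic := by
    unfold g
    monicity!
  have hirr : Irreducible g := by
    apply Polynomial.irreducible_of_degree_le_three_of_not_isRoot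
    · rw [hgdeg]
      simp
    · intro x hx
      apply hnoroot x
      have : g.eval x = 0 := hx
      simpa [g] using this
  haveI : Fact (Irreducible g) := ⟨hirr⟩
  let E := AdjoinRoot g
  have hfrE : Module.finrank F E = 2 := by
    rw [(AdjoinRoot.powerBasis' hgmonic).finrank, AdjoinRoot.powerBasis'_dim, hgdeg]
  haveI : Module.Finite F E := (AdjoinRoot.powerBasis' hgmonic).finite
  haveI : Finite E := Module.finite_of_finite F
  haveI : Fintype E := Fintype.ofFinite E
  have hEcard : Fintype.card E = q ^ 2 := by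
    rw [Module.card_eq_pow_finrank (K := F) (V := E), hfrE, hF]
  let e : K ≃+* E := FiniteField.ringEquivOfCardEq (by rw [hK, hEcard])
  letI alg : Algebra F K := (e.symm.toRingHom.comp (algebraMap F E)).toAlgebra
  let θ : K := e.symm (AdjoinRoot.root g)
  have hmap : ∀ c : F, algebraMap F K c = e.symm (AdjoinRoot.of g c) := by
    intro c
    show e.symm (algebraMap F (AdjoinRoot g) c) = _
    rw [AdjoinRoot.algebraMap_eq]
  have hθ : θ ^ 2 - algebraMap F K a * θ + algebraMap F K b = 0 := by
    have h := AdjoinRoot.eval₂_root g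
    have h2 : (AdjoinRoot.root g) ^ 2 - AdjoinRoot.of g a * AdjoinRoot.root g +
        AdjoinRoot.of g b = 0 := by
      simpa [g, Polynomial.eval₂_add, Polynomial.eval₂_sub, Polynomial.eval₂_mul] using h
    rw [hmap, hmap]
    show e.symm (AdjoinRoot.root g) ^ 2 - e.symm (AdjoinRoot.of g a) * e.symm (AdjoinRoot.root g) +
      e.symm (AdjoinRoot.of g b) = 0
    rw [← map_pow, ← map_mul, ← map_sub, ← map_add, h2, map_zero]
  have hfr : Module.finrank F K = 2 := finrank_eq K hF hK
  have hli : LinearIndependent F ![(1 : K), θ] := by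
    rw [LinearIndependent.pair_iff]
    intro s t hst
    by_cases ht : t = 0
    · subst ht
      rw [zero_smul, add_zero, Algebra.smul_def, mul_one] at hst
      exact ⟨(map_eq_zero (algebraMap F K)).1 hst, rfl⟩
    · exfalso
      have hθs : θ = algebraMap F K (-s / t) := by
        rw [Algebra.smul_def, Algebra.smul_def, mul_one] at hst
        have ht' : algebraMap F K t ≠ 0 := (map_ne_zero (algebraMap F K)).2 ht
        rw [map_div₀, map_neg, eq_div_iff ht']
        linear_combination hst
      apply hnoroot (-s / t)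
      apply (algebraMap F K).injective
      rw [map_zero, ← hθ, hθs]
      simp only [map_add, map_sub, map_mul, map_pow]
  let b' : Module.Basis (Fin 2) F K :=
    basisOfLinearIndependentOfCardEqFinrank hli (by rw [hfr]; simp)
  have hb0 : b' 0 = 1 := by
    simp [b']
  have hb1 : b' 1 = θ := by
    simp [b']
  exact ⟨alg, b', θ, hb0, hb1, hθ⟩

end Cfsg.Agent.Lib.Helper19.QuadExtSetup
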