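import Mathlib
import Cfsg.Agent.Lib.Helper19.QuadStd
import Cfsg.Agent.Lib.Helper19.AnisoPlane

/-!
# Helper19: the order of the isometry group of the elliptic quadratic form

* `card_elliptic_pairs'`: the count of elliptic pairs in an anisotropic plane, with no reference
  to the quadratic extension.
* `card_EP`: the count of elliptic pairs in the complement of a frame.
* `card_isometryGroup_minus`: `|GO⁻_{2n+2}(q)| = |Frames n| * (2 (q + 1))`, with the product
  formula for the number of frames.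
-/

set_option autoImplicit false

namespace Cfsg.Agent.Lib.Helper19.QuadMinus

open QuadraticMap Cfsg.Agent.Lib.Helper19.QuadWitt Cfsg.Agent.Lib.Helper19.QuadStd
open Cfsg.Agent.Lib.Helper19.AnisoPlane

section plane

universe u

variable {F : Type u} [Field F] [Fintype F] {q : ℕ}

/-- A quadratic extension exists. -/
theorem exists_quadratic_ext (hF : Fintype.card F = q) (a b : F)
    (hab : ∀ z₁ z₂ : F, z₁ ^ 2 + a * z₁ * z₂ + b * z₂ ^ 2 = 0 → z₁ = 0 ∧ z₂ = 0) :
    ∃ (K : Type u) (_ : Field K) (_ : Fintype K) (_ : Algebra F K), Fintype.card K = q ^ 2 := by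
  classical
  have hnoroot : ∀ x : F, x ^ 2 - a * x + b ≠ 0 := by
    intro x hx
    have := (hab (-x) 1 (by linear_combination hx)).2
    exact one_ne_zero this
  let g : Polynomial F := Polynomial.X ^ 2 - Polynomial.C a * Polynomial.X + Polynomial.C b
  have hgdeg : g.natDegree = 2 := by
    unfold g
    compute_degree!
  have hgmonic : g.Monic := by
    unfold g
    monicity!
  have hirr : Irreducible g := by
    apply Polynomial.irreducible_of_degree_le_three_of_not_isRoot
    · rw [hgdeg]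
      simp
    · intro x hx
      apply hnoroot x
      have : g.eval x = 0 := hx
      simpa [g] using this
  haveI : Fact (Irreducible g) := ⟨hirr⟩
  have hfrE : Module.finrank F (AdjoinRoot g) = 2 := by
    rw [(AdjoinRoot.powerBasis' hgmonic).finrank, AdjoinRoot.powerBasis'_dim, hgdeg]
  haveI : Module.Finite F (AdjoinRoot g) := (AdjoinRoot.powerBasis' hgmonic).finite
  haveI : Finite (AdjoinRoot g) := Module.finite_of_finite F
  letI : Fintype (AdjoinRoot g) := Fintype.ofFinite _
  refine ⟨AdjoinRoot g, inferInstance, inferInstance, inferInstance, ?_⟩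
  rw [Module.card_eq_pow_finrank (K := F) (V := AdjoinRoot g), hfrE, hF]

variable {W : Type*} [AddCommGroup W] [Module F W]

theorem card_elliptic_pairs' (hF : Fintype.card F = q) (hW : Module.finrank F W = 2)
    (Q : QuadraticForm F W) (haniso : ∀ w, Q w = 0 → w = 0) (a b : F)
    (hab : ∀ z₁ z₂ : F, z₁ ^ 2 + a * z₁ * z₂ + b * z₂ ^ 2 = 0 → z₁ = 0 ∧ z₂ = 0) :
    Nat.card {p : W × W // Q p.1 = 1 ∧ polar ⇑Q p.1 p.2 = a ∧ Q p.2 = b} = 2 * (q + 1) := by
  obtain ⟨K, _, _, _, hK⟩ := exists_quadratic_ext hF a b hab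
  exact card_elliptic_pairs hF hK hW Q haniso a b hab

end plane

section frame

variable {F V : Type*} [Field F] [Fintype F] [AddCommGroup V] [Module F V]
  [FiniteDimensional F V] {Q : QuadraticForm F V} {q : ℕ}

/-- Elliptic pairs in the complement of a frame, in terms of the complement as a space. -/
def epEquiv {k : ℕ} (e f : Fin k → V) (a b : F) :
    EP Q e f a b ≃ {p : ↥(perp Q e f) × ↥(perp Q e f) //
      (Q.comp (perp Q e f).subtype) p.1 = 1 ∧
      polar ⇑(Q.comp (perp Q e f).subtype) p.1 p.2 = a ∧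
      (Q.comp (perp Q e f).subtype) p.2 = b} where
  toFun p := ⟨(⟨p.1.1, p.2.1⟩, ⟨p.1.2, p.2.2.1⟩), p.2.2.2.1, p.2.2.2.2.1, p.2.2.2.2.2⟩
  invFun p := ⟨(p.1.1.1, p.1.2.1), p.1.1.2, p.1.2.2, p.2.1, p.2.2.1, p.2.2.2⟩
  left_inv := by
    rintro ⟨⟨x, y⟩, h⟩
    rfl
  right_inv := by
    rintro ⟨⟨⟨x, hx⟩, ⟨y, hy⟩⟩, h⟩
    rfl

theorem card_EP (hF : Fintype.card F = q) {k : ℕ} {e f : Fin k → V} (h : IsHyp Q e f)
    (hdim : Module.finrank F V = k + k + 2) (hZ : Zp Q e f = 1) (a b : F)
    (hab : ∀ z₁ z₂ : F, z₁ ^ 2 + a * z₁ * z₂ + b * z₂ ^ 2 = 0 → z₁ = 0 ∧ z₂ = 0) :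
    Nat.card (EP Q e f a b) = 2 * (q + 1) := by
  rw [Nat.card_congr (epEquiv e f a b)]
  apply card_elliptic_pairs' hF
  · have := finrank_perp_eq h
    omega
  · rintro ⟨w, hw⟩ hQw
    unfold Zp at hZ
    rw [Nat.card_eq_one_iff_unique] at hZ
    obtain ⟨hsub, -⟩ := hZ
    have := @Subsingleton.elim _ hsub ⟨w, hw, hQw⟩
      ⟨0, Submodule.zero_mem _, QuadraticMap.map_zero _⟩
    apply Subtype.ext
    show w = 0
    exact congrArg Subtype.val this
  · exact hab

end frame

section std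

variable {F : Type*} [Field F] [Fintype F] {q : ℕ}

/-- The complement of the standard frame of the elliptic form is anisotropic. -/
lemma Zp_std_minus (n : ℕ) (a b : F)
    (hab : ∀ z₁ z₂ : F, z₁ ^ 2 + a * z₁ * z₂ + b * z₂ ^ 2 = 0 → z₁ = 0 ∧ z₂ = 0) :
    Zp (stdMinus n F a b)
      (fun i : Fin n => (stdFamId (stdMinus n F a b)).1 (Sum.inl (Sum.inl i)))
      (fun i : Fin n => (stdFamId (stdMinus n F a b)).1 (Sum.inl (Sum.inr i))) = 1 := by
  classical
  unfold Zp
  rw [Nat.card_eq_one_iff_unique]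
  refine ⟨⟨?_⟩, ⟨⟨0, Submodule.zero_mem _, QuadraticMap.map_zero _⟩⟩⟩
  have key : ∀ w : (Fin n ⊕ Fin n) ⊕ Fin 2 → F,
      w ∈ perp (stdMinus n F a b)
        (fun i : Fin n => (stdFamId (stdMinus n F a b)).1 (Sum.inl (Sum.inl i)))
        (fun i : Fin n => (stdFamId (stdMinus n F a b)).1 (Sum.inl (Sum.inr i))) →
      stdMinus n F a b w = 0 → w = 0 := by
    intro w hw hQ
    have h1 : ∀ i, w (Sum.inl (Sum.inr i)) = 0 := by
      intro i
      have := (hw i).1
      rw [polar_stdMinus] at this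
      simpa [stdFamId, Pi.single_apply] using this
    have h2 : ∀ i, w (Sum.inl (Sum.inl i)) = 0 := by
      intro i
      have := (hw i).2
      rw [polar_stdMinus] at this
      simpa [stdFamId, Pi.single_apply] using this
    rw [stdMinus_apply] at hQ
    unfold Cfsg.quadFormMinus at hQ
    simp only [h1, h2, mul_zero, Finset.sum_const_zero, zero_add] at hQ
    obtain ⟨h3, h4⟩ := hab _ _ hQ
    funext s
    rcases s with (i | i) | i
    · exact h2 i
    · exact h1 i
    · fin_cases i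
      · exact h3
      · exact h4
  rintro ⟨x, hx, hx'⟩ ⟨y, hy, hy'⟩
  apply Subtype.ext
  show x = y
  rw [key x hx hx', key y hy hy']

lemma finrank_minus (n : ℕ) :
    Module.finrank F ((Fin n ⊕ Fin n) ⊕ Fin 2 → F) = n + n + 2 := by
  rw [Module.finrank_fintype_fun_eq_card, Fintype.card_sum, Fintype.card_sum, Fintype.card_fin,
    Fintype.card_fin]

/-- The order of the isometry group of the elliptic form, given the numeric data. -/
theorem card_isometryGroup_minus (hF : Fintype.card F = q) (n : ℕ) (a b : F)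
    (hab : ∀ z₁ z₂ : F, z₁ ^ 2 + a * z₁ * z₂ + b * z₂ ^ 2 = 0 → z₁ = 0 ∧ z₂ = 0)
    (ζ : ℕ → ℕ) (hζn : ζ n = 1)
    (hrec : ∀ k, k < n → ζ k = q * ζ (k + 1) + (q - 1) * q ^ (n + n + 2 - (k + 1 + (k + 1)))) :
    Nat.card (Cfsg.isometryGroup F (Cfsg.quadFormMinus n F a b)) =
      (∏ i ∈ Finset.range n, ((ζ i - 1) * q ^ (n + n + 2 - (i + 1 + (i + 1))))) *
        (2 * (q + 1)) := by
  classical
  have hnd := stdMinus_nondeg (F := F) n hab
  rw [← coe_stdMinus, card_isometryGroup_eq _ hnd, Nat.card_congr (minusFamEquiv n a b)]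
  have hE := (stdFamId (stdMinus n F a b)).minus_isHyp
  have hζm : ζ n = Zp (stdMinus n F a b)
      (fun i : Fin n => (stdFamId (stdMinus n F a b)).1 (Sum.inl (Sum.inl i)))
      (fun i : Fin n => (stdFamId (stdMinus n F a b)).1 (Sum.inl (Sum.inr i))) := by
    rw [Zp_std_minus n a b hab, hζn]
  have hrec' : ∀ k, k < n → ζ k = Fintype.card F * ζ (k + 1) + (Fintype.card F - 1) *
      Fintype.card F ^ (Module.finrank F ((Fin n ⊕ Fin n) ⊕ Fin 2 → F) - (k + 1 + (k + 1))) := by
    intro k hk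
    rw [hF, finrank_minus]
    exact hrec k hk
  have hZall : ∀ fr : Frames (stdMinus n F a b) n, Zp (stdMinus n F a b) fr.1.1 fr.1.2 = 1 := by
    intro fr
    rw [Zp_eq_of_ref hE ζ hζm hrec' le_rfl fr.2, hζn]
  haveI : ∀ fr : Frames (stdMinus n F a b) n,
      Finite (EP (stdMinus n F a b) fr.1.1 fr.1.2 a b) := by
    intro fr
    unfold EP
    infer_instance
  rw [card_sigma_const (2 * (q + 1))
    (fun fr => card_EP hF fr.2 (finrank_minus n) (hZall fr) a b hab)]
  have key := card_frames hnd hE ζ hζm hrec' n le_rfl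
  rw [key, hF, finrank_minus]

end std

end Cfsg.Agent.Lib.Helper19.QuadMinus
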