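import Mathlib
import Cfsg.Agent.Lib.Helper19.QuadFrames

/-!
# Helper19: totally singular subspaces and hyperbolic frames

* `polar_eq_zero_of_ts`: vectors of a totally singular subspace are orthogonal.
* `exists_frame_in`: a totally singular subspace `X` of a non-degenerate quadratic space contains
  the `e`-part of a hyperbolic `j`-frame for every `j ≤ dim X`.
* `IsHyp.e_linearIndependent`, `span_e_singular`, `finrank_span_e`.
-/

set_option autoImplicit false

namespace Cfsg.Agent.Lib.Helper19.QuadWitt

open QuadraticMap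

section ts

variable {F V : Type*} [Field F] [AddCommGroup V] [Module F V] {Q : QuadraticForm F V}

lemma polar_eq_zero_of_ts {X : Submodule F V} (hX : ∀ x ∈ X, Q x = 0) {x y : V} (hx : x ∈ X)
    (hy : y ∈ X) : polar ⇑Q x y = 0 := by
  unfold polar
  rw [hX _ (X.add_mem hx hy), hX x hx, hX y hy]
  simp

lemma IsHyp.e_linearIndependent {k : ℕ} {e f : Fin k → V} (h : IsHyp Q e f) :
    LinearIndependent F e := by
  have := h.linearIndependent.comp (Sum.inl : Fin k → Fin k ⊕ Fin k) Sum.inl_injective
  exact this

lemma span_e_singular {k : ℕ} {e f : Fin k → V} (h : IsHyp Q e f) :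
    ∀ w ∈ Submodule.span F (Set.range e), Q w = 0 := by
  intro w hw
  obtain ⟨a, rfl⟩ := (Submodule.mem_span_range_iff_exists_fun F).1 hw
  exact Q_sum_e h a Finset.univ

lemma finrank_span_e {k : ℕ} {e f : Fin k → V} (h : IsHyp Q e f) :
    Module.finrank F (Submodule.span F (Set.range e)) = k := by
  rw [finrank_span_eq_card h.e_linearIndependent, Fintype.card_fin]

/-- The other frame: swap the roles of the last pair. -/
lemma IsHyp.swap {k : ℕ} {e f : Fin k → V} (h : IsHyp Q e f) : IsHyp Q f e :=
  ⟨h.Qf, h.Qe, fun i j => by rw [polar_comm, h.ef]; simp [eq_comm], h.ff, h.ee⟩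

end ts

section frame

variable {F V : Type*} [Field F] [AddCommGroup V] [Module F V] [FiniteDimensional F V]
  {Q : QuadraticForm F V}

theorem exists_frame_in (hQ : (polarBilin Q).Nondegenerate) (X : Submodule F V)
    (hX : ∀ x ∈ X, Q x = 0) : ∀ j, j ≤ Module.finrank F X →
    ∃ e f : Fin j → V, IsHyp Q e f ∧ ∀ i, e i ∈ X := by
  intro j
  induction j with
  | zero =>
    intro _
    exact ⟨fun i => i.elim0, fun i => i.elim0, isHyp_zero _ _, fun i => i.elim0⟩
  | succ j ih =>
    intro hj
    obtain ⟨e, f, h, he⟩ := ih (by omega)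
    -- a vector of `X` outside the span of `e`
    have hex : ∃ x₀ ∈ X, x₀ ∉ Submodule.span F (Set.range e) := by
      by_contra hcon
      push Not at hcon
      have hle : X ≤ Submodule.span F (Set.range e) := hcon
      have h1 := Submodule.finrank_mono hle
      rw [finrank_span_e h] at h1
      omega
    obtain ⟨x₀, hx₀, hx₀n⟩ := hex
    have hpe : ∀ i, polar ⇑Q x₀ (e i) = 0 := fun i => polar_eq_zero_of_ts hX hx₀ (he i)
    have hproj : proj Q e f x₀ = x₀ - ∑ i, polar ⇑Q x₀ (f i) • e i := by
      unfold proj
      congr 1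
      apply Finset.sum_congr rfl
      intro i _
      rw [hpe, zero_smul, add_zero]
    have hsumX : ∑ i, polar ⇑Q x₀ (f i) • e i ∈ X :=
      X.sum_mem (fun i _ => X.smul_mem _ (he i))
    set x := proj Q e f x₀ with hx
    have hxX : x ∈ X := by
      rw [hproj]
      exact X.sub_mem hx₀ hsumX
    have hx0 : x ≠ 0 := by
      intro h0
      apply hx₀n
      rw [hproj, sub_eq_zero] at h0
      rw [h0]
      exact Submodule.sum_mem _ (fun i _ => Submodule.smul_mem _ _
        (Submodule.subset_span (Set.mem_range_self i)))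
    have hxperp : x ∈ perp Q e f := proj_mem h x₀
    obtain ⟨y, hy, hQy, hxy⟩ := exists_partner hQ h hxperp hx0 (hX x hxX)
    refine ⟨Fin.snoc e x, Fin.snoc f y, h.snoc hxperp hy (hX x hxX) hQy hxy, ?_⟩
    intro i
    induction i using Fin.lastCases with
    | last => simpa using hxX
    | cast i => simpa using he i

end frame

end Cfsg.Agent.Lib.Helper19.QuadWitt
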