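-- Elements of `SL₂` that are central modulo `±1` are central.
import Mathlib

set_option autoImplicit false

namespace Cfsg.Agent.Lib.Helper19.SL2Cen

open Matrix

variable {F : Type*} [Field F]

theorem scalar_mem_center (x : Matrix.SpecialLinearGroup (Fin 2) F)
    (h01 : x.1 0 1 = 0) (h10 : x.1 1 0 = 0) (hd : x.1 0 0 = x.1 1 1) :
    x ∈ Subgroup.center (Matrix.SpecialLinearGroup (Fin 2) F) := by
  rw [Subgroup.mem_center_iff]
  intro s
  apply Subtype.ext
  rw [Matrix.SpecialLinearGroup.coe_mul, Matrix.SpecialLinearGroup.coe_mul]
  ext i j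
  fin_cases i <;> fin_cases j <;>
    simp [Matrix.mul_apply, Fin.sum_univ_two, h01, h10, hd] <;> ring

theorem center_of_comm_pm (x : Matrix.SpecialLinearGroup (Fin 2) F)
    (h : ∀ s : Matrix.SpecialLinearGroup (Fin 2) F,
      (x * s * x⁻¹ * s⁻¹).1 = 1 ∨ (x * s * x⁻¹ * s⁻¹).1 = -1) :
    x ∈ Subgroup.center (Matrix.SpecialLinearGroup (Fin 2) F) := by
  have hkey : ∀ s : Matrix.SpecialLinearGroup (Fin 2) F,
      x.1 * s.1 = s.1 * x.1 ∨ x.1 * s.1 = -(s.1 * x.1) := by
    intro s
    have e : (x * s * x⁻¹ * s⁻¹) * (s * x) = x * s := by group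
    have e' : (x * s * x⁻¹ * s⁻¹).1 * (s.1 * x.1) = x.1 * s.1 := by
      rw [← Matrix.SpecialLinearGroup.coe_mul, ← Matrix.SpecialLinearGroup.coe_mul,
        ← Matrix.SpecialLinearGroup.coe_mul, e]
    rcases h s with h1 | h1
    · left; rw [← e', h1, one_mul]
    · right; rw [← e', h1, neg_mul, one_mul]
  have hdet : x.1 0 0 * x.1 1 1 - x.1 0 1 * x.1 1 0 = 1 := by
    have := x.2
    rw [Matrix.det_fin_two] at this
    exact this
  by_cases h2 : (2 : F) = 0
  · -- characteristic two: -1 = 1
    have hneg : ∀ M : Matrix (Fin 2) (Fin 2) F, -M = M := by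
      intro M
      have : M + M = 0 := by
        rw [← two_smul F M, h2, zero_smul]
      exact neg_eq_of_add_eq_zero_left this
    rw [Subgroup.mem_center_iff]
    intro s
    apply Subtype.ext
    rw [Matrix.SpecialLinearGroup.coe_mul, Matrix.SpecialLinearGroup.coe_mul]
    rcases hkey s with h1 | h1
    · exact h1.symm
    · rw [hneg] at h1; exact h1.symm
  · have k1 := hkey (Matrix.SpecialLinearGroup.transvection (zero_ne_one : (0 : Fin 2) ≠ 1) (1 : F))
    have k2 := hkey (Matrix.SpecialLinearGroup.transvection (one_ne_zero : (1 : Fin 2) ≠ 0) (1 : F))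
    rw [Matrix.SpecialLinearGroup.transvection_coe] at k1 k2
    have h10 : x.1 1 0 = 0 ∧ x.1 0 0 = x.1 1 1 := by
      rcases k1 with k | k
      · have a := congrFun (congrFun k 0) 0
        have b := congrFun (congrFun k 0) 1
        simp [Matrix.mul_apply, Fin.sum_univ_two, Matrix.add_apply, Matrix.one_apply,
          Matrix.single_apply] at a b
        exact ⟨a, by linear_combination b⟩
      · exfalso
        have a := congrFun (congrFun k 0) 0
        have b := congrFun (congrFun k 1) 0
        simp [Matrix.mul_apply, Fin.sum_univ_two, Matrix.add_apply, Matrix.one_apply,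
          Matrix.single_apply] at a b
        have hg : x.1 1 0 = 0 := by
          have : (2 : F) * x.1 1 0 = 0 := by linear_combination b
          rcases mul_eq_zero.1 this with h | h
          · exact absurd h h2
          · exact h
        have ha : x.1 0 0 = 0 := by
          have : (2 : F) * x.1 0 0 = 0 := by rw [hg] at a; linear_combination a
          rcases mul_eq_zero.1 this with h | h
          · exact absurd h h2
          · exact h
        rw [ha, hg] at hdet
        simp at hdet
    have h01 : x.1 0 1 = 0 := by
      rcases k2 with k | k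
      · have a := congrFun (congrFun k 0) 0
        simp [Matrix.mul_apply, Fin.sum_univ_two, Matrix.add_apply, Matrix.one_apply,
          Matrix.single_apply] at a
        exact a
      · exfalso
        have a := congrFun (congrFun k 0) 1
        have b := congrFun (congrFun k 1) 1
        simp [Matrix.mul_apply, Fin.sum_univ_two, Matrix.add_apply, Matrix.one_apply,
          Matrix.single_apply] at a b
        have hb : x.1 0 1 = 0 := by
          have : (2 : F) * x.1 0 1 = 0 := by linear_combination a
          rcases mul_eq_zero.1 this with h | h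
          · exact absurd h h2
          · exact h
        have hd : x.1 1 1 = 0 := by
          have : (2 : F) * x.1 1 1 = 0 := by rw [hb] at b; linear_combination b
          rcases mul_eq_zero.1 this with h | h
          · exact absurd h h2
          · exact h
        rw [hd, hb] at hdet
        simp at hdet
    exact scalar_mem_center x h01 h10.1 h10.2

end Cfsg.Agent.Lib.Helper19.SL2Cen
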