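import Mathlib
import Cfsg.Agent.Lib.Helper24.USim2
import Cfsg.Agent.S2365

set_option autoImplicit false

namespace Cfsg.Agent.Lib.Helper19.SingerOrd

open Matrix Module Cfsg Cfsg.Agent.S2365 Cfsg.Agent.Lib.Helper27.Unitary
  Cfsg.Agent.Lib.Helper24.USim

variable {F : Type*} [Field F] [Fintype F] {q n : ℕ}

lemma orderOf_mk_eq_Un (X : ↥(Cfsg.SU n F q)) (N : ℕ)
    (h : ∀ j, X ^ j ∈ Subgroup.center ↥(Cfsg.SU n F q) ↔ N ∣ j) :
    orderOf (QuotientGroup.mk X : Cfsg.PSU n F q) = N := by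
  apply Nat.dvd_antisymm
  · apply orderOf_dvd_of_pow_eq_one
    rw [← QuotientGroup.mk_pow, QuotientGroup.eq_one_iff]
    exact (h N).2 dvd_rfl
  · apply (h _).1
    rw [← QuotientGroup.eq_one_iff, QuotientGroup.mk_pow]
    exact pow_orderOf_eq_one _

/-- Transfer: a determinant-one matrix preserving some Hermitian form gives an element of
`PSU_n(q)` with the same pattern of scalar powers. -/
theorem exists_orderOf_Un (hF : Fintype.card F = q ^ 2) (hn : 2 ≤ n)
    (f : (Fin n → F) → (Fin n → F) → F) (hf : HForm q f)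
    (A : Matrix (Fin n) (Fin n) F) (hdet : A.det = 1)
    (hA : ∀ u v, f (A *ᵥ u) (A *ᵥ v) = f u v) (t : ℕ)
    (ht : ∀ j : ℕ, (∃ c : F, A ^ j = c • 1) ↔ t ∣ j) :
    ∃ g : Cfsg.PSU n F q, orderOf g = t := by
  classical
  obtain ⟨Pg, hPg⟩ := exists_std hF hf
  set P : Matrix (Fin n) (Fin n) F := (Pg : Matrix (Fin n) (Fin n) F) with hP
  set Pi : Matrix (Fin n) (Fin n) F := ((Pg⁻¹ : GL (Fin n) F) : Matrix (Fin n) (Fin n) F) with hPi
  have hPPi : P * Pi = 1 := by
    rw [hP, hPi, ← Units.val_mul, mul_inv_cancel, Units.val_one]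
  have hPiP : Pi * P = 1 := by
    rw [hP, hPi, ← Units.val_mul, inv_mul_cancel, Units.val_one]
  set M := Pi * A * P with hM
  have hMdet : M.det = 1 := by
    rw [hM, Matrix.det_mul, Matrix.det_mul, hdet, mul_one, ← Matrix.det_mul, hPiP, Matrix.det_one]
  have hMpow : ∀ j : ℕ, M ^ j = Pi * A ^ j * P := by
    intro j
    induction j with
    | zero => rw [pow_zero, pow_zero, mul_one, hPiP]
    | succ j ih =>
      rw [pow_succ, ih, hM, pow_succ]
      calc Pi * A ^ j * P * (Pi * A * P) = Pi * A ^ j * (P * Pi) * A * P := by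
            simp only [mul_assoc]
        _ = Pi * (A ^ j * A) * P := by rw [hPPi, mul_one, mul_assoc Pi]
  have hPM : ∀ w : Fin n → F, P *ᵥ (M *ᵥ w) = A *ᵥ (P *ᵥ w) := by
    intro w
    rw [Matrix.mulVec_mulVec, Matrix.mulVec_mulVec, hM, ← mul_assoc, ← mul_assoc, hPPi, one_mul]
  have hMpres : ∀ u v, hermForm n F q (M *ᵥ u) (M *ᵥ v) = hermForm n F q u v := by
    intro u v
    rw [← hPg, ← hPg u v, hPM, hPM, hA]
  let X₀ : Matrix.SpecialLinearGroup (Fin n) F := ⟨M, hMdet⟩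
  have hmem : X₀ ∈ Cfsg.SU n F q := by
    intro u v
    exact hMpres u v
  let X : ↥(Cfsg.SU n F q) := ⟨X₀, hmem⟩
  have hmatX : mat X = M := rfl
  refine ⟨QuotientGroup.mk X, ?_⟩
  apply orderOf_mk_eq_Un
  intro j
  constructor
  · intro hj
    obtain ⟨c, hc⟩ := center_scalar hF hn _ hj
    rw [mat_pow, hmatX, hMpow] at hc
    apply (ht j).1
    refine ⟨c, ?_⟩
    have h1 : A ^ j = P * (Pi * A ^ j * P) * Pi := by
      calc A ^ j = (P * Pi) * A ^ j * (P * Pi) := by rw [hPPi, one_mul, mul_one]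
        _ = P * (Pi * A ^ j * P) * Pi := by simp only [mul_assoc]
    rw [h1, hc, Matrix.mul_smul, Matrix.smul_mul, mul_one, hPPi]
  · intro hj
    obtain ⟨c, hc⟩ := (ht j).2 hj
    apply center_of_scalar _ c
    rw [mat_pow, hmatX, hMpow, hc, Matrix.mul_smul, Matrix.smul_mul, mul_one, hPiP]

end Cfsg.Agent.Lib.Helper19.SingerOrd
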