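import Mathlib
import Cfsg.Agent.S2365
import Cfsg.Agent.Lib.Helper19.SpecThree4

set_option autoImplicit false

namespace Cfsg.Agent.Lib.Helper19.SpecThree

open Matrix Module Cfsg Cfsg.Agent.Lib.Helper19.UnitaryEig Cfsg.Agent.Lib.Helper19.PrimeGraphPSL
  Cfsg.Agent.S2365 Cfsg.Agent.Lib.Helper27.Unitary

section ArithU

lemma tau3U {E : Type*} [Field E] (q d s' M₃ : ℕ) (hq : q + 1 = d * s')
    (hM : q * q + 1 = M₃ * d + q) (z : E) (hz : z ≠ 0)
    (h : z * (z ^ q)⁻¹ * (((z ^ q)⁻¹) ^ q)⁻¹ = 1) :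
    ((z ^ q)⁻¹) ^ M₃ = z ^ M₃ ∧ ((((z ^ q)⁻¹) ^ q)⁻¹) ^ M₃ = z ^ M₃ := by
  have hzq : z ^ q ≠ 0 := pow_ne_zero _ hz
  have h1 : z * z ^ (q * q) = z ^ q := by
    rw [inv_pow, inv_inv, ← pow_mul] at h
    field_simp at h
    exact h
  have hT : z ^ (M₃ * d) = 1 := by
    have h2 : z ^ q * z ^ (M₃ * d) = z ^ q * 1 := by
      rw [← pow_add, add_comm, ← hM, mul_one, pow_succ, mul_comm]
      exact h1
    exact mul_left_cancel₀ hzq h2
  have hTk : ∀ k, z ^ (k * (M₃ * d)) = 1 := by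
    intro k
    rw [mul_comm, pow_mul, hT, one_pow]
  constructor
  · have h3 : z ^ (q * M₃) * z ^ M₃ = 1 := by
      rw [← pow_add]
      have : q * M₃ + M₃ = s' * (M₃ * d) := by
        have : q * M₃ + M₃ = (q + 1) * M₃ := by ring
        rw [this, hq]
        ring
      rw [this, hTk]
    rw [inv_pow, ← pow_mul]
    exact inv_eq_of_mul_eq_one_right h3
  · have hττ : (((z ^ q)⁻¹) ^ q)⁻¹ = z ^ (q * q) := by
      rw [inv_pow, inv_inv, ← pow_mul]
    rw [hττ, ← pow_mul]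
    have h4 : z ^ (q * q * M₃) * z ^ (s' * (M₃ * d)) = z ^ M₃ * z ^ (q * s' * (M₃ * d)) := by
      rw [← pow_add, ← pow_add]
      congr 1
      have e1 : s' * (M₃ * d) = (q + 1) * M₃ := by rw [hq]; ring
      have e2 : q * s' * (M₃ * d) = q * ((q + 1) * M₃) := by rw [hq]; ring
      rw [e1, e2]
      ring
    rw [hTk, hTk, mul_one, mul_one] at h4
    rw [mul_assoc]
    rw [mul_assoc] at h4
    exact h4

lemma arithU1 (q : ℕ) (hq : 2 ≤ q) : q ^ 2 - 1 = (q + 1) * (q - 1) := by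
  obtain ⟨s, rfl⟩ : ∃ s, q = s + 1 := ⟨q - 1, by omega⟩
  rw [Nat.add_sub_cancel]
  have : (s + 1) ^ 2 = (s + 1 + 1) * s + 1 := by ring
  omega

lemma arithU2 (q : ℕ) (hq : 2 ≤ q) : q ^ 2 - q + 1 = (q + 1) * (q - 2) + 3 := by
  obtain ⟨s, rfl⟩ : ∃ s, q = s + 2 := ⟨q - 2, by omega⟩
  have h1 : (s + 2) ^ 2 + 1 = (s + 2 + 1) * s + 3 + (s + 2) := by ring
  rw [Nat.add_sub_cancel]
  omega

end ArithU

variable {F : Type*} [Field F] [Fintype F]

lemma orderOf_mk_eq_U {q : ℕ} (X : ↥(Cfsg.SU 3 F q)) (N : ℕ)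
    (h : ∀ j, X ^ j ∈ Subgroup.center ↥(Cfsg.SU 3 F q) ↔ N ∣ j) :
    orderOf (QuotientGroup.mk X : Cfsg.PSU 3 F q) = N := by
  apply Nat.dvd_antisymm
  · apply orderOf_dvd_of_pow_eq_one
    rw [← QuotientGroup.mk_pow, QuotientGroup.eq_one_iff]
    exact (h N).2 dvd_rfl
  · apply (h _).1
    rw [← QuotientGroup.eq_one_iff, QuotientGroup.mk_pow]
    exact pow_orderOf_eq_one _

/-- The possible element orders of `PSU_3(q)`. -/
theorem psu_sub (p : ℕ) [Fact p.Prime] [CharP F p] (hp2 : p ≠ 2) (q : ℕ)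
    (hF : Fintype.card F = q ^ 2) (g : Cfsg.PSU 3 F q) :
    orderOf g ∣ q + 1 ∨ orderOf g ∣ (q ^ 2 - 1) / Nat.gcd 3 (q + 1) ∨
      orderOf g ∣ (q ^ 2 - q + 1) / Nat.gcd 3 (q + 1) ∨
      orderOf g ∣ p * ((q + 1) / Nat.gcd 3 (q + 1)) := by
  classical
  have hp : p.Prime := Fact.out
  obtain ⟨k, hk⟩ : ∃ k, q = p ^ k := by
    obtain ⟨e, -, he⟩ := FiniteField.card F p
    have hdvd : q ∣ p ^ (e : ℕ) := by
      rw [← he, hF]
      exact dvd_pow_self q (by norm_num)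
    obtain ⟨k, -, hk⟩ := (Nat.dvd_prime_pow hp).1 hdvd
    exact ⟨k, hk⟩
  subst hk
  have hq2 : 2 ≤ p ^ k := two_le_q hF
  haveI : Finite (Cfsg.PSU 3 F (p ^ k)) := by
    haveI : Finite ↥(Cfsg.SU 3 F (p ^ k)) := inferInstance
    infer_instance
  obtain ⟨X₀, rfl⟩ := QuotientGroup.mk_surjective g
  set o := orderOf (QuotientGroup.mk X₀ : Cfsg.PSU 3 F (p ^ k)) with ho
  have hopos : 0 < o := orderOf_pos _
  have hord : ∀ j, (∃ c : F, (mat X₀) ^ j = c • 1) ↔ o ∣ j := by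
    intro j
    rw [ho, orderOf_dvd_iff_pow_eq_one, ← QuotientGroup.mk_pow, QuotientGroup.eq_one_iff,
      ← mat_pow]
    constructor
    · rintro ⟨c, hc⟩
      exact center_of_scalar _ c hc
    · intro h
      exact center_scalar hF (by norm_num) _ h
  have hq0 : p ^ k ≠ 0 := pow_ne_zero _ hp.ne_zero
  have hXU : IsU (iterateFrobenius F p k) (mat X₀) := unitary_matrix p k hq0 X₀
  let E := AlgebraicClosure F
  let ι : F →+* E := algebraMap F E
  haveI : CharP E p := charP_of_injective_algebraMap ι.injective p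
  set σ : E →+* E := iterateFrobenius E p k with hσ
  have hσq : ∀ z, σ z = z ^ (p ^ k) := by
    intro z
    rw [hσ, iterateFrobenius_def]
  have hqpos : 0 < p ^ k := by omega
  have hσsurj : Function.Surjective σ := by
    intro z
    obtain ⟨t, ht⟩ := IsAlgClosed.exists_pow_nat_eq z hqpos
    exact ⟨t, by rw [hσq, ht]⟩
  have hΦU : IsU σ (ι.mapMatrix (mat X₀)) := by
    unfold IsU at hXU ⊢
    have h1 := congrArg ι.mapMatrix hXU
    rw [map_one, map_mul] at h1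
    rw [← h1]
    congr 1
    ext i j
    show iterateFrobenius E p k (ι ((mat X₀) i j)) = ι (iterateFrobenius F p k ((mat X₀) i j))
    rw [iterateFrobenius_def, iterateFrobenius_def, map_pow]
  have hmono : ∀ (j : ℕ) (x : E), x ≠ 0 →
      finrank E ((toEnd ((ι.mapMatrix (mat X₀)) ^ j)).eigenspace x) ≤
        finrank E ((toEnd ((ι.mapMatrix (mat X₀)) ^ j)).eigenspace
          ((fun z : E => (z ^ (p ^ k))⁻¹) x)) := by
    intro j x hx
    have h4 := nul_pair σ hσsurj ((ι.mapMatrix (mat X₀)) ^ j) (isU_pow σ hΦU j) x hx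
    rw [nul_eq, nul_eq, hσq] at h4
    exact h4
  have hdq : Nat.gcd 3 ((p ^ k) + 1) ∣ (p ^ k) + 1 := Nat.gcd_dvd_right _ _
  have hd3 : Nat.gcd 3 ((p ^ k) + 1) ∣ 3 := Nat.gcd_dvd_left _ _
  obtain ⟨s', hs'⟩ := hdq
  have hdq2 : Nat.gcd 3 ((p ^ k) + 1) ∣ (p ^ k) ^ 2 - 1 := by
    rw [arithU1 _ hq2]
    exact (Nat.gcd_dvd_right _ _).trans (Dvd.intro _ rfl)
  have hT : (p ^ k) ^ 2 - (p ^ k) + 1 = ((p ^ k) + 1) * ((p ^ k) - 2) + 3 := arithU2 _ hq2
  have hdT : Nat.gcd 3 ((p ^ k) + 1) ∣ (p ^ k) ^ 2 - (p ^ k) + 1 := by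
    rw [hT]
    exact Dvd.dvd.add ((Nat.gcd_dvd_right _ _).trans (Dvd.intro _ rfl)) hd3
  have hqq : (p ^ k) ≤ (p ^ k) ^ 2 := by nlinarith
  have hcore := spectrum_core p ι (fun z : E => (z ^ (p ^ k))⁻¹)
    (by
      intro a b h
      apply σ.injective
      rw [hσq, hσq]
      exact inv_injective h)
    ((p ^ k) + 1) (((p ^ k) ^ 2 - 1) / Nat.gcd 3 ((p ^ k) + 1)) (((p ^ k) ^ 2 - (p ^ k) + 1) / Nat.gcd 3 ((p ^ k) + 1))
    (Nat.gcd 3 ((p ^ k) + 1))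
    (by
      intro z j
      show ((z ^ j) ^ (p ^ k))⁻¹ = ((z ^ (p ^ k))⁻¹) ^ j
      rw [inv_pow, ← pow_mul, ← pow_mul, mul_comm])
    (by
      intro z hz (h : (z ^ (p ^ k))⁻¹ = z)
      rw [pow_succ]
      nth_rewrite 2 [← h]
      exact mul_inv_cancel₀ (pow_ne_zero _ hz))
    (by
      intro z hz (h : (((z ^ (p ^ k))⁻¹) ^ (p ^ k))⁻¹ = z)
      rw [Nat.div_mul_cancel hdq2]
      rw [inv_pow, inv_inv, ← pow_mul] at h
      have h5 : z ^ ((p ^ k) ^ 2 - 1) * z = 1 * z := by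
        rw [← pow_succ, Nat.sub_add_cancel (Nat.one_le_pow _ _ hqpos), one_mul, pow_two, h]
      exact mul_right_cancel₀ hz h5)
    (by
      intro z hz (h : z * (z ^ (p ^ k))⁻¹ * (((z ^ (p ^ k))⁻¹) ^ (p ^ k))⁻¹ = 1)
      refine tau3U (p ^ k) _ s' _ hs' ?_ z hz h
      rw [Nat.div_mul_cancel hdT]
      have : (p ^ k) * (p ^ k) = (p ^ k) ^ 2 := (pow_two (p ^ k)).symm
      omega)
    (by
      intro w hw
      show (w ^ (p ^ k))⁻¹ = w
      have h1 : w ^ (p ^ k) * w = 1 := by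
        rw [← pow_succ, hs', pow_mul, hw, one_pow]
      exact inv_eq_of_mul_eq_one_right h1)
    hd3 (Nat.gcd_dvd_right _ _) (mat X₀) (mat_det X₀) hmono o hopos hord
  rcases hcore with h | h | h | h | h
  · left; exact h
  · right; left; exact h
  · right; right; left; exact h
  · right; right; right; exact h
  · exact absurd h.1 hp2

end Cfsg.Agent.Lib.Helper19.SpecThree
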