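import Mathlib
import Cfsg.Agent.Lib.Helper19.SingerOrd2
import Cfsg.Agent.Lib.Helper19.SpecThreeU1
import Cfsg.Agent.Lib.Helper19.UnitaryEig5

set_option autoImplicit false

/-!
Unitary analogue of `singer_core`: a unitary matrix of determinant one whose order modulo scalars
is divisible by a suitable primitive prime divisor has eigenvalues forming two Frobenius orbits
`λ^(Q^i)` and `λ^(-q Q^i)`.
-/

namespace Cfsg.Agent.Lib.Helper19.SingerOrd

open Matrix Module Cfsg.Agent.Lib.Helper19.UnitaryEig Cfsg.Agent.Lib.Helper19.PrimeGraphPSL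
  Cfsg.Agent.Lib.Helper19.SpecThree

variable {F : Type*} [Field F] [Fintype F]

theorem singerU_core (p : ℕ) [Fact p.Prime] [CharP F p] (k m : ℕ)
    (hF : Fintype.card F = (p ^ k) ^ 2) (hq2 : 2 ≤ p ^ k) (hm : 1 ≤ m)
    (X : Matrix (Fin (m + m)) (Fin (m + m)) F) (hdet : X.det = 1)
    (hU : IsU (iterateFrobenius F p k) X) (N : ℕ) (hN : 0 < N) (hNp : ¬ p ∣ N)
    (hX : ∀ j, (∃ c : F, X ^ j = c • 1) ↔ N ∣ j)
    (r : ℕ) (hr : r.Prime) (hrN : r ∣ N) (hrq1 : ¬ r ∣ (p ^ k) ^ 2 - 1)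
    (hrn : ∀ j, r ∣ ((p ^ k) ^ 2) ^ j - 1 → m ∣ j)
    (hneg : ∀ j, ¬ r ∣ (p ^ k) ^ (2 * j + 1) + 1) :
    ∃ o : ℕ, o ∣ (∑ i ∈ Finset.range m, ((p ^ k) ^ 2) ^ i) * (p ^ k - 1) ∧
      o = N * Nat.gcd o (p ^ k + 1) := by
  classical
  have hp : p.Prime := Fact.out
  haveI : Fact r.Prime := ⟨hr⟩
  set q := p ^ k with hqdef
  clear_value q
  set Q := q ^ 2 with hQdef
  clear_value Q
  have hQ2 : 2 ≤ Q := by
    rw [hQdef]
    nlinarith
  have hQ1 : Q - 1 = (q + 1) * (q - 1) := by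
    rw [hQdef]
    exact arithU1 q hq2
  haveI : Nonempty (Fin (m + m)) := ⟨⟨0, by omega⟩⟩
  have hrq : ¬ r ∣ q := by
    intro h
    rw [hqdef] at h
    have h1 := (Nat.prime_dvd_prime_iff_eq hr hp).1 (hr.dvd_of_dvd_pow h)
    rw [h1] at hrN
    exact hNp hrN
  have hscal0 : ∀ (j : ℕ) (c : F), X ^ j = c • 1 → c ≠ 0 := by
    rintro j c hc rfl
    rw [zero_smul] at hc
    have := congrArg Matrix.det hc
    rw [Matrix.det_pow, hdet, one_pow, Matrix.det_zero] at this
    exact one_ne_zero this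
  obtain ⟨c₀, hc₀⟩ := (hX N).2 dvd_rfl
  have hc₀0 : c₀ ≠ 0 := hscal0 N c₀ hc₀
  let E := AlgebraicClosure F
  let ι : F →+* E := algebraMap F E
  haveI : CharP E p := charP_of_injective_algebraMap ι.injective p
  have hNE : (N : E) ≠ 0 := by
    intro h
    rw [CharP.cast_eq_zero_iff E p N] at h
    exact hNp h
  let Φ : Matrix (Fin (m + m)) (Fin (m + m)) F →+* Matrix (Fin (m + m)) (Fin (m + m)) E :=
    ι.mapMatrix
  have hΦinj : Function.Injective Φ := by
    intro A B h
    ext i j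
    have := congrArg (fun Z : Matrix (Fin (m + m)) (Fin (m + m)) E => Z i j) h
    exact ι.injective this
  have hΦs : ∀ c : F, Φ (c • 1) = ι c • 1 := by
    intro c
    ext i j
    show ι ((c • (1 : Matrix (Fin (m + m)) (Fin (m + m)) F)) i j) =
      (ι c • (1 : Matrix (Fin (m + m)) (Fin (m + m)) E)) i j
    rw [Matrix.smul_apply, Matrix.smul_apply, smul_eq_mul, smul_eq_mul, map_mul]
    by_cases hij : i = j
    · rw [hij, Matrix.one_apply_eq, Matrix.one_apply_eq, map_one]
    · rw [Matrix.one_apply_ne hij, Matrix.one_apply_ne hij, map_zero]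
  set σq : E →+* E := iterateFrobenius E p k with hσqdef
  have hσq : ∀ z, σq z = z ^ q := by
    intro z
    rw [hσqdef, iterateFrobenius_def, hqdef]
  set σ : E →+* E := σq.comp σq with hσdef
  have hσQ : ∀ z, σ z = z ^ Q := by
    intro z
    rw [hσdef, RingHom.comp_apply, hσq, hσq, ← pow_mul, hQdef, pow_two]
  have hσqsurj : Function.Surjective σq := by
    intro z
    obtain ⟨t, ht⟩ := IsAlgClosed.exists_pow_nat_eq z (by omega : 0 < q)
    exact ⟨t, by rw [hσq, ht]⟩
  have hσsurj : Function.Surjective σ := by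
    rw [hσdef, RingHom.coe_comp]
    exact hσqsurj.comp hσqsurj
  set M := Φ X with hM
  have hMσ : M.map σ = M := by
    ext i j
    show σ (ι (X i j)) = ι (X i j)
    rw [hσQ, ← map_pow, ← hF, FiniteField.pow_card]
  have hMU : IsU σq M := by
    unfold IsU at hU ⊢
    have h1 := congrArg Φ hU
    rw [map_one, map_mul] at h1
    rw [← h1]
    congr 1
    ext i j
    show iterateFrobenius E p k (ι (X i j)) = ι (iterateFrobenius F p k (X i j))
    rw [iterateFrobenius_def, iterateFrobenius_def, map_pow]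
  have hιpowi : ∀ (c : F) (i : ℕ), (ι c) ^ (Q ^ i) = ι c := by
    intro c i
    rw [← map_pow, ← hF, FiniteField.pow_card_pow]
  have hιq1 : ∀ c : F, c ≠ 0 → (ι c) ^ (Q - 1) = 1 := by
    intro c hc
    rw [← map_pow, ← hF, FiniteField.pow_card_sub_one_eq_one c hc, map_one]
  have hMN : M ^ N = ι c₀ • 1 := by
    rw [hM, ← map_pow, hc₀, hΦs]
  have hιc₀ : ι c₀ ≠ 0 := by
    intro h
    exact hc₀0 (ι.injective (by rw [h, map_zero]))
  have htop : ⨆ x : E, (toEnd M).eigenspace x = ⊤ := htop_of_pow N hNE M (ι c₀) hιc₀ hMN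
  have hroot : ∀ z : E, (toEnd M).eigenspace z ≠ ⊥ → z ^ N = ι c₀ := by
    intro z hz
    exact eig_pow N M (ι c₀) hMN hz
  have hdetM : M.det = 1 := by
    have : M.det = ι X.det := by
      show (ι.mapMatrix X).det = ι X.det
      rw [← RingHom.map_det]
    rw [this, hdet, map_one]
  have hne0 : ∀ z : E, (toEnd M).eigenspace z ≠ ⊥ → z ≠ 0 := by
    intro z hz
    exact eigen_ne_zero M (by rw [hdetM]; exact one_ne_zero) hz
  have hpair : ∀ z : E, (toEnd M).eigenspace z ≠ ⊥ → (toEnd M).eigenspace (z ^ q)⁻¹ ≠ ⊥ := by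
    intro z hz
    have h4 := nul_pair σq hσqsurj M hMU z (hne0 z hz)
    rw [nul_eq, nul_eq, hσq] at h4
    exact ne_bot_of_one_le (le_trans (one_le_of_ne_bot hz) h4)
  have hNr : N / r * r = N := Nat.div_mul_cancel hrN
  have hNrpos : 0 < N / r := Nat.div_pos (Nat.le_of_dvd hN hrN) hr.pos
  have hback : ∀ (j : ℕ) (c : F), M ^ j = ι c • 1 → X ^ j = c • 1 := by
    intro j c h
    apply hΦinj
    rw [map_pow, hΦs]
    exact h
  have hmem : ∀ u : E, u ^ (Q - 1) = 1 → ∃ c : F, ι c = u := by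
    intro u hu
    apply mem_range_of_pow (F := F) (K := E) u
    rw [hF]
    exact hu
  obtain ⟨lam, hlam, hω⟩ : ∃ z : E, (toEnd M).eigenspace z ≠ ⊥ ∧
      (z ^ (N / r)) ^ (Q - 1) ≠ 1 := by
    by_contra hcon
    push Not at hcon
    have hex : ∀ z : E, (toEnd M).eigenspace z ≠ ⊥ → ∃ c : F, ι c = z ^ (N / r) := by
      intro z hz
      exact hmem (z ^ (N / r)) (hcon z hz)
    obtain ⟨z₀, hz₀⟩ := Module.End.exists_eigenvalue (toEnd M)
    have hz₀' : (toEnd M).eigenspace z₀ ≠ ⊥ := hz₀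
    obtain ⟨c₁, hc₁⟩ := hex z₀ hz₀'
    have hcr : ∀ (z : E) (c : F), (toEnd M).eigenspace z ≠ ⊥ → ι c = z ^ (N / r) →
        c ^ r = c₀ := by
      intro z c hz hc
      apply ι.injective
      rw [map_pow, hc, ← pow_mul, hNr, hroot z hz]
    have hc₁r := hcr z₀ c₁ hz₀' hc₁
    have hc₁0 : c₁ ≠ 0 := by
      rintro rfl
      rw [zero_pow hr.ne_zero] at hc₁r
      exact hc₀0 hc₁r.symm
    have hall : ∀ z : E, (toEnd M).eigenspace z ≠ ⊥ → z ^ (N / r) = ι c₁ := by
      intro z hz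
      obtain ⟨c, hc⟩ := hex z hz
      have hcr' := hcr z c hz hc
      have hc0 : c ≠ 0 := by
        rintro rfl
        rw [zero_pow hr.ne_zero] at hcr'
        exact hc₀0 hcr'.symm
      set u := c * c₁⁻¹ with hu
      have hu0 : u ≠ 0 := mul_ne_zero hc0 (inv_ne_zero hc₁0)
      have hur : u ^ r = 1 := by
        rw [hu, mul_pow, inv_pow, hcr', hc₁r, mul_inv_cancel₀ hc₀0]
      have huq : u ^ (Q - 1) = 1 := by
        rw [← hF]
        exact FiniteField.pow_card_sub_one_eq_one u hu0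
      have h1 : orderOf u ∣ Nat.gcd r (Q - 1) :=
        Nat.dvd_gcd (orderOf_dvd_of_pow_eq_one hur) (orderOf_dvd_of_pow_eq_one huq)
      have h2 : Nat.gcd r (Q - 1) = 1 := (Nat.Prime.coprime_iff_not_dvd hr).2 hrq1
      rw [h2, Nat.dvd_one, orderOf_eq_one_iff] at h1
      have h3 : c = c₁ := by
        have : c * c₁⁻¹ * c₁ = 1 * c₁ := by rw [← hu, h1]
        rw [mul_assoc, inv_mul_cancel₀ hc₁0, mul_one, one_mul] at this
        exact this
      rw [← hc, h3]
    have hpow := pow_eq_smul_of_eigen M htop (N / r) (ι c₁) hall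
    have h4 := (hX (N / r)).1 ⟨c₁, hback _ _ hpow⟩
    have h5 := Nat.le_of_dvd hNrpos h4
    have h6 : N / r < N := Nat.div_lt_self hN hr.one_lt
    omega
  have hlam0 : lam ≠ 0 := hne0 lam hlam
  set ω : E := (lam ^ (N / r)) ^ (Q - 1) with hωdef
  have hωr : ω ^ r = 1 := by
    rw [hωdef, ← pow_mul, ← pow_mul]
    have : N / r * ((Q - 1) * r) = N * (Q - 1) := by
      rw [← mul_assoc, mul_right_comm, hNr]
    rw [this, pow_mul, hroot lam hlam, hιq1 c₀ hc₀0]
  have hωord : orderOf ω = r := orderOf_eq_prime hωr hω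
  have hωdvd : ∀ t : ℕ, lam ^ t = 1 → r ∣ t := by
    intro t ht
    rw [← hωord]
    apply orderOf_dvd_of_pow_eq_one
    have h1 : ω ^ t = (lam ^ t) ^ (N / r * (Q - 1)) := by
      rw [hωdef, ← pow_mul, ← pow_mul, ← pow_mul]
      congr 1
      ring
    rw [h1, ht, one_pow]
  have hrel : ∀ j : ℕ, lam ^ (Q ^ j - 1) = 1 → m ∣ j := by
    intro j hj
    exact hrn j (hωdvd _ hj)
  let c₁ : Fin m → E := fun i => lam ^ (Q ^ (i : ℕ))
  let c₂ : Fin m → E := fun i => ((lam ^ (Q ^ (i : ℕ))) ^ q)⁻¹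
  have hinj₁ : Function.Injective c₁ := by
    have key : ∀ a b : ℕ, a < b → b < m → lam ^ (Q ^ a) ≠ lam ^ (Q ^ b) := by
      intro a b hab hb h
      have h1 := orbit_rel σ Q (by omega) hσQ lam hlam0 hab h
      have h2 := hrel _ h1
      have := Nat.le_of_dvd (by omega) h2
      omega
    intro i j hij
    apply Fin.ext
    rcases Nat.lt_trichotomy (i : ℕ) (j : ℕ) with h | h | h
    · exact absurd hij (key _ _ h j.2)
    · exact h
    · exact absurd hij.symm (key _ _ h i.2)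
  have hinj₂ : Function.Injective c₂ := by
    intro i j hij
    apply hinj₁
    have h1 : (lam ^ (Q ^ (i : ℕ))) ^ q = (lam ^ (Q ^ (j : ℕ))) ^ q := inv_injective hij
    apply σq.injective
    rw [hσq, hσq]
    exact h1
  have hcross : ∀ i j : Fin m, c₁ i ≠ c₂ j := by
    intro i j h
    have h1 : lam ^ (Q ^ (i : ℕ) + Q ^ (j : ℕ) * q) = 1 := by
      rw [pow_add, pow_mul]
      have h2 : lam ^ (Q ^ (i : ℕ)) = ((lam ^ (Q ^ (j : ℕ))) ^ q)⁻¹ := h
      rw [h2, inv_mul_cancel₀ (pow_ne_zero _ (pow_ne_zero _ hlam0))]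
    have h3 := hωdvd _ h1
    have h4 : Q ^ (i : ℕ) + Q ^ (j : ℕ) * q = q ^ (2 * (i : ℕ)) + q ^ (2 * (j : ℕ) + 1) := by
      have e1 : Q ^ (i : ℕ) = q ^ (2 * (i : ℕ)) := by rw [hQdef, ← pow_mul]
      have e2 : Q ^ (j : ℕ) = q ^ (2 * (j : ℕ)) := by rw [hQdef, ← pow_mul]
      rw [e1, e2, pow_succ]
    rw [h4] at h3
    rcases Nat.lt_or_ge (j : ℕ) (i : ℕ) with hji | hij
    · have hfac : q ^ (2 * (i : ℕ)) + q ^ (2 * (j : ℕ) + 1) =
          q ^ (2 * (j : ℕ) + 1) * (q ^ (2 * ((i : ℕ) - (j : ℕ) - 1) + 1) + 1) := by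
        rw [mul_add, mul_one, ← pow_add]
        congr 2
        omega
      rw [hfac] at h3
      rcases hr.dvd_mul.1 h3 with h5 | h5
      · exact hrq (hr.dvd_of_dvd_pow h5)
      · exact hneg _ h5
    · have hfac : q ^ (2 * (i : ℕ)) + q ^ (2 * (j : ℕ) + 1) =
          q ^ (2 * (i : ℕ)) * (q ^ (2 * ((j : ℕ) - (i : ℕ)) + 1) + 1) := by
        rw [mul_add, mul_one, ← pow_add, add_comm]
        congr 2
        omega
      rw [hfac] at h3
      rcases hr.dvd_mul.1 h3 with h5 | h5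
      · exact hrq (hr.dvd_of_dvd_pow h5)
      · exact hneg _ h5
  let c : Fin m ⊕ Fin m → E := Sum.elim c₁ c₂
  have hinj : Function.Injective c := by
    intro u v huv
    rcases u with i | i <;> rcases v with j | j
    · simp only [c, Sum.elim_inl] at huv
      rw [hinj₁ huv]
    · simp only [c, Sum.elim_inl, Sum.elim_inr] at huv
      exact absurd huv (hcross i j)
    · simp only [c, Sum.elim_inl, Sum.elim_inr] at huv
      exact absurd huv.symm (hcross j i)
    · simp only [c, Sum.elim_inr] at huv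
      rw [hinj₂ huv]
  have heig₁ : ∀ i : ℕ, (toEnd M).eigenspace (lam ^ (Q ^ i)) ≠ ⊥ := by
    intro i
    exact ne_bot_of_one_le (le_trans (one_le_of_ne_bot hlam)
      (frob_chain σ hσsurj Q hσQ M hMσ lam i))
  have heig : ∀ u, (toEnd M).eigenspace (c u) ≠ ⊥ := by
    intro u
    rcases u with i | i
    · exact heig₁ i
    · exact hpair _ (heig₁ i)
  have hall : ∀ z : E, (toEnd M).eigenspace z ≠ ⊥ → ∃ u, z = c u := by
    intro z hz
    by_contra hcon
    push Not at hcon
    let c' : Option (Fin m ⊕ Fin m) → E := fun o => o.elim z c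
    have hc' : Function.Injective c' := by
      intro a b hab
      cases a with
      | none =>
        cases b with
        | none => rfl
        | some j => exact absurd hab (hcon j)
      | some i =>
        cases b with
        | none => exact absurd hab.symm (hcon i)
        | some j =>
          have : i = j := hinj hab
          rw [this]
    have hsum := sum_le (toEnd M) c' hc'
    rw [Fintype.sum_option] at hsum
    have h1 : ∑ u : Fin m ⊕ Fin m, 1 ≤
        ∑ u : Fin m ⊕ Fin m, finrank E ((toEnd M).eigenspace (c' (some u))) :=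
      Finset.sum_le_sum (fun u _ => one_le_of_ne_bot (heig u))
    simp only [Finset.sum_const, Finset.card_univ, Fintype.card_sum, Fintype.card_fin,
      smul_eq_mul, mul_one] at h1
    have h2 : 1 ≤ finrank E ((toEnd M).eigenspace (c' none)) := one_le_of_ne_bot hz
    omega
  set S := ∑ i ∈ Finset.range m, Q ^ i with hS
  have hdetlam : lam ^ (S * (q - 1)) = 1 := by
    have hvec : ∀ u, ∃ v : Fin (m + m) → E, v ∈ (toEnd M).eigenspace (c u) ∧ v ≠ 0 := by
      intro u
      exact (Submodule.ne_bot_iff _).1 (heig u)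
    choose v hv hv0 using hvec
    let e := (finSumFinEquiv : Fin m ⊕ Fin m ≃ Fin (m + m))
    have hli : LinearIndependent E (fun i : Fin (m + m) => v (e.symm i)) := by
      apply Module.End.eigenvectors_linearIndependent' (toEnd M)
        (fun i : Fin (m + m) => c (e.symm i)) (hinj.comp e.symm.injective)
      intro j
      exact ⟨hv _, hv0 _⟩
    have hd := det_of_eigenbasis_n M (fun i : Fin (m + m) => v (e.symm i))
      (fun i : Fin (m + m) => c (e.symm i)) hli
      (fun j => Module.End.mem_eigenspace_iff.1 (hv _))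
    rw [hdetM, Equiv.prod_comp e.symm c, Fintype.prod_sum_type] at hd
    have h1 : ∏ i : Fin m, c (Sum.inl i) = lam ^ S := by
      show ∏ i : Fin m, lam ^ (Q ^ (i : ℕ)) = lam ^ S
      rw [Finset.prod_pow_eq_pow_sum, Fin.sum_univ_eq_sum_range (fun i => Q ^ i) m]
    have h2 : ∏ i : Fin m, c (Sum.inr i) = ((lam ^ S) ^ q)⁻¹ := by
      show ∏ i : Fin m, ((lam ^ (Q ^ (i : ℕ))) ^ q)⁻¹ = ((lam ^ S) ^ q)⁻¹
      rw [Finset.prod_inv_distrib, Finset.prod_pow, Finset.prod_pow_eq_pow_sum,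
        Fin.sum_univ_eq_sum_range (fun i => Q ^ i) m]
    rw [h1, h2] at hd
    have h3 : (lam ^ S) ^ q = lam ^ S := by
      have h4 : (lam ^ S) ^ q ≠ 0 := pow_ne_zero _ (pow_ne_zero _ hlam0)
      have h5 : lam ^ S * ((lam ^ S) ^ q)⁻¹ * (lam ^ S) ^ q = 1 * (lam ^ S) ^ q := by rw [← hd]
      rw [mul_assoc, inv_mul_cancel₀ h4, mul_one, one_mul] at h5
      exact h5.symm
    have h6 : lam ^ S * lam ^ (S * (q - 1)) = lam ^ S * 1 := by
      rw [mul_one, ← pow_add]
      have : S + S * (q - 1) = S * q := by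
        have e1 : S + S * (q - 1) = S * (1 + (q - 1)) := by ring
        rw [e1, show 1 + (q - 1) = q by omega]
      rw [this, pow_mul, h3]
    exact mul_left_cancel₀ (pow_ne_zero _ hlam0) h6
  set τ : E := lam ^ (q + 1) with hτ
  have hlamq : (toEnd M).eigenspace (lam ^ q)⁻¹ ≠ ⊥ := hpair lam hlam
  have hτiff : ∀ j : ℕ, τ ^ j = 1 ↔ N ∣ j := by
    intro j
    constructor
    · intro h
      have hj1 : (lam ^ j) ^ (q + 1) = 1 := by
        rw [← pow_mul, mul_comm, pow_mul]
        exact h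
      have hj2 : (lam ^ j) ^ (Q - 1) = 1 := by
        rw [hQ1, pow_mul, hj1, one_pow]
      obtain ⟨c', hc'⟩ := hmem (lam ^ j) hj2
      have hcc : (ι c') ^ q * ι c' = 1 := by
        rw [hc', ← pow_succ]
        exact hj1
      have hallj : ∀ z : E, (toEnd M).eigenspace z ≠ ⊥ → z ^ j = ι c' := by
        intro z hz
        obtain ⟨u, rfl⟩ := hall z hz
        rcases u with i | i
        · show (lam ^ (Q ^ (i : ℕ))) ^ j = ι c'
          rw [← pow_mul, mul_comm, pow_mul, ← hc']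
          exact hιpowi c' i
        · show (((lam ^ (Q ^ (i : ℕ))) ^ q)⁻¹) ^ j = ι c'
          have h1 : (((lam ^ (Q ^ (i : ℕ))) ^ q)⁻¹) ^ j = (((lam ^ j) ^ (Q ^ (i : ℕ))) ^ q)⁻¹ := by
            rw [inv_pow]
            congr 1
            rw [← pow_mul, ← pow_mul, ← pow_mul, ← pow_mul]
            congr 1
            ring
          rw [h1, ← hc', hιpowi c' i]
          exact inv_eq_of_mul_eq_one_right hcc
      have hpow := pow_eq_smul_of_eigen M htop j (ι c') hallj
      exact (hX j).1 ⟨c', hback _ _ hpow⟩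
    · intro h
      obtain ⟨c', hc'⟩ := (hX j).2 h
      have hMj : M ^ j = ι c' • 1 := by
        rw [hM, ← map_pow, hc', hΦs]
      have h1 := eig_pow j M (ι c') hMj hlam
      have h2 := eig_pow j M (ι c') hMj hlamq
      rw [inv_pow, ← pow_mul, mul_comm, pow_mul, h1] at h2
      have h3 : (ι c') ^ q * ι c' = 1 := by
        have hne : (ι c') ^ q ≠ 0 := by
          intro h0
          rw [h0, _root_.inv_zero] at h2
          have := hscal0 j c' hc'
          exact this (ι.injective (by rw [← h2, map_zero]))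
        calc (ι c') ^ q * ι c' = (ι c') ^ q * ((ι c') ^ q)⁻¹ := by rw [h2]
          _ = 1 := mul_inv_cancel₀ hne
      rw [hτ, ← pow_mul, mul_comm, pow_mul, h1, pow_succ]
      exact h3
  have hτord : orderOf τ = N := by
    apply Nat.dvd_antisymm
    · exact orderOf_dvd_of_pow_eq_one ((hτiff N).2 dvd_rfl)
    · exact (hτiff _).1 (pow_orderOf_eq_one τ)
  refine ⟨orderOf lam, orderOf_dvd_of_pow_eq_one hdetlam, ?_⟩
  have h1 : orderOf τ = orderOf lam / Nat.gcd (orderOf lam) (q + 1) :=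
    orderOf_pow' lam (by omega)
  rw [hτord] at h1
  rw [h1, Nat.div_mul_cancel (Nat.gcd_dvd_left _ _)]

end Cfsg.Agent.Lib.Helper19.SingerOrd
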