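import Mathlib
import Cfsg.Agent.Lib.Helper19.SingerOrd1
import Cfsg.Agent.Lib.Helper19.SpecThreeU1

set_option autoImplicit false

namespace Cfsg.Agent.Lib.Helper19.SingerOrd

open Cfsg.Agent.Lib.Helper19.SpecThree

/-- The common `2`-adic step. -/
lemma arithU_step (q b o g N T : ℕ) (hb : 2 ^ b ∣ q + 1) (hNeven : Even N)
    (ho1 : o ∣ T) (hg : g = Nat.gcd o (q + 1)) (ho2 : o = N * g) :
    2 ^ b ∣ g ∧ N * g ∣ T := by
  have h1 : ∀ j, j ≤ b → 2 ^ j ∣ g := by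
    intro j
    induction j with
    | zero =>
      intro _
      rw [pow_zero]
      exact one_dvd g
    | succ j ih =>
      intro hj
      have h2 : 2 ^ j ∣ g := ih (by omega)
      rw [hg]
      apply Nat.dvd_gcd
      · rw [ho2, pow_succ, mul_comm (2 ^ j) 2]
        exact Nat.mul_dvd_mul hNeven.two_dvd h2
      · exact dvd_trans (pow_dvd_pow 2 hj) hb
  refine ⟨h1 b le_rfl, ?_⟩
  rw [← ho2]
  exact ho1

lemma sq_sub_one (q : ℕ) (hq : 2 ≤ q) : q ^ 2 - 1 = (q + 1) * (q - 1) := arithU1 q hq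

/-- Even `m`: the necessary condition. -/
lemma arithU_even (q m b o g : ℕ) (hq : 2 ≤ q) (hodd : Odd q) (hb1 : 1 ≤ b)
    (hb : 2 ^ b ∣ q + 1) (hmeven : Even m)
    (ho1 : o ∣ (∑ i ∈ Finset.range m, (q ^ 2) ^ i) * (q - 1))
    (hg : g = Nat.gcd o (q + 1)) (ho2 : o = (q ^ m + 1) * g) : 2 ^ b ∣ m := by
  have hNeven : Even (q ^ m + 1) := (hodd.pow).add_one
  obtain ⟨hbg, hdvd⟩ := arithU_step q b o g (q ^ m + 1) _ hb hNeven ho1 hg ho2
  set S := ∑ i ∈ Finset.range m, (q ^ 2) ^ i with hS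
  have h2 : 2 * 2 ^ b ∣ S * (q - 1) :=
    dvd_trans (Nat.mul_dvd_mul hNeven.two_dvd hbg) hdvd
  rcases Nat.lt_or_ge b 2 with hlt | hge
  · have hb' : b = 1 := by omega
    rw [hb', pow_one]
    exact hmeven.two_dvd
  · -- `4 ∣ q + 1`, so `q - 1 = 2 w` with `w` odd
    have h4 : 4 ∣ q + 1 := dvd_trans (by
      have : (4 : ℕ) = 2 ^ 2 := by norm_num
      rw [this]
      exact pow_dvd_pow 2 hge) hb
    obtain ⟨c, hc⟩ := h4
    have hw : q - 1 = 2 * (2 * c - 1) := by omega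
    have hwodd : Odd (2 * c - 1) := by
      refine ⟨c - 1, ?_⟩
      omega
    rw [hw] at h2
    have h3 : 2 * 2 ^ b ∣ 2 * (S * (2 * c - 1)) := by
      have : S * (2 * (2 * c - 1)) = 2 * (S * (2 * c - 1)) := by ring
      rw [← this]
      exact h2
    have h5 : 2 ^ b ∣ S * (2 * c - 1) := Nat.dvd_of_mul_dvd_mul_left (by norm_num) h3
    have hcop : Nat.Coprime (2 ^ b) (2 * c - 1) := by
      apply Nat.Coprime.pow_left
      exact Nat.coprime_two_left.2 hwodd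
    have h6 : 2 ^ b ∣ S := hcop.dvd_of_dvd_mul_right h5
    have hbQ : 2 ^ b ∣ q ^ 2 - 1 := by
      rw [sq_sub_one q hq]
      exact Dvd.dvd.mul_right hb _
    exact (geom_mod (q ^ 2) b m (by nlinarith) hbQ).1 h6

/-- Odd `m`: no such element. -/
lemma arithU_odd (q m b o g : ℕ) (hq : 2 ≤ q) (hodd : Odd q) (hb1 : 1 ≤ b)
    (hb : 2 ^ b ∣ q + 1) (hmodd : Odd m)
    (ho1 : o ∣ (∑ i ∈ Finset.range m, (q ^ 2) ^ i) * (q - 1))
    (hg : g = Nat.gcd o (q + 1)) (ho2 : o = (q ^ m - 1) * g) : False := by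
  have hqm : 1 ≤ q ^ m := Nat.one_le_pow _ _ (by omega)
  have hNeven : Even (q ^ m - 1) := by
    have h1 : Odd (q ^ m) := hodd.pow
    obtain ⟨t, ht⟩ := h1
    exact ⟨t, by omega⟩
  obtain ⟨hbg, hdvd⟩ := arithU_step q b o g (q ^ m - 1) _ hb hNeven ho1 hg ho2
  set S := ∑ i ∈ Finset.range m, (q ^ 2) ^ i with hS
  have hgeo := geom_nat q m (by omega)
  rw [← hgeo, mul_assoc, mul_comm S (q - 1)] at hdvd
  have h1 : (∑ i ∈ Finset.range m, q ^ i) * g ∣ S :=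
    Nat.dvd_of_mul_dvd_mul_left (by omega) hdvd
  have h2 : g ∣ S := dvd_trans (dvd_mul_left g _) h1
  have h3 : 2 ^ 1 ∣ S := dvd_trans (dvd_trans (pow_dvd_pow 2 hb1) hbg) h2
  have hQ : 2 ^ 1 ∣ q ^ 2 - 1 := by
    rw [sq_sub_one q hq, pow_one]
    obtain ⟨t, ht⟩ := hodd
    exact Dvd.dvd.mul_right ⟨t + 1, by omega⟩ _
  have h4 := (geom_mod (q ^ 2) 1 m (by nlinarith) hQ).1 h3
  rw [pow_one] at h4
  exact (Nat.not_even_iff_odd.2 hmodd) (even_iff_two_dvd.2 h4)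

end Cfsg.Agent.Lib.Helper19.SingerOrd
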