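import Mathlib
import Cfsg.Agent.Lib.Helper19.SingerOrdU1
import Cfsg.Agent.Lib.Helper19.SpecThree4
import Cfsg.Agent.Lib.Helper19.SpecThreeU1

set_option autoImplicit false

/-!
Construction of elements of `PSU_{2m}(q)` from the torus `GL_1(q^(2m))` acting on `K × K`,
`K` the extension of degree `m` of the field with `q^2` elements.
-/

namespace Cfsg.Agent.Lib.Helper19.SingerOrd

open Matrix Module Cfsg Cfsg.Agent.S2365 Cfsg.Agent.Lib.Helper27.Unitary
  Cfsg.Agent.Lib.Helper24.USim Cfsg.Agent.Lib.Helper19.SpecThree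

variable {F : Type*} [Field F] [Fintype F]

theorem singerU_exists (p k : ℕ) [Fact p.Prime] [CharP F p]
    (hF : Fintype.card F = (p ^ k) ^ 2) (hq2 : 2 ≤ p ^ k) (m : ℕ) (hm : 1 ≤ m) (e : ℕ)
    (he1 : ((p ^ k) ^ 2) ^ m - 1 ∣ e * ((∑ i ∈ Finset.range m, ((p ^ k) ^ 2) ^ i) * (p ^ k - 1)))
    (N : ℕ) (he2 : ∀ j, ((p ^ k) ^ 2) ^ m - 1 ∣ e * (p ^ k + 1) * j ↔ N ∣ j) :
    ∃ g : Cfsg.PSU (m + m) F (p ^ k), orderOf g = N := by
  classical
  set q := p ^ k with hqdef
  clear_value q
  have hQ1 : q ^ 2 - 1 = (q + 1) * (q - 1) := arithU1 q hq2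
  haveI : NeZero m := ⟨by omega⟩
  let K := FiniteField.Extension F p m
  have hfr : finrank F K = m := FiniteField.finrank_extension F p m
  have hcard : Nat.card K = (q ^ 2) ^ m := by
    rw [FiniteField.natCard_extension, Nat.card_eq_fintype_card, hF]
  haveI : Fintype K := Fintype.ofFinite K
  haveI : FiniteDimensional F K := Module.finite_of_finrank_pos (by rw [hfr]; omega)
  haveI : CharP K p := charP_of_injective_algebraMap (algebraMap F K).injective p
  obtain ⟨ξ, hξ⟩ := IsCyclic.exists_ofOrder_eq_natCard (α := Kˣ)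
  rw [Nat.card_units, hcard] at hξ
  have hξ' : orderOf (ξ : K) = (q ^ 2) ^ m - 1 := by rw [orderOf_units, hξ]
  set η : K := (ξ : K) ^ e with hη
  clear_value η
  have hη0 : η ≠ 0 := by
    rw [hη]
    exact pow_ne_zero _ ξ.ne_zero
  let ψ : K →+* K := iterateFrobenius K p k
  have hψ : ∀ x, ψ x = x ^ q := by
    intro x
    show iterateFrobenius K p k x = x ^ q
    rw [iterateFrobenius_def, hqdef]
  have hψF : ∀ c : F, ψ (algebraMap F K c) = algebraMap F K (c ^ q) := by
    intro c
    rw [hψ, map_pow]
  have hψsurj : Function.Surjective ψ := Finite.surjective_of_injective ψ.injective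
  set ζ : K := (η ^ q)⁻¹ with hζ
  clear_value ζ
  have hζψ : ζ * ψ η = 1 := by
    rw [hψ, hζ]
    exact inv_mul_cancel₀ (pow_ne_zero _ hη0)
  have hζj : ∀ j : ℕ, ζ ^ j = ((η ^ j) ^ q)⁻¹ := by
    intro j
    rw [hζ, inv_pow, ← pow_mul, ← pow_mul, mul_comm]
  have hξη : ∀ j : ℕ, (ξ : K) ^ (e * (q + 1) * j) = (η ^ j) ^ q * η ^ j := by
    intro j
    rw [hη, ← pow_mul, ← pow_mul, ← pow_mul, ← pow_add]
    congr 1
    ring
  -- the sesquilinear pairing on `K`
  let h : K → K → F := fun a d => Algebra.trace F K (a * ψ d)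
  have hh_add_left : ∀ a a' d, h (a + a') d = h a d + h a' d := by
    intro a a' d
    show Algebra.trace F K ((a + a') * ψ d) = _
    rw [add_mul, map_add]
  have hh_add_right : ∀ a d d', h a (d + d') = h a d + h a d' := by
    intro a d d'
    show Algebra.trace F K (a * ψ (d + d')) = _
    rw [map_add, mul_add, map_add]
  have hh_smul_left : ∀ (c : F) a d, h (c • a) d = c * h a d := by
    intro c a d
    show Algebra.trace F K ((c • a) * ψ d) = _
    rw [smul_mul_assoc, map_smul, smul_eq_mul]
  have hh_smul_right : ∀ (c : F) a d, h a (c • d) = c ^ q * h a d := by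
    intro c a d
    show Algebra.trace F K (a * ψ (c • d)) = _
    rw [Algebra.smul_def, map_mul ψ, hψF, ← mul_assoc, mul_comm a, mul_assoc, ← Algebra.smul_def,
      map_smul, smul_eq_mul]
  have hh_zero_left : ∀ d, h 0 d = 0 := by
    intro d
    show Algebra.trace F K (0 * ψ d) = 0
    rw [zero_mul, map_zero]
  have hh_zero_right : ∀ a, h a 0 = 0 := by
    intro a
    show Algebra.trace F K (a * ψ 0) = 0
    rw [map_zero, mul_zero, map_zero]
  let f : K × K → K × K → F := fun x y => h x.1 y.2 + (h y.1 x.2) ^ q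
  let g : (K × K) →ₗ[F] (K × K) :=
    LinearMap.prodMap (LinearMap.mulLeft F ζ) (LinearMap.mulLeft F η)
  have hgapp : ∀ x : K × K, g x = (ζ * x.1, η * x.2) := fun x => rfl
  have hgpow : ∀ (j : ℕ) (x : K × K), (g ^ j) x = (ζ ^ j * x.1, η ^ j * x.2) := by
    intro j
    induction j with
    | zero =>
      intro x
      rw [pow_zero, pow_zero, pow_zero, one_mul, one_mul, Module.End.one_apply]
    | succ j ih =>
      intro x
      rw [pow_succ, Module.End.mul_apply, hgapp, ih, pow_succ, pow_succ, mul_assoc, mul_assoc]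
  have hhg : ∀ a d, h (ζ * a) (η * d) = h a d := by
    intro a d
    show Algebra.trace F K (ζ * a * ψ (η * d)) = Algebra.trace F K (a * ψ d)
    rw [map_mul ψ]
    congr 1
    calc ζ * a * (ψ η * ψ d) = (ζ * ψ η) * (a * ψ d) := by ring
      _ = a * ψ d := by rw [hζψ, one_mul]
  have hfg : ∀ x y, f (g x) (g y) = f x y := by
    intro x y
    show h (g x).1 (g y).2 + (h (g y).1 (g x).2) ^ q = h x.1 y.2 + (h y.1 x.2) ^ q
    rw [hgapp, hgapp, hhg, hhg]
  have hfin : finrank F (K × K) = m + m := by
    rw [Module.finrank_prod, hfr]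
  let β : Basis (Fin (m + m)) F (K × K) := Module.finBasisOfFinrankEq F (K × K) hfin
  let Θ := LinearMap.toMatrixAlgEquiv β
  set A : Matrix (Fin (m + m)) (Fin (m + m)) F := Θ g with hA
  let f' : (Fin (m + m) → F) → (Fin (m + m) → F) → F :=
    fun u v => f (β.equivFun.symm u) (β.equivFun.symm v)
  have hAmul : ∀ u : Fin (m + m) → F, β.equivFun.symm (A *ᵥ u) = g (β.equivFun.symm u) := by
    intro u
    have h1 := LinearMap.toMatrix_mulVec_repr β β g (β.equivFun.symm u)
    have h2 : (β.repr (β.equivFun.symm u) : Fin (m + m) → F) = u := by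
      have := β.equivFun.apply_symm_apply u
      exact this
    rw [h2] at h1
    have h3 : A *ᵥ u = β.equivFun (g (β.equivFun.symm u)) := h1
    rw [h3, LinearEquiv.symm_apply_apply]
  have hnd := _root_.traceForm_nondegenerate F K
  have hf' : HForm q f' := by
    refine ⟨?_, ?_, ?_, ?_⟩
    · intro x y v
      show f (β.equivFun.symm (x + y)) (β.equivFun.symm v) =
        f (β.equivFun.symm x) (β.equivFun.symm v) + f (β.equivFun.symm y) (β.equivFun.symm v)
      rw [map_add]
      set x' := β.equivFun.symm x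
      set y' := β.equivFun.symm y
      set v' := β.equivFun.symm v
      show h (x' + y').1 v'.2 + (h v'.1 (x' + y').2) ^ q =
        (h x'.1 v'.2 + (h v'.1 x'.2) ^ q) + (h y'.1 v'.2 + (h v'.1 y'.2) ^ q)
      rw [Prod.fst_add, Prod.snd_add, hh_add_left, hh_add_right, cj_add hF]
      ring
    · intro c x v
      show f (β.equivFun.symm (c • x)) (β.equivFun.symm v) =
        c * f (β.equivFun.symm x) (β.equivFun.symm v)
      rw [map_smul]
      set x' := β.equivFun.symm x
      set v' := β.equivFun.symm v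
      show h (c • x').1 v'.2 + (h v'.1 (c • x').2) ^ q = c * (h x'.1 v'.2 + (h v'.1 x'.2) ^ q)
      rw [Prod.smul_fst, Prod.smul_snd, hh_smul_left, hh_smul_right, mul_pow, cj_cj hF]
      ring
    · intro v w
      show h _ _ + (h _ _) ^ q = (h _ _ + (h _ _) ^ q) ^ q
      rw [cj_add hF, cj_cj hF, add_comm]
    · intro v hv
      set x := β.equivFun.symm v with hx
      have hx0 : x ≠ 0 := by
        intro h0
        apply hv
        have : β.equivFun.symm v = β.equivFun.symm 0 := by rw [← hx, h0, map_zero]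
        exact β.equivFun.symm.injective this
      have hq0 : q ≠ 0 := by omega
      by_cases h1 : x.1 = 0
      · have h2 : x.2 ≠ 0 := by
          intro h2
          exact hx0 (Prod.ext h1 h2)
        have h3 : ψ x.2 ≠ 0 := by
          intro h3
          exact h2 ((map_eq_zero ψ).1 h3)
        have h4 : ∃ z : K, Algebra.trace F K (z * ψ x.2) ≠ 0 := by
          by_contra hcon
          push Not at hcon
          apply h3
          apply hnd.1
          intro z
          rw [Algebra.traceForm_apply, mul_comm]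
          exact hcon z
        obtain ⟨z, hz⟩ := h4
        refine ⟨β.equivFun (z, 0), ?_⟩
        show f x (β.equivFun.symm (β.equivFun (z, 0))) ≠ 0
        rw [LinearEquiv.symm_apply_apply]
        show h x.1 0 + (h z x.2) ^ q ≠ 0
        rw [hh_zero_right, zero_add]
        exact pow_ne_zero _ hz
      · have h4 : ∃ z : K, Algebra.trace F K (x.1 * z) ≠ 0 := by
          by_contra hcon
          push Not at hcon
          apply h1
          apply hnd.1
          intro z
          rw [Algebra.traceForm_apply]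
          exact hcon z
        obtain ⟨z, hz⟩ := h4
        obtain ⟨d, hd⟩ := hψsurj z
        refine ⟨β.equivFun (0, d), ?_⟩
        show f x (β.equivFun.symm (β.equivFun (0, d))) ≠ 0
        rw [LinearEquiv.symm_apply_apply]
        show h x.1 d + (h 0 x.2) ^ q ≠ 0
        rw [hh_zero_left, zero_pow hq0, add_zero]
        show Algebra.trace F K (x.1 * ψ d) ≠ 0
        rw [hd]
        exact hz
  -- determinant
  have hS : algebraMap F K (Algebra.norm F η) = η ^ (∑ i ∈ Finset.range m, (q ^ 2) ^ i) := by
    have := FiniteField.algebraMap_norm_eq_pow_sum F K η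
    rw [hfr, Nat.card_eq_fintype_card, hF] at this
    exact this
  have hnormη : (Algebra.norm F η) ^ (q - 1) = 1 := by
    apply (algebraMap F K).injective
    rw [map_pow, hS, map_one, ← pow_mul, hη, ← pow_mul]
    obtain ⟨t, ht⟩ := he1
    rw [ht, pow_mul, ← hξ', pow_orderOf_eq_one, one_pow]
  have hdetA : A.det = 1 := by
    have h1 : A.det = LinearMap.det g := by
      rw [hA]
      exact LinearMap.det_toMatrix β g
    have h2 : LinearMap.det g = Algebra.norm F ζ * Algebra.norm F η := by
      show LinearMap.det (LinearMap.prodMap (LinearMap.mulLeft F ζ) (LinearMap.mulLeft F η)) = _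
      rw [LinearMap.det_prodMap]
      rfl
    have hnz : Algebra.norm F ζ * (Algebra.norm F η) ^ q = 1 := by
      rw [← map_pow, ← map_mul, hζ, inv_mul_cancel₀ (pow_ne_zero _ hη0), map_one]
    rw [h1, h2]
    have h3 : (Algebra.norm F η) ^ q = Algebra.norm F η := by
      have : (Algebra.norm F η) ^ q = (Algebra.norm F η) ^ (q - 1) * Algebra.norm F η := by
        rw [← pow_succ]
        congr 1
        omega
      rw [this, hnormη, one_mul]
    rw [h3] at hnz
    exact hnz
  apply exists_orderOf_Un hF (by omega) f' hf' A hdetA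
  · intro u v
    show f (β.equivFun.symm (A *ᵥ u)) (β.equivFun.symm (A *ᵥ v)) = f _ _
    rw [hAmul, hAmul, hfg]
  · intro j
    rw [← he2 j]
    have hApow : ∀ c : F, A ^ j = c • 1 ↔ g ^ j = c • (1 : Module.End F (K × K)) := by
      intro c
      rw [hA, ← map_pow]
      constructor
      · intro h1
        apply Θ.injective
        rw [h1, map_smul, map_one]
      · intro h1
        rw [h1, map_smul, map_one]
    have hιq : ∀ c : F, c ≠ 0 → (algebraMap F K c) ^ (q ^ 2 - 1) = 1 := by
      intro c hc
      rw [← map_pow, ← hF, FiniteField.pow_card_sub_one_eq_one c hc, map_one]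
    constructor
    · rintro ⟨c, hc⟩
      rw [hApow] at hc
      have h1 := hgpow j (1, 1)
      rw [hc] at h1
      have h2 : (c • (1 : Module.End F (K × K))) ((1 : K), (1 : K)) = (c • (1 : K), c • (1 : K)) := rfl
      rw [h2, mul_one, mul_one] at h1
      have h3 : algebraMap F K c = ζ ^ j := by
        rw [Algebra.algebraMap_eq_smul_one]
        exact congrArg Prod.fst h1
      have h4 : algebraMap F K c = η ^ j := by
        rw [Algebra.algebraMap_eq_smul_one]
        exact congrArg Prod.snd h1
      -- `η ^ (j (q + 1)) = 1`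
      have h5 : (η ^ j) ^ q * η ^ j = 1 := by
        have := hζj j
        rw [← h3, h4] at this
        have hne : (η ^ j) ^ q ≠ 0 := pow_ne_zero _ (pow_ne_zero _ hη0)
        calc (η ^ j) ^ q * η ^ j = (η ^ j) ^ q * ((η ^ j) ^ q)⁻¹ := by rw [← this]
          _ = 1 := mul_inv_cancel₀ hne
      have h6 : (ξ : K) ^ (e * (q + 1) * j) = 1 := by
        rw [hξη j, h5]
      rw [← hξ']
      exact orderOf_dvd_of_pow_eq_one h6
    · intro hj
      have h6 : (ξ : K) ^ (e * (q + 1) * j) = 1 := by
        rw [← hξ'] at hj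
        exact orderOf_dvd_iff_pow_eq_one.1 hj
      have h5 : (η ^ j) ^ q * η ^ j = 1 := by
        rw [← hξη j, h6]
      have h7 : (η ^ j) ^ (q ^ 2 - 1) = 1 := by
        rw [hQ1, pow_mul, pow_succ, h5, one_pow]
      obtain ⟨c, hc⟩ := mem_range_of_pow (F := F) (K := K) (η ^ j) (by rw [hF]; exact h7)
      refine ⟨c, ?_⟩
      rw [hApow]
      apply LinearMap.ext
      intro x
      rw [hgpow]
      have h8 : ζ ^ j = η ^ j := by
        rw [hζj j]
        exact inv_eq_of_mul_eq_one_right h5
      rw [h8, ← hc]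
      show (algebraMap F K c * x.1, algebraMap F K c * x.2) = c • x
      rw [← Algebra.smul_def, ← Algebra.smul_def]
      rfl

end Cfsg.Agent.Lib.Helper19.SingerOrd
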