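import Mathlib
import Cfsg.Agent.Lib.Helper19.SingerOrdU3
import Cfsg.Agent.S2470

set_option autoImplicit false

namespace Cfsg.Agent.Lib.Helper19.SingerOrd

lemma fac_sq' (q m : ℕ) (hq : 1 ≤ q) : q ^ (m + m) - 1 = (q ^ m - 1) * (q ^ m + 1) := by
  have hqm : 1 ≤ q ^ m := Nat.one_le_pow _ _ hq
  have h3 : q ^ (m + m) = q ^ m * q ^ m := by rw [pow_add]
  rw [h3]
  zify [hqm, (by nlinarith : 1 ≤ q ^ m * q ^ m)]
  ring

/-- Facts on a primitive prime divisor. -/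
lemma ppd_facts (r q n : ℕ) (hr : r.Prime) (hq : 2 ≤ q) (hn : 1 ≤ n) (hrdvd : r ∣ q ^ n - 1)
    (hprim : ∀ k : ℕ, 0 < k → k < n → ¬ r ∣ q ^ k - 1) :
    ¬ r ∣ q ∧ ∀ j, r ∣ q ^ j - 1 ↔ n ∣ j := by
  haveI : Fact r.Prime := ⟨hr⟩
  have hrq : ¬ r ∣ q := by
    intro h
    have h1 : r ∣ q ^ n := dvd_pow h (by omega)
    have h2 : r ∣ q ^ n - (q ^ n - 1) := Nat.dvd_sub h1 hrdvd
    have h3 : q ^ n - (q ^ n - 1) = 1 := by
      have := Nat.one_le_pow n q (by omega)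
      omega
    rw [h3] at h2
    exact hr.one_lt.ne' (Nat.dvd_one.1 h2)
  refine ⟨hrq, ?_⟩
  obtain ⟨hk1, hkdvd⟩ := Cfsg.Agent.S2470.k_facts r q hrq (by omega)
  have hkn : orderOf ((q : ℕ) : ZMod r) ∣ n := (hkdvd _).1 hrdvd
  have hkeq : orderOf ((q : ℕ) : ZMod r) = n := by
    by_contra hne
    have hle := Nat.le_of_dvd (by omega) hkn
    exact hprim _ (by omega) (by omega) ((hkdvd _).2 dvd_rfl)
  intro j
  rw [hkdvd j, hkeq]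

/-- `r ∣ x + 1` implies `r ∣ x ^ 2 - 1`. -/
lemma dvd_sq_of_dvd_add_one (r q d : ℕ) (hq : 1 ≤ q) (h : r ∣ q ^ d + 1) :
    r ∣ q ^ (2 * d) - 1 := by
  have : q ^ (2 * d) - 1 = (q ^ d - 1) * (q ^ d + 1) := by
    rw [two_mul]
    exact fac_sq' q d hq
  rw [this]
  exact Dvd.dvd.mul_left h _

lemma arithU_exists (q m b : ℕ) (hq : 2 ≤ q) (hodd : Odd q) (hb1 : 1 ≤ b)
    (hb : 2 ^ b ∣ q + 1) (hb' : ¬ 2 ^ (b + 1) ∣ q + 1) (hmb : 2 ^ b ∣ m) (hm : 1 ≤ m) :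
    ∃ e : ℕ, ((q ^ 2) ^ m - 1 ∣ e * ((∑ i ∈ Finset.range m, (q ^ 2) ^ i) * (q - 1))) ∧
      ∀ j, ((q ^ 2) ^ m - 1 ∣ e * (q + 1) * j ↔ q ^ m + 1 ∣ j) := by
  have hQ1 : q ^ 2 - 1 = (q + 1) * (q - 1) := sq_sub_one q hq
  have hQ2 : 1 ≤ q ^ 2 := by nlinarith
  -- `m = m' + m'`
  have h2m : 2 ∣ m := dvd_trans (dvd_pow_self 2 (by omega)) hmb
  obtain ⟨m', hm'⟩ := h2m
  obtain ⟨b', hb''⟩ : ∃ b', b = b' + 1 := ⟨b - 1, by omega⟩
  have hb'm : 2 ^ b' ∣ m' := by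
    rw [hm', hb'', pow_succ, mul_comm (2 ^ b') 2] at hmb
    exact Nat.dvd_of_mul_dvd_mul_left (by norm_num) hmb
  have hb'Q : 2 ^ b' ∣ q ^ 2 - 1 := by
    rw [hQ1]
    exact Dvd.dvd.mul_right (dvd_trans (pow_dvd_pow 2 (by omega)) hb) _
  have hS₂ : 2 ^ b' ∣ ∑ i ∈ Finset.range m', (q ^ 2) ^ i :=
    (geom_mod (q ^ 2) b' m' hQ2 hb'Q).2 hb'm
  have h2q : 2 ∣ q - 1 := by
    obtain ⟨t, ht⟩ := hodd
    exact ⟨t, by omega⟩
  have hbT : 2 ^ b ∣ (q - 1) * ∑ i ∈ Finset.range m', (q ^ 2) ^ i := by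
    rw [hb'', pow_succ, mul_comm (2 ^ b') 2]
    exact Nat.mul_dvd_mul h2q hS₂
  obtain ⟨t, ht⟩ := hbT
  have hgeo' := geom_nat (q ^ 2) m' hQ2
  have hqm : q ^ m - 1 = (q + 1) * (2 ^ b * t) := by
    have h1 : q ^ m = (q ^ 2) ^ m' := by rw [hm', ← pow_mul]
    rw [h1, ← hgeo', hQ1, mul_assoc, ht]
  obtain ⟨w, hw⟩ := hb
  have hwodd : Odd w := by
    rcases Nat.even_or_odd w with h | h
    · exfalso
      apply hb'
      obtain ⟨w', hw'⟩ := h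
      refine ⟨w', ?_⟩
      rw [hw, hw', pow_succ]
      ring
    · exact h
  have hqm2 : 2 ≤ q ^ m := by
    calc 2 ≤ q := hq
      _ = q ^ 1 := (pow_one q).symm
      _ ≤ q ^ m := Nat.pow_le_pow_right (by omega) hm
  have hcop : Nat.Coprime (q ^ m + 1) w := by
    have hd1 : Nat.gcd (q ^ m + 1) w ∣ q ^ m + 1 := Nat.gcd_dvd_left _ _
    have hd2 : Nat.gcd (q ^ m + 1) w ∣ q ^ m - 1 := by
      refine dvd_trans (Nat.gcd_dvd_right _ _) ?_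
      refine dvd_trans (Dvd.intro_left (2 ^ b) hw.symm) ?_
      exact Dvd.intro _ hqm.symm
    have hd3 : Nat.gcd (q ^ m + 1) w ∣ 2 := by
      have := Nat.dvd_sub hd1 hd2
      have h2 : q ^ m + 1 - (q ^ m - 1) = 2 := by omega
      rwa [h2] at this
    rcases (Nat.dvd_prime Nat.prime_two).1 hd3 with h | h
    · exact h
    · exfalso
      have h2w : 2 ∣ w := by
        rw [← h]
        exact Nat.gcd_dvd_right _ _
      exact (Nat.not_even_iff_odd.2 hwodd) (even_iff_two_dvd.2 h2w)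
  have hgeo := geom_nat (q ^ 2) m hQ2
  have hfac : (q ^ 2) ^ m - 1 = (q ^ m - 1) * (q ^ m + 1) := by
    rw [← pow_mul, two_mul]
    exact fac_sq' q m (by omega)
  refine ⟨(q + 1) * t, ?_, ?_⟩
  · refine ⟨t, ?_⟩
    rw [← hgeo, hQ1]
    ring
  · intro j
    have h1 : (q + 1) * t * (q + 1) * j = (q ^ m - 1) * (w * j) := by
      calc (q + 1) * t * (q + 1) * j = (q + 1) * t * (2 ^ b * w) * j := by rw [← hw]
        _ = (q + 1) * (2 ^ b * t) * (w * j) := by ring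
        _ = (q ^ m - 1) * (w * j) := by rw [← hqm]
    rw [h1, hfac, Nat.mul_dvd_mul_iff_left (by omega : 0 < q ^ m - 1)]
    exact hcop.dvd_mul_left

end Cfsg.Agent.Lib.Helper19.SingerOrd
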