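-- Subgroups of the symplectic group that are elementary abelian modulo the centre are small.
import Mathlib
import Cfsg.Prelude.Def_Classical
import Cfsg.Prelude.Def_ClassicalGeometry
import Cfsg.Agent.Lib.Helper19.C2Central
import Cfsg.Agent.Lib.Helper24.SpRank
import Cfsg.Agent.Lib.Helper27.SympTransv

set_option autoImplicit false

namespace Cfsg.Agent.Lib.Helper19.SpTwoRank

open Matrix Cfsg Cfsg.Agent.Lib.Helper27.SympTransv Cfsg.Agent.Lib.Helper19.C2Central

variable {F : Type*} [Field F] {m : ℕ}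

/-- The element `-1` of the symplectic group. -/
def negOneSp (m : ℕ) (F : Type*) [Field F] : Matrix.symplecticGroup (Fin m) F :=
  ⟨-1, SymplecticGroup.neg_mem (one_mem _)⟩

theorem negOneSp_coe :
    ((negOneSp m F : Matrix.symplecticGroup (Fin m) F) :
      Matrix (Fin m ⊕ Fin m) (Fin m ⊕ Fin m) F) = -1 := rfl

theorem negOneSp_comm (g : Matrix.symplecticGroup (Fin m) F) :
    g * negOneSp m F = negOneSp m F * g := by
  apply Subtype.ext
  change (g : Matrix (Fin m ⊕ Fin m) (Fin m ⊕ Fin m) F) * (-1) = (-1) * g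
  simp

theorem negOneSp_sq : negOneSp m F * negOneSp m F = 1 := by
  apply Subtype.ext
  change (-1 : Matrix (Fin m ⊕ Fin m) (Fin m ⊕ Fin m) F) * (-1) = 1
  simp

theorem negOneSp_ne_one (h2 : (2 : F) ≠ 0) (hm : 1 ≤ m) : negOneSp m F ≠ 1 := by
  intro h
  have h1 := congrArg (fun g : Matrix.symplecticGroup (Fin m) F =>
    (g : Matrix (Fin m ⊕ Fin m) (Fin m ⊕ Fin m) F) (Sum.inl ⟨0, hm⟩) (Sum.inl ⟨0, hm⟩)) h
  change (-1 : Matrix (Fin m ⊕ Fin m) (Fin m ⊕ Fin m) F) (Sum.inl ⟨0, hm⟩) (Sum.inl ⟨0, hm⟩)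
    = (1 : Matrix (Fin m ⊕ Fin m) (Fin m ⊕ Fin m) F) (Sum.inl ⟨0, hm⟩) (Sum.inl ⟨0, hm⟩) at h1
  rw [Matrix.neg_apply, Matrix.one_apply_eq] at h1
  apply h2
  have : (2 : F) = 1 - (-1) := by norm_num
  rw [this, h1, sub_self]

theorem exists_sf_ne_zero (v : Fin m ⊕ Fin m → F) (hv : v ≠ 0) :
    ∃ x, sympForm m F x v ≠ 0 := by
  by_contra hcon
  push Not at hcon
  apply hv
  apply Cfsg.Agent.Lib.Helper24.J_form_nondeg m v
  intro y
  have := hcon y
  rw [sf_swap] at this
  rw [← sf_def]
  exact neg_eq_zero.1 this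

/-- The centre of the symplectic group consists of `±1`. -/
theorem center_cases (c : Matrix.symplecticGroup (Fin m) F)
    (hc : c ∈ Subgroup.center (Matrix.symplecticGroup (Fin m) F)) :
    c = 1 ∨ c = negOneSp m F := by
  rw [Subgroup.mem_center_iff] at hc
  set f : (Fin m ⊕ Fin m → F) →ₗ[F] (Fin m ⊕ Fin m → F) :=
    Matrix.mulVecLin (c : Matrix (Fin m ⊕ Fin m) (Fin m ⊕ Fin m) F) with hf
  have hfact : ∀ x, f x = act c x := fun x => rfl
  obtain ⟨a, ha⟩ := f.exists_eq_smul_id_of_forall_notLinearIndependent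
    fun (v : Fin m ⊕ Fin m → F) ↦ by
      by_cases hv : v = 0
      · simp [hv, linearIndependent_fin2]
      · obtain ⟨x, hx⟩ := exists_sf_ne_zero v hv
        have h1 := congrArg (fun g => act g x) (hc (tv v 1))
        simp only [act_mul, act_tv, one_mul] at h1
        -- h1 : act (tv v 1) (act c x) = act c (act (tv v 1) x)
        have hlin : act c (x + sympForm m F x v • v) = act c x + sympForm m F x v • act c v := by
          unfold act
          rw [Matrix.mulVec_add, Matrix.mulVec_smul]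
        rw [hlin] at h1
        have h3 : sympForm m F x v • act c v = sympForm m F (act c x) v • v := by
          have := h1
          exact (add_left_cancel this).symm
        rw [LinearIndependent.pair_iff' hv]
        intro hne
        apply hne ((sympForm m F x v)⁻¹ * sympForm m F (act c x) v)
        rw [hfact, mul_smul, ← h3, smul_smul, inv_mul_cancel₀ hx, one_smul]
  have hact : ∀ x, act c x = a • x := by
    intro x
    have := LinearMap.congr_fun ha x
    rw [hfact] at this
    rw [this]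
    simp
  by_cases hm : m = 0
  · subst hm
    left
    apply Subtype.ext
    ext i j
    rcases i with i | i <;> exact i.elim0
  · have hm1 : 1 ≤ m := Nat.one_le_iff_ne_zero.2 hm
    obtain ⟨v, hv⟩ : ∃ v : Fin m ⊕ Fin m → F, v ≠ 0 :=
      ⟨Pi.single (Sum.inl ⟨0, hm1⟩) 1, by
        intro h
        have := congrFun h (Sum.inl ⟨0, hm1⟩)
        simp at this⟩
    obtain ⟨x, hx⟩ := exists_sf_ne_zero v hv
    have hpres := act_preserves c x v
    rw [hact, hact, sf_smul_left, sf_smul_right] at hpres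
    have ha2 : a * a = 1 := by
      have : (a * a - 1) * sympForm m F x v = 0 := by linear_combination hpres
      rcases mul_eq_zero.1 this with h | h
      · linear_combination h
      · exact absurd h hx
    have ha' : a = 1 ∨ a = -1 := by
      have : (a - 1) * (a + 1) = 0 := by linear_combination ha2
      rcases mul_eq_zero.1 this with h | h
      · left; linear_combination h
      · right; linear_combination h
    have hmat : (c : Matrix (Fin m ⊕ Fin m) (Fin m ⊕ Fin m) F) = a • 1 := by
      apply Matrix.toLin'.injective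
      apply LinearMap.ext
      intro x
      rw [Matrix.toLin'_apply]
      change act c x = _
      rw [hact]
      simp
    rcases ha' with h | h
    · left
      apply Subtype.ext
      rw [hmat, h, one_smul]; rfl
    · right
      apply Subtype.ext
      rw [hmat, h, negOneSp_coe]
      simp

theorem negOneSp_mem_center :
    negOneSp m F ∈ Subgroup.center (Matrix.symplecticGroup (Fin m) F) := by
  rw [Subgroup.mem_center_iff]
  intro g
  exact negOneSp_comm g

theorem pow_bound (m : ℕ) (hm : 3 ≤ m) : 8 * (m * m) < 2 ^ (2 * m + 1) := by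
  induction m, hm using Nat.le_induction with
  | base => norm_num
  | succ k hk ih =>
    have e : 2 ^ (2 * (k + 1) + 1) = 4 * 2 ^ (2 * k + 1) := by
      rw [show 2 * (k + 1) + 1 = (2 * k + 1) + 2 by ring, pow_add]; ring
    rw [e]
    nlinarith

/-- A subgroup of `Sp_{2m}(F)` (`m ≥ 3`, odd characteristic) containing the centre, with all
commutators and squares central, has order less than `2^(2m+1)`. -/
theorem card_lt [Finite F] (h2 : (2 : F) ≠ 0) (hm : 3 ≤ m)
    (E : Subgroup (Matrix.symplecticGroup (Fin m) F))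
    (hZ : Subgroup.center (Matrix.symplecticGroup (Fin m) F) ≤ E)
    (hcommE : ∀ x ∈ E, ∀ y ∈ E,
      (y * x)⁻¹ * (x * y) ∈ Subgroup.center (Matrix.symplecticGroup (Fin m) F))
    (hsqE : ∀ x ∈ E, x * x ∈ Subgroup.center (Matrix.symplecticGroup (Fin m) F)) :
    Nat.card E < 2 ^ (2 * m + 1) := by
  classical
  haveI : Fintype F := Fintype.ofFinite F
  haveI : Finite (Matrix.symplecticGroup (Fin m) F) :=
    Finite.of_injective (fun a => (a.1 : Matrix (Fin m ⊕ Fin m) (Fin m ⊕ Fin m) F))
      (fun a b h => Subtype.ext h)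
  have hzE : negOneSp m F ∈ E := hZ negOneSp_mem_center
  obtain ⟨z, hzdef⟩ : ∃ z : ↥E, z = ⟨negOneSp m F, hzE⟩ := ⟨_, rfl⟩
  have hz : ∀ g : ↥E, g * z = z * g := by
    intro g
    apply Subtype.ext
    rw [hzdef]
    exact negOneSp_comm g.1
  have hz2 : z * z = 1 := by
    apply Subtype.ext
    rw [hzdef]
    exact negOneSp_sq
  have hz1 : z ≠ 1 := by
    intro h
    rw [hzdef] at h
    exact negOneSp_ne_one h2 (by omega) (congrArg Subtype.val h)
  have hcomm : ∀ x y : ↥E, x * y = y * x ∨ x * y = z * (y * x) := by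
    intro x y
    rcases center_cases _ (hcommE x.1 x.2 y.1 y.2) with h | h
    · left
      apply Subtype.ext
      exact (inv_mul_eq_one.1 h).symm
    · right
      apply Subtype.ext
      rw [hzdef]
      have : (x.1 * y.1) = (y.1 * x.1) * negOneSp m F := inv_mul_eq_iff_eq_mul.1 h
      change x.1 * y.1 = negOneSp m F * (y.1 * x.1)
      rw [this, negOneSp_comm]
  have hsq : ∀ x : ↥E, x * x = 1 ∨ x * x = z := by
    intro x
    rcases center_cases _ (hsqE x.1 x.2) with h | h
    · left; exact Subtype.ext h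
    · right; apply Subtype.ext; rw [hzdef]; exact h
  -- the elementary abelian bound
  have hEA : ∀ B : Subgroup ↥E, (∀ b ∈ B, b * b = 1) → Nat.card B ≤ 2 ^ m := by
    intro B hB
    have hcard : Nat.card (B.map E.subtype) = Nat.card B :=
      (Nat.card_congr (B.equivMapOfInjective _ E.subtype_injective).toEquiv).symm
    rw [← hcard]
    apply Cfsg.Agent.Lib.Helper24.sp_matrix_bound h2 m
    rintro _ ⟨b, hb, rfl⟩
    rw [pow_two]
    have := hB b hb
    exact congrArg Subtype.val this
  obtain ⟨A, hAab, hAcard⟩ := exists_large_abelian z hz hz2 hcomm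
  obtain ⟨A₁, -, hA₁sq, hA₁card⟩ := card_le_two_mul_card_sq_one z hz2 hsq A hAab
  have hA₁ := hEA A₁ hA₁sq
  have hAle : Nat.card A ≤ 2 * 2 ^ m := le_trans hA₁card (Nat.mul_le_mul_left _ hA₁)
  by_cases hcen : ∀ x : ↥E, (∀ y, x * y = y * x) → x = 1 ∨ x = z
  · -- linear independence
    let ρ : ↥E →* Matrix (Fin m ⊕ Fin m) (Fin m ⊕ Fin m) F :=
      (Matrix.symplecticGroup (Fin m) F).subtype.comp E.subtype
    have hρz : ρ z = -1 := by rw [hzdef]; rfl
    haveI : Nonempty (Fin m ⊕ Fin m) := ⟨Sum.inl ⟨0, by omega⟩⟩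
    have h := card_le_of_center h2 z hz hz1 hz2 hcomm ρ hρz hcen
    rw [Fintype.card_sum, Fintype.card_fin] at h
    have hb := pow_bound m hm
    calc Nat.card E ≤ 2 * ((m + m) * (m + m)) := h
      _ = 8 * (m * m) := by ring
      _ < 2 ^ (2 * m + 1) := hb
  · push Not at hcen
    obtain ⟨c, hc, hc1, hcz⟩ := hcen
    have h3 : 3 ≤ Nat.card (Subgroup.center ↥E) := by
      haveI : Fintype (Subgroup.center ↥E) := Fintype.ofFinite _
      rw [Nat.card_eq_fintype_card]
      apply Nat.succ_le_of_lt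
      rw [Fintype.two_lt_card_iff]
      refine ⟨⟨1, Subgroup.one_mem _⟩, ⟨z, Subgroup.mem_center_iff.2 (fun g => hz g)⟩,
        ⟨c, Subgroup.mem_center_iff.2 (fun g => (hc g).symm)⟩, ?_, ?_, ?_⟩
      · intro h; exact hz1 (congrArg Subtype.val h).symm
      · intro h; exact hc1 (congrArg Subtype.val h).symm
      · intro h; exact hcz (congrArg Subtype.val h).symm
    have h4 : Nat.card ↥E * 3 ≤ (2 * 2 ^ m) * (2 * 2 ^ m) :=
      le_trans (Nat.mul_le_mul_left _ h3) (le_trans hAcard (Nat.mul_le_mul hAle hAle))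
    have e : 2 ^ (2 * m + 1) = 2 * (2 ^ m * 2 ^ m) := by
      rw [show 2 * m + 1 = m + m + 1 by ring, pow_add, pow_add]; ring
    rw [e]
    have e2 : (2 * 2 ^ m) * (2 * 2 ^ m) = 4 * (2 ^ m * 2 ^ m) := by ring
    rw [e2] at h4
    have hP : 0 < 2 ^ m * 2 ^ m := by positivity
    generalize 2 ^ m * 2 ^ m = P at h4 hP ⊢
    omega

end Cfsg.Agent.Lib.Helper19.SpTwoRank
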