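import Mathlib
import Cfsg.Agent.Lib.Helper24.USim2
import Cfsg.Agent.Lib.Helper19.SpecThreeU1

set_option autoImplicit false

namespace Cfsg.Agent.Lib.Helper19.SpecThree

open Matrix Module Cfsg Cfsg.Agent.S2365 Cfsg.Agent.Lib.Helper27.Unitary
  Cfsg.Agent.Lib.Helper24.USim

variable {F : Type*} [Field F] [Fintype F] {q : ℕ}

/-- Transfer: a determinant-one matrix preserving some Hermitian form gives an element of
`PSU_3(q)` with the same pattern of scalar powers. -/
theorem exists_orderOf_U (hF : Fintype.card F = q ^ 2)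
    (f : (Fin 3 → F) → (Fin 3 → F) → F) (hf : HForm q f)
    (A : Matrix (Fin 3) (Fin 3) F) (hdet : A.det = 1)
    (hA : ∀ u v, f (A *ᵥ u) (A *ᵥ v) = f u v) (t : ℕ)
    (ht : ∀ j : ℕ, (∃ c : F, A ^ j = c • 1) ↔ t ∣ j) :
    ∃ g : Cfsg.PSU 3 F q, orderOf g = t := by
  classical
  obtain ⟨Pg, hPg⟩ := exists_std hF hf
  set P : Matrix (Fin 3) (Fin 3) F := (Pg : Matrix (Fin 3) (Fin 3) F) with hP
  set Pi : Matrix (Fin 3) (Fin 3) F := ((Pg⁻¹ : GL (Fin 3) F) : Matrix (Fin 3) (Fin 3) F) with hPi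
  have hPPi : P * Pi = 1 := by
    rw [hP, hPi, ← Units.val_mul, mul_inv_cancel, Units.val_one]
  have hPiP : Pi * P = 1 := by
    rw [hP, hPi, ← Units.val_mul, inv_mul_cancel, Units.val_one]
  set M := Pi * A * P with hM
  have hMdet : M.det = 1 := by
    rw [hM, Matrix.det_mul, Matrix.det_mul, hdet, mul_one, ← Matrix.det_mul, hPiP, Matrix.det_one]
  have hMpow : ∀ j : ℕ, M ^ j = Pi * A ^ j * P := by
    intro j
    induction j with
    | zero => rw [pow_zero, pow_zero, mul_one, hPiP]
    | succ j ih =>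
      rw [pow_succ, ih, hM, pow_succ]
      calc Pi * A ^ j * P * (Pi * A * P) = Pi * A ^ j * (P * Pi) * A * P := by
            simp only [mul_assoc]
        _ = Pi * (A ^ j * A) * P := by rw [hPPi, mul_one, mul_assoc Pi]
  have hPM : ∀ w : Fin 3 → F, P *ᵥ (M *ᵥ w) = A *ᵥ (P *ᵥ w) := by
    intro w
    rw [Matrix.mulVec_mulVec, Matrix.mulVec_mulVec, hM, ← mul_assoc, ← mul_assoc, hPPi, one_mul]
  have hMpres : ∀ u v, hermForm 3 F q (M *ᵥ u) (M *ᵥ v) = hermForm 3 F q u v := by
    intro u v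
    rw [← hPg, ← hPg u v, hPM, hPM, hA]
  let X₀ : Matrix.SpecialLinearGroup (Fin 3) F := ⟨M, hMdet⟩
  have hmem : X₀ ∈ Cfsg.SU 3 F q := by
    intro u v
    exact hMpres u v
  let X : ↥(Cfsg.SU 3 F q) := ⟨X₀, hmem⟩
  have hmatX : mat X = M := rfl
  refine ⟨QuotientGroup.mk X, ?_⟩
  apply orderOf_mk_eq_U
  intro j
  constructor
  · intro hj
    obtain ⟨c, hc⟩ := center_scalar hF (by norm_num) _ hj
    rw [mat_pow, hmatX, hMpow] at hc
    apply (ht j).1
    refine ⟨c, ?_⟩
    have h1 : A ^ j = P * (Pi * A ^ j * P) * Pi := by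
      calc A ^ j = (P * Pi) * A ^ j * (P * Pi) := by rw [hPPi, one_mul, mul_one]
        _ = P * (Pi * A ^ j * P) * Pi := by simp only [mul_assoc]
    rw [h1, hc, Matrix.mul_smul, Matrix.smul_mul, mul_one, hPPi]
  · intro hj
    obtain ⟨c, hc⟩ := (ht j).2 hj
    apply center_of_scalar _ c
    rw [mat_pow, hmatX, hMpow, hc, Matrix.mul_smul, Matrix.smul_mul, mul_one, hPiP]

/-- The standard form is Hermitian. -/
lemma hform_std (hF : Fintype.card F = q ^ 2) : HForm q (hermForm 3 F q) where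
  add_left := fun x y v => hf_add_left x y v
  smul_left := fun c x v => hf_smul_left c x v
  herm := fun v w => hf_swap hF w v
  nondeg := by
    intro v hv
    by_contra hcon
    push Not at hcon
    exact hv (hf_nondeg hF v hcon)

/-- The hyperbolic-plus-line form. -/
def hypForm (q : ℕ) (u v : Fin 3 → F) : F :=
  u 0 * (v 1) ^ q + u 1 * (v 0) ^ q + u 2 * (v 2) ^ q

lemma hform_hyp (hF : Fintype.card F = q ^ 2) : HForm q (hypForm (F := F) q) where
  add_left := by
    intro x y v
    unfold hypForm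
    simp only [Pi.add_apply]
    ring
  smul_left := by
    intro c x v
    unfold hypForm
    simp only [Pi.smul_apply, smul_eq_mul]
    ring
  herm := by
    intro v w
    unfold hypForm
    rw [cj_add hF, cj_add hF, mul_pow, mul_pow, mul_pow, cj_cj hF, cj_cj hF, cj_cj hF]
    ring
  nondeg := by
    intro v hv
    by_contra hcon
    push Not at hcon
    apply hv
    have h0 := hcon (Pi.single 1 1)
    have h1 := hcon (Pi.single 0 1)
    have h2 := hcon (Pi.single 2 1)
    have hq0 : q ≠ 0 := by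
      have := two_le_q hF
      omega
    unfold hypForm at h0 h1 h2
    simp [hq0] at h0 h1 h2
    funext i
    fin_cases i
    · exact h0
    · exact h1
    · exact h2

end Cfsg.Agent.Lib.Helper19.SpecThree
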