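import Mathlib
import Cfsg.Agent.S2476
import Cfsg.Agent.Lib.Helper19.SpecThreeU2

set_option autoImplicit false

namespace Cfsg.Agent.Lib.Helper19.SpecThree

open Matrix Module Cfsg Cfsg.Agent.S2365 Cfsg.Agent.Lib.Helper27.Unitary
  Cfsg.Agent.Lib.Helper24.USim

section ArithU2

lemma dvd_three_mul (N j : ℕ) : N ∣ 3 * j ↔ N / Nat.gcd 3 N ∣ j := by
  have hdpos : 0 < Nat.gcd 3 N := Nat.gcd_pos_of_pos_left _ (by norm_num)
  have hcop : Nat.Coprime (N / Nat.gcd 3 N) (3 / Nat.gcd 3 N) := by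
    have := Nat.coprime_div_gcd_div_gcd (m := N) (n := 3) (by rw [Nat.gcd_comm]; exact hdpos)
    rwa [Nat.gcd_comm N 3] at this
  rw [mul_comm 3 j]
  exact Cfsg.Agent.S2476.dvd_helper _ 3 _ j hdpos (Nat.gcd_dvd_right _ _) (Nat.gcd_dvd_left _ _)
    hcop

lemma dvd_pair (T N j : ℕ) (hNT : N ∣ T) :
    (T ∣ N * j ∧ T ∣ 3 * j) ↔ T / Nat.gcd 3 N ∣ j := by
  have hdpos : 0 < Nat.gcd 3 N := Nat.gcd_pos_of_pos_left _ (by norm_num)
  have hd : Nat.gcd 3 N ∣ T := (Nat.gcd_dvd_right _ _).trans hNT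
  rw [← Nat.dvd_gcd_iff, mul_comm N j, mul_comm 3 j, Nat.gcd_mul_left, Nat.gcd_comm N 3]
  obtain ⟨m, hm⟩ := hd
  rw [hm, Nat.mul_div_cancel_left _ hdpos, mul_comm j, Nat.mul_dvd_mul_iff_left hdpos]

end ArithU2

variable {F : Type*} [Field F] [Fintype F] {q : ℕ}

lemma diag_pow_scalar (d : Fin 3 → F) (j : ℕ) (c : F) :
    (Matrix.diagonal d) ^ j = c • 1 ↔ ∀ i, d i ^ j = c := by
  rw [Matrix.diagonal_pow, Matrix.smul_one_eq_diagonal]
  constructor
  · intro h i
    have := Matrix.diagonal_injective h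
    have h2 := congrFun this i
    simpa using h2
  · intro h
    congr 1
    funext i
    simpa using h i

/-- Generators: an element of order `q^2 - 1` and its power of order `q + 1`. -/
lemma exists_gens (hF : Fintype.card F = q ^ 2) :
    ∃ lam : F, lam ≠ 0 ∧ orderOf lam = q ^ 2 - 1 ∧
      ∃ α : F, α ≠ 0 ∧ orderOf α = q + 1 ∧ α * α ^ q = 1 := by
  classical
  have hq2 : 2 ≤ q := two_le_q hF
  obtain ⟨g, hg⟩ := IsCyclic.exists_ofOrder_eq_natCard (α := Fˣ)
  rw [Nat.card_eq_fintype_card, Fintype.card_units, hF] at hg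
  have hfac : q ^ 2 - 1 = (q + 1) * (q - 1) := arithU1 q hq2
  have hg0 : orderOf g ≠ 0 := by
    rw [hg, hfac]
    apply Nat.mul_ne_zero
    · omega
    · omega
  refine ⟨(g : F), g.ne_zero, by rw [orderOf_units, hg], ((g ^ (q - 1) : Fˣ) : F), Units.ne_zero _,
    ?_, ?_⟩
  · rw [orderOf_units]
    have h1 : orderOf g / (q + 1) = q - 1 := by
      rw [hg, hfac, Nat.mul_div_cancel_left _ (by omega)]
    rw [← h1]
    exact orderOf_pow_orderOf_div hg0 (by rw [hg, hfac]; exact Dvd.intro _ rfl)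
  · rw [← pow_succ']
    rw [← Units.val_pow_eq_pow_val, ← pow_mul]
    have h2 : (q - 1) * (q + 1) = orderOf g := by rw [hg, hfac, mul_comm]
    rw [h2, pow_orderOf_eq_one, Units.val_one]

/-- An element of order `q + 1`. -/
theorem exists_Ua (hF : Fintype.card F = q ^ 2) :
    ∃ g : Cfsg.PSU 3 F q, orderOf g = q + 1 := by
  classical
  obtain ⟨lam, -, -, α, hα0, hαord, hα1⟩ := exists_gens hF
  have hα2 : α⁻¹ * (α⁻¹) ^ q = 1 := by
    rw [inv_pow, ← mul_inv, hα1, inv_one]
  apply exists_orderOf_U hF (hermForm 3 F q) (hform_std hF) (Matrix.diagonal ![α, α⁻¹, 1])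
  · rw [Matrix.det_diagonal, Fin.prod_univ_three]
    simp [mul_inv_cancel₀ hα0]
  · intro u v
    rw [hf_def, hf_def, Fin.sum_univ_three, Fin.sum_univ_three, Matrix.mulVec_diagonal,
      Matrix.mulVec_diagonal, Matrix.mulVec_diagonal, Matrix.mulVec_diagonal,
      Matrix.mulVec_diagonal, Matrix.mulVec_diagonal]
    simp only [Matrix.cons_val_zero, Matrix.cons_val_one, Matrix.cons_val_two, Matrix.head_cons,
      Matrix.tail_cons, mul_pow, one_pow, one_mul]
    linear_combination (u 0 * v 0 ^ q) * hα1 + (u 1 * v 1 ^ q) * hα2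
  · intro j
    rw [← hαord, orderOf_dvd_iff_pow_eq_one]
    constructor
    · rintro ⟨c, hc⟩
      rw [diag_pow_scalar] at hc
      have h0 := hc 0
      have h2 := hc 2
      simp only [Matrix.cons_val_zero, Matrix.cons_val_two, Matrix.head_cons,
        Matrix.tail_cons, one_pow] at h0 h2
      rw [h0, ← h2]
    · intro h
      refine ⟨1, ?_⟩
      rw [diag_pow_scalar]
      intro i
      fin_cases i
      · exact h
      · show (α⁻¹) ^ j = 1
        rw [inv_pow, h, inv_one]
      · show (1 : F) ^ j = 1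
        exact one_pow j

/-- An element of order `(q^2 - 1) / d`. -/
theorem exists_Uc (hF : Fintype.card F = q ^ 2) :
    ∃ g : Cfsg.PSU 3 F q, orderOf g = (q ^ 2 - 1) / Nat.gcd 3 (q + 1) := by
  classical
  have hq2 : 2 ≤ q := two_le_q hF
  obtain ⟨lam, hl0, hlord, -⟩ := exists_gens hF
  have hlq0 : lam ^ q ≠ 0 := pow_ne_zero _ hl0
  have hcj : (lam ^ q) ^ q = lam := cj_cj hF lam
  have hfac : q ^ 2 - 1 = (q + 1) * (q - 1) := arithU1 q hq2
  apply exists_orderOf_U hF (hypForm q) (hform_hyp hF)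
    (Matrix.diagonal ![lam, (lam ^ q)⁻¹, lam ^ q * lam⁻¹])
  · rw [Matrix.det_diagonal, Fin.prod_univ_three]
    simp only [Matrix.cons_val_zero, Matrix.cons_val_one, Matrix.cons_val_two, Matrix.head_cons,
      Matrix.tail_cons]
    field_simp
  · intro u v
    unfold hypForm
    rw [Matrix.mulVec_diagonal, Matrix.mulVec_diagonal, Matrix.mulVec_diagonal,
      Matrix.mulVec_diagonal, Matrix.mulVec_diagonal, Matrix.mulVec_diagonal]
    simp only [Matrix.cons_val_zero, Matrix.cons_val_one, Matrix.cons_val_two, Matrix.head_cons,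
      Matrix.tail_cons, mul_pow, inv_pow, hcj]
    field_simp
  · intro j
    rw [← dvd_pair _ (q + 1) j (by rw [hfac]; exact Dvd.intro _ rfl), ← hlord,
      orderOf_dvd_iff_pow_eq_one, orderOf_dvd_iff_pow_eq_one]
    have hA : lam ^ ((q + 1) * j) = (lam ^ q) ^ j * lam ^ j := by
      rw [← pow_mul, ← pow_add]
      congr 1
      ring
    have hB : lam ^ (3 * j) = lam ^ j * lam ^ j * lam ^ j := by
      rw [← pow_add, ← pow_add]
      congr 1
      ring
    have hlj0 : lam ^ j ≠ 0 := pow_ne_zero _ hl0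
    constructor
    · rintro ⟨c, hc⟩
      rw [diag_pow_scalar] at hc
      have h0 := hc 0
      have h1 := hc 1
      have h2 := hc 2
      simp only [Matrix.cons_val_zero, Matrix.cons_val_one, Matrix.cons_val_two,
        Matrix.head_cons, Matrix.tail_cons] at h0 h1 h2
      have e1 : (lam ^ q) ^ j * lam ^ j = 1 := by
        rw [h0, ← h1, inv_pow]
        exact mul_inv_cancel₀ (pow_ne_zero _ hlq0)
      refine ⟨by rw [hA]; exact e1, ?_⟩
      rw [hB]
      have e2 : (lam ^ q) ^ j = lam ^ j * lam ^ j := by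
        rw [mul_pow, ← h0, inv_pow] at h2
        field_simp at h2
        rw [h2]
        ring
      rw [← e2]
      exact e1
    · rintro ⟨h1, h3⟩
      rw [hA] at h1
      rw [hB] at h3
      refine ⟨lam ^ j, ?_⟩
      rw [diag_pow_scalar]
      intro i
      fin_cases i
      · rfl
      · show ((lam ^ q)⁻¹) ^ j = lam ^ j
        rw [inv_pow]
        exact inv_eq_of_mul_eq_one_right h1
      · show (lam ^ q * lam⁻¹) ^ j = lam ^ j
        rw [mul_pow, inv_pow]
        have e3 : (lam ^ q) ^ j = lam ^ j * lam ^ j := by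
          have : (lam ^ q) ^ j * lam ^ j = lam ^ j * lam ^ j * lam ^ j := by rw [h1, h3]
          exact mul_right_cancel₀ hlj0 this
        rw [e3]
        field_simp

end Cfsg.Agent.Lib.Helper19.SpecThree
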