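import Mathlib
import Cfsg.Agent.Lib.Helper19.SpecThreeU3

set_option autoImplicit false

namespace Cfsg.Agent.Lib.Helper19.SpecThree

open Matrix Module Cfsg Cfsg.Agent.S2365 Cfsg.Agent.Lib.Helper27.Unitary
  Cfsg.Agent.Lib.Helper24.USim

section TraceForm

variable {F : Type*} [Field F] [Fintype F] {q : ℕ} {K : Type*} [Field K] [Algebra F K]
  [Fintype K]

/-- The twisted trace form on a cubic extension, in coordinates. -/
noncomputable def trForm (q : ℕ) (b : Basis (Fin 3) F K) (u v : Fin 3 → F) : F :=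
  Algebra.trace F K (b.equivFun.symm u * (b.equivFun.symm v) ^ (q ^ 3))

lemma hform_tr (p : ℕ) [Fact p.Prime] [CharP F p] (hF : Fintype.card F = q ^ 2)
    (hfr : finrank F K = 3) (hcard : Fintype.card K = (q ^ 2) ^ 3) (b : Basis (Fin 3) F K) :
    HForm q (trForm q b) := by
  classical
  have hp : p.Prime := Fact.out
  obtain ⟨k, hk⟩ : ∃ k, q = p ^ k := by
    obtain ⟨e, -, he⟩ := FiniteField.card F p
    have hdvd : q ∣ p ^ (e : ℕ) := by
      rw [← he, hF]
      exact dvd_pow_self q (by norm_num)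
    obtain ⟨k, -, hk⟩ := (Nat.dvd_prime_pow hp).1 hdvd
    exact ⟨k, hk⟩
  haveI : CharP K p := charP_of_injective_algebraMap (algebraMap F K).injective p
  set ψ : K →+* K := iterateFrobenius K p (k * 3) with hψ
  have hψq : ∀ x, ψ x = x ^ (q ^ 3) := by
    intro x
    rw [hψ, iterateFrobenius_def, hk, pow_mul]
  have hψψ : ∀ x, ψ (ψ x) = x := by
    intro x
    rw [hψq, hψq, ← pow_mul]
    have h1 : q ^ 3 * q ^ 3 = Fintype.card K := by
      rw [hcard]
      ring
    rw [h1, FiniteField.pow_card]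
  have hψF : ∀ a : F, ψ (algebraMap F K a) = algebraMap F K (a ^ q) := by
    intro a
    rw [hψq, ← map_pow]
    congr 1
    have h1 : q ^ 3 = q ^ 2 * q := by ring
    rw [h1, pow_mul, ← hF, FiniteField.pow_card]
  have htr : ∀ z : K, algebraMap F K (Algebra.trace F K z) =
      z + z ^ (q ^ 2) + z ^ ((q ^ 2) ^ 2) := by
    intro z
    rw [FiniteField.algebraMap_trace_eq_sum_pow, hfr, Nat.card_eq_fintype_card, hF,
      Finset.sum_range_succ, Finset.sum_range_succ, Finset.sum_range_one, pow_zero, pow_one,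
      pow_one]
  refine ⟨?_, ?_, ?_, ?_⟩
  · intro x y v
    unfold trForm
    rw [map_add, add_mul, map_add]
  · intro c x v
    unfold trForm
    rw [map_smul, smul_mul_assoc, map_smul, smul_eq_mul]
  · intro v w
    unfold trForm
    set x := b.equivFun.symm v with hx
    set y := b.equivFun.symm w with hy
    apply (algebraMap F K).injective
    rw [← hψF, htr, htr, map_add, map_add, map_pow, map_pow]
    simp only [← hψq]
    have h1 : ψ (y * ψ x) = x * ψ y := by
      rw [map_mul, hψψ, mul_comm]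
    rw [h1]
  · intro v hv
    set x := b.equivFun.symm v with hx
    have hx0 : x ≠ 0 := by
      intro h
      apply hv
      have : b.equivFun.symm v = b.equivFun.symm 0 := by rw [← hx, h, map_zero]
      exact b.equivFun.symm.injective this
    have hnd := (_root_.traceForm_nondegenerate F K).1 x
    by_contra hcon
    push Not at hcon
    apply hx0
    apply hnd
    intro z
    rw [Algebra.traceForm_apply]
    have := hcon (b.equivFun (ψ z))
    unfold trForm at this
    rw [LinearEquiv.symm_apply_apply, ← hψq, hψψ] at this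
    exact this

end TraceForm

section ArithD

lemma arithUd1 (q : ℕ) (hq : 2 ≤ q) : (q ^ 2) ^ 3 - 1 = (q ^ 3 - 1) * (q ^ 3 + 1) := by
  have h1 : (q ^ 2) ^ 3 = (q ^ 3) ^ 2 := by ring
  have h2 : 2 ≤ q ^ 3 := by
    calc 2 ≤ q := hq
      _ = q ^ 1 := (pow_one q).symm
      _ ≤ q ^ 3 := Nat.pow_le_pow_right (by omega) (by norm_num)
  rw [h1, arithU1 (q ^ 3) h2, mul_comm]

lemma arithUd2 (q : ℕ) (hq : 2 ≤ q) : (q + 1) * (q ^ 2 - q + 1) = q ^ 3 + 1 := by
  obtain ⟨s, rfl⟩ : ∃ s, q = s + 2 := ⟨q - 2, by omega⟩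
  have h1 : (s + 2) ^ 2 - (s + 2) + 1 = s ^ 2 + 3 * s + 3 := by
    have : (s + 2) ^ 2 = s ^ 2 + 3 * s + 2 + (s + 2) := by ring
    omega
  rw [h1]
  ring

lemma gcd_TU (q : ℕ) (hq : 2 ≤ q) : Nat.gcd (q ^ 2 - q + 1) (q ^ 2 - 1) = Nat.gcd 3 (q + 1) := by
  obtain ⟨s, rfl⟩ : ∃ s, q = s + 2 := ⟨q - 2, by omega⟩
  have h1 : (s + 2) ^ 2 - (s + 2) + 1 = 3 + s * (s + 3) := by
    have : (s + 2) ^ 2 = 3 + s * (s + 3) + (s + 2) - 1 := by
      have : (s + 2) ^ 2 + 1 = 3 + s * (s + 3) + (s + 2) := by ring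
      omega
    omega
  have h2 : (s + 2) ^ 2 - 1 = (3 + s * (s + 3)) + s := by
    have : (s + 2) ^ 2 = (3 + s * (s + 3)) + s + 1 := by ring
    omega
  rw [h1, h2, Nat.gcd_self_add_right, Nat.gcd_add_mul_left_left]
  have h3 : s + 2 + 1 = s + 3 := by ring
  rw [h3, Nat.gcd_add_self_right]

/-- The divisibility governing scalar powers of the twisted Singer element. -/
lemma arithUd (q : ℕ) (hq : 2 ≤ q) (j : ℕ) :
    ((q ^ 2) ^ 3 - 1) ∣ (q ^ 3 - 1) * (q + 1) * j * (q ^ 2 - 1) ↔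
      (q ^ 2 - q + 1) / Nat.gcd 3 (q + 1) ∣ j := by
  have hepos : 0 < (q ^ 3 - 1) * (q + 1) := by
    apply Nat.mul_pos
    · have : 2 ^ 3 ≤ q ^ 3 := Nat.pow_le_pow_left hq 3
      omega
    · omega
  have hO : (q ^ 2) ^ 3 - 1 = ((q ^ 3 - 1) * (q + 1)) * (q ^ 2 - q + 1) := by
    rw [arithUd1 q hq, mul_assoc, arithUd2 q hq]
  rw [hO, mul_assoc ((q ^ 3 - 1) * (q + 1)) j, Nat.mul_dvd_mul_iff_left hepos]
  have hg := gcd_TU q hq
  have hdpos : 0 < Nat.gcd 3 (q + 1) := Nat.gcd_pos_of_pos_left _ (by norm_num)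
  have hdT : Nat.gcd 3 (q + 1) ∣ q ^ 2 - q + 1 := by
    rw [← hg]
    exact Nat.gcd_dvd_left _ _
  have hdS : Nat.gcd 3 (q + 1) ∣ q ^ 2 - 1 := by
    rw [← hg]
    exact Nat.gcd_dvd_right _ _
  have hcop : Nat.Coprime ((q ^ 2 - q + 1) / Nat.gcd 3 (q + 1))
      ((q ^ 2 - 1) / Nat.gcd 3 (q + 1)) := by
    have := Nat.coprime_div_gcd_div_gcd (m := q ^ 2 - q + 1) (n := q ^ 2 - 1)
      (by rw [hg]; exact hdpos)
    rwa [hg] at this
  exact Cfsg.Agent.S2476.dvd_helper _ _ _ j hdpos hdT hdS hcop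

end ArithD

variable {F : Type*} [Field F] [Fintype F] {q : ℕ}

/-- An element of order `(q^2 - q + 1) / d`. -/
theorem exists_Ud (p : ℕ) [Fact p.Prime] [CharP F p] (hF : Fintype.card F = q ^ 2) :
    ∃ g : Cfsg.PSU 3 F q, orderOf g = (q ^ 2 - q + 1) / Nat.gcd 3 (q + 1) := by
  classical
  have hq2 : 2 ≤ q := two_le_q hF
  let K := FiniteField.Extension F p 3
  have hfr : finrank F K = 3 := FiniteField.finrank_extension F p 3
  haveI : Fintype K := Fintype.ofFinite K
  have hcard : Fintype.card K = (q ^ 2) ^ 3 := by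
    rw [← Nat.card_eq_fintype_card, FiniteField.natCard_extension, Nat.card_eq_fintype_card, hF]
  let b : Basis (Fin 3) F K := Module.finBasisOfFinrankEq F K hfr
  let φ : K →ₐ[F] Matrix (Fin 3) (Fin 3) F := Algebra.leftMulMatrix b
  have hφ : Function.Injective φ := Algebra.leftMulMatrix_injective b
  obtain ⟨ξ, hξ⟩ := IsCyclic.exists_ofOrder_eq_natCard (α := Kˣ)
  rw [Nat.card_units, Nat.card_eq_fintype_card, hcard] at hξ
  have hξ' : orderOf (ξ : K) = (q ^ 2) ^ 3 - 1 := by rw [orderOf_units, hξ]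
  set y : K := (ξ : K) ^ ((q ^ 3 - 1) * (q + 1)) with hy
  have hy1 : y ^ (q ^ 3 + 1) = 1 := by
    rw [hy, ← pow_mul, ← orderOf_dvd_iff_pow_eq_one, hξ', arithUd1 q hq2]
    exact ⟨q + 1, by ring⟩
  have hynorm : y ^ (1 + q ^ 2 + (q ^ 2) ^ 2) = 1 := by
    rw [hy, ← pow_mul, ← orderOf_dvd_iff_pow_eq_one, hξ', arithUd1 q hq2]
    exact ⟨q ^ 2 + q + 1, by ring⟩
  apply exists_orderOf_U hF (trForm q b) (hform_tr p hF hfr hcard b) (φ y)
  · have h1 : (φ y).det = Algebra.norm F y := (Algebra.norm_eq_matrix_det b y).symm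
    rw [h1]
    apply (algebraMap F K).injective
    rw [FiniteField.algebraMap_norm_eq_pow_sum, map_one, hfr, Nat.card_eq_fintype_card, hF,
      Finset.sum_range_succ, Finset.sum_range_succ, Finset.sum_range_one, pow_zero, pow_one]
    exact hynorm
  · intro u v
    unfold trForm
    have hmul : ∀ w : Fin 3 → F, b.equivFun.symm (φ y *ᵥ w) = y * b.equivFun.symm w := by
      intro w
      have h2 := Algebra.leftMulMatrix_mulVec_repr b y (b.equivFun.symm w)
      have h3 : (b.repr (b.equivFun.symm w) : Fin 3 → F) = w := by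
        have := b.equivFun.apply_symm_apply w
        exact this
      rw [h3] at h2
      have h4 : φ y *ᵥ w = b.equivFun (y * b.equivFun.symm w) := h2
      rw [h4, LinearEquiv.symm_apply_apply]
    rw [hmul, hmul, mul_pow, mul_mul_mul_comm, ← pow_succ', hy1, one_mul]
  · intro j
    rw [← arithUd q hq2 j, ← hξ', orderOf_dvd_iff_pow_eq_one]
    have hpow : (ξ : K) ^ ((q ^ 3 - 1) * (q + 1) * (j * (q ^ 2 - 1))) = (y ^ j) ^ (q ^ 2 - 1) := by
      rw [hy, ← pow_mul, ← pow_mul]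
    rw [mul_assoc ((q ^ 3 - 1) * (q + 1)) j (q ^ 2 - 1), hpow]
    constructor
    · rintro ⟨c, hc⟩
      have h1 : φ (y ^ j) = φ (algebraMap F K c) := by
        rw [map_pow, hc, AlgHom.commutes, Algebra.algebraMap_eq_smul_one]
      have h2 := hφ h1
      have hc0 : c ≠ 0 := by
        rintro rfl
        rw [map_zero] at h2
        have hy0 : y ≠ 0 := by
          rw [hy]
          exact pow_ne_zero _ ξ.ne_zero
        exact (pow_ne_zero j hy0) h2
      rw [h2, ← map_pow]
      have := FiniteField.pow_card_sub_one_eq_one c hc0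
      rw [hF] at this
      rw [this, map_one]
    · intro h
      obtain ⟨c, hc⟩ := mem_range_of_pow (F := F) (y ^ j) (by rw [hF]; exact h)
      refine ⟨c, ?_⟩
      rw [← map_pow, ← hc, AlgHom.commutes, Algebra.algebraMap_eq_smul_one]

end Cfsg.Agent.Lib.Helper19.SpecThree
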