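import Mathlib
import Cfsg.Agent.Lib.Helper19.SpecThreeU4

set_option autoImplicit false

namespace Cfsg.Agent.Lib.Helper19.SpecThree

open Matrix Module Cfsg Cfsg.Agent.S2365 Cfsg.Agent.Lib.Helper27.Unitary
  Cfsg.Agent.Lib.Helper24.USim

variable {F : Type*} [Field F] [Fintype F] {q : ℕ}

/-- An element of order `p (q + 1) / d`. -/
theorem exists_Ub (p : ℕ) [Fact p.Prime] [CharP F p] (hF : Fintype.card F = q ^ 2) :
    ∃ g : Cfsg.PSU 3 F q, orderOf g = p * (q + 1) / Nat.gcd 3 (q + 1) := by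
  classical
  have hp : p.Prime := Fact.out
  have hq2 : 2 ≤ q := two_le_q hF
  obtain ⟨lam, -, -, α, hα0, hαord, hα1⟩ := exists_gens hF
  obtain ⟨c, hc0, hc⟩ := exists_theta hF
  set β : F := (α ^ 2)⁻¹ with hβdef
  have hβ : β * β ^ q = 1 := by
    rw [hβdef, inv_pow, ← mul_inv]
    have : α ^ 2 * (α ^ 2) ^ q = (α * α ^ q) ^ 2 := by ring
    rw [this, hα1, one_pow, inv_one]
  have hβ0 : β ≠ 0 := by
    rw [hβdef]
    exact inv_ne_zero (pow_ne_zero _ hα0)
  set A : Matrix (Fin 3) (Fin 3) F := !![α, α * c, 0; 0, α, 0; 0, 0, β] with hA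
  have hAu : ∀ u : Fin 3 → F, A *ᵥ u = ![α * u 0 + α * c * u 1, α * u 1, β * u 2] := by
    intro u
    funext i
    fin_cases i <;> simp [hA, Matrix.mulVec, dotProduct, Fin.sum_univ_three]
  have hApow : ∀ j : ℕ, A ^ j = !![α ^ j, (j : F) * α ^ j * c, 0; 0, α ^ j, 0; 0, 0, β ^ j] := by
    intro j
    induction j with
    | zero =>
      rw [pow_zero, Matrix.one_fin_three]
      simp
    | succ j ih =>
      rw [pow_succ, ih, hA, Matrix.mul_fin_three]
      ext a b
      fin_cases a <;> fin_cases b <;> simp [pow_succ] <;> ring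
  have hpj : ∀ j : ℕ, ((j : F) = 0 ↔ p ∣ j) := fun j => CharP.cast_eq_zero_iff F p j
  have hdq : Nat.gcd 3 (q + 1) ∣ q + 1 := Nat.gcd_dvd_right _ _
  have hcop : Nat.Coprime ((q + 1) / Nat.gcd 3 (q + 1)) p := by
    apply Nat.Coprime.coprime_dvd_left (Nat.div_dvd_of_dvd hdq)
    apply Nat.Coprime.symm
    rw [Nat.Prime.coprime_iff_not_dvd hp]
    intro h
    have h2 : p ∣ q := by
      obtain ⟨e, -, he⟩ := FiniteField.card F p
      have h3 : p ∣ q ^ 2 := by
        rw [← hF, he]
        exact dvd_pow_self p e.ne_zero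
      exact hp.dvd_of_dvd_pow h3
    have h3 : p ∣ 1 := by
      have := Nat.dvd_sub h h2
      rwa [Nat.add_sub_cancel_left] at this
    exact hp.one_lt.ne' (Nat.dvd_one.1 h3)
  have hfinal : p * (q + 1) / Nat.gcd 3 (q + 1) = (q + 1) / Nat.gcd 3 (q + 1) * p := by
    rw [Nat.mul_div_assoc _ hdq, mul_comm]
  rw [hfinal]
  apply exists_orderOf_U hF (hypForm q) (hform_hyp hF) A
  · have hdetA : A.det = α * α * β := by
      rw [hA, Matrix.det_fin_three]
      simp
    rw [hdetA, hβdef]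
    field_simp
  · intro u v
    unfold hypForm
    rw [hAu u, hAu v]
    simp only [Matrix.cons_val_zero, Matrix.cons_val_one, Matrix.cons_val_two, Matrix.head_cons,
      Matrix.tail_cons]
    rw [cj_add hF]
    simp only [mul_pow]
    linear_combination (u 0 * v 1 ^ q + u 1 * v 0 ^ q) * hα1 +
      (α * α ^ q * u 1 * v 1 ^ q) * hc + (u 2 * v 2 ^ q) * hβ
  · intro j
    have h1 : (∃ s : F, A ^ j = s • 1) ↔ ((j : F) = 0 ∧ β ^ j = α ^ j) := by
      constructor
      · rintro ⟨s, hs⟩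
        rw [hApow] at hs
        have e00 := congrArg (fun X : Matrix (Fin 3) (Fin 3) F => X 0 0) hs
        have e01 := congrArg (fun X : Matrix (Fin 3) (Fin 3) F => X 0 1) hs
        have e22 := congrArg (fun X : Matrix (Fin 3) (Fin 3) F => X 2 2) hs
        simp at e00 e01 e22
        refine ⟨?_, by rw [e00, e22]⟩
        rcases e01 with h | h
        · rcases h with h | h
          · exact h
          · exact absurd h.1 hα0
        · exact absurd h hc0
      · rintro ⟨hj, hβα⟩
        refine ⟨α ^ j, ?_⟩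
        rw [hApow, hj, hβα, Matrix.smul_one_eq_diagonal]
        ext a b
        fin_cases a <;> fin_cases b <;> simp
    have h2 : β ^ j = α ^ j ↔ α ^ (3 * j) = 1 := by
      constructor
      · intro h
        have h3 : (α ^ 2) ^ j * β ^ j = 1 := by
          rw [hβdef, ← mul_pow, mul_inv_cancel₀ (pow_ne_zero _ hα0), one_pow]
        rw [h] at h3
        rw [← h3]
        ring
      · intro h
        have h4 : (α ^ 2) ^ j ≠ 0 := pow_ne_zero _ (pow_ne_zero _ hα0)
        apply mul_left_cancel₀ h4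
        rw [hβdef, ← mul_pow, mul_inv_cancel₀ (pow_ne_zero _ hα0), one_pow, ← h]
        ring
    rw [h1, h2, hpj, ← orderOf_dvd_iff_pow_eq_one, hαord, dvd_three_mul]
    constructor
    · rintro ⟨h3, h4⟩
      exact hcop.mul_dvd_of_dvd_of_dvd h4 h3
    · intro h
      exact ⟨dvd_trans (dvd_mul_left p _) h, dvd_trans (dvd_mul_right _ p) h⟩

end Cfsg.Agent.Lib.Helper19.SpecThree
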