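import Mathlib
import Cfsg.Prelude.Def_Classical
import Cfsg.Agent.Lib.Helper19.QuadWitt
import Cfsg.Agent.Lib.Helper19.QuadStd
import Cfsg.Agent.Lib.Helper19.OrthWitt

/-!
# Helper19: the symmetric group inside orthogonal groups over the field of two elements
-/

set_option autoImplicit false

namespace Cfsg.Agent.Lib.Helper19.SymOrthTwo

open QuadraticMap Cfsg.Agent.Lib.Helper19.QuadWitt Cfsg.Agent.Lib.Helper19.QuadStd

/-- The sign character of `ZMod 2`. -/
def chi (a : ZMod 2) : ℤ := if a = 0 then 1 else -1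

lemma chi_add (a b : ZMod 2) : chi (a + b) = chi a * chi b := by
  revert a b; decide

lemma chi_add_one (a : ZMod 2) : chi (a + 1) = - chi a := by
  revert a; decide

lemma chi_sum {ι : Type*} (s : Finset ι) (f : ι → ZMod 2) :
    chi (∑ i ∈ s, f i) = ∏ i ∈ s, chi (f i) := by
  classical
  induction s using Finset.induction_on with
  | empty => simp [chi]
  | insert a s ha ih => rw [Finset.sum_insert ha, Finset.prod_insert ha, chi_add, ih]

lemma sum_zmod2 (f : ZMod 2 → ℤ) : ∑ t, f t = f 0 + f 1 := Fin.sum_univ_two f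

lemma sum_pair : ∑ p : ZMod 2 × ZMod 2, chi (p.1 * p.2) = 2 := by
  rw [Fintype.sum_prod_type, sum_zmod2]
  simp only [sum_zmod2]
  decide

lemma S_plus (m : ℕ) :
    ∑ r : Fin m ⊕ Fin m → ZMod 2, chi (∑ i, r (Sum.inl i) * r (Sum.inr i)) = 2 ^ m := by
  simp_rw [chi_sum]
  let e : (Fin m ⊕ Fin m → ZMod 2) ≃ (Fin m → ZMod 2 × ZMod 2) :=
    { toFun := fun r i => (r (Sum.inl i), r (Sum.inr i))
      invFun := fun q => Sum.elim (fun i => (q i).1) (fun i => (q i).2)
      left_inv := fun r => by funext s; rcases s with i | i <;> rfl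
      right_inv := fun q => rfl }
  rw [show (∑ r : Fin m ⊕ Fin m → ZMod 2, ∏ i, chi (r (Sum.inl i) * r (Sum.inr i))) =
    ∑ q : Fin m → ZMod 2 × ZMod 2, ∏ i, chi ((q i).1 * (q i).2) from
    Fintype.sum_equiv e _ _ (fun r => rfl)]
  have := Finset.prod_univ_sum (fun _ : Fin m => (Finset.univ : Finset (ZMod 2 × ZMod 2)))
    (fun _ p => chi (p.1 * p.2))
  rw [Fintype.piFinset_univ] at this
  rw [← this]
  simp [sum_pair]

lemma sum_two : ∑ t : Fin 2 → ZMod 2, chi (t 0 ^ 2 + 1 * t 0 * t 1 + 1 * t 1 ^ 2) = -2 := by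
  rw [← (finTwoArrowEquiv (ZMod 2)).symm.sum_comp, Fintype.sum_prod_type]
  simp only [sum_zmod2]
  decide

lemma S_minus (k : ℕ) :
    ∑ r : (Fin k ⊕ Fin k) ⊕ Fin 2 → ZMod 2,
      chi ((∑ i, r (Sum.inl (Sum.inl i)) * r (Sum.inl (Sum.inr i))) +
        (r (Sum.inr 0) ^ 2 + 1 * r (Sum.inr 0) * r (Sum.inr 1) + 1 * r (Sum.inr 1) ^ 2)) =
      -2 ^ (k + 1) := by
  rw [← (Equiv.sumArrowEquivProdArrow (Fin k ⊕ Fin k) (Fin 2) (ZMod 2)).symm.sum_comp,
    Fintype.sum_prod_type]
  simp only [Equiv.sumArrowEquivProdArrow, Equiv.coe_fn_symm_mk, Sum.elim_inl, Sum.elim_inr]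
  have h : ∀ (x : Fin k ⊕ Fin k → ZMod 2) (y : Fin 2 → ZMod 2),
      chi ((∑ i, x (Sum.inl i) * x (Sum.inr i)) + (y 0 ^ 2 + 1 * y 0 * y 1 + 1 * y 1 ^ 2)) =
        chi (∑ i, x (Sum.inl i) * x (Sum.inr i)) * chi (y 0 ^ 2 + 1 * y 0 * y 1 + 1 * y 1 ^ 2) :=
    fun x y => chi_add _ _
  simp_rw [h]
  rw [← Finset.sum_mul_sum, S_plus, sum_two]
  ring

/-- The second elementary symmetric function. -/
def e2 (n : ℕ) (u : Fin n → ZMod 2) : ZMod 2 := ∑ i, ∑ j, if i < j then u i * u j else 0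

/-- The first elementary symmetric function. -/
def s1 (n : ℕ) (u : Fin n → ZMod 2) : ZMod 2 := ∑ i, u i

lemma s1_cons (n : ℕ) (t : ZMod 2) (u : Fin n → ZMod 2) :
    s1 (n + 1) (Fin.cons t u) = t + s1 n u := by
  unfold s1
  rw [Fin.sum_univ_succ]
  simp

lemma e2_cons (n : ℕ) (t : ZMod 2) (u : Fin n → ZMod 2) :
    e2 (n + 1) (Fin.cons t u) = t * s1 n u + e2 n u := by
  unfold e2 s1
  rw [Fin.sum_univ_succ]
  simp only [Fin.sum_univ_succ (n := n), Fin.cons_zero, Fin.cons_succ, lt_self_iff_false,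
    if_false, zero_add, Fin.succ_pos, if_true, Fin.not_lt_zero, Fin.succ_lt_succ_iff,
    Finset.mul_sum]

lemma sq_zmod2 (t : ZMod 2) : t * t = t := by revert t; decide

lemma add_self_zmod2 (t : ZMod 2) : t + t = 0 := by revert t; decide

/-- Character sum of `e2 + s1`. -/
def aSum (n : ℕ) : ℤ := ∑ u : Fin n → ZMod 2, chi (e2 n u + s1 n u)

/-- Character sum of `e2`. -/
def cSum (n : ℕ) : ℤ := ∑ u : Fin n → ZMod 2, chi (e2 n u)

lemma sum_cons (n : ℕ) (f : (Fin (n + 1) → ZMod 2) → ℤ) :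
    ∑ v, f v = ∑ u : Fin n → ZMod 2, (f (Fin.cons 0 u) + f (Fin.cons 1 u)) := by
  rw [← (Fin.consEquiv (fun _ : Fin (n + 1) => ZMod 2)).sum_comp, Fintype.sum_prod_type,
    sum_zmod2, ← Finset.sum_add_distrib]
  rfl

lemma aSum_succ (n : ℕ) : aSum (n + 1) = aSum n - cSum n := by
  unfold aSum cSum
  rw [sum_cons, ← Finset.sum_sub_distrib]
  apply Finset.sum_congr rfl
  intro u _
  rw [e2_cons, e2_cons, s1_cons, s1_cons, zero_mul, zero_add, zero_add, one_mul]
  have : s1 n u + e2 n u + (1 + s1 n u) = e2 n u + 1 := by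
    have := add_self_zmod2 (s1 n u)
    linear_combination this
  rw [this, chi_add_one]
  ring

lemma cSum_succ (n : ℕ) : cSum (n + 1) = cSum n + aSum n := by
  unfold aSum cSum
  rw [sum_cons, ← Finset.sum_add_distrib]
  apply Finset.sum_congr rfl
  intro u _
  rw [e2_cons, e2_cons, zero_mul, zero_add, one_mul, add_comm (s1 n u)]

lemma aSum_zero : aSum 0 = 1 := by
  unfold aSum e2 s1
  simp [chi]

lemma cSum_zero : cSum 0 = 1 := by
  unfold cSum e2
  simp [chi]

lemma aSum_four (n : ℕ) : aSum (n + 4) = -4 * aSum n := by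
  show aSum (n + 1 + 1 + 1 + 1) = _
  simp only [aSum_succ, cSum_succ]
  ring

lemma cSum_four (n : ℕ) : cSum (n + 4) = -4 * cSum n := by
  show cSum (n + 1 + 1 + 1 + 1) = _
  simp only [aSum_succ, cSum_succ]
  ring

lemma aSum_val (k : ℕ) : aSum (4 * k + 2) = (-4) ^ k * (-2) := by
  induction k with
  | zero =>
    show aSum 2 = _
    rw [aSum_succ, aSum_succ, cSum_succ, aSum_zero, cSum_zero]
    norm_num
  | succ k ih =>
    have : 4 * (k + 1) + 2 = (4 * k + 2) + 4 := by ring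
    rw [this, aSum_four, ih]
    ring

/-- `e2` as a quadratic form. -/
noncomputable def e2Form (n : ℕ) : QuadraticForm (ZMod 2) (Fin n → ZMod 2) :=
  (Matrix.toBilin' (Matrix.of fun i j : Fin n => if i < j then (1 : ZMod 2) else 0)).toQuadraticMap

lemma e2Form_apply (n : ℕ) (u : Fin n → ZMod 2) : e2Form n u = e2 n u := by
  unfold e2Form e2
  rw [LinearMap.BilinMap.toQuadraticMap_apply, Matrix.toBilin'_apply]
  apply Finset.sum_congr rfl
  intro i _
  apply Finset.sum_congr rfl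
  intro j _
  rw [Matrix.of_apply]
  split_ifs <;> ring

lemma polar_e2 (n : ℕ) (v w : Fin n → ZMod 2) :
    polar (e2 n) v w = s1 n v * s1 n w - ∑ i, v i * w i := by
  unfold polar e2 s1
  have hA : ∑ i, ∑ j, (if i < j then w i * v j else 0) =
      ∑ i, ∑ j, (if j < i then w j * v i else 0) := Finset.sum_comm
  have hsplit : ∑ i, ∑ j, (if i < j then (v + w) i * (v + w) j else 0) =
      ∑ i, ∑ j, (if i < j then v i * v j else 0) + ∑ i, ∑ j, (if i < j then w i * w j else 0) +
      ∑ i, ∑ j, (if i < j then v i * w j else 0) + ∑ i, ∑ j, (if i < j then w i * v j else 0) := by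
    simp only [← Finset.sum_add_distrib]
    apply Finset.sum_congr rfl
    intro i _
    apply Finset.sum_congr rfl
    intro j _
    split_ifs
    · simp only [Pi.add_apply]; ring
    · simp
  have hrow : ∀ i, ∑ j, (if i < j then v i * w j else 0) + ∑ j, (if j < i then w j * v i else 0) =
      ∑ j, v i * w j - v i * w i := by
    intro i
    have h3 : ∀ j, v i * w j = (if i < j then v i * w j else 0) +
        (if j < i then w j * v i else 0) + (if j = i then v i * w i else 0) := by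
      intro j
      rcases lt_trichotomy i j with h | h | h
      · simp [h, h.not_gt, h.ne']
      · subst h; simp
      · simp [h, h.not_gt, h.ne, mul_comm]
    rw [eq_sub_iff_add_eq]
    conv_rhs => rw [Finset.sum_congr rfl (fun j _ => h3 j)]
    rw [Finset.sum_add_distrib, Finset.sum_add_distrib, Finset.sum_ite_eq' Finset.univ i]
    simp
  rw [hsplit, hA, Finset.sum_mul_sum, ← Finset.sum_sub_distrib]
  have : ∑ i, ∑ j, (if i < j then v i * w j else 0) + ∑ i, ∑ j, (if j < i then w j * v i else 0) =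
      ∑ i, (∑ j, v i * w j - v i * w i) := by
    rw [← Finset.sum_add_distrib]
    exact Finset.sum_congr rfl (fun i _ => hrow i)
  rw [← this]
  ring

/-- The all-ones vector. -/
def ones (n : ℕ) : Fin n → ZMod 2 := fun _ => 1

lemma ones_succ (n : ℕ) : ones (n + 1) = Fin.cons 1 (ones n) := by
  funext i
  refine Fin.cases rfl (fun j => rfl) i

lemma s1_ones (n : ℕ) : s1 n (ones n) = n := by simp [s1, ones]

lemma e2_ones_succ (n : ℕ) : e2 (n + 1) (ones (n + 1)) = (n : ZMod 2) + e2 n (ones n) := by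
  rw [ones_succ, e2_cons, s1_ones, one_mul]

lemma e2_ones (j : ℕ) : e2 (4 * j) (ones (4 * j)) = 0 := by
  induction j with
  | zero => simp [e2]
  | succ j ih =>
    show e2 (4 * j + 1 + 1 + 1 + 1) (ones (4 * j + 1 + 1 + 1 + 1)) = 0
    rw [e2_ones_succ, e2_ones_succ, e2_ones_succ, e2_ones_succ, ih]
    have h2 : (2 : ZMod 2) = 0 := by decide
    push_cast
    linear_combination (8 * (j : ZMod 2) + 3) * h2

lemma e2_single (n : ℕ) (i : Fin n) : e2 n (Pi.single i 1) = 0 := by
  unfold e2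
  apply Finset.sum_eq_zero
  intro a _
  apply Finset.sum_eq_zero
  intro b _
  split_ifs with h
  · by_cases ha : a = i
    · have : b ≠ i := by
        rintro rfl
        rw [ha] at h
        exact lt_irrefl _ h
      simp [Pi.single_apply, this]
    · simp [Pi.single_apply, ha]
  · rfl

lemma polar_e2_perm (n : ℕ) (τ : Equiv.Perm (Fin n)) (v w : Fin n → ZMod 2) :
    polar (e2 n) (v ∘ τ) (w ∘ τ) = polar (e2 n) v w := by
  rw [polar_e2, polar_e2]
  unfold s1
  simp only [Function.comp_apply]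
  rw [Equiv.sum_comp τ v, Equiv.sum_comp τ w, Equiv.sum_comp τ (fun i => v i * w i)]

lemma e2_perm (n : ℕ) (τ : Equiv.Perm (Fin n)) (v : Fin n → ZMod 2) :
    e2 n (v ∘ τ) = e2 n v := by
  classical
  let D : (Fin n → ZMod 2) →+ ZMod 2 := AddMonoidHom.mk' (fun v => e2 n (v ∘ τ) - e2 n v) (by
    intro v w
    have h1 := polar_e2_perm n τ v w
    unfold polar at h1
    have : (v + w) ∘ τ = v ∘ τ + w ∘ τ := rfl
    show e2 n ((v + w) ∘ τ) - e2 n (v + w) = _
    rw [this]
    linear_combination h1)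
  have hD : D v = 0 := by
    rw [← Finset.univ_sum_single v, map_sum]
    apply Finset.sum_eq_zero
    intro i _
    have hv : v i = 0 ∨ v i = 1 := by
      generalize v i = t
      revert t
      decide
    rcases hv with h | h
    · rw [h, Pi.single_zero, map_zero]
    · rw [h]
      show e2 n ((Pi.single i 1) ∘ τ) - e2 n (Pi.single i 1) = 0
      have : (Pi.single i (1 : ZMod 2) : Fin n → ZMod 2) ∘ τ = Pi.single (τ.symm i) 1 := by
        funext j
        simp [Pi.single_apply, Equiv.eq_symm_apply]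
      rw [this, e2_single, e2_single, sub_zero]
  exact sub_eq_zero.1 hD

lemma e2_add_const (n : ℕ) (h0 : e2 n (ones n) = 0) (v : Fin n → ZMod 2) (hv : s1 n v = 0)
    (c : ZMod 2) : e2 n (v + fun _ => c) = e2 n v := by
  have hc : c = 0 ∨ c = 1 := by
    revert c
    decide
  rcases hc with rfl | rfl
  · congr 1
    funext i
    simp
  · have h1 := polar_e2 n v (ones n)
    unfold polar at h1
    rw [hv, zero_mul, h0] at h1
    have h2 : ∑ i, v i * ones n i = s1 n v := by simp [ones, s1]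
    rw [h2, hv] at h1
    show e2 n (v + ones n) = _
    linear_combination h1

/-- The extension of a vector to an even vector with first coordinate zero. -/
def ext (N : ℕ) : (Fin N → ZMod 2) →ₗ[ZMod 2] (Fin (N + 2) → ZMod 2) where
  toFun u := Fin.cons 0 (Fin.cons (s1 N u) u)
  map_add' u v := by
    funext i
    refine Fin.cases ?_ (fun i => Fin.cases ?_ (fun j => ?_) i) i
    · simp
    · simp [s1, Finset.sum_add_distrib]
    · simp
  map_smul' c u := by
    funext i
    refine Fin.cases ?_ (fun i => Fin.cases ?_ (fun j => ?_) i) i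
    · simp
    · simp [s1, Finset.mul_sum]
    · simp

lemma ext_zero (N : ℕ) (u : Fin N → ZMod 2) : ext N u 0 = 0 := rfl

lemma ext_one (N : ℕ) (u : Fin N → ZMod 2) : ext N u (Fin.succ 0) = s1 N u := rfl

lemma ext_succ (N : ℕ) (u : Fin N → ZMod 2) (i : Fin N) : ext N u i.succ.succ = u i := rfl

lemma sum_ext (N : ℕ) (u : Fin N → ZMod 2) : ∑ j, ext N u j = 0 := by
  rw [Fin.sum_univ_succ, Fin.sum_univ_succ]
  simp only [ext_zero, ext_one, ext_succ, zero_add]
  exact add_self_zmod2 _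

lemma s1_ext (N : ℕ) (u : Fin N → ZMod 2) : s1 (N + 2) (ext N u) = 0 := sum_ext N u

lemma e2_ext (N : ℕ) (u : Fin N → ZMod 2) : e2 (N + 2) (ext N u) = e2 N u + s1 N u := by
  show e2 (N + 1 + 1) (Fin.cons 0 (Fin.cons (s1 N u) u)) = _
  rw [e2_cons, e2_cons, zero_mul, zero_add, sq_zmod2, add_comm]

lemma ext_of (N : ℕ) (v : Fin (N + 2) → ZMod 2) (h0 : v 0 = 0) (hs : ∑ j, v j = 0) :
    ext N (fun i => v i.succ.succ) = v := by
  funext j
  refine Fin.cases ?_ (fun j => Fin.cases ?_ (fun i => ?_) j) j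
  · rw [ext_zero, h0]
  · rw [ext_one]
    rw [Fin.sum_univ_succ, Fin.sum_univ_succ, h0, zero_add] at hs
    unfold s1
    have := add_self_zmod2 (v (Fin.succ 0))
    linear_combination hs - this
  · rfl

/-- The action of a permutation. -/
def Tfun (N : ℕ) (σ : Equiv.Perm (Fin (N + 2))) (u : Fin N → ZMod 2) : Fin N → ZMod 2 :=
  fun i => ext N u (σ⁻¹ i.succ.succ) + ext N u (σ⁻¹ 0)

lemma ext_T (N : ℕ) (hN : Even N) (σ : Equiv.Perm (Fin (N + 2))) (u : Fin N → ZMod 2) :
    ext N (Tfun N σ u) = (ext N u) ∘ ⇑σ⁻¹ + fun _ => ext N u (σ⁻¹ 0) := by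
  funext j
  refine Fin.cases ?_ (fun j => Fin.cases ?_ (fun i => ?_) j) j
  · rw [ext_zero]
    exact (add_self_zmod2 _).symm
  · rw [ext_one]
    have htot : ∑ j, ext N u (σ⁻¹ j) = 0 := by
      rw [Equiv.sum_comp σ⁻¹ (ext N u)]
      exact sum_ext N u
    rw [Fin.sum_univ_succ, Fin.sum_univ_succ] at htot
    have hNc : (N : ZMod 2) = 0 := (ZMod.natCast_eq_zero_iff N 2).2 hN.two_dvd
    unfold s1 Tfun
    rw [Finset.sum_add_distrib, Finset.sum_const, Finset.card_univ, Fintype.card_fin,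
      nsmul_eq_mul, hNc, zero_mul, add_zero]
    show _ = ext N u (σ⁻¹ (Fin.succ 0)) + ext N u (σ⁻¹ 0)
    have h1 := add_self_zmod2 (ext N u (σ⁻¹ (Fin.succ 0)))
    have h2 := add_self_zmod2 (ext N u (σ⁻¹ 0))
    linear_combination htot - h1 - h2
  · rfl

lemma T_one (N : ℕ) (u : Fin N → ZMod 2) : Tfun N 1 u = u := by
  funext i
  show ext N u ((1 : Equiv.Perm (Fin (N + 2)))⁻¹ i.succ.succ) +
    ext N u ((1 : Equiv.Perm (Fin (N + 2)))⁻¹ 0) = u i
  rw [inv_one, Equiv.Perm.one_apply, Equiv.Perm.one_apply, ext_zero, ext_succ, add_zero]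

lemma T_mul (N : ℕ) (hN : Even N) (σ τ : Equiv.Perm (Fin (N + 2))) (u : Fin N → ZMod 2) :
    Tfun N (σ * τ) u = Tfun N σ (Tfun N τ u) := by
  funext i
  show ext N u ((σ * τ)⁻¹ i.succ.succ) + ext N u ((σ * τ)⁻¹ 0) =
    ext N (Tfun N τ u) (σ⁻¹ i.succ.succ) + ext N (Tfun N τ u) (σ⁻¹ 0)
  rw [ext_T N hN τ u, mul_inv_rev]
  simp only [Pi.add_apply, Function.comp_apply, Equiv.Perm.mul_apply]
  have := add_self_zmod2 (ext N u (τ⁻¹ 0))
  linear_combination -this

/-- The action as a linear map. -/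
def Tlin (N : ℕ) (σ : Equiv.Perm (Fin (N + 2))) :
    (Fin N → ZMod 2) →ₗ[ZMod 2] (Fin N → ZMod 2) where
  toFun := Tfun N σ
  map_add' u v := by
    funext i
    simp only [Tfun, map_add, Pi.add_apply]
    ring
  map_smul' c u := by
    funext i
    simp only [Tfun, map_smul, Pi.smul_apply, smul_eq_mul, RingHom.id_apply]
    ring

/-- The quadratic form. -/
noncomputable def QN (N : ℕ) : QuadraticForm (ZMod 2) (Fin N → ZMod 2) :=
  (e2Form (N + 2)).comp (ext N)

lemma QN_apply (N : ℕ) (u : Fin N → ZMod 2) : QN N u = e2 (N + 2) (ext N u) := by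
  unfold QN
  rw [QuadraticMap.comp_apply, e2Form_apply]

lemma QN_T (N : ℕ) (hN : Even N) (h0 : e2 (N + 2) (ones (N + 2)) = 0)
    (σ : Equiv.Perm (Fin (N + 2))) (u : Fin N → ZMod 2) : QN N (Tfun N σ u) = QN N u := by
  rw [QN_apply, QN_apply, ext_T N hN, e2_add_const _ h0, e2_perm]
  unfold s1
  simp only [Function.comp_apply]
  rw [Equiv.sum_comp σ⁻¹ (ext N u)]
  exact sum_ext N u

lemma polar_QN (N : ℕ) (u v : Fin N → ZMod 2) :
    polar ⇑(QN N) u v = s1 N u * s1 N v + ∑ i, u i * v i := by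
  have h1 : polar ⇑(QN N) u v = polar (e2 (N + 2)) (ext N u) (ext N v) := by
    unfold polar
    rw [QN_apply, QN_apply, QN_apply, map_add]
  rw [h1, polar_e2, s1_ext, zero_mul, zero_sub, Fin.sum_univ_succ, Fin.sum_univ_succ]
  simp only [ext_zero, ext_one, ext_succ, zero_mul, zero_add]
  have h2 := add_self_zmod2 (s1 N u * s1 N v + ∑ i, u i * v i)
  linear_combination -h2

lemma QN_nondeg (N : ℕ) (hN : Even N) : (polarBilin (QN N)).Nondegenerate := by
  classical
  apply nondegenerate_of_sep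
  intro v hv
  have hNc : (N : ZMod 2) = 0 := (ZMod.natCast_eq_zero_iff N 2).2 hN.two_dvd
  have h1 : ∀ i, v i = s1 N v := by
    intro i
    have := hv (Pi.single i 1)
    rw [polar_QN] at this
    have hs : s1 N (Pi.single i (1 : ZMod 2)) = 1 := by
      unfold s1
      rw [Finset.sum_pi_single']
      simp
    have hs2 : ∑ k, v k * (Pi.single i (1 : ZMod 2) : Fin N → ZMod 2) k = v i := by
      simp [Pi.single_apply]
    rw [hs, hs2, mul_one] at this
    have h2 := add_self_zmod2 (v i)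
    linear_combination -this + h2
  have h2 : s1 N v = 0 := by
    have : s1 N v = ∑ _i : Fin N, s1 N v := by
      conv_lhs => unfold s1
      exact Finset.sum_congr rfl (fun i _ => h1 i)
    rw [Finset.sum_const, Finset.card_univ, Fintype.card_fin, nsmul_eq_mul, hNc, zero_mul] at this
    exact this
  funext i
  rw [h1 i, h2]
  rfl

lemma S_QN (N : ℕ) : ∑ u, chi (QN N u) = aSum N := by
  unfold aSum
  apply Finset.sum_congr rfl
  intro u _
  rw [QN_apply, e2_ext]

lemma exists_notMem (n : ℕ) (s : Finset (Fin n)) (h : s.card < n) : ∃ z, z ∉ s := by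
  by_contra hcon
  push Not at hcon
  have : s = Finset.univ := Finset.eq_univ_iff_forall.2 hcon
  rw [this, Finset.card_univ, Fintype.card_fin] at h
  exact lt_irrefl _ h

lemma exists_pair (N : ℕ) (x y : Fin (N + 2)) (hx : x ≠ 0) (hy : y ≠ 0) (hxy : x ≠ y) :
    ∃ u : Fin N → ZMod 2, ∀ j, ext N u j = (if j = x then 1 else 0) + (if j = y then 1 else 0) := by
  classical
  let v : Fin (N + 2) → ZMod 2 := fun j => (if j = x then 1 else 0) + (if j = y then 1 else 0)
  have h0 : v 0 = 0 := by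
    show (if (0 : Fin (N + 2)) = x then (1 : ZMod 2) else 0) + (if (0 : Fin (N + 2)) = y then 1 else 0) = 0
    rw [if_neg (Ne.symm hx), if_neg (Ne.symm hy), add_zero]
  have hs : ∑ j, v j = 0 := by
    show ∑ j, ((if j = x then (1 : ZMod 2) else 0) + (if j = y then 1 else 0)) = 0
    rw [Finset.sum_add_distrib, Finset.sum_ite_eq' Finset.univ x, Finset.sum_ite_eq' Finset.univ y]
    simp only [Finset.mem_univ, if_true]
    decide
  exact ⟨fun i => v i.succ.succ, fun j => congrFun (ext_of N v h0 hs) j⟩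

lemma T_faithful (N : ℕ) (hN : Even N) (h3 : 3 ≤ N) (σ : Equiv.Perm (Fin (N + 2)))
    (h : ∀ u, Tfun N σ u = u) : σ = 1 := by
  classical
  by_contra hne
  have hτ : σ⁻¹ ≠ 1 := fun h1 => hne (inv_eq_one.1 h1)
  have hstar : ∀ u j, ext N u j = ext N u (σ⁻¹ j) + ext N u (σ⁻¹ 0) := by
    intro u j
    have := congrFun (ext_T N hN σ u) j
    rw [h u] at this
    exact this
  obtain ⟨a, ha⟩ : ∃ a, σ⁻¹ a ≠ a := by
    by_contra hcon
    push Not at hcon
    exact hτ (Equiv.ext hcon)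
  by_cases h0 : σ⁻¹ 0 = 0
  · have ha0 : a ≠ 0 := by
      rintro rfl
      exact ha h0
    have hτa0 : σ⁻¹ a ≠ 0 := by
      intro h1
      rw [← h0] at h1
      exact ha0 (σ⁻¹.injective h1)
    obtain ⟨y, hy⟩ := exists_notMem (N + 2) {0, a, σ⁻¹ a}
      (lt_of_le_of_lt Finset.card_le_three (by omega))
    simp only [Finset.mem_insert, Finset.mem_singleton, not_or] at hy
    obtain ⟨hy0, hya, hyτ⟩ := hy
    obtain ⟨u, hu⟩ := exists_pair N a y ha0 hy0 (Ne.symm hya)
    have := hstar u a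
    rw [hu, hu, h0, hu, if_pos rfl, if_neg (Ne.symm hya), if_neg ha, if_neg (Ne.symm hyτ),
      if_neg (Ne.symm ha0), if_neg (Ne.symm hy0)] at this
    revert this
    decide
  · obtain ⟨y, hy⟩ := exists_notMem (N + 2) {0, σ⁻¹ 0}
      (lt_of_le_of_lt Finset.card_le_two (by omega))
    simp only [Finset.mem_insert, Finset.mem_singleton, not_or] at hy
    obtain ⟨hy0, hyb⟩ := hy
    obtain ⟨j, hj⟩ := exists_notMem (N + 2) {σ⁻¹ 0, y, σ (σ⁻¹ 0), σ y}
      (lt_of_le_of_lt Finset.card_le_four (by omega))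
    simp only [Finset.mem_insert, Finset.mem_singleton, not_or] at hj
    obtain ⟨hjb, hjy, hjτb, hjτy⟩ := hj
    obtain ⟨u, hu⟩ := exists_pair N (σ⁻¹ 0) y h0 hy0 (Ne.symm hyb)
    have h1 : σ⁻¹ j ≠ σ⁻¹ 0 := by
      intro h2
      apply hjτb
      rw [← h2]
      simp
    have h2 : σ⁻¹ j ≠ y := by
      intro h2
      apply hjτy
      rw [← h2]
      simp
    have := hstar u j
    rw [hu, hu, hu, if_neg hjb, if_neg hjy, if_neg h1, if_neg h2, if_pos rfl,
      if_neg (Ne.symm hyb)] at this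
    revert this
    decide

theorem exists_isometry (k : ℕ) :
    (Odd k → ∃ E : (Fin (4 * k + 2) → ZMod 2) ≃ₗ[ZMod 2]
        (Fin (2 * k + 1) ⊕ Fin (2 * k + 1) → ZMod 2),
      ∀ u, Cfsg.quadFormPlus (2 * k + 1) (ZMod 2) (E u) = QN (4 * k + 2) u) ∧
    (Even k → ∃ E : (Fin (4 * k + 2) → ZMod 2) ≃ₗ[ZMod 2]
        ((Fin (2 * k) ⊕ Fin (2 * k)) ⊕ Fin 2 → ZMod 2),
      ∀ u, Cfsg.quadFormMinus (2 * k) (ZMod 2) 1 1 (E u) = QN (4 * k + 2) u) := by
  classical
  have hNeven : Even (4 * k + 2) := ⟨2 * k + 1, by ring⟩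
  have hQ := QN_nondeg (4 * k + 2) hNeven
  have hV : Module.finrank (ZMod 2) (Fin (4 * k + 2) → ZMod 2) = 2 * (2 * k + 1) := by
    rw [Module.finrank_fin_fun]
    ring
  have hS := S_QN (4 * k + 2)
  rw [aSum_val] at hS
  rcases even_structure (Q := QN (4 * k + 2)) hQ hV with
    ⟨e, f, h⟩ | ⟨k', hk', e, f, x, y, h, hx, hy, hQx, hxy, hζ⟩
  · have hli := h.linearIndependent
    let b := basisOfLinearIndependentOfCardEqFinrank hli (by rw [hV]; simp; ring)
    have hb : ⇑b = Sum.elim e f := coe_basisOfLinearIndependentOfCardEqFinrank _ _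
    have hE : ∀ u, Cfsg.quadFormPlus (2 * k + 1) (ZMod 2) (b.equivFun u) = QN (4 * k + 2) u := by
      intro u
      conv_rhs => rw [← b.sum_repr u, hb, Q_fam_hyp h]
      rfl
    have hpos : ∑ u, chi (QN (4 * k + 2) u) = 2 ^ (2 * k + 1) := by
      rw [← S_plus (2 * k + 1)]
      apply Fintype.sum_equiv b.equivFun.toEquiv
      intro u
      rw [← hE u]
      rfl
    refine ⟨fun _ => ⟨b.equivFun, hE⟩, fun hk => ?_⟩
    exfalso
    rw [hpos] at hS
    obtain ⟨j, rfl⟩ := hk
    have h4 : ((-4 : ℤ)) ^ (j + j) = 16 ^ j := by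
      rw [pow_add, ← mul_pow]
      norm_num
    rw [h4] at hS
    have h16 : (0 : ℤ) < 16 ^ j := by positivity
    have h2 : (0 : ℤ) < 2 ^ (2 * (j + j) + 1) := by positivity
    linarith
  · obtain rfl : k' = 2 * k := by omega
    have hQy : QN (4 * k + 2) y = 1 := by
      have h1 := hζ 0
      have hy01 : QN (4 * k + 2) y = 0 ∨ QN (4 * k + 2) y = 1 := by
        generalize QN (4 * k + 2) y = t
        revert t
        decide
      rcases hy01 with h0 | h0
      · exfalso
        apply h1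
        rw [h0]
        ring
      · exact h0
    have hli := elliptic_linearIndependent h hx hy hQx hxy hζ
    let b := basisOfLinearIndependentOfCardEqFinrank hli (by rw [hV]; simp; ring)
    have hb : ⇑b = Sum.elim (Sum.elim e f) ![x, y] :=
      coe_basisOfLinearIndependentOfCardEqFinrank _ _
    have hE : ∀ u, Cfsg.quadFormMinus (2 * k) (ZMod 2) 1 1 (b.equivFun u) =
        QN (4 * k + 2) u := by
      intro u
      conv_rhs => rw [← b.sum_repr u, hb, Q_fam_pairs h hx hy, hQx, hQy, hxy]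
      unfold Cfsg.quadFormMinus
      rw [Module.Basis.equivFun_apply]
      ring
    have hneg : ∑ u, chi (QN (4 * k + 2) u) = -2 ^ (2 * k + 1) := by
      rw [← S_minus (2 * k)]
      apply Fintype.sum_equiv b.equivFun.toEquiv
      intro u
      rw [← hE u]
      rfl
    refine ⟨fun hk => ?_, fun _ => ⟨b.equivFun, hE⟩⟩
    exfalso
    rw [hneg] at hS
    obtain ⟨j, rfl⟩ := hk
    have h4 : ((-4 : ℤ)) ^ (2 * j + 1) = -4 * 16 ^ j := by
      rw [pow_succ, pow_mul]
      norm_num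
      ring
    rw [h4] at hS
    have h16 : (0 : ℤ) < 16 ^ j := by positivity
    have h2 : (0 : ℤ) < 2 ^ (2 * (2 * j + 1) + 1) := by positivity
    linarith

/-- The homomorphism into the isometry group given by a representation. -/
noncomputable def homOfEnd {G : Type*} [Group G] {ι : Type} [Fintype ι] [DecidableEq ι]
    {F : Type*} [Field F] (Q : (ι → F) → F) (ρ : G →* Module.End F (ι → F))
    (h : ∀ g v, Q (ρ g v) = Q v) : G →* ↥(Cfsg.isometryGroup F Q) :=
  MonoidHom.codRestrict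
    ((MonoidHomClass.toMonoidHom (LinearMap.toMatrixAlgEquiv' (R := F) (n := ι))).comp
      ρ).toHomUnits
    (Cfsg.isometryGroup F Q) (by
      intro g
      rw [OrthRefl.mem_iso]
      intro u
      show Q (Matrix.mulVec (LinearMap.toMatrix' (ρ g)) u) = Q u
      rw [← Matrix.toLin'_apply, Matrix.toLin'_toMatrix']
      exact h g u)

lemma act_homOfEnd {G : Type*} [Group G] {ι : Type} [Fintype ι] [DecidableEq ι]
    {F : Type*} [Field F] (Q : (ι → F) → F) (ρ : G →* Module.End F (ι → F))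
    (h : ∀ g v, Q (ρ g v) = Q v) (g : G) (x : ι → F) :
    OrthRefl.act (homOfEnd Q ρ h g) x = ρ g x := by
  show Matrix.mulVec (LinearMap.toMatrix' (ρ g)) x = ρ g x
  rw [← Matrix.toLin'_apply, Matrix.toLin'_toMatrix']

theorem exists_hom {ι : Type} [Fintype ι] [DecidableEq ι] (N : ℕ) (hN : Even N) (h3 : 3 ≤ N)
    (h0 : e2 (N + 2) (ones (N + 2)) = 0) (Qs : (ι → ZMod 2) → ZMod 2)
    (E : (Fin N → ZMod 2) ≃ₗ[ZMod 2] (ι → ZMod 2)) (hE : ∀ u, Qs (E u) = QN N u) :
    ∃ φ : Equiv.Perm (Fin (N + 2)) →* ↥(Cfsg.isometryGroup (ZMod 2) Qs),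
      Function.Injective φ := by
  let ρ : Equiv.Perm (Fin (N + 2)) →* Module.End (ZMod 2) (ι → ZMod 2) :=
    { toFun := fun σ => E.toLinearMap ∘ₗ Tlin N σ ∘ₗ E.symm.toLinearMap
      map_one' := by
        apply LinearMap.ext
        intro w
        show E (Tfun N 1 (E.symm w)) = w
        rw [T_one, LinearEquiv.apply_symm_apply]
      map_mul' := by
        intro σ τ
        apply LinearMap.ext
        intro w
        show E (Tfun N (σ * τ) (E.symm w)) = E (Tfun N σ (E.symm (E (Tfun N τ (E.symm w)))))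
        rw [T_mul N hN, LinearEquiv.symm_apply_apply] }
  have hρ : ∀ σ w, ρ σ w = E (Tfun N σ (E.symm w)) := fun σ w => rfl
  have hpres : ∀ σ w, Qs (ρ σ w) = Qs w := by
    intro σ w
    rw [hρ, hE, QN_T N hN h0, ← hE, LinearEquiv.apply_symm_apply]
  refine ⟨homOfEnd Qs ρ hpres, ?_⟩
  rw [injective_iff_map_eq_one]
  intro σ hσ
  apply T_faithful N hN h3
  intro u
  have h1 := act_homOfEnd Qs ρ hpres σ (E u)
  rw [hσ, OrthRefl.act_one, hρ, LinearEquiv.symm_apply_apply] at h1
  exact (E.injective h1).symm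

end Cfsg.Agent.Lib.Helper19.SymOrthTwo
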