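import Mathlib
import Cfsg.Agent.Lib.Helper19.QuadSing
import Cfsg.Agent.Lib.Helper19.QuadStd
import Cfsg.Agent.S2623

/-!
# Helper19: the type of a symmetric bilinear form over a finite field of odd order

`hasTI_iff`: a non-degenerate symmetric bilinear form `B` on a space of dimension `2n` (`n ≥ 1`)
over a finite field with `2 ≠ 0` has a totally isotropic subspace of dimension `n` if and only if
`(-1)^n` times the determinant of its Gram matrix (in any basis) is a square.
-/

set_option autoImplicit false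

namespace Cfsg.Agent.Lib.Helper19.SymType

open QuadraticMap Cfsg.Agent.Lib.Helper19.QuadWitt Cfsg.Agent.Lib.Helper19.QuadStd

section crit

variable {F V : Type*} [Field F] [Fintype F] [AddCommGroup V] [Module F V] [FiniteDimensional F V]

/-- Existence of a totally isotropic subspace of dimension `n`. -/
def HasTI (B : LinearMap.BilinForm F V) (n : ℕ) : Prop :=
  ∃ X : Submodule F V, Module.finrank F X = n ∧ ∀ x ∈ X, ∀ y ∈ X, B x y = 0

/-- The quadratic form `x ↦ B x x`. -/
noncomputable def qf (B : LinearMap.BilinForm F V) : QuadraticForm F V :=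
  LinearMap.BilinMap.toQuadraticMap B

omit [Fintype F] [FiniteDimensional F V] in
lemma qf_apply (B : LinearMap.BilinForm F V) (x : V) : qf B x = B x x :=
  LinearMap.BilinMap.toQuadraticMap_apply B x

omit [Fintype F] [FiniteDimensional F V] in
lemma polar_qf (B : LinearMap.BilinForm F V) (hS : B.IsSymm) (x y : V) :
    polar ⇑(qf B) x y = 2 * B x y := by
  unfold polar
  rw [qf_apply, qf_apply, qf_apply, map_add, map_add, LinearMap.add_apply, LinearMap.add_apply,
    hS.eq y x]
  ring

omit [Fintype F] [FiniteDimensional F V] in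
lemma qf_nondeg (h2 : (2 : F) ≠ 0) (B : LinearMap.BilinForm F V) (hB : B.Nondegenerate)
    (hS : B.IsSymm) : (polarBilin (qf B)).Nondegenerate := by
  apply nondegenerate_of_sep
  intro v hv
  apply hB.1 v
  intro w
  have := hv w
  rw [polar_qf B hS] at this
  exact (mul_eq_zero.1 this).resolve_left h2

omit [Fintype F] [FiniteDimensional F V] in
lemma det_gram_qf (B : LinearMap.BilinForm F V) (hS : B.IsSymm) {ι : Type*} [Fintype ι]
    [DecidableEq ι] (b : ι → V) :
    (gram (qf B) b).det = 2 ^ Fintype.card ι * (Matrix.of fun i j => B (b i) (b j)).det := by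
  have : gram (qf B) b = (2 : F) • (Matrix.of fun i j => B (b i) (b j)) := by
    ext i j
    rw [gram_apply, polar_qf B hS]
    simp
  rw [this, Matrix.det_smul]

theorem hasTI_iff (h2 : (2 : F) ≠ 0) (B : LinearMap.BilinForm F V) (hB : B.Nondegenerate)
    (hS : B.IsSymm) {n : ℕ} (hn : 1 ≤ n) (hV : Module.finrank F V = 2 * n) {ι : Type*}
    [Fintype ι] [DecidableEq ι] (b : Module.Basis ι F V) :
    HasTI B n ↔ IsSquare ((-1) ^ n * (Matrix.of fun i j => B (b i) (b j)).det) := by
  classical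
  have hnd := qf_nondeg h2 B hB hS
  have hcard : Fintype.card ι = 2 * n := by
    rw [← Module.finrank_eq_card_basis b, hV]
  have hdet := det_gram_qf B hS b
  rw [hcard] at hdet
  have h2n : (2 : F) ^ n ≠ 0 := pow_ne_zero _ h2
  obtain ⟨k, rfl⟩ : ∃ k, n = k + 1 := ⟨n - 1, by omega⟩
  constructor
  · rintro ⟨X, hXdim, hX⟩
    have hXs : ∀ x ∈ X, qf B x = 0 := fun x hx => by rw [qf_apply]; exact hX x hx x hx
    obtain ⟨e, f, h, -⟩ := exists_frame_in hnd X hXs (k + 1) (by omega)
    obtain ⟨u, hu, hdu⟩ := Cfsg.Agent.S2623.det_of_hyp hV h b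
    rw [hdet, det_Jp] at hdu
    refine ⟨u / 2 ^ (k + 1), ?_⟩
    field_simp
    have e1 : ((-1 : F) ^ k) ^ 2 = 1 := by rw [← pow_mul, mul_comm, pow_mul]; simp
    rw [pow_succ]
    linear_combination (-1 : F) * (-1) ^ k * hdu + u ^ 2 * e1
  · intro hsq
    rcases even_structure hnd hV with ⟨e, f, h⟩ | ⟨k', hk', e, f, x, y, h, hx, hy, hQx, hxy, hζ⟩
    · refine ⟨Submodule.span F (Set.range e), finrank_span_e h, ?_⟩
      intro x hx y hy
      have := polar_eq_zero_of_ts (span_e_singular h) hx hy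
      rw [polar_qf B hS] at this
      exact (mul_eq_zero.1 this).resolve_left h2
    · exfalso
      have hk : k' = k := by omega
      subst hk
      obtain ⟨u, hu, hdu⟩ := Cfsg.Agent.S2623.det_of_ell hV h hx hy hQx hxy hζ b
      rw [hdet, det_Jp] at hdu
      apply Cfsg.Agent.S2623.not_isSquare_disc h2 hζ
      obtain ⟨r, hr⟩ := hsq
      have e1 : ((-1 : F) ^ k') ^ 2 = 1 := by rw [← pow_mul, mul_comm, pow_mul]; simp
      rw [pow_succ] at hr
      have key : (1 - 4 * (qf B) y) * (u * u) = (r * 2 ^ (k' + 1)) * (r * 2 ^ (k' + 1)) := by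
        linear_combination (-1 : F) ^ k' * hdu + (2 : F) ^ (2 * (k' + 1)) * hr
          + (u ^ 2 * (4 * (qf B) y - 1)) * e1
      refine ⟨r * 2 ^ (k' + 1) / u, ?_⟩
      rw [div_mul_div_comm, eq_div_iff (mul_ne_zero hu hu)]
      exact key

end crit

open TensorProduct

section tensor

variable {F U W : Type*} [Field F] [AddCommGroup U] [Module F U] [AddCommGroup W] [Module F W]

lemma det_gram_tmul (B₁ : LinearMap.BilinForm F U) (B₂ : LinearMap.BilinForm F W)
    {ι₁ ι₂ : Type*} [Fintype ι₁] [DecidableEq ι₁] [Fintype ι₂] [DecidableEq ι₂]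
    (b₁ : Module.Basis ι₁ F U) (b₂ : Module.Basis ι₂ F W) :
    (Matrix.of fun p q : ι₁ × ι₂ =>
      (B₁.tmul B₂) ((b₁.tensorProduct b₂) p) ((b₁.tensorProduct b₂) q)).det =
    (Matrix.of fun i j => B₁ (b₁ i) (b₁ j)).det ^ Fintype.card ι₂ *
      (Matrix.of fun i j => B₂ (b₂ i) (b₂ j)).det ^ Fintype.card ι₁ := by
  rw [← Matrix.det_kronecker]
  congr 1
  ext ⟨i, j⟩ ⟨i', j'⟩
  simp [Module.Basis.tensorProduct_apply, Matrix.kroneckerMap_apply, mul_comm]

lemma det_gram_ne_zero [FiniteDimensional F U] (B₁ : LinearMap.BilinForm F U)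
    (h₁ : B₁.Nondegenerate) {ι₁ : Type*} [Fintype ι₁] [DecidableEq ι₁]
    (b₁ : Module.Basis ι₁ F U) : (Matrix.of fun i j => B₁ (b₁ i) (b₁ j)).det ≠ 0 := by
  have := (LinearMap.BilinForm.nondegenerate_iff_det_ne_zero b₁).1 h₁
  convert this using 2
  ext i j
  simp [LinearMap.BilinForm.toMatrix_apply]

lemma tmul_nondeg [FiniteDimensional F U] [FiniteDimensional F W]
    (B₁ : LinearMap.BilinForm F U) (B₂ : LinearMap.BilinForm F W)
    (h₁ : B₁.Nondegenerate) (h₂ : B₂.Nondegenerate) : (B₁.tmul B₂).Nondegenerate := by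
  classical
  let b₁ := Module.finBasis F U
  let b₂ := Module.finBasis F W
  apply (LinearMap.BilinForm.nondegenerate_iff_det_ne_zero (b₁.tensorProduct b₂)).2
  have := det_gram_tmul B₁ B₂ b₁ b₂
  have hne : (Matrix.of fun p q : _ × _ =>
      (B₁.tmul B₂) ((b₁.tensorProduct b₂) p) ((b₁.tensorProduct b₂) q)).det ≠ 0 := by
    rw [this]
    exact mul_ne_zero (pow_ne_zero _ (det_gram_ne_zero B₁ h₁ b₁))
      (pow_ne_zero _ (det_gram_ne_zero B₂ h₂ b₂))
  convert hne using 2
  ext p q
  simp [LinearMap.BilinForm.toMatrix_apply]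

end tensor

end Cfsg.Agent.Lib.Helper19.SymType
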